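import Mathlib
import Cfsg.Prelude.Def_EvenType

set_option autoImplicit false

namespace Cfsg.Agent.Helper48

open Subgroup

variable {G : Type*} [Group G]

/-- In a finite `p`-subgroup `P`, a proper subgroup `S < P` is properly contained in its normalizer in `P`. -/
theorem exists_mem_normalizer_not_mem [Finite G] {p : ℕ} [Fact p.Prime] {S P : Subgroup G}
    (hP : IsPGroup p P) (hSP : S ≤ P) (hne : S ≠ P) :
    ∃ u ∈ P, u ∉ S ∧ u ∈ normalizer (S : Set G) := by
  have : Group.IsNilpotent P := hP.isNilpotent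
  have hnc : NormalizerCondition P := Group.normalizerCondition_of_isNilpotent
  have hlt : S.subgroupOf P < ⊤ := by
    rw [lt_top_iff_ne_top]
    intro h
    rw [subgroupOf_eq_top] at h
    exact hne (le_antisymm hSP h)
  have h2 := hnc _ hlt
  obtain ⟨u, hu1, hu2⟩ := SetLike.exists_of_lt h2
  refine ⟨u.1, u.2, ?_, ?_⟩
  · intro hu
    exact hu2 (mem_subgroupOf.mpr hu)
  · rw [mem_normalizer_iff] at hu1 ⊢
    intro x
    constructor
    · intro hx
      have := (hu1 ⟨x, hSP hx⟩).mp (mem_subgroupOf.mpr hx)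
      simpa [mem_subgroupOf] using this
    · intro hx
      have hxP : x ∈ P := by
        have h3 : u.1⁻¹ * (u.1 * x * u.1⁻¹) * u.1 ∈ P :=
          P.mul_mem (P.mul_mem (P.inv_mem u.2) (hSP hx)) u.2
        simpa [mul_assoc] using h3
      have := (hu1 ⟨x, hxP⟩).mpr (by simpa [mem_subgroupOf] using hx)
      simpa [mem_subgroupOf] using this

/-- `x` has the unique-fixed-coset property with respect to `H`. -/
def UFP (H : Subgroup G) (x : G) : Prop := x ∈ H ∧ ∀ g : G, g * x * g⁻¹ ∈ H → g ∈ H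

theorem UFP.conj {H : Subgroup G} {x : G} (hx : UFP H x) {h : G} (hh : h ∈ H) :
    UFP H (h * x * h⁻¹) := by
  refine ⟨H.mul_mem (H.mul_mem hh hx.1) (H.inv_mem hh), ?_⟩
  intro g hg
  have : g * h ∈ H := by
    apply hx.2
    simpa [mul_assoc] using hg
  simpa using H.mul_mem this (H.inv_mem hh)

theorem UFP.centralizer_le {H : Subgroup G} {x : G} (hx : UFP H x) :
    centralizer ({x} : Set G) ≤ H := by
  intro c hc
  apply hx.2
  rw [mem_centralizer_singleton_iff] at hc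
  rw [hc]
  simpa using hx.1

/-- A finite `p`-subgroup containing an element with the unique-fixed-coset property for `H`
lies in `H`. -/
theorem UFP.le_of_isPGroup [Finite G] {p : ℕ} [Fact p.Prime] {H : Subgroup G} {x : G}
    (hx : UFP H x) {P : Subgroup G} (hP : IsPGroup p P) (hxP : x ∈ P) : P ≤ H := by
  by_contra hPH
  have hne : H ⊓ P ≠ P := by
    intro h
    exact hPH (h ▸ inf_le_left)
  obtain ⟨u, huP, huS, huN⟩ := exists_mem_normalizer_not_mem hP inf_le_right hne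
  apply huS
  refine ⟨?_, huP⟩
  apply hx.2
  have := (mem_normalizer_iff.mp huN x).mp ⟨hx.1, hxP⟩
  exact this.1

/-- A `p`-subgroup of `H` is `H`-conjugate into a given Sylow `p`-subgroup of `G` lying in `H`. -/
theorem exists_conj_mem_sylow [Finite G] {p : ℕ} [Fact p.Prime] {H : Subgroup G} (P : Sylow p G)
    (hPH : (P : Subgroup G) ≤ H) {Q : Subgroup G} (hQ : IsPGroup p Q) (hQH : Q ≤ H) :
    ∃ h ∈ H, ∀ q ∈ Q, h * q * h⁻¹ ∈ (P : Subgroup G) := by
  have hQ' : IsPGroup p (Q.subgroupOf H) := hQ.comap_subtype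
  obtain ⟨T', hT'⟩ := hQ'.exists_le_sylow
  obtain ⟨h, hh⟩ := MulAction.exists_smul_eq H T' (P.subtype hPH)
  refine ⟨h.1, h.2, ?_⟩
  intro q hq
  have h1 : (⟨q, hQH hq⟩ : H) ∈ T' := hT' (mem_subgroupOf.mpr hq)
  have h2 : (MulAut.conj h) • (⟨q, hQH hq⟩ : H) ∈ (h • T' : Sylow p H) := by
    rw [Sylow.smul_def]
    exact Subgroup.smul_mem_pointwise_smul _ _ _ h1
  rw [hh] at h2
  have h3 : (MulAut.conj h) • (⟨q, hQH hq⟩ : H) ∈ (P : Subgroup G).subgroupOf H := h2
  rw [mem_subgroupOf] at h3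
  simpa using h3

/-- A nontrivial finite `p`-subgroup has a central element of order `p`. -/
theorem exists_central_orderOf_eq [Finite G] {p : ℕ} [hp : Fact p.Prime] {T : Subgroup G}
    (hT : IsPGroup p T) (hne : T ≠ ⊥) :
    ∃ z ∈ T, orderOf z = p ∧ ∀ t ∈ T, t * z = z * t := by
  have : Nontrivial T := (Subgroup.nontrivial_iff_ne_bot T).mpr hne
  have hc : Nontrivial (center T) := hT.center_nontrivial
  have hcp : IsPGroup p (center T) := hT.to_subgroup _
  have hdvd : p ∣ Nat.card (center T) := by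
    rcases hcp.card_eq_or_dvd with h | h
    · exfalso
      have := Finite.one_lt_card_iff_nontrivial.mpr hc
      omega
    · exact h
  obtain ⟨z, hz⟩ := exists_prime_orderOf_dvd_card' p hdvd
  refine ⟨z.1.1, z.1.2, ?_, ?_⟩
  · have h1 : orderOf (z.1.1 : G) = orderOf z := by
      rw [Subgroup.orderOf_coe, Subgroup.orderOf_coe]
    rw [h1, hz]
  · intro t ht
    have := mem_center_iff.mp z.2 ⟨t, ht⟩
    exact congrArg Subtype.val this

theorem orderOf_conj' (g x : G) : orderOf (g * x * g⁻¹) = orderOf x := by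
  have := orderOf_injective (MulAut.conj g).toMonoidHom (MulAut.conj g).injective x
  simpa using this

theorem isPGroup_zpowers_of_orderOf {p : ℕ} [Fact p.Prime] {x : G} (hx : orderOf x = p) :
    IsPGroup p (zpowers x) := by
  apply IsPGroup.of_card (n := 1)
  rw [Nat.card_zpowers, hx, pow_one]

theorem conj_mem_centralizer_conj {g x c : G} (hc : c ∈ centralizer ({x} : Set G)) :
    g * c * g⁻¹ ∈ centralizer ({g * x * g⁻¹} : Set G) := by
  rw [mem_centralizer_singleton_iff] at hc ⊢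
  calc g * c * g⁻¹ * (g * x * g⁻¹) = g * (c * x) * g⁻¹ := by group
    _ = g * (x * c) * g⁻¹ := by rw [hc]
    _ = g * x * g⁻¹ * (g * c * g⁻¹) := by group

/-- Two Sylow `p`-subgroups of `G` contained in `H` are conjugate under `H`. -/
theorem exists_smul_eq_of_le [Finite G] {p : ℕ} [Fact p.Prime] {H : Subgroup G} (T P : Sylow p G)
    (hT : (T : Subgroup G) ≤ H) (hP : (P : Subgroup G) ≤ H) : ∃ h ∈ H, h • T = P := by
  obtain ⟨h, hh⟩ := MulAction.exists_smul_eq H (T.subtype hT) (P.subtype hP)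
  refine ⟨h.1, h.2, ?_⟩
  rw [Sylow.smul_subtype hT h] at hh
  have := Sylow.subtype_injective hh
  exact this

theorem mem_sylow_smul_iff {p : ℕ} (g x : G) (P : Sylow p G) :
    x ∈ ((g • P : Sylow p G) : Subgroup G) ↔ g⁻¹ * x * g ∈ (P : Subgroup G) := by
  rw [Sylow.coe_subgroup_smul, Subgroup.mem_pointwise_smul_iff_inv_smul_mem]
  simp [MulAut.smul_def]

/-- Core theorem: from `P ≤ H`, `N_G(P) ≤ H` and `C_G(x) ≤ H` for `x ∈ P` of order `p`, every
element of order `p` of `H` has the unique-fixed-coset property. -/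
theorem ufp_of_sylow_data [Finite G] {p : ℕ} [Fact p.Prime] {H : Subgroup G} (P : Sylow p G)
    (hPH : (P : Subgroup G) ≤ H) (hN : normalizer ((P : Subgroup G) : Set G) ≤ H)
    (hC : ∀ x ∈ (P : Subgroup G), orderOf x = p → centralizer ({x} : Set G) ≤ H)
    {x : G} (hx : x ∈ H) (hxp : orderOf x = p) : UFP H x := by
  have ha : ∀ y ∈ H, orderOf y = p → centralizer ({y} : Set G) ≤ H := by
    intro y hy hyp c hc
    obtain ⟨h, hh, hq⟩ := exists_conj_mem_sylow P hPH (isPGroup_zpowers_of_orderOf hyp)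
      ((zpowers_le).mpr hy)
    have h1 := hq y (mem_zpowers y)
    have h2 := hC _ h1 (by rw [orderOf_conj', hyp]) (conj_mem_centralizer_conj (g := h) hc)
    have : c = h⁻¹ * (h * c * h⁻¹) * h := by group
    rw [this]
    exact H.mul_mem (H.mul_mem (H.inv_mem hh) h2) hh
  -- reduce to x ∈ P
  obtain ⟨h₀, hh₀, hq₀⟩ := exists_conj_mem_sylow P hPH (isPGroup_zpowers_of_orderOf hxp)
      ((zpowers_le).mpr hx)
  have hx₁P := hq₀ x (mem_zpowers x)
  suffices hsuff : UFP H (h₀ * x * h₀⁻¹) by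
    have := hsuff.conj (H.inv_mem hh₀)
    have e : h₀⁻¹ * (h₀ * x * h₀⁻¹) * h₀⁻¹⁻¹ = x := by group
    rwa [e] at this
  set x₁ := h₀ * x * h₀⁻¹ with hx₁
  have hx₁p : orderOf x₁ = p := by rw [hx₁, orderOf_conj', hxp]
  refine ⟨hPH hx₁P, ?_⟩
  intro g hg
  have hPne : (P : Subgroup G) ≠ ⊥ := by
    intro hbot
    rw [hbot, mem_bot] at hx₁P
    rw [hx₁P, orderOf_one] at hx₁p
    exact (Fact.out : p.Prime).one_lt.ne hx₁p
  obtain ⟨z, hzP, hzp, hzc⟩ := exists_central_orderOf_eq P.2 hPne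
  -- w = g z g⁻¹ centralizes y = g x₁ g⁻¹
  have hw : g * z * g⁻¹ ∈ centralizer ({g * x₁ * g⁻¹} : Set G) := by
    apply conj_mem_centralizer_conj
    rw [mem_centralizer_singleton_iff]
    exact (hzc x₁ hx₁P).symm
  have hwH : g * z * g⁻¹ ∈ H := ha _ hg (by rw [orderOf_conj', hx₁p]) hw
  have hCw := ha _ hwH (by rw [orderOf_conj', hzp])
  have hT : ((g • P : Sylow p G) : Subgroup G) ≤ H := by
    intro t ht
    rw [mem_sylow_smul_iff] at ht
    apply hCw
    have h3 : g * (g⁻¹ * t * g) * g⁻¹ ∈ centralizer ({g * z * g⁻¹} : Set G) := by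
      apply conj_mem_centralizer_conj
      rw [mem_centralizer_singleton_iff]
      exact (hzc _ ht)
    have e : g * (g⁻¹ * t * g) * g⁻¹ = t := by group
    rwa [e] at h3
  obtain ⟨h, hh, hhT⟩ := exists_smul_eq_of_le (g • P) P hT hPH
  rw [← mul_smul, Sylow.smul_eq_iff_mem_normalizer] at hhT
  have h4 : h * g ∈ H := hN hhT
  have e : g = h⁻¹ * (h * g) := by group
  rw [e]
  exact H.mul_mem (H.inv_mem hh) h4

theorem not_pRankLE_zero_of_mem {p : ℕ} [hp : Fact p.Prime] {Q : Subgroup G} {x : G} (hxQ : x ∈ Q)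
    (hxp : orderOf x = p) : ¬ Cfsg.PRankLE p 0 Q := by
  intro h
  have h1 := h (zpowers (⟨x, hxQ⟩ : Q)) inferInstance (by
    intro a ha
    obtain ⟨k, rfl⟩ := mem_zpowers_iff.mp ha
    have : (⟨x, hxQ⟩ : Q) ^ p = 1 := by
      apply Subtype.ext
      simp only [SubmonoidClass.coe_pow, OneMemClass.coe_one]
      rw [← hxp, pow_orderOf_eq_one]
    rw [← zpow_natCast, ← zpow_mul, mul_comm, zpow_mul, zpow_natCast, this, one_zpow])
  rw [Nat.card_zpowers, pow_zero] at h1
  have h2 : orderOf (⟨x, hxQ⟩ : Q) = p := by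
    rw [← hxp, ← Subgroup.orderOf_coe]
  rw [h2] at h1
  exact absurd hp.out.one_lt (not_lt.mpr h1)

theorem exists_orderOf_eq_of_not_pRankLE_zero {p : ℕ} [hp : Fact p.Prime] {Q : Subgroup G}
    (h : ¬ Cfsg.PRankLE p 0 Q) : ∃ x ∈ Q, orderOf x = p := by
  unfold Cfsg.PRankLE at h
  push Not at h
  obtain ⟨A, _, hA2, hA3⟩ := h
  rw [pow_zero] at hA3
  have hne : A ≠ ⊥ := by
    intro hb
    rw [hb] at hA3
    simp at hA3
  obtain ⟨a, ha1⟩ := (Subgroup.ne_bot_iff_exists_ne_one).mp hne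
  refine ⟨a.1.1, a.1.2, ?_⟩
  have h1 : (a.1 : Q) ^ p = 1 := hA2 a.1 a.2
  have h2 : (a.1 : Q) ≠ 1 := fun h => ha1 (Subtype.ext h)
  have h3 : orderOf (a.1 : Q) = p := orderOf_eq_prime h1 h2
  rw [← h3, Subgroup.orderOf_coe]

theorem centralizer_singleton_le_normalizer_zpowers [Finite G] (x : G) :
    centralizer ({x} : Set G) ≤ normalizer ((zpowers x : Subgroup G) : Set G) := by
  intro c hc
  apply mem_normalizer_fintype
  intro n hn
  rw [mem_centralizer_singleton_iff] at hc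
  have : c * n * c⁻¹ = n := by
    obtain ⟨k, rfl⟩ := mem_zpowers_iff.mp hn
    have h1 : Commute c x := hc
    have h2 : Commute c (x ^ k) := h1.zpow_right k
    rw [h2.eq, mul_inv_cancel_right]
  rw [this]
  exact hn

theorem dvd_card_of_ne_bot [Finite G] {p : ℕ} [Fact p.Prime] {P : Subgroup G} (hP : IsPGroup p P)
    (hne : P ≠ ⊥) : p ∣ Nat.card P := by
  rcases hP.card_eq_or_dvd with h | h
  · exact absurd (Subgroup.card_eq_one.mp h) hne
  · exact h

theorem exists_orderOf_eq_of_ne_bot [Finite G] {p : ℕ} [Fact p.Prime] {P : Subgroup G}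
    (hP : IsPGroup p P) (hne : P ≠ ⊥) : ∃ x ∈ P, orderOf x = p := by
  obtain ⟨x, hx⟩ := exists_prime_orderOf_dvd_card' p (dvd_card_of_ne_bot hP hne)
  exact ⟨x.1, x.2, by rw [← hx, Subgroup.orderOf_coe]⟩

/-- Unfolding the definition: a strongly `p`-embedded subgroup contains the normalizers of all
nontrivial subgroups of some Sylow `p`-subgroup. -/
theorem spe_normalizer_le [Finite G] {p : ℕ} [Fact p.Prime] {H : Subgroup G}
    (hH : Cfsg.IsStronglyPEmbedded p H) :
    ∃ P : Sylow p G, (P : Subgroup G) ≠ ⊥ ∧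
      ∀ Q : Subgroup G, Q ≤ (P : Subgroup G) → Q ≠ ⊥ → normalizer (Q : Set G) ≤ H := by
  obtain ⟨hdvd, _, P, hP⟩ := hH
  refine ⟨P, P.ne_bot_of_dvd_card hdvd, ?_⟩
  intro Q hQP hQne
  obtain ⟨x, hxQ, hxp⟩ := exists_orderOf_eq_of_ne_bot (P.2.to_le hQP) hQne
  have h1 : ¬ Cfsg.PRankLE p (1 - 1) Q := not_pRankLE_zero_of_mem hxQ hxp
  refine le_trans ?_ hP
  unfold Cfsg.kGeneratedCore
  exact le_iSup (fun Q : {Q : Subgroup G // Q ≤ (P : Subgroup G) ∧ ¬ Cfsg.PRankLE p (1 - 1) Q} =>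
    normalizer ((Q : Subgroup G) : Set G)) ⟨Q, hQP, h1⟩

theorem spe_sylow_data [Finite G] {p : ℕ} [Fact p.Prime] {H : Subgroup G}
    (hH : Cfsg.IsStronglyPEmbedded p H) :
    ∃ P : Sylow p G, (P : Subgroup G) ≠ ⊥ ∧ (P : Subgroup G) ≤ H ∧
      normalizer ((P : Subgroup G) : Set G) ≤ H ∧
      ∀ x ∈ (P : Subgroup G), orderOf x = p → centralizer ({x} : Set G) ≤ H := by
  obtain ⟨P, hPne, hP⟩ := spe_normalizer_le hH
  have hN := hP P le_rfl hPne
  refine ⟨P, hPne, le_trans le_normalizer hN, hN, ?_⟩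
  intro x hx hxp
  have hz : zpowers x ≤ (P : Subgroup G) := (zpowers_le).mpr hx
  have hzne : zpowers x ≠ ⊥ := by
    intro h
    rw [zpowers_eq_bot] at h
    rw [h, orderOf_one] at hxp
    exact (Fact.out : p.Prime).one_lt.ne hxp
  exact le_trans (centralizer_singleton_le_normalizer_zpowers x) (hP _ hz hzne)

/-- In a strongly `p`-embedded subgroup every element of order `p` fixes a unique coset. -/
theorem spe_ufp [Finite G] {p : ℕ} [Fact p.Prime] {H : Subgroup G}
    (hH : Cfsg.IsStronglyPEmbedded p H) {x : G} (hx : x ∈ H) (hxp : orderOf x = p) : UFP H x := by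
  obtain ⟨P, _, hPH, hN, hC⟩ := spe_sylow_data hH
  exact ufp_of_sylow_data P hPH hN hC hx hxp

theorem spe_dvd_card [Finite G] {p : ℕ} [Fact p.Prime] {H : Subgroup G}
    (hH : Cfsg.IsStronglyPEmbedded p H) : p ∣ Nat.card H := by
  obtain ⟨P, hPne, hPH, _, _⟩ := spe_sylow_data hH
  exact dvd_trans (dvd_card_of_ne_bot P.2 hPne) (Subgroup.card_dvd_of_le hPH)

/-- Criterion for strong `p`-embedding via the unique-fixed-coset property. -/
theorem spe_of_ufp [Finite G] {p : ℕ} [Fact p.Prime] {H : Subgroup G} (hne : H ≠ ⊤)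
    (hdvd : p ∣ Nat.card H) (h : ∀ x ∈ H, orderOf x = p → UFP H x) :
    Cfsg.IsStronglyPEmbedded p H := by
  refine ⟨dvd_trans hdvd (Subgroup.card_subgroup_dvd_card H), hne, ?_⟩
  obtain ⟨x, hx⟩ := exists_prime_orderOf_dvd_card' p hdvd
  have hxp : orderOf (x : G) = p := by rw [← hx, Subgroup.orderOf_coe]
  obtain ⟨P, hP⟩ := (isPGroup_zpowers_of_orderOf hxp).exists_le_sylow
  have hxP : (x : G) ∈ (P : Subgroup G) := hP (mem_zpowers _)
  have hPH : (P : Subgroup G) ≤ H := (h _ x.2 hxp).le_of_isPGroup P.2 hxP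
  refine ⟨P, ?_⟩
  unfold Cfsg.kGeneratedCore
  apply iSup_le
  rintro ⟨Q, hQP, hQ⟩
  obtain ⟨y, hyQ, hyp⟩ := exists_orderOf_eq_of_not_pRankLE_zero hQ
  intro n hn
  apply (h y (hPH (hQP hyQ)) hyp).2
  exact hPH (hQP ((mem_normalizer_iff.mp hn y).mp hyQ))

theorem spe_iff_ufp [Finite G] {p : ℕ} [Fact p.Prime] {H : Subgroup G} :
    Cfsg.IsStronglyPEmbedded p H ↔
      H ≠ ⊤ ∧ p ∣ Nat.card H ∧ ∀ x ∈ H, orderOf x = p → UFP H x :=
  ⟨fun hH => ⟨hH.2.1, spe_dvd_card hH, fun _ hx hxp => spe_ufp hH hx hxp⟩,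
    fun ⟨h1, h2, h3⟩ => spe_of_ufp h1 h2 h3⟩

/-- A strongly `p`-embedded subgroup contains the normalizer of each of its nontrivial
`p`-subgroups. -/
theorem spe_normalizer_le_of_isPGroup [Finite G] {p : ℕ} [Fact p.Prime] {H : Subgroup G}
    (hH : Cfsg.IsStronglyPEmbedded p H) {Q : Subgroup G} (hQ : IsPGroup p Q) (hQH : Q ≤ H)
    (hQne : Q ≠ ⊥) : normalizer (Q : Set G) ≤ H := by
  obtain ⟨y, hyQ, hyp⟩ := exists_orderOf_eq_of_ne_bot hQ hQne
  intro n hn
  apply (spe_ufp hH (hQH hyQ) hyp).2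
  exact hQH ((mem_normalizer_iff.mp hn y).mp hyQ)

/-- A strongly `p`-embedded subgroup meets its conjugates by elements outside it in `p'`-groups. -/
theorem spe_not_dvd_card_inf_map_conj [Finite G] {p : ℕ} [Fact p.Prime] {H : Subgroup G}
    (hH : Cfsg.IsStronglyPEmbedded p H) {g : G} (hg : g ∉ H) :
    ¬ p ∣ Nat.card ↥(H ⊓ H.map (MulAut.conj g).toMonoidHom) := by
  intro hdvd
  obtain ⟨x, hx⟩ := exists_prime_orderOf_dvd_card' p hdvd
  have hxp : orderOf (x : G) = p := by rw [← hx, Subgroup.orderOf_coe]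
  obtain ⟨y, hyH, hyx⟩ := x.2.2
  have hyx' : g * y * g⁻¹ = (x : G) := by simpa using hyx
  have hyp : orderOf y = p := by rw [← hxp, ← hyx', orderOf_conj']
  apply hg
  apply (spe_ufp hH hyH hyp).2
  rw [hyx']
  exact x.2.1

/-- Sylow `p`-subgroups of a strongly `p`-embedded subgroup have the order of the Sylow
`p`-subgroups of the whole group. -/
theorem spe_card_sylow_eq [Finite G] {p : ℕ} [Fact p.Prime] {H : Subgroup G}
    (hH : Cfsg.IsStronglyPEmbedded p H) (S : Sylow p H) (P : Sylow p G) :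
    Nat.card S = Nat.card P := by
  obtain ⟨P₀, _, hP₀H, _, _⟩ := spe_sylow_data hH
  have h1 : Nat.card (P₀.subtype hP₀H) = Nat.card P₀ := by
    rw [Sylow.coe_subtype]
    exact Nat.card_congr (Subgroup.subgroupOfEquivOfLe hP₀H).toEquiv
  have h2 : Nat.card S = Nat.card (P₀.subtype hP₀H) :=
    Nat.card_congr (Sylow.equiv S (P₀.subtype hP₀H)).toEquiv
  have h3 : Nat.card P₀ = Nat.card P := Nat.card_congr (Sylow.equiv P₀ P).toEquiv
  rw [h2, h1, h3]

end Cfsg.Agent.Helper48
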