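import Mathlib
import Cfsg.Agent.Lib.Helper48.SPE

set_option autoImplicit false

namespace Cfsg.Agent.Helper48

open Subgroup MulAction
open scoped commutatorElement

section FPF

variable {Γ V : Type*} [Group Γ] [CommGroup V] [MulDistribMulAction Γ V]

/-- the "norm" of `v` under `c`: product of `c ^ i • v` for `i < p` -/
def nrm (p : ℕ) (c : Γ) (v : V) : V := ∏ i ∈ Finset.range p, (c ^ i) • v

theorem smul_nrm (p : ℕ) (c : Γ) (v : V) (hc : c ^ p • v = v) : c • nrm p c v = nrm p c v := by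
  unfold nrm
  rw [Finset.smul_prod']
  have h1 : ∀ i ∈ Finset.range p, c • (c ^ i • v) = c ^ (i + 1) • v := by
    intro i _
    rw [← mul_smul, ← pow_succ']
  rw [Finset.prod_congr rfl h1]
  have h2 := Finset.prod_range_succ' (fun i => c ^ i • v) p
  have h3 := Finset.prod_range_succ (fun i => c ^ i • v) p
  simp only [pow_zero, one_smul] at h2
  rw [h3, hc] at h2
  exact mul_right_cancel h2.symm

theorem pow_smul_eq_of_smul_eq (c : Γ) (h : ∀ w : V, c • w = w) (n : ℕ) (w : V) :
    c ^ n • w = w := by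
  induction n with
  | zero => simp
  | succ n ih => rw [pow_succ, mul_smul, h, ih]

/-- Two commuting operators `a, b` with `p`-th powers acting trivially such that every
`a * b ^ j` and every `b ^ i` (`0 < i < p`) acts without nontrivial fixed points force the
`p'`-group `V` to be trivial. -/
theorem eq_one_of_fixedPointFree [Finite V] {p : ℕ} [hp : Fact p.Prime]
    (hV : (Nat.card V).Coprime p) (a b : Γ) (hab : Commute a b)
    (hap : ∀ v : V, a ^ p • v = v) (hbp : ∀ v : V, b ^ p • v = v)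
    (hfa : ∀ j : ℕ, ∀ v : V, (a * b ^ j) • v = v → v = 1)
    (hfb : ∀ i : ℕ, 0 < i → i < p → ∀ v : V, (b ^ i) • v = v → v = 1) (v : V) : v = 1 := by
  -- norms vanish
  have h1 : ∀ j : ℕ, nrm p (a * b ^ j) v = 1 := by
    intro j
    apply hfa j
    apply smul_nrm
    have hc : Commute a (b ^ j) := hab.pow_right j
    rw [hc.mul_pow, mul_smul, ← pow_mul, mul_comm j p, pow_mul]
    rw [pow_smul_eq_of_smul_eq (b ^ p) hbp j, hap]
  have h2 : ∀ i : ℕ, 0 < i → i < p → nrm p (b ^ i) v = 1 := by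
    intro i hi hip
    apply hfb i hi hip
    apply smul_nrm
    rw [← pow_mul, mul_comm i p, pow_mul]
    exact pow_smul_eq_of_smul_eq (b ^ p) hbp i _
  -- double product
  have h3 : ∏ j ∈ Finset.range p, nrm p (a * b ^ j) v = 1 :=
    Finset.prod_eq_one (fun j _ => h1 j)
  have h4 : ∏ j ∈ Finset.range p, nrm p (a * b ^ j) v =
      ∏ i ∈ Finset.range p, (a ^ i) • nrm p (b ^ i) v := by
    unfold nrm
    rw [Finset.prod_comm]
    apply Finset.prod_congr rfl
    intro i _
    rw [Finset.smul_prod']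
    apply Finset.prod_congr rfl
    intro j _
    have hc : Commute a (b ^ j) := hab.pow_right j
    rw [hc.mul_pow, mul_smul, ← pow_mul, ← pow_mul, mul_comm j i]
  rw [h4] at h3
  have h5 : ∏ i ∈ Finset.range p, (a ^ i) • nrm p (b ^ i) v = v ^ p := by
    rw [Finset.prod_eq_single 0]
    · simp [nrm]
    · intro i hi hi0
      rw [h2 i (Nat.pos_of_ne_zero hi0) (Finset.mem_range.mp hi), smul_one]
    · intro h
      exact absurd (Finset.mem_range.mpr hp.out.pos) h
  rw [h5] at h3
  -- v ^ p = 1 and p ∤ |V|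
  have h6 : orderOf v ∣ p := orderOf_dvd_of_pow_eq_one h3
  have h7 : orderOf v ∣ Nat.card V := orderOf_dvd_natCard v
  have h8 : orderOf v ∣ Nat.gcd (Nat.card V) p := Nat.dvd_gcd h7 h6
  rw [hV] at h8
  exact orderOf_eq_one_iff.mp (Nat.dvd_one.mp h8)

end FPF

variable {G : Type*} [Group G]

/-- Lifting fixed points: if `c` has `p`-power order, normalizes the `p'`-subgroup `D`, and
stabilizes the coset `m D`, then `m D` contains an element commuting with `c`. -/
theorem exists_mul_mem_fixed [Finite G] {p : ℕ} [hp : Fact p.Prime] (D : Subgroup G)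
    (hD : (Nat.card D).Coprime p) (c m : G) (n : ℕ) (hc : c ^ p ^ n = 1)
    (hcD : c ∈ normalizer (D : Set G)) (hm : m⁻¹ * (c * m * c⁻¹) ∈ D) :
    ∃ d ∈ D, c * (m * d) * c⁻¹ = m * d := by
  classical
  have hmem : ∀ d : D, m⁻¹ * (c * (m * d) * c⁻¹) ∈ D := by
    intro d
    have h1 : c * (d : G) * c⁻¹ ∈ D := (mem_normalizer_iff.mp hcD d).mp d.2
    have : m⁻¹ * (c * (m * d) * c⁻¹) = (m⁻¹ * (c * m * c⁻¹)) * (c * (d : G) * c⁻¹) := by group
    rw [this]
    exact D.mul_mem hm h1
  let f : Function.End D := fun d => ⟨m⁻¹ * (c * (m * d) * c⁻¹), hmem d⟩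
  have hiter : ∀ k : ℕ, ∀ d : D, (((f ^ k) d : D) : G) = m⁻¹ * (c ^ k * (m * d) * (c ^ k)⁻¹) := by
    intro k
    induction k with
    | zero =>
      intro d
      rw [pow_zero, pow_zero]
      change (d : G) = _
      group
    | succ k ih =>
      intro d
      rw [pow_succ']
      change m⁻¹ * (c * (m * ((f ^ k) d : D)) * c⁻¹) = _
      rw [ih d, pow_succ']
      group
  have hf : f ^ p ^ n = 1 := by
    funext d
    apply Subtype.ext
    rw [hiter, hc]
    change _ = (d : G)
    group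
  letI : Fintype D := Fintype.ofFinite D
  have hmod := Equiv.Perm.card_fixedPoints_modEq (p := p) (n := n) hf
  have hcard : ¬ p ∣ Fintype.card D := by
    rw [← Nat.card_eq_fintype_card]
    intro h
    have := Nat.dvd_gcd h (dvd_refl p)
    rw [hD] at this
    exact hp.out.one_lt.ne' (Nat.dvd_one.mp this)
  have hne : Fintype.card (Function.fixedPoints f) ≠ 0 := by
    intro h0
    rw [h0] at hmod
    exact hcard ((Nat.modEq_zero_iff_dvd).mp hmod)
  obtain ⟨⟨d, hd⟩⟩ := Fintype.card_pos_iff.mp (Nat.pos_of_ne_zero hne)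
  refine ⟨d.1, d.2, ?_⟩
  have h1 : ((f d : D) : G) = d := congrArg Subtype.val hd
  change m⁻¹ * (c * (m * d) * c⁻¹) = d at h1
  calc c * (m * ↑d) * c⁻¹ = m * (m⁻¹ * (c * (m * d) * c⁻¹)) := by group
    _ = m * d := by rw [h1]

/-- A `p`-group `A` normalizing a subgroup `M` of order prime to `p` normalizes some Sylow
`q`-subgroup of `M`. -/
theorem exists_sylow_normalized_by [Finite G] {p : ℕ} [Fact p.Prime] (q : ℕ) [Fact q.Prime]
    (A M : Subgroup G) (hA : IsPGroup p A) (hAM : A ≤ normalizer (M : Set G))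
    (hM : (Nat.card M).Coprime p) :
    ∃ S : Sylow q M, ∀ x ∈ A,
      x ∈ normalizer (((S : Subgroup M).map M.subtype : Subgroup G) : Set G) := by
  have hP : IsPGroup p (A.subgroupOf (normalizer (M : Set G))) := hA.comap_subtype
  have hcard : ¬ p ∣ Nat.card (Sylow q M) := by
    intro h
    obtain ⟨S₀⟩ : Nonempty (Sylow q M) := inferInstance
    have h1 : p ∣ Nat.card M :=
      h.trans ((Sylow.card_dvd_index S₀).trans (Subgroup.index_dvd_card _))
    have := Nat.dvd_gcd h1 (dvd_refl p)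
    rw [hM] at this
    exact (Fact.out : p.Prime).one_lt.ne' (Nat.dvd_one.mp this)
  obtain ⟨S, hS⟩ := hP.nonempty_fixed_point_of_prime_not_dvd_card (Sylow q M) hcard
  refine ⟨S, ?_⟩
  intro x hx
  let x' : normalizer (M : Set G) := ⟨x, hAM hx⟩
  have hx' : x' ∈ A.subgroupOf (normalizer (M : Set G)) := mem_subgroupOf.mpr hx
  have hfix : (⟨x', hx'⟩ : A.subgroupOf (normalizer (M : Set G))) • S = S := hS ⟨x', hx'⟩
  apply mem_normalizer_fintype
  rintro y ⟨s, hs, rfl⟩
  have h1 : x' • s ∈ ((x' • S : Sylow q M) : Subgroup M) := by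
    rw [Sylow.pointwise_smul_def]
    exact Subgroup.smul_mem_pointwise_smul s x' _ hs
  have hfix' : x' • S = S := hfix
  rw [hfix'] at h1
  exact ⟨x' • s, h1, rfl⟩

theorem mem_normalizer_inf' {H K : Subgroup G} {x : G} (hH : x ∈ normalizer (H : Set G))
    (hK : x ∈ normalizer (K : Set G)) : x ∈ normalizer ((H ⊓ K : Subgroup G) : Set G) := by
  rw [mem_normalizer_iff] at hH hK ⊢
  intro y
  rw [mem_inf, mem_inf, ← hH y, ← hK y]

theorem mem_normalizer_iSup' {ι : Sort*} {H : ι → Subgroup G} {x : G}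
    (h : ∀ i, x ∈ normalizer (H i : Set G)) : x ∈ normalizer ((⨆ i, H i : Subgroup G) : Set G) := by
  rw [mem_normalizer_iff_map_conj_eq, Subgroup.map_iSup]
  congr 1
  funext i
  exact mem_normalizer_iff_map_conj_eq.mp (h i)

theorem mem_normalizer_centralizer_singleton {x c : G} (hxc : x * c = c * x) :
    x ∈ normalizer ((centralizer ({c} : Set G) : Subgroup G) : Set G) := by
  rw [mem_normalizer_iff]
  intro y
  rw [mem_centralizer_singleton_iff, mem_centralizer_singleton_iff]
  have hc : Commute x c := hxc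
  constructor
  · intro h
    have hy : Commute y c := h
    exact ((hc.mul_left hy).mul_left hc.inv_left).eq
    
  · intro h
    have h1 : Commute (x * y * x⁻¹) c := h
    have h2 : Commute (x⁻¹ * (x * y * x⁻¹) * x) c := (hc.inv_left.mul_left h1).mul_left hc
    have e : x⁻¹ * (x * y * x⁻¹) * x = y := by group
    rw [e] at h2
    exact h2.eq

theorem mem_normalizer_commutator {H : Subgroup G} {x : G} (hH : x ∈ normalizer (H : Set G)) :
    x ∈ normalizer ((⁅H, H⁆ : Subgroup G) : Set G) := by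
  rw [mem_normalizer_iff_map_conj_eq] at hH ⊢
  rw [Subgroup.map_commutator, hH]

theorem mem_normalizer_normalizer {H : Subgroup G} {x : G} (hH : x ∈ normalizer (H : Set G)) :
    x ∈ normalizer ((normalizer (H : Set G) : Subgroup G) : Set G) :=
  le_normalizer hH

/-- The subgroup of `M` generated by the centralizers in `M` of the nonidentity elements of `A`. -/
def genC (A M : Subgroup G) : Subgroup G :=
  ⨆ c : {c : G // c ∈ A ∧ c ≠ 1}, M ⊓ centralizer ({c.1} : Set G)

theorem genC_le (A M : Subgroup G) : genC A M ≤ M := iSup_le (fun _ => inf_le_left)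

theorem genC_mono (A : Subgroup G) {M₁ M₂ : Subgroup G} (h : M₁ ≤ M₂) : genC A M₁ ≤ genC A M₂ :=
  iSup_mono (fun _ => inf_le_inf_right _ h)

theorem inf_centralizer_le_genC {A : Subgroup G} (M : Subgroup G) {c : G} (hc : c ∈ A)
    (hc1 : c ≠ 1) : M ⊓ centralizer ({c} : Set G) ≤ genC A M :=
  le_iSup (fun c : {c : G // c ∈ A ∧ c ≠ 1} => M ⊓ centralizer ({c.1} : Set G)) ⟨c, hc, hc1⟩

theorem mem_normalizer_genC {A M : Subgroup G} (hA : ∀ x ∈ A, ∀ y ∈ A, x * y = y * x) {x : G}
    (hxA : x ∈ A) (hxM : x ∈ normalizer (M : Set G)) :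
    x ∈ normalizer ((genC A M : Subgroup G) : Set G) := by
  unfold genC
  apply mem_normalizer_iSup'
  rintro ⟨c, hcA, _⟩
  exact mem_normalizer_inf' hxM (mem_normalizer_centralizer_singleton (hA x hxA c hcA))

theorem card_lt_of_le_of_ne [Finite G] {R M : Subgroup G} (h : R ≤ M) (hne : R ≠ M) :
    Nat.card R < Nat.card M := by
  by_contra hnot
  exact hne (Subgroup.eq_of_le_of_card_ge h (not_lt.mp hnot))

theorem le_genC_aux [Finite G] {p : ℕ} [hp : Fact p.Prime] (A : Subgroup G)
    (hAc : ∀ x ∈ A, ∀ y ∈ A, x * y = y * x) (hAp : ∀ x ∈ A, x ^ p = 1)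
    {a b : G} (haA : a ∈ A) (hbA : b ∈ A) (hb1 : b ≠ 1) (hab : a ∉ zpowers b) :
    ∀ (n : ℕ) (M : Subgroup G), Nat.card M = n → A ≤ normalizer (M : Set G) →
      (Nat.card M).Coprime p → M ≤ genC A M := by
  intro n
  induction n using Nat.strong_induction_on with
  | _ n ih =>
  intro M hn hAM hM
  by_contra hcon
  set D := genC A M with hD
  have hDM : D ≤ M := genC_le A M
  have hDne : D ≠ M := fun h => hcon (le_of_eq h.symm)
  have hApg : IsPGroup p A := by
    intro x
    refine ⟨1, ?_⟩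
    apply Subtype.ext
    simpa using hAp x.1 x.2
  have IH' : ∀ R : Subgroup G, R ≤ M → R ≠ M → A ≤ normalizer (R : Set G) → R ≤ D := by
    intro R hRM hRne hAR
    have hlt : Nat.card R < n := hn ▸ card_lt_of_le_of_ne hRM hRne
    have hcop : (Nat.card R).Coprime p :=
      Nat.Coprime.coprime_dvd_left (Subgroup.card_dvd_of_le hRM) hM
    exact le_trans (ih _ hlt R rfl hAR hcop) (genC_mono A hRM)
  -- Step 1: M is a q-group
  have hq : ∃ q : ℕ, q.Prime ∧ IsPGroup q M := by
    by_contra hno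
    push Not at hno
    apply hcon
    have htop : D.subgroupOf M = ⊤ := by
      rw [← Subgroup.index_eq_one]
      by_contra hidx
      obtain ⟨q, hqp, hqdvd⟩ := Nat.exists_prime_and_dvd hidx
      haveI := Fact.mk hqp
      obtain ⟨S, hS⟩ := exists_sylow_normalized_by q A M hApg hAM hM
      have hS'M : (S : Subgroup M).map M.subtype ≤ M := map_subtype_le _
      have hS'ne : (S : Subgroup M).map M.subtype ≠ M := by
        intro h
        apply hno q hqp
        have h1 : IsPGroup q ((S : Subgroup M).map M.subtype) := S.2.map _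
        exact h1.to_le (le_of_eq h.symm)
      have hS'D := IH' _ hS'M hS'ne (fun x hx => hS x hx)
      have hSle : (S : Subgroup M) ≤ D.subgroupOf M := by
        intro s hs
        rw [mem_subgroupOf]
        exact hS'D ⟨s, hs, rfl⟩
      have h2 := Subgroup.index_dvd_of_le hSle
      exact S.not_dvd_index (hqdvd.trans h2)
    rw [subgroupOf_eq_top] at htop
    exact htop
  obtain ⟨q, hqp, hMq⟩ := hq
  haveI := Fact.mk hqp
  -- Step 2: D is normal in M and contains the commutator subgroup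
  have hAD : ∀ x ∈ A, x ∈ normalizer (D : Set G) :=
    fun x hx => mem_normalizer_genC hAc hx (hAM hx)
  have hMD : M ≤ normalizer (D : Set G) := by
    by_contra hnot
    obtain ⟨u, huM, huD, huN⟩ := exists_mem_normalizer_not_mem hMq hDM hDne
    have hR := IH' (M ⊓ normalizer (D : Set G)) inf_le_left
      (fun h => hnot (inf_eq_left.mp h))
      (fun x hx => mem_normalizer_inf' (hAM hx) (mem_normalizer_normalizer (hAD x hx)))
    exact huD (hR ⟨huM, huN⟩)
  have hMne : M ≠ ⊥ := by
    intro h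
    apply hcon
    rw [h]
    exact bot_le
  have hcomm : ⁅M, M⁆ ≤ D := by
    apply IH' _ (Subgroup.commutator_le_self M)
    · intro h
      have : Group.IsNilpotent M := hMq.isNilpotent
      have : Nontrivial M := (Subgroup.nontrivial_iff_ne_bot M).mpr hMne
      have hlt := Group.IsSolvable.commutator_lt_top_of_nontrivial M
      rw [← Subgroup.map_subtype_commutator] at h
      have h3 : (_root_.commutator M).map M.subtype = (⊤ : Subgroup M).map M.subtype := by
        rw [h, ← MonoidHom.range_eq_map, M.range_subtype]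
      have h4 := Subgroup.map_injective M.subtype_injective h3
      exact hlt.ne h4
    · exact fun x hx => mem_normalizer_commutator (hAM hx)
  -- Step 3: pass to the quotient of `X = N_G(D)` by `D`
  have hDcop : (Nat.card D).Coprime p :=
    Nat.Coprime.coprime_dvd_left (Subgroup.card_dvd_of_le hDM) hM
  set X := normalizer (D : Set G) with hX
  have hAX : A ≤ X := fun x hx => hAD x hx
  haveI hDn : (D.subgroupOf X).Normal := normal_in_normalizer
  let π : X →* X ⧸ D.subgroupOf X := QuotientGroup.mk' (D.subgroupOf X)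
  set V : Subgroup (X ⧸ D.subgroupOf X) := (M.subgroupOf X).map π with hV
  have hVcomm : ∀ v w : V, v * w = w * v := by
    rintro ⟨v, m₁, hm₁, rfl⟩ ⟨w, m₂, hm₂, rfl⟩
    apply Subtype.ext
    change π m₁ * π m₂ = π m₂ * π m₁
    rw [← map_mul, ← map_mul]
    apply (QuotientGroup.eq).mpr
    rw [mem_subgroupOf]
    apply hcomm
    have e : (((m₁ * m₂)⁻¹ * (m₂ * m₁) : X) : G) = ⁅(m₂ : G)⁻¹, (m₁ : G)⁻¹⁆ := by
      rw [commutatorElement_def]
      simp only [Subgroup.coe_mul, Subgroup.coe_inv]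
      group
    rw [e]
    exact commutator_mem_commutator (M.inv_mem (mem_subgroupOf.mp hm₂))
      (M.inv_mem (mem_subgroupOf.mp hm₁))
  letI : CommGroup V := { (inferInstance : Group V) with mul_comm := hVcomm }
  have hVcop : (Nat.card V).Coprime p := by
    have h1 : Nat.card V ∣ Nat.card (M.subgroupOf X) := Subgroup.card_map_dvd _ π
    have h2 : Nat.card (M.subgroupOf X) = Nat.card M :=
      Nat.card_congr (Subgroup.subgroupOfEquivOfLe hMD).toEquiv
    rw [h2] at h1
    exact Nat.Coprime.coprime_dvd_left h1 hM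
  -- the action of `A` on `V`
  have hγmem : ∀ x : A, (π.comp (Subgroup.inclusion hAX)) x ∈
      normalizer ((V : Subgroup (X ⧸ D.subgroupOf X)) : Set (X ⧸ D.subgroupOf X)) := by
    intro x
    apply mem_normalizer_fintype
    rintro _ ⟨m, hm, rfl⟩
    refine ⟨Subgroup.inclusion hAX x * m * (Subgroup.inclusion hAX x)⁻¹, ?_, ?_⟩
    · rw [SetLike.mem_coe, mem_subgroupOf] at hm ⊢
      have := (mem_normalizer_iff.mp (hAM x.2) (m : G)).mp hm
      simpa using this
    · simp
  let γ : A →* normalizer ((V : Subgroup (X ⧸ D.subgroupOf X)) : Set (X ⧸ D.subgroupOf X)) :=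
    (π.comp (Subgroup.inclusion hAX)).codRestrict _ hγmem
  -- fixed points lift
  have hlift : ∀ c : A, c ≠ 1 → ∀ v : V, γ c • v = v → v = 1 := by
    rintro c hc1 ⟨v, m, hm, rfl⟩ hfix
    have hfix' : π (Subgroup.inclusion hAX c) * π m * (π (Subgroup.inclusion hAX c))⁻¹ = π m :=
      congrArg Subtype.val hfix
    rw [← map_inv, ← map_mul, ← map_mul] at hfix'
    have h1 := (QuotientGroup.eq).mp hfix'.symm
    rw [mem_subgroupOf] at h1
    have h2 : (m : G)⁻¹ * ((c : G) * (m : G) * (c : G)⁻¹) ∈ D := by simpa using h1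
    have hcp : (c : G) ^ p ^ 1 = 1 := by rw [pow_one]; exact hAp c.1 c.2
    obtain ⟨d, hdD, hd⟩ := exists_mul_mem_fixed D hDcop (c : G) (m : G) 1 hcp (hAD c.1 c.2) h2
    have hmM : (m : G) ∈ M := mem_subgroupOf.mp hm
    have h3 : (m : G) * d ∈ M ⊓ centralizer ({(c : G)} : Set G) := by
      refine Subgroup.mem_inf.mpr ⟨M.mul_mem hmM (hDM hdD), ?_⟩
      rw [mem_centralizer_singleton_iff]
      calc (m : G) * d * (c : G) = ((c : G) * ((m : G) * d) * (c : G)⁻¹) * (c : G) := by rw [hd]
        _ = (c : G) * ((m : G) * d) := by group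
    have hc1' : (c : G) ≠ 1 := fun h => hc1 (Subtype.ext h)
    have h4 : (m : G) * d ∈ D := inf_centralizer_le_genC M c.2 hc1' h3
    have h5 : (m : G) ∈ D := by
      have := D.mul_mem h4 (D.inv_mem hdD)
      simpa using this
    apply Subtype.ext
    change π m = 1
    exact (QuotientGroup.eq_one_iff m).mpr (mem_subgroupOf.mpr h5)
  -- apply the fixed-point-free lemma
  let a' : A := ⟨a, haA⟩
  let b' : A := ⟨b, hbA⟩
  have hab' : Commute a' b' := Subtype.ext (hAc a haA b hbA)
  have hApow : ∀ x : A, x ^ p = 1 := fun x => Subtype.ext (by simpa using hAp x.1 x.2)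
  have hb'ord : orderOf b' = p :=
    orderOf_eq_prime (hApow b') (fun h => hb1 (congrArg Subtype.val h))
  have hall : ∀ v : V, v = 1 := by
    intro v
    refine eq_one_of_fixedPointFree hVcop (γ a') (γ b') (hab'.map γ) ?_ ?_ ?_ ?_ v
    · intro w
      rw [← map_pow, hApow, map_one, one_smul]
    · intro w
      rw [← map_pow, hApow, map_one, one_smul]
    · intro j w hw
      rw [← map_pow, ← map_mul] at hw
      refine hlift _ ?_ w hw
      intro h
      apply hab
      have h1 : a' = (b' ^ j)⁻¹ := eq_inv_of_mul_eq_one_left h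
      have h2 : a = (b ^ j)⁻¹ := by simpa using congrArg Subtype.val h1
      rw [h2]
      exact (zpowers b).inv_mem (pow_mem (mem_zpowers b) j)
    · intro i hi hip w hw
      rw [← map_pow] at hw
      refine hlift _ ?_ w hw
      exact pow_ne_one_of_lt_orderOf hi.ne' (hb'ord ▸ hip)
  apply hcon
  intro m hm
  have h1 := hall ⟨π ⟨m, hMD hm⟩, ⟨⟨m, hMD hm⟩, mem_subgroupOf.mpr hm, rfl⟩⟩
  have h2 : π ⟨m, hMD hm⟩ = 1 := congrArg Subtype.val h1
  have h3 := (QuotientGroup.eq_one_iff _).mp h2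
  exact mem_subgroupOf.mp h3

/-- **Generation by centralizers** (coprime action of a noncyclic elementary abelian `p`-group):
if the elementary abelian `p`-subgroup `A` contains `b ≠ 1` and `a ∉ ⟨b⟩` and normalizes the
subgroup `M` of order prime to `p`, then `M` is generated by the centralizers `C_M(c)`,
`c ∈ A` nontrivial. -/
theorem le_genC [Finite G] {p : ℕ} [Fact p.Prime] (A M : Subgroup G)
    (hAc : ∀ x ∈ A, ∀ y ∈ A, x * y = y * x) (hAp : ∀ x ∈ A, x ^ p = 1)
    {a b : G} (haA : a ∈ A) (hbA : b ∈ A) (hb1 : b ≠ 1) (hab : a ∉ zpowers b)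
    (hAM : A ≤ normalizer (M : Set G)) (hM : (Nat.card M).Coprime p) : M ≤ genC A M :=
  le_genC_aux A hAc hAp haA hbA hb1 hab _ M rfl hAM hM

theorem genC_eq [Finite G] {p : ℕ} [Fact p.Prime] (A M : Subgroup G)
    (hAc : ∀ x ∈ A, ∀ y ∈ A, x * y = y * x) (hAp : ∀ x ∈ A, x ^ p = 1)
    {a b : G} (haA : a ∈ A) (hbA : b ∈ A) (hb1 : b ≠ 1) (hab : a ∉ zpowers b)
    (hAM : A ≤ normalizer (M : Set G)) (hM : (Nat.card M).Coprime p) : genC A M = M :=
  le_antisymm (genC_le A M) (le_genC A M hAc hAp haA hbA hb1 hab hAM hM)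

/-- An elementary abelian `p`-group of order at least `p ^ 2` is not cyclic: it has `b ≠ 1` and
`a ∉ ⟨b⟩`. -/
theorem exists_not_mem_zpowers [Finite G] {p : ℕ} [hp : Fact p.Prime] (A : Subgroup G)
    (hAp : ∀ x ∈ A, x ^ p = 1) (hcard : p ^ 2 ≤ Nat.card A) :
    ∃ a ∈ A, ∃ b ∈ A, b ≠ 1 ∧ a ∉ zpowers b := by
  have hp1 : 1 < p := hp.out.one_lt
  have hne : A ≠ ⊥ := by
    intro h
    rw [h, Subgroup.card_bot] at hcard
    nlinarith
  obtain ⟨b', hb'⟩ := (Subgroup.ne_bot_iff_exists_ne_one).mp hne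
  obtain ⟨b, hbA, hb1⟩ : ∃ b ∈ A, b ≠ 1 := ⟨b'.1, b'.2, fun h => hb' (Subtype.ext h)⟩
  have hbo : orderOf b = p := orderOf_eq_prime (hAp b hbA) hb1
  by_contra hcon
  push Not at hcon
  have hle : A ≤ zpowers b := fun a ha => hcon a ha b hbA hb1
  have h1 := Subgroup.card_le_of_le hle
  rw [Nat.card_zpowers, hbo] at h1
  nlinarith

/-- **Generation by centralizers**, `K`-form: if every `C_M(c)` (`1 ≠ c ∈ A`) lies in `K`, then
`M ≤ K`. Here `A` is elementary abelian of order at least `p ^ 2` normalizing the `p'`-group `M`. -/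
theorem le_of_forall_inf_centralizer_le [Finite G] {p : ℕ} [Fact p.Prime] (A M K : Subgroup G)
    (hAc : ∀ x ∈ A, ∀ y ∈ A, x * y = y * x) (hAp : ∀ x ∈ A, x ^ p = 1)
    (hcard : p ^ 2 ≤ Nat.card A) (hAM : A ≤ normalizer (M : Set G))
    (hM : (Nat.card M).Coprime p)
    (hK : ∀ c ∈ A, c ≠ 1 → M ⊓ centralizer ({c} : Set G) ≤ K) : M ≤ K := by
  obtain ⟨a, haA, b, hbA, hb1, hab⟩ := exists_not_mem_zpowers A hAp hcard
  refine le_trans (le_genC A M hAc hAp haA hbA hb1 hab hAM hM) ?_
  unfold genC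
  apply iSup_le
  rintro ⟨c, hcA, hc1⟩
  exact hK c hcA hc1

end Cfsg.Agent.Helper48
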