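import Mathlib

/-!
# Representations of "symplectic type" and an automorphism of prime order

Linear-algebra core of the coprime Hall–Higman / Shult type theorem:
if a finite group `Q` acts on a finite-dimensional space `M` so that commutators act as scalars and
only "scalar" elements are central (symplectic type), and `g` is an operator of prime order `r`
normalising the action, fixed-point-free on `Q` modulo scalars and without fixed vectors on `M`,
then `|Q : S| ≤ (r-1)^2` where `S` is the subgroup of elements acting as scalars.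
-/

set_option autoImplicit false
set_option linter.unusedSectionVars false

namespace Cfsg.Agent.Helper48.SympRep

open Finset

variable {K : Type*} [Field K] {M : Type*} [AddCommGroup M] [Module K M]
variable {Q : Type*} [Group Q] [Fintype Q]

/-- The averaging operator over `Q`. -/
noncomputable def avg (ρ : Q →* Module.End K M) (T : Module.End K M) : Module.End K M :=
  (Fintype.card Q : K)⁻¹ • ∑ u : Q, ρ u * T * ρ u⁻¹

lemma rho_mul_inv (ρ : Q →* Module.End K M) (u : Q) : ρ u * ρ u⁻¹ = 1 := by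
  rw [← map_mul, mul_inv_cancel, map_one]

lemma rho_inv_mul (ρ : Q →* Module.End K M) (u : Q) : ρ u⁻¹ * ρ u = 1 := by
  rw [← map_mul, inv_mul_cancel, map_one]

lemma rho_mul_avg (ρ : Q →* Module.End K M) (T : Module.End K M) (w : Q) :
    ρ w * avg ρ T = avg ρ T * ρ w := by
  unfold avg
  rw [mul_smul_comm, smul_mul_assoc, Finset.mul_sum, Finset.sum_mul]
  congr 1
  refine Fintype.sum_equiv (Equiv.mulLeft w) _ _ ?_
  intro u
  simp only [Equiv.coe_mulLeft, mul_inv_rev, map_mul]
  have h := rho_inv_mul ρ w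
  calc ρ w * (ρ u * T * ρ u⁻¹) = ρ w * ρ u * T * ρ u⁻¹ * 1 := by simp [mul_assoc]
    _ = ρ w * ρ u * T * ρ u⁻¹ * (ρ w⁻¹ * ρ w) := by rw [h]
    _ = ρ w * ρ u * T * (ρ u⁻¹ * ρ w⁻¹) * ρ w := by simp [mul_assoc]

lemma avg_conj (ρ : Q →* Module.End K M) (T : Module.End K M) (w : Q) :
    avg ρ (ρ w * T * ρ w⁻¹) = avg ρ T := by
  unfold avg
  congr 1
  refine Fintype.sum_equiv (Equiv.mulRight w) _ _ ?_
  intro u
  simp only [Equiv.coe_mulRight, mul_inv_rev, map_mul, mul_assoc]

lemma avg_add (ρ : Q →* Module.End K M) (T T' : Module.End K M) :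
    avg ρ (T + T') = avg ρ T + avg ρ T' := by
  unfold avg
  rw [← smul_add, ← Finset.sum_add_distrib]
  congr 1
  refine Finset.sum_congr rfl ?_
  intro u _
  rw [mul_add, add_mul]

lemma avg_smul (ρ : Q →* Module.End K M) (a : K) (T : Module.End K M) :
    avg ρ (a • T) = a • avg ρ T := by
  unfold avg
  simp only [mul_smul_comm, smul_mul_assoc, ← Finset.smul_sum]
  rw [smul_comm]

lemma avg_zero (ρ : Q →* Module.End K M) : avg ρ (0 : Module.End K M) = 0 := by
  unfold avg; simp

lemma avg_sum {ι : Type*} (ρ : Q →* Module.End K M) (s : Finset ι) (f : ι → Module.End K M) :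
    avg ρ (∑ i ∈ s, f i) = ∑ i ∈ s, avg ρ (f i) := by
  classical
  induction s using Finset.induction_on with
  | empty => simp [avg_zero]
  | insert i s hi ih => rw [Finset.sum_insert hi, Finset.sum_insert hi, avg_add, ih]

lemma avg_mul_left (ρ : Q →* Module.End K M) {C : Module.End K M}
    (hC : ∀ w, C * ρ w = ρ w * C) (T : Module.End K M) : avg ρ (C * T) = C * avg ρ T := by
  unfold avg
  rw [mul_smul_comm, Finset.mul_sum]
  congr 1
  refine Finset.sum_congr rfl ?_
  intro u _
  rw [← mul_assoc, ← mul_assoc, ← hC u, mul_assoc C, mul_assoc C]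

lemma avg_mul_right (ρ : Q →* Module.End K M) {C : Module.End K M}
    (hC : ∀ w, C * ρ w = ρ w * C) (T : Module.End K M) : avg ρ (T * C) = avg ρ T * C := by
  unfold avg
  rw [smul_mul_assoc, Finset.sum_mul]
  congr 1
  refine Finset.sum_congr rfl ?_
  intro u _
  rw [mul_assoc, mul_assoc, mul_assoc, mul_assoc, hC u⁻¹]

lemma avg_of_comm (ρ : Q →* Module.End K M) (hQ : (Fintype.card Q : K) ≠ 0) {C : Module.End K M}
    (hC : ∀ w, C * ρ w = ρ w * C) : avg ρ C = C := by
  unfold avg
  have : ∀ u : Q, ρ u * C * ρ u⁻¹ = C := by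
    intro u
    rw [← hC u, mul_assoc, rho_mul_inv, mul_one]
  simp only [this, Finset.sum_const, Finset.card_univ]
  rw [← Nat.cast_smul_eq_nsmul K, smul_smul, inv_mul_cancel₀ hQ, one_smul]

lemma avg_eq_zero (ρ : Q →* Module.End K M) {T : Module.End K M} {w : Q} {l : K} (hl : l ≠ 1)
    (h : ρ w * T * ρ w⁻¹ = l • T) : avg ρ T = 0 := by
  have h1 : avg ρ T = l • avg ρ T := by
    conv_lhs => rw [← avg_conj ρ T w, h, avg_smul]
  have h2 : (1 - l) • avg ρ T = 0 := by
    rw [sub_smul, one_smul, ← h1, sub_self]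
  rcases smul_eq_zero.mp h2 with h3 | h3
  · exact absurd (sub_eq_zero.mp h3).symm hl
  · exact h3


/-- `T` is a scalar operator. -/
def IsScalar (T : Module.End K M) : Prop := ∃ l : K, T = l • 1

lemma IsScalar.comm {T : Module.End K M} (h : IsScalar T) (A : Module.End K M) : T * A = A * T := by
  obtain ⟨l, rfl⟩ := h
  rw [smul_mul_assoc, mul_smul_comm, one_mul, mul_one]

/-- The subgroup of elements acting as scalars. -/
def scalarSubgroup (ρ : Q →* Module.End K M) : Subgroup Q where
  carrier := {u | IsScalar (ρ u)}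
  one_mem' := ⟨1, by simp⟩
  mul_mem' := by
    rintro u w ⟨l, hl⟩ ⟨l', hl'⟩
    refine ⟨l * l', ?_⟩
    rw [map_mul, hl, hl', smul_mul_assoc, mul_smul_comm, one_mul, smul_smul]
  inv_mem' := by
    rintro u ⟨l, hl⟩
    by_cases h0 : l = 0
    · refine ⟨0, ?_⟩
      have h1 : (1 : Module.End K M) = 0 := by
        rw [← rho_mul_inv ρ u, hl, h0, zero_smul, zero_mul]
      rw [zero_smul, ← mul_one (ρ u⁻¹), h1, mul_zero]
    · refine ⟨l⁻¹, ?_⟩
      have h1 : l • ρ u⁻¹ = 1 := by
        rw [← rho_mul_inv ρ u, hl, smul_mul_assoc, one_mul]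
      rw [← h1, smul_smul, inv_mul_cancel₀ h0, one_smul]

lemma mem_scalarSubgroup (ρ : Q →* Module.End K M) (u : Q) :
    u ∈ scalarSubgroup ρ ↔ IsScalar (ρ u) := Iff.rfl

instance scalarSubgroup_normal (ρ : Q →* Module.End K M) : (scalarSubgroup ρ).Normal := by
  constructor
  intro u hu w
  rw [mem_scalarSubgroup] at hu ⊢
  obtain ⟨l, hl⟩ := hu
  refine ⟨l, ?_⟩
  rw [map_mul, map_mul, hl, mul_smul_comm, smul_mul_assoc, mul_one, rho_mul_inv]

/-- Symplectic type hypotheses. -/
structure Symp (ρ : Q →* Module.End K M) : Prop where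
  comm_scalar : ∀ u w, ∃ l : K, ρ u * ρ w = l • (ρ w * ρ u)
  nondeg : ∀ u, (∀ w, ρ u * ρ w = ρ w * ρ u) → IsScalar (ρ u)

lemma avg_rho_of_not_mem {ρ : Q →* Module.End K M} (hρ : Symp ρ) {u : Q}
    (hu : u ∉ scalarSubgroup ρ) : avg ρ (ρ u) = 0 := by
  have h1 : ¬ ∀ w, ρ u * ρ w = ρ w * ρ u := fun h => hu (hρ.nondeg u h)
  push Not at h1
  obtain ⟨w, hw⟩ := h1
  obtain ⟨l, hl⟩ := hρ.comm_scalar w u
  have hl1 : l ≠ 1 := by
    rintro rfl
    rw [one_smul] at hl
    exact hw hl.symm
  refine avg_eq_zero ρ hl1 (w := w) ?_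
  rw [hl, smul_mul_assoc, mul_assoc, rho_mul_inv, mul_one]

lemma avg_rho_of_mem {ρ : Q →* Module.End K M} (hQ : (Fintype.card Q : K) ≠ 0) {u : Q}
    (hu : u ∈ scalarSubgroup ρ) : avg ρ (ρ u) = ρ u :=
  avg_of_comm ρ hQ (fun w => IsScalar.comm hu (ρ w))

open Classical in
/-- Reconstruction formula. -/
lemma recon {ρ : Q →* Module.End K M} (hρ : Symp ρ) (hQ : (Fintype.card Q : K) ≠ 0)
    (T : Module.End K M) :
    ∑ w : Q, avg ρ (T * ρ w⁻¹) * ρ w = (Nat.card (scalarSubgroup ρ) : K) • T := by
  have key : ∀ w : Q, avg ρ (T * ρ w⁻¹) * ρ w =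
      (Fintype.card Q : K)⁻¹ • ∑ u : Q, ρ u * T * (ρ w⁻¹ * ρ u⁻¹ * ρ w) := by
    intro w
    unfold avg
    rw [smul_mul_assoc, Finset.sum_mul]
    simp only [mul_assoc]
  simp only [key]
  rw [← Finset.smul_sum, Finset.sum_comm]
  have inner : ∀ u : Q, ∑ w : Q, ρ u * T * (ρ w⁻¹ * ρ u⁻¹ * ρ w) =
      (Fintype.card Q : K) • (ρ u * T * avg ρ (ρ u⁻¹)) := by
    intro u
    rw [← Finset.mul_sum]
    unfold avg
    rw [mul_smul_comm, smul_smul, mul_inv_cancel₀ hQ, one_smul]
    congr 1
    refine Fintype.sum_equiv (Equiv.inv Q) _ _ ?_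
    intro w
    simp
  simp only [inner]
  rw [← Finset.smul_sum, smul_smul, inv_mul_cancel₀ hQ, one_smul]
  have term : ∀ u : Q, ρ u * T * avg ρ (ρ u⁻¹) = if u ∈ scalarSubgroup ρ then T else 0 := by
    intro u
    split_ifs with hu
    · rw [avg_rho_of_mem hQ (inv_mem hu), IsScalar.comm hu T, mul_assoc, rho_mul_inv, mul_one]
    · rw [avg_rho_of_not_mem hρ (fun h => hu (by simpa using inv_mem h)), mul_zero]
  simp only [term]
  rw [Finset.sum_ite, Finset.sum_const_zero, add_zero, Finset.sum_const]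
  have hc : (Finset.univ.filter (fun u => u ∈ scalarSubgroup ρ)).card =
      Nat.card (scalarSubgroup ρ) := by
    rw [Nat.card_eq_fintype_card, Fintype.card_subtype]
  rw [hc, Nat.cast_smul_eq_nsmul]


/-- The commutant of `ρ(Q)`. -/
def commutant (ρ : Q →* Module.End K M) : Submodule K (Module.End K M) where
  carrier := {C | ∀ w, C * ρ w = ρ w * C}
  add_mem' := by
    intro A B hA hB w
    rw [add_mul, mul_add, hA w, hB w]
  zero_mem' := by intro w; simp
  smul_mem' := by
    intro c A hA w
    rw [smul_mul_assoc, mul_smul_comm, hA w]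

lemma mem_commutant (ρ : Q →* Module.End K M) (C : Module.End K M) :
    C ∈ commutant ρ ↔ ∀ w, C * ρ w = ρ w * C := Iff.rfl

lemma avg_mem_commutant (ρ : Q →* Module.End K M) (T : Module.End K M) :
    avg ρ T ∈ commutant ρ := fun w => (rho_mul_avg ρ T w).symm

lemma one_mem_commutant (ρ : Q →* Module.End K M) : (1 : Module.End K M) ∈ commutant ρ := by
  intro w; simp

noncomputable instance quotFintype (ρ : Q →* Module.End K M) : Fintype (Q ⧸ scalarSubgroup ρ) :=
  Fintype.ofFinite _

/-- The map `F ↦ ∑ F(w̄) ρ(ŵ)`. -/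
noncomputable def theta (ρ : Q →* Module.End K M) :
    ((Q ⧸ scalarSubgroup ρ) → commutant ρ) →ₗ[K] Module.End K M where
  toFun F := ∑ w : Q ⧸ scalarSubgroup ρ, (F w : Module.End K M) * ρ (Quotient.out w)
  map_add' := by
    intro F F'
    rw [← Finset.sum_add_distrib]
    refine Finset.sum_congr rfl ?_
    intro w _
    simp [add_mul]
  map_smul' := by
    intro c F
    rw [Finset.smul_sum]
    refine Finset.sum_congr rfl ?_
    intro w _
    simp

lemma theta_apply (ρ : Q →* Module.End K M) (F : (Q ⧸ scalarSubgroup ρ) → commutant ρ) :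
    theta ρ F = ∑ w : Q ⧸ scalarSubgroup ρ, (F w : Module.End K M) * ρ (Quotient.out w) := rfl

lemma coeff_theta {ρ : Q →* Module.End K M} (hρ : Symp ρ) (hQ : (Fintype.card Q : K) ≠ 0)
    (F : (Q ⧸ scalarSubgroup ρ) → commutant ρ) (w₀ : Q ⧸ scalarSubgroup ρ) :
    avg ρ (theta ρ F * ρ (Quotient.out w₀)⁻¹) = (F w₀ : Module.End K M) := by
  classical
  rw [theta_apply, Finset.sum_mul, avg_sum]
  have term : ∀ w : Q ⧸ scalarSubgroup ρ,
      avg ρ ((F w : Module.End K M) * ρ (Quotient.out w) * ρ (Quotient.out w₀)⁻¹) =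
        if w = w₀ then (F w₀ : Module.End K M) else 0 := by
    intro w
    rw [mul_assoc, ← map_mul, avg_mul_left ρ (F w).2]
    split_ifs with h
    · subst h
      rw [mul_inv_cancel, map_one]
      rw [avg_of_comm ρ hQ (one_mem_commutant ρ), mul_one]
    · rw [avg_rho_of_not_mem hρ, mul_zero]
      intro hmem
      apply h
      have h1 : (Quotient.out w₀)⁻¹ * Quotient.out w ∈ scalarSubgroup ρ := by
        have := (scalarSubgroup_normal ρ).conj_mem _ hmem (Quotient.out w₀)⁻¹
        simpa [mul_assoc] using this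
      have h2 : (QuotientGroup.mk (Quotient.out w₀) : Q ⧸ scalarSubgroup ρ) =
          QuotientGroup.mk (Quotient.out w) := QuotientGroup.eq.mpr h1
      rw [QuotientGroup.out_eq', QuotientGroup.out_eq'] at h2
      exact h2.symm
  simp only [term]
  rw [Finset.sum_ite_eq' Finset.univ w₀]
  simp

lemma theta_injective {ρ : Q →* Module.End K M} (hρ : Symp ρ) (hQ : (Fintype.card Q : K) ≠ 0) :
    Function.Injective (theta ρ) := by
  rw [← LinearMap.ker_eq_bot, LinearMap.ker_eq_bot']
  intro F hF
  funext w₀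
  apply Subtype.ext
  rw [← coeff_theta hρ hQ F w₀, hF, zero_mul, avg_zero]
  rfl

lemma card_mul_finrank_le [FiniteDimensional K M] {ρ : Q →* Module.End K M} (hρ : Symp ρ)
    (hQ : (Fintype.card Q : K) ≠ 0) :
    Nat.card (Q ⧸ scalarSubgroup ρ) * Module.finrank K (commutant ρ) ≤
      Module.finrank K M * Module.finrank K M := by
  have h := LinearMap.finrank_le_finrank_of_injective (theta_injective hρ hQ)
  rw [Module.finrank_pi_fintype, Finset.sum_const, Finset.card_univ, smul_eq_mul,
    Module.finrank_linearMap] at h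
  rwa [Nat.card_eq_fintype_card]


section Auto

variable (ρ : Q →* Module.End K M) (a : Q ≃* Q) (g g' : Module.End K M)

/-- `g` normalises the action, inducing `a` on `Q`. -/
structure Normalises : Prop where
  mul_inv : g * g' = 1
  inv_mul : g' * g = 1
  conj : ∀ u, g * ρ u = ρ (a u) * g

variable {ρ a g g'}

lemma Normalises.rho_a (h : Normalises ρ a g g') (u : Q) : ρ (a u) = g * ρ u * g' := by
  rw [h.conj u, mul_assoc, h.mul_inv, mul_one]

lemma Normalises.rho_symm (h : Normalises ρ a g g') (u : Q) : ρ (a.symm u) = g' * ρ u * g := by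
  have := h.rho_a (a.symm u)
  rw [MulEquiv.apply_symm_apply] at this
  rw [this, ← mul_assoc, ← mul_assoc, h.inv_mul, one_mul, mul_assoc, h.inv_mul, mul_one]

lemma Normalises.mem_iff (h : Normalises ρ a g g') (u : Q) :
    a u ∈ scalarSubgroup ρ ↔ u ∈ scalarSubgroup ρ := by
  constructor
  · rintro ⟨l, hl⟩
    refine ⟨l, ?_⟩
    have h1 : ρ u = g' * ρ (a u) * g := by
      rw [h.rho_a, ← mul_assoc, ← mul_assoc, h.inv_mul, one_mul, mul_assoc, h.inv_mul, mul_one]
    rw [h1, hl, mul_smul_comm, smul_mul_assoc, mul_one, h.inv_mul]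
  · rintro ⟨l, hl⟩
    refine ⟨l, ?_⟩
    rw [h.rho_a, hl, mul_smul_comm, smul_mul_assoc, mul_one, h.mul_inv]

lemma Normalises.avg_conj (h : Normalises ρ a g g') (A : Module.End K M) :
    avg ρ (g * A * g') = g * avg ρ A * g' := by
  unfold avg
  rw [mul_smul_comm, smul_mul_assoc, Finset.mul_sum, Finset.sum_mul]
  congr 1
  refine Fintype.sum_equiv a.symm.toEquiv _ _ ?_
  intro u
  simp only [MulEquiv.toEquiv_eq_coe, MulEquiv.coe_toEquiv]
  rw [← map_inv, h.rho_symm, h.rho_symm]
  have e1 : g * (g' * ρ u * g * A * (g' * ρ u⁻¹ * g)) * g' =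
      (g * g') * ρ u * g * A * g' * ρ u⁻¹ * (g * g') := by
    simp only [mul_assoc]
  rw [e1, h.mul_inv, one_mul, mul_one]
  simp only [mul_assoc]

lemma Normalises.coeff_a (h : Normalises ρ a g g') {T : Module.End K M} (hT : T * g = g * T)
    (w : Q) : avg ρ (T * ρ (a w)⁻¹) = g * avg ρ (T * ρ w⁻¹) * g' := by
  rw [← h.avg_conj, ← map_inv, h.rho_a]
  congr 1
  rw [← mul_assoc, ← mul_assoc, hT]
  simp only [mul_assoc]

lemma coeff_mul_scalar {T : Module.End K M} {u : Q} (hu : u ∈ scalarSubgroup ρ) (w : Q) :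
    avg ρ (T * ρ (w * u)⁻¹) = avg ρ (T * ρ w⁻¹) * ρ u⁻¹ := by
  have hu' : u⁻¹ ∈ scalarSubgroup ρ := inv_mem hu
  rw [mul_inv_rev, map_mul, IsScalar.comm hu', ← mul_assoc]
  exact avg_mul_right ρ (fun w' => IsScalar.comm hu' (ρ w')) _

end Auto


section Orbits

variable {ρ : Q →* Module.End K M} {a : Q ≃* Q} {g g' : Module.End K M}

lemma Normalises.map_eq (h : Normalises ρ a g g') :
    (scalarSubgroup ρ).map (a : Q →* Q) = scalarSubgroup ρ := by
  ext u
  constructor
  · rintro ⟨v, hv, rfl⟩
    exact (h.mem_iff v).mpr hv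
  · intro hu
    refine ⟨a.symm u, ?_, by simp⟩
    show a.symm u ∈ scalarSubgroup ρ
    rw [← h.mem_iff]
    simpa using hu

/-- The permutation of `Q ⧸ S` induced by `a`. -/
noncomputable def sigma (h : Normalises ρ a g g') : Equiv.Perm (Q ⧸ scalarSubgroup ρ) :=
  (QuotientGroup.congr (scalarSubgroup ρ) (scalarSubgroup ρ) a h.map_eq).toEquiv

lemma sigma_mk (h : Normalises ρ a g g') (w : Q) :
    sigma h (QuotientGroup.mk w) = QuotientGroup.mk (a w) := by
  unfold sigma
  simp

lemma coeff_zero_of_mk_eq {T : Module.End K M} {w w' : Q}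
    (hww : (QuotientGroup.mk w : Q ⧸ scalarSubgroup ρ) = QuotientGroup.mk w')
    (hw : avg ρ (T * ρ w⁻¹) = 0) : avg ρ (T * ρ w'⁻¹) = 0 := by
  have hu : w⁻¹ * w' ∈ scalarSubgroup ρ := QuotientGroup.eq.mp hww
  have : w' = w * (w⁻¹ * w') := by group
  rw [this, coeff_mul_scalar hu, hw, zero_mul]

lemma Normalises.coeff_zero_iff (h : Normalises ρ a g g') {T : Module.End K M}
    (hT : T * g = g * T) (w : Q) :
    avg ρ (T * ρ (a w)⁻¹) = 0 ↔ avg ρ (T * ρ w⁻¹) = 0 := by
  rw [h.coeff_a hT]
  constructor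
  · intro h0
    have : avg ρ (T * ρ w⁻¹) = g' * (g * avg ρ (T * ρ w⁻¹) * g') * g := by
      rw [← mul_assoc, ← mul_assoc, h.inv_mul, one_mul, mul_assoc, h.inv_mul, mul_one]
    rw [this, h0, mul_zero, zero_mul]
  · intro h0
    rw [h0, mul_zero, zero_mul]

/-- The set of cosets at which the coefficient of `T` vanishes. -/
def vanish (ρ : Q →* Module.End K M) (T : Module.End K M) : Set (Q ⧸ scalarSubgroup ρ) :=
  {w | avg ρ (T * ρ (Quotient.out w)⁻¹) = 0}

lemma mk_mem_vanish {T : Module.End K M} (w : Q) :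
    (QuotientGroup.mk w : Q ⧸ scalarSubgroup ρ) ∈ vanish ρ T ↔ avg ρ (T * ρ w⁻¹) = 0 := by
  have hmk : (QuotientGroup.mk (Quotient.out (QuotientGroup.mk w : Q ⧸ scalarSubgroup ρ)) :
      Q ⧸ scalarSubgroup ρ) = QuotientGroup.mk w := QuotientGroup.out_eq' _
  constructor
  · intro h0
    exact coeff_zero_of_mk_eq hmk h0
  · intro h0
    exact coeff_zero_of_mk_eq hmk.symm h0

lemma Normalises.sigma_mem_vanish (h : Normalises ρ a g g') {T : Module.End K M}
    (hT : T * g = g * T) (w : Q ⧸ scalarSubgroup ρ) :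
    sigma h w ∈ vanish ρ T ↔ w ∈ vanish ρ T := by
  obtain ⟨w, rfl⟩ := QuotientGroup.mk_surjective w
  rw [sigma_mk, mk_mem_vanish, mk_mem_vanish, h.coeff_zero_iff hT]

lemma Normalises.zpowers_mem_vanish (h : Normalises ρ a g g') {T : Module.End K M}
    (hT : T * g = g * T) {τ : Equiv.Perm (Q ⧸ scalarSubgroup ρ)}
    (hτ : τ ∈ Subgroup.zpowers (sigma h)) (w : Q ⧸ scalarSubgroup ρ) :
    τ w ∈ vanish ρ T ↔ w ∈ vanish ρ T := by
  let St : Subgroup (Equiv.Perm (Q ⧸ scalarSubgroup ρ)) :=
    { carrier := {τ | ∀ w, τ w ∈ vanish ρ T ↔ w ∈ vanish ρ T}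
      one_mem' := by intro w; simp
      mul_mem' := by
        intro τ τ' hτ hτ' w
        rw [Equiv.Perm.mul_apply, hτ, hτ']
      inv_mem' := by
        intro τ hτ w
        have := hτ (τ⁻¹ w)
        rw [← Equiv.Perm.mul_apply, mul_inv_cancel, Equiv.Perm.one_apply] at this
        exact this.symm }
  have hle : Subgroup.zpowers (sigma h) ≤ St := by
    rw [Subgroup.zpowers_le]
    exact fun w => h.sigma_mem_vanish hT w
  exact hle hτ w

/-- The centraliser of `g` in `End M`. -/
def centr (g : Module.End K M) : Submodule K (Module.End K M) where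
  carrier := {T | T * g = g * T}
  add_mem' := by
    intro A B hA hB
    show (A + B) * g = g * (A + B)
    rw [add_mul, mul_add, hA, hB]
  zero_mem' := by show (0 : Module.End K M) * g = g * 0; simp
  smul_mem' := by
    intro c A hA
    show (c • A) * g = g * (c • A)
    rw [smul_mul_assoc, mul_smul_comm, hA]

lemma mem_centr (g T : Module.End K M) : T ∈ centr g ↔ T * g = g * T := Iff.rfl

end Orbits


/-- Burnside count for a permutation of prime order with a unique fixed point. -/
lemma card_orbits {α : Type*} [Finite α] (σ : Equiv.Perm α) (r : ℕ) (hr : r.Prime)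
    (hσr : σ ^ r = 1) (hne : σ ≠ 1) (x₀ : α) (hfix : ∀ x, σ x = x ↔ x = x₀) :
    Nat.card (MulAction.orbitRel.Quotient (Subgroup.zpowers σ) α) * r = Nat.card α + (r - 1) := by
  classical
  have : Fintype α := Fintype.ofFinite α
  have : Fintype (Subgroup.zpowers σ) := Fintype.ofFinite _
  have : Fintype (MulAction.orbitRel.Quotient (Subgroup.zpowers σ) α) := Fintype.ofFinite _
  have hord : orderOf σ = r := by
    have h1 : orderOf σ ∣ r := orderOf_dvd_of_pow_eq_one hσr
    rcases (Nat.dvd_prime hr).mp h1 with h2 | h2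
    · exact absurd (orderOf_eq_one_iff.mp h2) hne
    · exact h2
  have hcard : Fintype.card (Subgroup.zpowers σ) = r := by
    rw [← Nat.card_eq_fintype_card, Nat.card_zpowers, hord]
  have hB := MulAction.sum_card_fixedBy_eq_card_orbits_mul_card_group (Subgroup.zpowers σ) α
  rw [hcard] at hB
  rw [Nat.card_eq_fintype_card, Nat.card_eq_fintype_card, ← hB]
  have hterm : ∀ τ : Subgroup.zpowers σ, Fintype.card (MulAction.fixedBy α τ) =
      if τ = 1 then Fintype.card α else 1 := by
    intro τ
    split_ifs with hτ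
    · subst hτ
      have : MulAction.fixedBy α (1 : Subgroup.zpowers σ) = Set.univ :=
        MulAction.fixedBy_one_eq_univ _ _
      rw [Fintype.card_congr (Equiv.setCongr this)]
      exact Fintype.card_congr (Equiv.Set.univ α)
    · rw [Fintype.card_eq_one_iff]
      have hx₀ : ∀ τ' : Subgroup.zpowers σ, τ' • x₀ = x₀ := by
        intro τ'
        have hle : Subgroup.zpowers σ ≤ MulAction.stabilizer (Equiv.Perm α) x₀ := by
          rw [Subgroup.zpowers_le]
          exact (hfix x₀).mpr rfl
        exact hle τ'.2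
      refine ⟨⟨x₀, hx₀ τ⟩, ?_⟩
      rintro ⟨x, hx⟩
      apply Subtype.ext
      show x = x₀
      rw [← hfix]
      -- σ is a power of τ
      have : Fact r.Prime := ⟨hr⟩
      have hcard' : Nat.card (Subgroup.zpowers σ) = r := by
        rw [Nat.card_eq_fintype_card, hcard]
      have htop : Subgroup.zpowers τ = ⊤ := zpowers_eq_top_of_prime_card hcard' hτ
      have hσmem : (⟨σ, Subgroup.mem_zpowers σ⟩ : Subgroup.zpowers σ) ∈ Subgroup.zpowers τ := by
        rw [htop]; trivial
      have hle : Subgroup.zpowers τ ≤ MulAction.stabilizer (Subgroup.zpowers σ) x := by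
        rw [Subgroup.zpowers_le]
        exact hx
      have := hle hσmem
      exact this
  simp only [hterm]
  rw [Finset.sum_ite, Finset.sum_const, Finset.sum_const]
  have h1 : (Finset.univ.filter (fun τ : Subgroup.zpowers σ => τ = 1)).card = 1 := by
    rw [Finset.card_eq_one]
    exact ⟨1, by ext τ; simp⟩
  have h2 : (Finset.univ.filter (fun τ : Subgroup.zpowers σ => ¬ τ = 1)).card = r - 1 := by
    have := Finset.card_filter_add_card_filter_not (s := (Finset.univ : Finset (Subgroup.zpowers σ)))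
      (fun τ : Subgroup.zpowers σ => τ = 1)
    rw [h1, Finset.card_univ, hcard] at this
    omega
  rw [h1, h2]
  simp


section Ev

variable {ρ : Q →* Module.End K M} {a : Q ≃* Q} {g g' : Module.End K M}

/-- Evaluation of the coefficients at orbit representatives. -/
noncomputable def ev (h : Normalises ρ a g g') :
    centr g →ₗ[K]
      (MulAction.orbitRel.Quotient (Subgroup.zpowers (sigma h)) (Q ⧸ scalarSubgroup ρ) →
        commutant ρ) where
  toFun T := fun o =>
    ⟨avg ρ ((T : Module.End K M) * ρ (Quotient.out (Quotient.out o))⁻¹), avg_mem_commutant _ _⟩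
  map_add' := by
    intro T T'
    funext o
    apply Subtype.ext
    simp [add_mul, avg_add]
  map_smul' := by
    intro c T
    funext o
    apply Subtype.ext
    simp [avg_smul]

lemma ev_injective (hρ : Symp ρ) (hQ : (Fintype.card Q : K) ≠ 0) (h : Normalises ρ a g g') :
    Function.Injective (ev h) := by
  rw [← LinearMap.ker_eq_bot, LinearMap.ker_eq_bot']
  rintro ⟨T, hT⟩ h0
  rw [mem_centr] at hT
  apply Subtype.ext
  show T = 0
  have hrep : ∀ o : MulAction.orbitRel.Quotient (Subgroup.zpowers (sigma h)) (Q ⧸ scalarSubgroup ρ),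
      Quotient.out o ∈ vanish ρ T := by
    intro o
    have := congrFun h0 o
    exact congrArg Subtype.val this
  have hall : ∀ w : Q ⧸ scalarSubgroup ρ, w ∈ vanish ρ T := by
    intro w
    have h1 : Quotient.out (Quotient.mk'' w :
        MulAction.orbitRel.Quotient (Subgroup.zpowers (sigma h)) (Q ⧸ scalarSubgroup ρ)) ∈
        MulAction.orbit (Subgroup.zpowers (sigma h)) w := by
      have := Quotient.mk_out (s := MulAction.orbitRel (Subgroup.zpowers (sigma h))
        (Q ⧸ scalarSubgroup ρ)) w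
      exact this
    obtain ⟨τ, hτ⟩ := h1
    have h2 := hrep (Quotient.mk'' w)
    rw [← hτ] at h2
    exact (h.zpowers_mem_vanish hT τ.2 w).mp h2
  have hcoef : ∀ w : Q, avg ρ (T * ρ w⁻¹) = 0 := fun w => (mk_mem_vanish w).mp (hall _)
  have hrec := recon hρ hQ T
  simp only [hcoef, zero_mul, Finset.sum_const_zero] at hrec
  have hS : (Nat.card (scalarSubgroup ρ) : K) ≠ 0 := by
    intro hS0
    apply hQ
    obtain ⟨k, hk⟩ := Subgroup.card_subgroup_dvd_card (scalarSubgroup ρ)
    rw [← Nat.card_eq_fintype_card, hk, Nat.cast_mul, hS0, zero_mul]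
  rcases smul_eq_zero.mp hrec.symm with h3 | h3
  · exact absurd h3 hS
  · exact h3

lemma finrank_centr_le [FiniteDimensional K M] (hρ : Symp ρ) (hQ : (Fintype.card Q : K) ≠ 0)
    (h : Normalises ρ a g g') :
    Module.finrank K (centr g) ≤
      Nat.card (MulAction.orbitRel.Quotient (Subgroup.zpowers (sigma h)) (Q ⧸ scalarSubgroup ρ)) *
        Module.finrank K (commutant ρ) := by
  classical
  have : Fintype (MulAction.orbitRel.Quotient (Subgroup.zpowers (sigma h))
    (Q ⧸ scalarSubgroup ρ)) := Fintype.ofFinite _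
  have h1 := LinearMap.finrank_le_finrank_of_injective (ev_injective hρ hQ h)
  rw [Module.finrank_pi_fintype, Finset.sum_const, Finset.card_univ, smul_eq_mul] at h1
  rwa [Nat.card_eq_fintype_card]

end Ev


section Lower

variable {ι : Type*} [Fintype ι] [DecidableEq ι]

/-- matrix unit in the basis `b` -/
noncomputable def unitEnd (b : Module.Basis ι K M) (i j : ι) : Module.End K M :=
  (b.coord j).smulRight (b i)

lemma unitEnd_apply (b : Module.Basis ι K M) (i j : ι) (v : M) :
    unitEnd b i j v = b.coord j v • b i := rfl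

lemma unitEnd_basis (b : Module.Basis ι K M) (i j k : ι) :
    unitEnd b i j (b k) = if k = j then b i else 0 := by
  rw [unitEnd_apply, Module.Basis.coord_apply, Module.Basis.repr_self, Finsupp.single_apply]
  split_ifs <;> simp

lemma unitEnd_mem_centr (b : Module.Basis ι K M) {g : Module.End K M} {η : ι → K}
    (hb : ∀ i, g (b i) = η i • b i) {i j : ι} (hij : η i = η j) : unitEnd b i j ∈ centr g := by
  rw [mem_centr]
  apply b.ext
  intro k
  rw [Module.End.mul_apply, Module.End.mul_apply, hb k, map_smul, unitEnd_basis]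
  split_ifs with hk
  · subst hk
    rw [hb i, hij]
  · simp

lemma unitEnd_linearIndependent (b : Module.Basis ι K M) :
    LinearIndependent K (fun p : ι × ι => unitEnd b p.1 p.2) := by
  rw [Fintype.linearIndependent_iff]
  intro c hc p
  obtain ⟨i, k⟩ := p
  have h1 := congrArg (fun T : Module.End K M => b.coord i (T (b k))) hc
  simp only [LinearMap.sum_apply, LinearMap.smul_apply, map_sum, map_smul, unitEnd_basis,
    LinearMap.zero_apply, map_zero] at h1
  rw [Finset.sum_eq_single (i, k)] at h1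
  · simpa using h1
  · rintro ⟨i', k'⟩ _ hne
    by_cases hk : k = k'
    · subst hk
      have : i' ≠ i := by
        rintro rfl
        exact hne rfl
      simp [Module.Basis.coord_apply, Module.Basis.repr_self, this]
    · simp [hk]
  · intro h; exact absurd (Finset.mem_univ _) h

open Classical in
lemma sq_le_card_mul_finrank_centr [FiniteDimensional K M] (b : Module.Basis ι K M)
    {g : Module.End K M} {η : ι → K} (hb : ∀ i, g (b i) = η i • b i) (E : Finset K)
    (hE : ∀ i, η i ∈ E) :
    Module.finrank K M * Module.finrank K M ≤ E.card * Module.finrank K (centr g) := by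
  set S' : Finset (ι × ι) := Finset.univ.filter (fun p => η p.1 = η p.2) with hS'
  -- lower bound of the finrank by |S'|
  have h1 : S'.card ≤ Module.finrank K (centr g) := by
    have hmem : ∀ p : ι × ι, p ∈ S' → η p.1 = η p.2 := by
      intro p hp
      rw [hS', Finset.mem_filter] at hp
      exact hp.2
    let f : S' → centr g := fun p =>
      ⟨unitEnd b p.1.1 p.1.2, unitEnd_mem_centr b hb (hmem p.1 p.2)⟩
    have hf : LinearIndependent K f := by
      apply LinearIndependent.of_comp (centr g).subtype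
      exact (unitEnd_linearIndependent b).comp (fun p : S' => p.1) Subtype.val_injective
    have := hf.fintype_card_le_finrank
    simpa using this
  -- Cauchy–Schwarz
  have h2 : Fintype.card ι * Fintype.card ι ≤ E.card * S'.card := by
    have hcs := sq_sum_le_card_mul_sum_sq (s := E)
      (f := fun e => ((Finset.univ.filter (fun i : ι => η i = e)).card : ℕ))
    have hsum1 : ∑ e ∈ E, (Finset.univ.filter (fun i : ι => η i = e)).card = Fintype.card ι := by
      rw [← Finset.card_univ (α := ι)]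
      exact (Finset.card_eq_sum_card_fiberwise (fun i _ => hE i)).symm
    have hsum2 : ∑ e ∈ E, (Finset.univ.filter (fun i : ι => η i = e)).card ^ 2 = S'.card := by
      have hmaps : ∀ p ∈ S', η p.1 ∈ E := fun p _ => hE p.1
      rw [Finset.card_eq_sum_card_fiberwise hmaps]
      refine Finset.sum_congr rfl ?_
      intro e _
      rw [sq, ← Finset.card_product]
      congr 1
      ext ⟨i, j⟩
      simp only [hS', Finset.mem_product, Finset.mem_filter, Finset.mem_univ, true_and]
      constructor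
      · rintro ⟨h1, h2⟩
        exact ⟨h1.trans h2.symm, h1⟩
      · rintro ⟨h1, h2⟩
        exact ⟨h2, h1 ▸ h2⟩
    rw [hsum1, hsum2] at hcs
    rw [← sq]
    exact hcs
  have h3 : Module.finrank K M = Fintype.card ι := Module.finrank_eq_card_basis b
  rw [h3]
  calc Fintype.card ι * Fintype.card ι ≤ E.card * S'.card := h2
    _ ≤ E.card * Module.finrank K (centr g) := Nat.mul_le_mul_left _ h1

end Lower


section Main

variable {ρ : Q →* Module.End K M} {a : Q ≃* Q} {g g' : Module.End K M}

lemma Normalises.rho_iterate (h : Normalises ρ a g g') (k : ℕ) (w : Q) :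
    ρ (a^[k] w) = g ^ k * ρ w * g' ^ k := by
  induction k with
  | zero => simp
  | succ k ih =>
    rw [Function.iterate_succ_apply', h.rho_a, ih, pow_succ', pow_succ]
    simp only [mul_assoc]

lemma sigma_pow_mk (h : Normalises ρ a g g') (k : ℕ) (w : Q) :
    (sigma h ^ k) (QuotientGroup.mk w) = QuotientGroup.mk (a^[k] w) := by
  induction k with
  | zero => simp
  | succ k ih =>
    rw [pow_succ', Equiv.Perm.mul_apply, ih, sigma_mk, Function.iterate_succ_apply']

lemma sigma_pow_eq_one (h : Normalises ρ a g g') {r : ℕ} (hgr : g ^ r = 1) : sigma h ^ r = 1 := by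
  have hg'r : g' ^ r = 1 := by
    have hc : Commute g g' := by
      show g * g' = g' * g
      rw [h.mul_inv, h.inv_mul]
    have := hc.mul_pow r
    rw [h.mul_inv, one_pow, hgr, one_mul] at this
    exact this.symm
  ext w
  obtain ⟨w, rfl⟩ := QuotientGroup.mk_surjective w
  rw [sigma_pow_mk, Equiv.Perm.one_apply]
  apply QuotientGroup.eq.mpr
  refine ⟨1, ?_⟩
  have h1 : ρ (a^[r] w) = ρ w := by
    rw [h.rho_iterate, hgr, hg'r, one_mul, mul_one]
  rw [map_mul, ← h1, rho_inv_mul, one_smul]

/-- **Main bound.** -/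
theorem card_quot_le [FiniteDimensional K M] [Nontrivial M] (hρ : Symp ρ)
    (hQ : (Fintype.card Q : K) ≠ 0) (h : Normalises ρ a g g') {r : ℕ} (hr : r.Prime)
    (hgr : g ^ r = 1)
    (hfpf : ∀ u, (∃ l : K, ρ (a u) = l • ρ u) → u ∈ scalarSubgroup ρ)
    {ι : Type*} [Fintype ι] [DecidableEq ι] (b : Module.Basis ι K M) (η : ι → K)
    (hb : ∀ i, g (b i) = η i • b i) (E : Finset K) (hE : ∀ i, η i ∈ E) (hEcard : E.card ≤ r - 1) :
    Nat.card (Q ⧸ scalarSubgroup ρ) ≤ (r - 1) ^ 2 := by
  have hr2 : 2 ≤ r := hr.two_le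
  have hfix : ∀ w : Q ⧸ scalarSubgroup ρ, sigma h w = w ↔ w = 1 := by
    intro w
    obtain ⟨w, rfl⟩ := QuotientGroup.mk_surjective w
    rw [sigma_mk]
    constructor
    · intro hw
      have h1 : (a w)⁻¹ * w ∈ scalarSubgroup ρ := QuotientGroup.eq.mp hw
      obtain ⟨l, hl⟩ := inv_mem h1
      rw [mul_inv_rev, inv_inv, map_mul] at hl
      have hw' : w ∈ scalarSubgroup ρ := by
        apply hfpf
        refine ⟨l, ?_⟩
        have : ρ (a w) = ρ w * (ρ w⁻¹ * ρ (a w)) := by
          rw [← mul_assoc, rho_mul_inv, one_mul]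
        rw [this, hl, mul_smul_comm, mul_one]
      exact (QuotientGroup.eq_one_iff w).mpr hw'
    · intro hw
      have hw' : w ∈ scalarSubgroup ρ := (QuotientGroup.eq_one_iff w).mp hw
      rw [hw]
      exact (QuotientGroup.eq_one_iff _).mpr ((h.mem_iff w).mpr hw')
  by_cases hσ : sigma h = 1
  · -- every coset is fixed, so the quotient is trivial
    have hall : ∀ w : Q ⧸ scalarSubgroup ρ, w = 1 := by
      intro w
      rw [← hfix, hσ, Equiv.Perm.one_apply]
    have : Nat.card (Q ⧸ scalarSubgroup ρ) = 1 := by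
      rw [Nat.card_eq_one_iff_unique]
      exact ⟨⟨fun x y => (hall x).trans (hall y).symm⟩, ⟨1⟩⟩
    rw [this]
    exact Nat.one_le_pow _ _ (by omega)
  · have hN := card_orbits (sigma h) r hr (sigma_pow_eq_one h hgr) hσ 1 hfix
    have h1 := card_mul_finrank_le hρ hQ
    have h2 := finrank_centr_le hρ hQ h
    have h3 := sq_le_card_mul_finrank_centr b hb E hE
    have hD : 0 < Module.finrank K (commutant ρ) := by
      rw [Module.finrank_pos_iff_exists_ne_zero]
      refine ⟨⟨1, one_mem_commutant ρ⟩, ?_⟩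
      intro h0
      have : (1 : Module.End K M) = 0 := congrArg Subtype.val h0
      exact one_ne_zero this
    set n := Nat.card (Q ⧸ scalarSubgroup ρ)
    set D := Module.finrank K (commutant ρ)
    set N := Nat.card (MulAction.orbitRel.Quotient (Subgroup.zpowers (sigma h))
      (Q ⧸ scalarSubgroup ρ))
    set c := Module.finrank K (centr g)
    set m := Module.finrank K M
    have h4 : n * D ≤ (r - 1) * N * D := by
      calc n * D ≤ m * m := h1
        _ ≤ E.card * c := h3
        _ ≤ (r - 1) * c := Nat.mul_le_mul_right _ hEcard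
        _ ≤ (r - 1) * (N * D) := Nat.mul_le_mul_left _ h2
        _ = (r - 1) * N * D := by ring
    have h5 : n ≤ (r - 1) * N := Nat.le_of_mul_le_mul_right h4 hD
    have h6 : r * n ≤ (r - 1) * (n + (r - 1)) := by
      calc r * n = n * r := by ring
        _ ≤ (r - 1) * N * r := Nat.mul_le_mul_right _ h5
        _ = (r - 1) * (N * r) := by ring
        _ = (r - 1) * (n + (r - 1)) := by rw [hN]
    obtain ⟨k, rfl⟩ : ∃ k, r = k + 1 := ⟨r - 1, by omega⟩
    simp only [Nat.add_sub_cancel] at h6 ⊢
    nlinarith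

end Main

end Cfsg.Agent.Helper48.SympRep

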