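import Mathlib
import Cfsg.Agent.Lib.Helper48.SympRep

/-!
# Application of `SympRep`: modules over `ZMod p`

From a group acting on a finite `ZMod p`-module to the linear-algebra core over the algebraic closure.
-/

set_option autoImplicit false
set_option linter.unusedSectionVars false

namespace Cfsg.Agent.Helper48.SympRep

open Polynomial

/-- A finite-order endomorphism (order prime to the characteristic) over an algebraically closed field
has a basis of eigenvectors. -/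
lemma exists_eigenbasis {K : Type*} [Field K] [IsAlgClosed K] {V : Type*} [AddCommGroup V] [Module K V]
    [FiniteDimensional K V] (f : Module.End K V) (n : ℕ) (hn : (n : K) ≠ 0) (hf : f ^ n = 1) :
    ∃ (ι : Type (max u_1 u_2)) (_ : Fintype ι) (b : Module.Basis ι K V) (η : ι → K),
      ∀ i, f (b i) = η i • b i ∧ η i ^ n = 1 := by
  classical
  have hsq : Squarefree (X ^ n - 1 : K[X]) := (X_pow_sub_one_separable_iff.mpr hn).squarefree
  have hss : f.IsSemisimple := by
    apply Module.End.isSemisimple_of_squarefree_aeval_eq_zero hsq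
    simp [hf]
  have htop := hss.iSup_eigenspace_eq_top
  have hind := Module.End.eigenspaces_iSupIndep f
  have hint := DirectSum.isInternal_submodule_of_iSupIndep_of_iSup_eq_top hind htop
  let v : ∀ μ : K, Module.Basis (Module.Basis.ofVectorSpaceIndex K (f.eigenspace μ)) K
      (f.eigenspace μ) := fun μ => Module.Basis.ofVectorSpace K (f.eigenspace μ)
  let b := hint.collectedBasis v
  refine ⟨_, FiniteDimensional.fintypeBasisIndex b, b, fun i => i.1, ?_⟩
  intro i
  have hmem : b i ∈ f.eigenspace i.1 := hint.collectedBasis_mem v i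
  rw [Module.End.mem_eigenspace_iff] at hmem
  refine ⟨hmem, ?_⟩
  have hpow : ∀ k : ℕ, (f ^ k) (b i) = i.1 ^ k • b i := by
    intro k
    induction k with
    | zero => simp
    | succ k ih =>
      rw [pow_succ', Module.End.mul_apply, ih, map_smul, hmem, smul_smul, pow_succ]
  have h1 := hpow n
  rw [hf, Module.End.one_apply] at h1
  have hne : b i ≠ 0 := b.ne_zero i
  have h2 : (i.1 ^ n - 1) • b i = 0 := by
    rw [sub_smul, one_smul, ← h1, sub_self]
  rcases smul_eq_zero.mp h2 with h3 | h3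
  · exact sub_eq_zero.mp h3
  · exact absurd h3 hne


section ResEigen

variable {K : Type*} [Field K] {M : Type*} [AddCommGroup M] [Module K M] {Γ : Type*} [Group Γ]

/-- Restriction of a representation to an eigenspace of `ψ c`, for the centraliser of `c`. -/
noncomputable def resEigen (ψ : Γ →* Module.End K M) (c : Γ) (ζ : K) :
    ↥(Subgroup.centralizer ({c} : Set Γ)) →* Module.End K ↥((ψ c).eigenspace ζ) where
  toFun γ := (ψ γ).restrict (fun v hv => by
      rw [Module.End.mem_eigenspace_iff] at hv ⊢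
      have hγ : γ.1 * c = c * γ.1 := Subgroup.mem_centralizer_singleton_iff.mp γ.2
      calc ψ c (ψ γ v) = (ψ c * ψ γ) v := rfl
        _ = (ψ γ * ψ c) v := by rw [← map_mul, ← map_mul, hγ]
        _ = ψ γ (ψ c v) := rfl
        _ = ζ • ψ γ v := by rw [hv, map_smul])
  map_one' := by
    ext v
    simp
  map_mul' := by
    intro γ γ'
    ext v
    simp

lemma resEigen_apply (ψ : Γ →* Module.End K M) (c : Γ) (ζ : K)
    (γ : ↥(Subgroup.centralizer ({c} : Set Γ))) (v : ↥((ψ c).eigenspace ζ)) :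
    ((resEigen ψ c ζ γ v : ↥((ψ c).eigenspace ζ)) : M) = ψ γ (v : M) := rfl

end ResEigen


section CoreK

variable {K : Type*} [Field K] [IsAlgClosed K] {M : Type*} [AddCommGroup M] [Module K M]
  [FiniteDimensional K M] {Γ : Type*} [Group Γ]

omit [IsAlgClosed K] [FiniteDimensional K M] in
lemma pow_apply_eigen (T : Module.End K M) (ζ : K) {v : M} (hv : v ∈ T.eigenspace ζ) (k : ℕ) :
    (T ^ k) v = ζ ^ k • v := by
  rw [Module.End.mem_eigenspace_iff] at hv
  induction k with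
  | zero => simp
  | succ k ih => rw [pow_succ', Module.End.mul_apply, ih, map_smul, hv, smul_smul, pow_succ]

theorem core_K (ψ : Γ →* Module.End K M) (Qs : Subgroup Γ) [Finite Qs] (x c : Γ) {q r : ℕ}
    (hq : q.Prime) (hr : r.Prime) (hqK : (q : K) ≠ 0) (hrK : (r : K) ≠ 0)
    (hQq : IsPGroup q Qs) (hxr : x ^ r = 1) (hxQ : ∀ u ∈ Qs, x * u * x⁻¹ ∈ Qs)
    (hcq : c ^ q = 1) (hcZ : ∀ u ∈ Qs, u * c = c * u) (hxc : x * c = c * x)
    (hcomm : ∀ u ∈ Qs, ∀ w ∈ Qs, u * w * u⁻¹ * w⁻¹ ∈ Subgroup.zpowers c)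
    (hnd : ∀ u ∈ Qs, (∀ w ∈ Qs, u * w = w * u) → u ∈ Subgroup.zpowers c)
    (hfpf : ∀ u ∈ Qs, x * u * x⁻¹ * u⁻¹ ∈ Subgroup.zpowers c → u ∈ Subgroup.zpowers c)
    (hcM : ψ c ≠ 1) (hxM : ∀ m : M, ψ x m = m → m = 0) :
    Nat.card Qs ≤ q * (r - 1) ^ 2 := by
  classical
  have : Fintype Qs := Fintype.ofFinite _
  have : Fact q.Prime := ⟨hq⟩
  -- eigenvalue ζ ≠ 1 of ψ c
  have hCq : ψ c ^ q = 1 := by rw [← map_pow, hcq, map_one]
  obtain ⟨ι, _, b, η, hb⟩ := exists_eigenbasis (ψ c) q hqK hCq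
  have hex : ∃ i, η i ≠ 1 := by
    by_contra hall
    push Not at hall
    apply hcM
    apply b.ext
    intro i
    rw [(hb i).1, hall i, one_smul, Module.End.one_apply]
  obtain ⟨i₀, hi₀⟩ := hex
  set ζ := η i₀ with hζ
  have hζq : ζ ^ q = 1 := (hb i₀).2
  have hordζ : orderOf ζ = q := orderOf_eq_prime hζq hi₀
  have hζk : ∀ k : ℕ, ζ ^ k = 1 → c ^ k = 1 := by
    intro k hk
    have h1 : q ∣ k := by
      rw [← hordζ]
      exact orderOf_dvd_of_pow_eq_one hk
    obtain ⟨t, rfl⟩ := h1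
    rw [pow_mul, hcq, one_pow]
  -- the eigenspace
  have hM' : Nontrivial ↥((ψ c).eigenspace ζ) := by
    rw [Submodule.nontrivial_iff_ne_bot]
    intro hbot
    have hmem : b i₀ ∈ (ψ c).eigenspace ζ := Module.End.mem_eigenspace_iff.mpr (hb i₀).1
    rw [hbot, Submodule.mem_bot] at hmem
    exact b.ne_zero i₀ hmem
  -- centraliser of c contains Qs and x
  have hQΛ : Qs ≤ Subgroup.centralizer ({c} : Set Γ) := by
    intro u hu
    exact Subgroup.mem_centralizer_singleton_iff.mpr (hcZ u hu)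
  have hxΛ : x ∈ Subgroup.centralizer ({c} : Set Γ) :=
    Subgroup.mem_centralizer_singleton_iff.mpr hxc
  let ρΛ := resEigen ψ c ζ
  let ρ : ↥Qs →* Module.End K ↥((ψ c).eigenspace ζ) := ρΛ.comp (Subgroup.inclusion hQΛ)
  let xΛ : ↥(Subgroup.centralizer ({c} : Set Γ)) := ⟨x, hxΛ⟩
  let g := ρΛ xΛ
  let g' := ρΛ xΛ⁻¹
  -- the automorphism
  let aHom : ↥Qs →* ↥Qs :=
    { toFun := fun u => ⟨x * u.1 * x⁻¹, hxQ u.1 u.2⟩
      map_one' := by apply Subtype.ext; simp
      map_mul' := by intro u w; apply Subtype.ext; simp [mul_assoc] }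
  have haInj : Function.Injective aHom := by
    intro u w huw
    have h1 : x * u.1 * x⁻¹ = x * w.1 * x⁻¹ := congrArg Subtype.val huw
    apply Subtype.ext
    simpa using h1
  let a : ↥Qs ≃* ↥Qs := MulEquiv.ofBijective aHom (Finite.injective_iff_bijective.mp haInj)
  have ha : ∀ u : Qs, ((a u : ↥Qs) : Γ) = x * u.1 * x⁻¹ := fun u => rfl
  -- powers of c act as scalars
  have hrho_coe : ∀ (u : Qs) (v : ↥((ψ c).eigenspace ζ)), ((ρ u v : ↥((ψ c).eigenspace ζ)) : M) =
      ψ u.1 (v : M) := fun u v => rfl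
  have hcpow : ∀ (u : Qs) (k : ℕ), u.1 = c ^ k → ρ u = ζ ^ k • (1 : Module.End K _) := by
    intro u k hk
    ext v
    rw [hrho_coe, hk, map_pow, pow_apply_eigen (ψ c) ζ v.2]
    simp
  have hunit : ∀ u : Qs, ρ u * ρ u⁻¹ = 1 := fun u => rho_mul_inv ρ u
  have hne0 : ∀ u : Qs, ρ u ≠ 0 := by
    intro u h0
    have := hunit u
    rw [h0, zero_mul] at this
    exact zero_ne_one this
  have hmemk : ∀ y : Γ, y ∈ Subgroup.zpowers c → ∃ k : ℕ, y = c ^ k := by
    intro y hy
    have hfin : IsOfFinOrder c := isOfFinOrder_iff_pow_eq_one.mpr ⟨q, hq.pos, hcq⟩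
    rw [← hfin.mem_powers_iff_mem_zpowers] at hy
    obtain ⟨k, hk⟩ := hy
    exact ⟨k, hk.symm⟩
  -- commutation relation
  have hL : ∀ u w : Qs, ∃ k : ℕ, u.1 * w.1 * u.1⁻¹ * w.1⁻¹ = c ^ k ∧
      ρ u * ρ w = ζ ^ k • (ρ w * ρ u) := by
    intro u w
    obtain ⟨k, hk⟩ := hmemk _ (hcomm u.1 u.2 w.1 w.2)
    refine ⟨k, hk, ?_⟩
    have hckQ : c ^ k ∈ Qs := by
      rw [← hk]
      exact Qs.mul_mem (Qs.mul_mem (Qs.mul_mem u.2 w.2) (Qs.inv_mem u.2)) (Qs.inv_mem w.2)
    have h1 : u * w = (⟨c ^ k, hckQ⟩ : Qs) * w * u := by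
      apply Subtype.ext
      show u.1 * w.1 = c ^ k * w.1 * u.1
      rw [← hk]
      group
    rw [← map_mul, h1, map_mul, map_mul, hcpow ⟨c ^ k, hckQ⟩ k rfl, smul_mul_assoc, one_mul,
      smul_mul_assoc]
  have hkey : ∀ u : Qs, (∀ w : Qs, ρ u * ρ w = ρ w * ρ u) → u.1 ∈ Subgroup.zpowers c := by
    intro u hu
    apply hnd u.1 u.2
    intro w hw
    obtain ⟨k, hk, hk'⟩ := hL u ⟨w, hw⟩
    rw [hu ⟨w, hw⟩] at hk'
    have h2 : (1 - ζ ^ k) • (ρ ⟨w, hw⟩ * ρ u) = 0 := by
      linear_combination (norm := module) hk'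
    have h3 : ζ ^ k = 1 := by
      rcases smul_eq_zero.mp h2 with h4 | h4
      · exact (sub_eq_zero.mp h4).symm
      · exfalso
        rw [← map_mul] at h4
        exact hne0 _ h4
    have h5 := hζk k h3
    rw [h5] at hk
    have h6 : u.1 * w = (u.1 * w * u.1⁻¹ * w⁻¹) * (w * u.1) := by group
    rw [h6, hk, one_mul]
  have hscal : ∀ u : Qs, u.1 ∈ Subgroup.zpowers c → IsScalar (ρ u) := by
    intro u hu
    obtain ⟨k, hk⟩ := hmemk _ hu
    exact ⟨ζ ^ k, hcpow u k hk⟩
  have hsymp : Symp ρ :=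
    { comm_scalar := by
        intro u w
        obtain ⟨k, _, hk⟩ := hL u w
        exact ⟨ζ ^ k, hk⟩
      nondeg := fun u hu => hscal u (hkey u hu) }
  have hSmem : ∀ u : Qs, u ∈ scalarSubgroup ρ → u.1 ∈ Subgroup.zpowers c := by
    intro u hu
    exact hkey u (fun w => IsScalar.comm hu (ρ w))
  -- Normalises
  have hnorm : Normalises ρ a g g' :=
    { mul_inv := by
        show ρΛ xΛ * ρΛ xΛ⁻¹ = 1
        rw [← map_mul, mul_inv_cancel, map_one]
      inv_mul := by
        show ρΛ xΛ⁻¹ * ρΛ xΛ = 1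
        rw [← map_mul, inv_mul_cancel, map_one]
      conj := by
        intro u
        show ρΛ xΛ * ρΛ (Subgroup.inclusion hQΛ u) = ρΛ (Subgroup.inclusion hQΛ (a u)) * ρΛ xΛ
        rw [← map_mul, ← map_mul]
        congr 1
        apply Subtype.ext
        show x * u.1 = (x * u.1 * x⁻¹) * x
        group }
  have hgr : g ^ r = 1 := by
    show ρΛ xΛ ^ r = 1
    rw [← map_pow]
    have : xΛ ^ r = 1 := by
      apply Subtype.ext
      show x ^ r = 1
      exact hxr
    rw [this, map_one]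
  have hfpfA : ∀ u : Qs, (∃ l : K, ρ (a u) = l • ρ u) → u ∈ scalarSubgroup ρ := by
    rintro u ⟨l, hl⟩
    have h1 : IsScalar (ρ (a u * u⁻¹)) := by
      refine ⟨l, ?_⟩
      rw [map_mul, hl, smul_mul_assoc, hunit]
    have h2 : (a u * u⁻¹ : Qs).1 ∈ Subgroup.zpowers c := hSmem _ h1
    have h3 : u.1 ∈ Subgroup.zpowers c := by
      apply hfpf u.1 u.2
      exact h2
    exact hscal u h3
  -- eigenbasis of g
  obtain ⟨ι', _, b', η', hb'⟩ := exists_eigenbasis g r hrK hgr
  have hη' : ∀ i, η' i ≠ 1 := by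
    intro i h1
    have h2 : g (b' i) = b' i := by rw [(hb' i).1, h1, one_smul]
    have h3 : ψ x ((b' i : ↥((ψ c).eigenspace ζ)) : M) = (b' i : M) := congrArg Subtype.val h2
    have h4 := hxM _ h3
    have h5 : b' i = 0 := Subtype.ext h4
    exact b'.ne_zero i h5
  let E : Finset K := (Polynomial.nthRootsFinset r (1 : K)).erase 1
  have hE : ∀ i, η' i ∈ E := by
    intro i
    rw [Finset.mem_erase]
    exact ⟨hη' i, (Polynomial.mem_nthRootsFinset hr.pos 1).mpr (hb' i).2⟩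
  have hEcard : E.card ≤ r - 1 := by
    have h1 : (1 : K) ∈ Polynomial.nthRootsFinset r (1 : K) :=
      (Polynomial.mem_nthRootsFinset hr.pos 1).mpr (one_pow r)
    rw [Finset.card_erase_of_mem h1]
    have h2 : (Polynomial.nthRootsFinset r (1 : K)).card ≤ r := by
      unfold Polynomial.nthRootsFinset
      exact (Multiset.toFinset_card_le _).trans (Polynomial.card_nthRoots r 1)
    omega
  have hQK : (Fintype.card Qs : K) ≠ 0 := by
    obtain ⟨n, hn⟩ := IsPGroup.iff_card.mp hQq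
    rw [← Nat.card_eq_fintype_card, hn, Nat.cast_pow]
    exact pow_ne_zero _ hqK
  have hmain := card_quot_le hsymp hQK hnorm hr hgr hfpfA b' η' (fun i => (hb' i).1) E hE hEcard
  -- count
  have hScard : Nat.card (scalarSubgroup ρ) ≤ q := by
    have hinj : Function.Injective (fun u : scalarSubgroup ρ =>
        (⟨u.1.1, hSmem u.1 u.2⟩ : Subgroup.zpowers c)) := by
      intro u w huw
      have huw' : (⟨u.1.1, hSmem u.1 u.2⟩ : Subgroup.zpowers c) = ⟨w.1.1, hSmem w.1 w.2⟩ := huw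
      have : u.1.1 = w.1.1 := Subtype.mk.inj huw'
      exact Subtype.ext (Subtype.ext this)
    have hfinc : IsOfFinOrder c := isOfFinOrder_iff_pow_eq_one.mpr ⟨q, hq.pos, hcq⟩
    have : Finite (Subgroup.zpowers c) := Nat.finite_of_card_ne_zero (by
      rw [Nat.card_zpowers]; exact hfinc.orderOf_pos.ne')
    have h1 := Nat.card_le_card_of_injective _ hinj
    have h2 : Nat.card (Subgroup.zpowers c) ≤ q := by
      rw [Nat.card_zpowers]
      exact Nat.le_of_dvd hq.pos (orderOf_dvd_of_pow_eq_one hcq)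
    exact h1.trans h2
  rw [Subgroup.card_eq_card_quotient_mul_card_subgroup (scalarSubgroup ρ), mul_comm]
  exact Nat.mul_le_mul hScard hmain

end CoreK


section CoreZMod

open TensorProduct

theorem core_zmod {p : ℕ} [Fact p.Prime] {W : Type*} [AddCommGroup W] [Module (ZMod p) W] [Finite W]
    {Γ : Type*} [Group Γ] (φ : Γ →* Module.End (ZMod p) W) (Qs : Subgroup Γ) [Finite Qs]
    (x c : Γ) {q r : ℕ} (hq : q.Prime) (hr : r.Prime) (hpq : p ≠ q) (hpr : p ≠ r)
    (hQq : IsPGroup q Qs) (hxr : x ^ r = 1) (hxQ : ∀ u ∈ Qs, x * u * x⁻¹ ∈ Qs)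
    (hcq : c ^ q = 1) (hcZ : ∀ u ∈ Qs, u * c = c * u) (hxc : x * c = c * x)
    (hcomm : ∀ u ∈ Qs, ∀ w ∈ Qs, u * w * u⁻¹ * w⁻¹ ∈ Subgroup.zpowers c)
    (hnd : ∀ u ∈ Qs, (∀ w ∈ Qs, u * w = w * u) → u ∈ Subgroup.zpowers c)
    (hfpf : ∀ u ∈ Qs, x * u * x⁻¹ * u⁻¹ ∈ Subgroup.zpowers c → u ∈ Subgroup.zpowers c)
    (hcW : φ c ≠ 1) (hxW : ∀ w : W, φ x w = w → w = 0) :
    Nat.card Qs ≤ q * (r - 1) ^ 2 := by
  classical
  let K := AlgebraicClosure (ZMod p)
  have hp : p.Prime := Fact.out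
  let bc : Module.End (ZMod p) W →ₐ[ZMod p] Module.End K (K ⊗[ZMod p] W) :=
    Module.End.baseChangeHom (ZMod p) K W
  let ψ : Γ →* Module.End K (K ⊗[ZMod p] W) := (MonoidHomClass.toMonoidHom bc).comp φ
  have hψ : ∀ γ, ψ γ = bc (φ γ) := fun γ => rfl
  have hbcinj : Function.Injective bc := LinearMap.baseChangeHom_injective (ZMod p) W K
  have hqK : ((q : ℕ) : K) ≠ 0 := by
    rw [Ne, CharP.cast_eq_zero_iff K p q]
    intro hdvd
    exact hpq ((Nat.prime_dvd_prime_iff_eq hp hq).mp hdvd)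
  have hrK : ((r : ℕ) : K) ≠ 0 := by
    rw [Ne, CharP.cast_eq_zero_iff K p r]
    intro hdvd
    exact hpr ((Nat.prime_dvd_prime_iff_eq hp hr).mp hdvd)
  have hcM : ψ c ≠ 1 := by
    intro h1
    apply hcW
    apply hbcinj
    rw [← hψ, h1, map_one]
  have hxM : ∀ m : K ⊗[ZMod p] W, ψ x m = m → m = 0 := by
    let T : Module.End (ZMod p) W := φ x - 1
    have hinj : Function.Injective T := by
      rw [← LinearMap.ker_eq_bot, LinearMap.ker_eq_bot']
      intro w hw
      apply hxW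
      have : φ x w - w = 0 := hw
      exact sub_eq_zero.mp this
    have hbij : Function.Bijective T := Finite.injective_iff_bijective.mp hinj
    have hunit : IsUnit T := (Module.End.isUnit_iff _).mpr hbij
    have hunit' : IsUnit (bc T) := hunit.map bc
    have hbij' := (Module.End.isUnit_iff _).mp hunit'
    intro m hm
    apply hbij'.1
    have hT : bc T = ψ x - 1 := by
      show bc (φ x - 1) = ψ x - 1
      rw [map_sub, map_one, hψ]
    rw [hT, map_zero]
    show ψ x m - m = 0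
    rw [hm, sub_self]
  exact core_K ψ Qs x c hq hr hqK hrK hQq hxr hxQ hcq hcZ hxc hcomm hnd hfpf hcM hxM

end CoreZMod

end Cfsg.Agent.Helper48.SympRep
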