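import Mathlib
import Cfsg.Agent.Lib.Helper48.SympRepApp

/-!
# Second layer of `SympRep`: restriction to invariant subspaces, Schur's lemma, evenness, and the
minimal-subgroup form of the core.
-/

set_option autoImplicit false
set_option linter.unusedSectionVars false

namespace Cfsg.Agent.Helper48.SympRep

variable {K : Type*} [Field K] {M : Type*} [AddCommGroup M] [Module K M]
variable {Q : Type*} [Group Q]

/-- `N` is invariant under `ρ(Q)`, `g` and `g'`. -/
def Inv (ρ : Q →* Module.End K M) (g g' : Module.End K M) (N : Submodule K M) : Prop :=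
  (∀ u, ∀ v ∈ N, ρ u v ∈ N) ∧ (∀ v ∈ N, g v ∈ N) ∧ (∀ v ∈ N, g' v ∈ N)

/-- restriction of `ρ` to an invariant subspace -/
def resRho (ρ : Q →* Module.End K M) (N : Submodule K M) (h : ∀ u, ∀ v ∈ N, ρ u v ∈ N) :
    Q →* Module.End K N where
  toFun u := (ρ u).restrict (h u)
  map_one' := by
    ext v
    simp
  map_mul' := by
    intro u w
    ext v
    simp

lemma resRho_apply (ρ : Q →* Module.End K M) (N : Submodule K M) (h : ∀ u, ∀ v ∈ N, ρ u v ∈ N)
    (u : Q) (v : N) : ((resRho ρ N h u v : N) : M) = ρ u (v : M) := rfl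

lemma Normalises.restrict {ρ : Q →* Module.End K M} {a : Q ≃* Q} {g g' : Module.End K M}
    (hn : Normalises ρ a g g') {N : Submodule K M} (hN : Inv ρ g g' N) :
    Normalises (resRho ρ N hN.1) a (g.restrict hN.2.1) (g'.restrict hN.2.2) where
  mul_inv := by
    ext v
    have := LinearMap.congr_fun hn.mul_inv (v : M)
    simpa using this
  inv_mul := by
    ext v
    have := LinearMap.congr_fun hn.inv_mul (v : M)
    simpa using this
  conj := by
    intro u
    ext v
    have := LinearMap.congr_fun (hn.conj u) (v : M)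
    simpa [resRho] using this

lemma isScalar_restrict {T : Module.End K M} {N : Submodule K M} (hT : ∀ v ∈ N, T v ∈ N)
    (h : IsScalar T) : IsScalar (T.restrict hT) := by
  obtain ⟨l, rfl⟩ := h
  refine ⟨l, ?_⟩
  ext v
  simp

/-- eigenspaces of central, `a`-fixed elements are invariant -/
lemma inv_eigenspace {ρ : Q →* Module.End K M} {a : Q ≃* Q} {g g' : Module.End K M}
    (hn : Normalises ρ a g g') {z : Q} (hz : ∀ w, z * w = w * z) (haz : a z = z) (μ : K) :
    Inv ρ g g' ((ρ z).eigenspace μ) := by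
  have hgz : g * ρ z = ρ z * g := by rw [hn.conj z, haz]
  have hg'z : g' * ρ z = ρ z * g' := by
    calc g' * ρ z = g' * ρ z * (g * g') := by rw [hn.mul_inv, mul_one]
      _ = g' * (ρ z * g) * g' := by simp only [mul_assoc]
      _ = g' * (g * ρ z) * g' := by rw [hgz]
      _ = (g' * g) * ρ z * g' := by simp only [mul_assoc]
      _ = ρ z * g' := by rw [hn.inv_mul, one_mul]
  refine ⟨?_, ?_, ?_⟩
  · intro u v hv
    rw [Module.End.mem_eigenspace_iff] at hv ⊢
    calc ρ z (ρ u v) = (ρ z * ρ u) v := rfl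
      _ = (ρ u * ρ z) v := by rw [← map_mul, ← map_mul, hz u]
      _ = ρ u (ρ z v) := rfl
      _ = μ • ρ u v := by rw [hv, map_smul]
  · intro v hv
    rw [Module.End.mem_eigenspace_iff] at hv ⊢
    calc ρ z (g v) = (ρ z * g) v := rfl
      _ = (g * ρ z) v := by rw [hgz]
      _ = g (ρ z v) := rfl
      _ = μ • g v := by rw [hv, map_smul]
  · intro v hv
    rw [Module.End.mem_eigenspace_iff] at hv ⊢
    calc ρ z (g' v) = (ρ z * g') v := rfl
      _ = (g' * ρ z) v := by rw [hg'z]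
      _ = g' (ρ z v) := rfl
      _ = μ • g' v := by rw [hv, map_smul]


section Irreducible

/-- invariance of a subspace under a representation -/
abbrev InvSub (ψ : Q →* Module.End K M) (N : Submodule K M) : Prop := ∀ γ, ∀ v ∈ N, ψ γ v ∈ N

/-- irreducibility -/
def Irr (ρ : Q →* Module.End K M) : Prop := ∀ N : Submodule K M, InvSub ρ N → N = ⊥ ∨ N = ⊤

lemma exists_minimal_inv [FiniteDimensional K M] (ψ : Q →* Module.End K M) (M₁ : Submodule K M)
    (h1 : M₁ ≠ ⊥) (hinv : InvSub ψ M₁) :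
    ∃ N : Submodule K M, N ≤ M₁ ∧ N ≠ ⊥ ∧ InvSub ψ N ∧
      ∀ N' : Submodule K M, N' ≤ N → N' ≠ ⊥ → InvSub ψ N' → N' = N := by
  classical
  let P : ℕ → Prop := fun n => ∃ N : Submodule K M, N ≤ M₁ ∧ N ≠ ⊥ ∧ InvSub ψ N ∧
    Module.finrank K N = n
  have hex : ∃ n, P n := ⟨_, M₁, le_rfl, h1, hinv, rfl⟩
  obtain ⟨N, hNM, hN0, hNinv, hNn⟩ := Nat.find_spec hex
  refine ⟨N, hNM, hN0, hNinv, ?_⟩
  intro N' hN' hN'0 hN'inv
  have h2 : Nat.find hex ≤ Module.finrank K N' :=
    Nat.find_min' hex ⟨N', hN'.trans hNM, hN'0, hN'inv, rfl⟩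
  exact Submodule.eq_of_le_of_finrank_le hN' (by rw [hNn]; exact h2)

lemma irr_resRho (ψ : Q →* Module.End K M) (N : Submodule K M) (hinv : InvSub ψ N)
    (hmin : ∀ N' : Submodule K M, N' ≤ N → N' ≠ ⊥ → InvSub ψ N' → N' = N) :
    Irr (resRho ψ N hinv) := by
  intro N'' hN''
  let N' : Submodule K M := N''.map N.subtype
  have hN'le : N' ≤ N := by
    rintro v ⟨w, _, rfl⟩
    exact w.2
  have hN'inv : InvSub ψ N' := by
    rintro γ v ⟨w, hw, rfl⟩
    exact ⟨resRho ψ N hinv γ w, hN'' γ w hw, rfl⟩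
  by_cases h0 : N' = ⊥
  · left
    rw [eq_bot_iff]
    intro w hw
    have h1 : (w : M) ∈ N' := ⟨w, hw, rfl⟩
    rw [h0, Submodule.mem_bot] at h1
    rw [Submodule.mem_bot]
    exact Subtype.ext h1
  · right
    have h1 := hmin N' hN'le h0 hN'inv
    rw [eq_top_iff]
    intro w _
    have h2 : (w : M) ∈ N' := by rw [h1]; exact w.2
    obtain ⟨w', hw', hww⟩ := h2
    have : w' = w := Subtype.ext hww
    rw [← this]
    exact hw'

lemma schur [IsAlgClosed K] [FiniteDimensional K M] [Nontrivial M] {ρ : Q →* Module.End K M}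
    (hirr : Irr ρ) (C : Module.End K M) (hC : ∀ γ, C * ρ γ = ρ γ * C) : IsScalar C := by
  obtain ⟨μ, hμ⟩ := Module.End.exists_eigenvalue C
  have hinv : InvSub ρ (C.eigenspace μ) := by
    intro γ v hv
    rw [Module.End.mem_eigenspace_iff] at hv ⊢
    calc C (ρ γ v) = (C * ρ γ) v := rfl
      _ = (ρ γ * C) v := by rw [hC]
      _ = ρ γ (C v) := rfl
      _ = μ • ρ γ v := by rw [hv, map_smul]
  rcases hirr _ hinv with h | h
  · exact absurd h hμ
  · refine ⟨μ, ?_⟩
    ext v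
    have hv : v ∈ C.eigenspace μ := by rw [h]; exact Submodule.mem_top
    rw [Module.End.mem_eigenspace_iff] at hv
    simpa using hv

end Irreducible


section Even

variable [Fintype Q]

lemma card_scalarSubgroup_ne_zero (ρ : Q →* Module.End K M) (hQ : (Fintype.card Q : K) ≠ 0) :
    (Nat.card (scalarSubgroup ρ) : K) ≠ 0 := by
  obtain ⟨k, hk⟩ := Subgroup.card_subgroup_dvd_card (scalarSubgroup ρ)
  intro h0
  apply hQ
  rw [← Nat.card_eq_fintype_card, hk, Nat.cast_mul, h0, zero_mul]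

lemma rho_ne_zero [Nontrivial M] (ρ : Q →* Module.End K M) (u : Q) : ρ u ≠ 0 := by
  intro h0
  have := rho_mul_inv ρ u
  rw [h0, zero_mul] at this
  exact zero_ne_one this

lemma finrank_commutant_pos [FiniteDimensional K M] [Nontrivial M] (ρ : Q →* Module.End K M) :
    0 < Module.finrank K (commutant ρ) := by
  rw [Module.finrank_pos_iff_exists_ne_zero]
  refine ⟨⟨1, one_mem_commutant ρ⟩, ?_⟩
  intro h0
  have : (1 : Module.End K M) = 0 := congrArg Subtype.val h0
  exact one_ne_zero this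

lemma finrank_sq_le [FiniteDimensional K M] {ρ : Q →* Module.End K M} (hρ : Symp ρ)
    (hQ : (Fintype.card Q : K) ≠ 0) (hcomm : ∀ C ∈ commutant ρ, IsScalar C) :
    Module.finrank K M * Module.finrank K M ≤ Nat.card (Q ⧸ scalarSubgroup ρ) := by
  classical
  let f : (Q ⧸ scalarSubgroup ρ) → Module.End K M := fun w => ρ (Quotient.out w)
  have hρw : ∀ w : Q, ρ w ∈ Submodule.span K (Set.range f) := by
    intro w
    have hmk : (QuotientGroup.mk (Quotient.out (QuotientGroup.mk w : Q ⧸ scalarSubgroup ρ)) :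
        Q ⧸ scalarSubgroup ρ) = QuotientGroup.mk w := QuotientGroup.out_eq' _
    have hs : (Quotient.out (QuotientGroup.mk w : Q ⧸ scalarSubgroup ρ))⁻¹ * w ∈
        scalarSubgroup ρ := QuotientGroup.eq.mp hmk
    obtain ⟨l, hl⟩ := hs
    have h2 : ρ w = l • f (QuotientGroup.mk w) := by
      show ρ w = l • ρ (Quotient.out (QuotientGroup.mk w : Q ⧸ scalarSubgroup ρ))
      have h1 : ρ w = ρ (Quotient.out (QuotientGroup.mk w : Q ⧸ scalarSubgroup ρ)) *
          ρ ((Quotient.out (QuotientGroup.mk w : Q ⧸ scalarSubgroup ρ))⁻¹ * w) := by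
        rw [← map_mul]
        congr 1
        group
      rw [h1, hl, mul_smul_comm, mul_one]
    rw [h2]
    exact Submodule.smul_mem _ _ (Submodule.subset_span ⟨_, rfl⟩)
  have htop : (⊤ : Submodule K (Module.End K M)) ≤ Submodule.span K (Set.range f) := by
    intro T _
    have hrec := recon hρ hQ T
    have hS := card_scalarSubgroup_ne_zero ρ hQ
    have hT : T = (Nat.card (scalarSubgroup ρ) : K)⁻¹ • ∑ w : Q, avg ρ (T * ρ w⁻¹) * ρ w := by
      rw [hrec, smul_smul, inv_mul_cancel₀ hS, one_smul]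
    rw [hT]
    refine Submodule.smul_mem _ _ (Submodule.sum_mem _ ?_)
    intro w _
    obtain ⟨l, hl⟩ := hcomm _ (avg_mem_commutant ρ (T * ρ w⁻¹))
    rw [hl, smul_mul_assoc, one_mul]
    exact Submodule.smul_mem _ _ (hρw w)
  have h1 : Module.finrank K (Module.End K M) ≤
      Module.finrank K (Submodule.span K (Set.range f)) := by
    rw [← finrank_top K (Module.End K M)]
    exact Submodule.finrank_mono htop
  have h2 : Module.finrank K (Submodule.span K (Set.range f)) ≤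
      Fintype.card (Q ⧸ scalarSubgroup ρ) := finrank_range_le_card (R := K) f
  rw [Module.finrank_linearMap] at h1
  rw [Nat.card_eq_fintype_card]
  exact h1.trans h2

/-- **Evenness**: for a representation of symplectic type over an algebraically closed field,
`|Q : U|` is a square. -/
theorem card_eq_card_mul_sq [IsAlgClosed K] [FiniteDimensional K M] [Nontrivial M]
    (ρ : Q →* Module.End K M) (hQ : (Fintype.card Q : K) ≠ 0) (U : Subgroup Q)
    (hU1 : ∀ u ∈ U, IsScalar (ρ u)) (hcs : ∀ u w, ∃ l : K, ρ u * ρ w = l • (ρ w * ρ u))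
    (hU3 : ∀ u, (∀ w, ρ u * ρ w = ρ w * ρ u) → u ∈ U) :
    ∃ m : ℕ, Nat.card Q = Nat.card U * m ^ 2 := by
  obtain ⟨N, -, hN0, hNinv, hNmin⟩ := exists_minimal_inv ρ ⊤ top_ne_bot
    (fun _ _ _ => Submodule.mem_top)
  have hirr := irr_resRho ρ N hNinv hNmin
  have hNt : Nontrivial N := Submodule.nontrivial_iff_ne_bot.mpr hN0
  have hres : ∀ u w (l : K), ρ u * ρ w = l • (ρ w * ρ u) →
      resRho ρ N hNinv u * resRho ρ N hNinv w =
        l • (resRho ρ N hNinv w * resRho ρ N hNinv u) := by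
    intro u w l h
    ext v
    have := LinearMap.congr_fun h (v : M)
    simpa [resRho] using this
  have hsymp : Symp (resRho ρ N hNinv) :=
    { comm_scalar := by
        intro u w
        obtain ⟨l, hl⟩ := hcs u w
        exact ⟨l, hres u w l hl⟩
      nondeg := fun u hu => schur hirr _ hu }
  have hS : scalarSubgroup (resRho ρ N hNinv) = U := by
    ext u
    constructor
    · intro hu
      apply hU3
      intro w
      obtain ⟨l, hl⟩ := hcs u w
      have h1 := hres u w l hl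
      rw [IsScalar.comm hu] at h1
      have h2 : (1 - l) • (resRho ρ N hNinv w * resRho ρ N hNinv u) = 0 := by
        linear_combination (norm := module) h1
      rcases smul_eq_zero.mp h2 with h3 | h3
      · have : l = 1 := (sub_eq_zero.mp h3).symm
        rw [hl, this, one_smul]
      · exfalso
        rw [← map_mul] at h3
        exact rho_ne_zero _ _ h3
    · intro hu
      obtain ⟨l, hl⟩ := hU1 u hu
      refine ⟨l, ?_⟩
      ext v
      have := LinearMap.congr_fun hl (v : M)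
      simpa [resRho] using this
  have hcomm : ∀ C ∈ commutant (resRho ρ N hNinv), IsScalar C := by
    intro C hC
    exact schur hirr C hC
  have h1 := card_mul_finrank_le hsymp hQ
  have h2 := finrank_sq_le hsymp hQ hcomm
  have hD : 0 < Module.finrank K (commutant (resRho ρ N hNinv)) := finrank_commutant_pos _
  have h3 : Nat.card (Q ⧸ scalarSubgroup (resRho ρ N hNinv)) =
      Module.finrank K N * Module.finrank K N := by
    apply le_antisymm _ h2
    calc Nat.card (Q ⧸ scalarSubgroup (resRho ρ N hNinv))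
        = Nat.card (Q ⧸ scalarSubgroup (resRho ρ N hNinv)) * 1 := (mul_one _).symm
      _ ≤ Nat.card (Q ⧸ scalarSubgroup (resRho ρ N hNinv)) *
          Module.finrank K (commutant (resRho ρ N hNinv)) := Nat.mul_le_mul_left _ hD
      _ ≤ _ := h1
  refine ⟨Module.finrank K N, ?_⟩
  rw [Subgroup.card_eq_card_quotient_mul_card_subgroup (scalarSubgroup (resRho ρ N hNinv)), h3,
    hS, mul_comm, sq]

end Even


section Core2K

variable {K : Type*} [Field K] [IsAlgClosed K] {M : Type*} [AddCommGroup M] [Module K M]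
  [FiniteDimensional K M] {Γ : Type*} [Group Γ]

/-- The core for a minimal `x`-invariant `q`-group `Qs` with `U = C_{Qs}(x)` central in the ambient
group: `|Qs : U|` is a square `m^2 ≤ (r-1)^2`. -/
theorem core2_K (ψ : Γ →* Module.End K M) (Qs : Subgroup Γ) [Finite Qs] (x : Γ) {q r : ℕ}
    (hq : q.Prime) (hr : r.Prime) (hqK : (q : K) ≠ 0) (hrK : (r : K) ≠ 0)
    (hQq : IsPGroup q Qs) (hxr : x ^ r = 1) (hxQ : ∀ u ∈ Qs, x * u * x⁻¹ ∈ Qs)
    (U : Subgroup Γ) (hUQ : U ≤ Qs) (hUZ : ∀ c ∈ U, ∀ γ : Γ, γ * c = c * γ)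
    (hcomm : ∀ u ∈ Qs, ∀ w ∈ Qs, u * w * u⁻¹ * w⁻¹ ∈ U)
    (hmin : ∀ Y : Subgroup Γ, Y ≤ Qs → (∀ u ∈ Y, x * u * x⁻¹ ∈ Y) → Y ≠ Qs → Y ≤ U)
    (hfpf : ∀ u ∈ Qs, x * u * x⁻¹ * u⁻¹ ∈ U → u ∈ U)
    (u₁ w₁ : Γ) (hu₁ : u₁ ∈ Qs) (hw₁ : w₁ ∈ Qs) (ht : ψ (u₁ * w₁ * u₁⁻¹ * w₁⁻¹) ≠ 1)
    (hxM : ∀ m : M, ψ x m = m → m = 0) :
    ∃ m : ℕ, Nat.card Qs = Nat.card U * m ^ 2 ∧ m ^ 2 ≤ (r - 1) ^ 2 := by
  classical
  have : Fintype Qs := Fintype.ofFinite _
  have : Fact q.Prime := ⟨hq⟩
  set t := u₁ * w₁ * u₁⁻¹ * w₁⁻¹ with ht_def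
  have htU : t ∈ U := hcomm u₁ hu₁ w₁ hw₁
  have htQ : t ∈ Qs := hUQ htU
  obtain ⟨k, hk⟩ := hQq ⟨t, htQ⟩
  have htk : t ^ (q ^ k) = 1 := by
    have := congrArg Subtype.val hk
    simpa using this
  have hqkK : ((q ^ k : ℕ) : K) ≠ 0 := by
    rw [Nat.cast_pow]
    exact pow_ne_zero _ hqK
  have hTk : ψ t ^ (q ^ k) = 1 := by rw [← map_pow, htk, map_one]
  obtain ⟨ι, _, b, η, hb⟩ := exists_eigenbasis (ψ t) (q ^ k) hqkK hTk
  have hex : ∃ i, η i ≠ 1 := by
    by_contra hall
    push Not at hall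
    apply ht
    apply b.ext
    intro i
    rw [(hb i).1, hall i, one_smul, Module.End.one_apply]
  obtain ⟨i₀, hi₀⟩ := hex
  set ζ := η i₀ with hζ
  have hM₁ : (ψ t).eigenspace ζ ≠ ⊥ := by
    intro hbot
    have hmem : b i₀ ∈ (ψ t).eigenspace ζ := Module.End.mem_eigenspace_iff.mpr (hb i₀).1
    rw [hbot, Submodule.mem_bot] at hmem
    exact b.ne_zero i₀ hmem
  have hM₁inv : InvSub ψ ((ψ t).eigenspace ζ) := by
    intro γ v hv
    rw [Module.End.mem_eigenspace_iff] at hv ⊢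
    have hγ : γ * t = t * γ := hUZ t htU γ
    calc ψ t (ψ γ v) = (ψ t * ψ γ) v := rfl
      _ = (ψ γ * ψ t) v := by rw [← map_mul, ← map_mul, hγ]
      _ = ψ γ (ψ t v) := rfl
      _ = ζ • ψ γ v := by rw [hv, map_smul]
  obtain ⟨N, hNM, hN0, hNinv, hNmin⟩ := exists_minimal_inv ψ _ hM₁ hM₁inv
  have hirr := irr_resRho ψ N hNinv hNmin
  have hNt : Nontrivial N := Submodule.nontrivial_iff_ne_bot.mpr hN0
  have hρΓ : ∀ γ (v : N), ((resRho ψ N hNinv γ v : N) : M) = ψ γ v := fun _ _ => rfl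
  have hρt : resRho ψ N hNinv t = ζ • (1 : Module.End K N) := by
    ext v
    have h1 := hNM v.2
    rw [Module.End.mem_eigenspace_iff] at h1
    rw [hρΓ, h1]
    simp
  have hρt1 : resRho ψ N hNinv t ≠ 1 := by
    intro h
    rw [hρt] at h
    have h2 : (ζ - 1) • (1 : Module.End K N) = 0 := by
      linear_combination (norm := module) h
    rcases smul_eq_zero.mp h2 with h3 | h3
    · exact hi₀ (sub_eq_zero.mp h3)
    · exact one_ne_zero h3
  -- central elements act as scalars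
  have hUs : ∀ c ∈ U, IsScalar (resRho ψ N hNinv c) := by
    intro c hc
    apply schur hirr
    intro γ
    rw [← map_mul, ← map_mul, hUZ c hc γ]
  let ρ : ↥Qs →* Module.End K N := (resRho ψ N hNinv).comp Qs.subtype
  have hρ : ∀ u : Qs, ρ u = resRho ψ N hNinv u.1 := fun _ => rfl
  let g : Module.End K N := resRho ψ N hNinv x
  let g' : Module.End K N := resRho ψ N hNinv x⁻¹
  -- the automorphism
  let aHom : ↥Qs →* ↥Qs :=
    { toFun := fun u => ⟨x * u.1 * x⁻¹, hxQ u.1 u.2⟩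
      map_one' := by apply Subtype.ext; simp
      map_mul' := by intro u w; apply Subtype.ext; simp [mul_assoc] }
  have haInj : Function.Injective aHom := by
    intro u w huw
    have h1 : x * u.1 * x⁻¹ = x * w.1 * x⁻¹ := congrArg Subtype.val huw
    apply Subtype.ext
    simpa using h1
  let a : ↥Qs ≃* ↥Qs := MulEquiv.ofBijective aHom (Finite.injective_iff_bijective.mp haInj)
  have ha : ∀ u : Qs, ((a u : ↥Qs) : Γ) = x * u.1 * x⁻¹ := fun u => rfl
  have hxQ' : ∀ u ∈ Qs, x⁻¹ * u * x ∈ Qs := by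
    intro u hu
    obtain ⟨u', hu'⟩ : ∃ u' : ↥Qs, u' = a.symm ⟨u, hu⟩ := ⟨_, rfl⟩
    have h1 : ((a u' : ↥Qs) : Γ) = u := by rw [hu', MulEquiv.apply_symm_apply]
    rw [ha] at h1
    have h2 : x⁻¹ * u * x = (u' : Γ) := by
      rw [← h1]; group
    rw [h2]
    exact u'.2
  have hmi : ∀ γ : Γ, resRho ψ N hNinv γ * resRho ψ N hNinv γ⁻¹ = 1 := by
    intro γ
    rw [← map_mul, mul_inv_cancel, map_one]
  have him : ∀ γ : Γ, resRho ψ N hNinv γ⁻¹ * resRho ψ N hNinv γ = 1 := by
    intro γ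
    rw [← map_mul, inv_mul_cancel, map_one]
  -- the subgroup `Y` of elements acting centrally
  let Y : Subgroup Γ :=
    { carrier := {γ | γ ∈ Qs ∧ ∀ w ∈ Qs, resRho ψ N hNinv γ * resRho ψ N hNinv w =
        resRho ψ N hNinv w * resRho ψ N hNinv γ}
      one_mem' := ⟨Qs.one_mem, fun w _ => by simp⟩
      mul_mem' := by
        rintro γ γ' ⟨h1, h2⟩ ⟨h1', h2'⟩
        refine ⟨Qs.mul_mem h1 h1', ?_⟩
        intro w hw
        rw [map_mul, mul_assoc, h2' w hw, ← mul_assoc, h2 w hw, mul_assoc]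
      inv_mem' := by
        rintro γ ⟨h1, h2⟩
        refine ⟨Qs.inv_mem h1, ?_⟩
        intro w hw
        have e1 : resRho ψ N hNinv γ⁻¹ * resRho ψ N hNinv w =
            resRho ψ N hNinv γ⁻¹ * (resRho ψ N hNinv w * resRho ψ N hNinv γ) *
              resRho ψ N hNinv γ⁻¹ := by
          rw [mul_assoc, mul_assoc, hmi, mul_one]
        rw [e1, ← h2 w hw, ← mul_assoc, him, one_mul] }
  have hYmem : ∀ γ, γ ∈ Y ↔ γ ∈ Qs ∧ ∀ w ∈ Qs, resRho ψ N hNinv γ * resRho ψ N hNinv w =
        resRho ψ N hNinv w * resRho ψ N hNinv γ := fun γ => Iff.rfl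
  have hYx : ∀ u ∈ Y, x * u * x⁻¹ ∈ Y := by
    intro u hu
    rw [hYmem] at hu ⊢
    obtain ⟨h1, h2⟩ := hu
    refine ⟨hxQ u h1, ?_⟩
    intro w hw
    obtain ⟨w', hw'⟩ : ∃ w', w' = x⁻¹ * w * x := ⟨_, rfl⟩
    have h3 := h2 w' (by rw [hw']; exact hxQ' w hw)
    have e1 : x * u * x⁻¹ * w = x * (u * w') * x⁻¹ := by rw [hw']; group
    have e2 : w * (x * u * x⁻¹) = x * (w' * u) * x⁻¹ := by rw [hw']; group
    rw [← map_mul, ← map_mul, e1, e2]
    simp only [map_mul]
    rw [h3]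
  have hYne : Y ≠ Qs := by
    intro hY
    have h1 : u₁ ∈ Y := by rw [hY]; exact hu₁
    have h2 := ((hYmem u₁).mp h1).2 w₁ hw₁
    apply hρt1
    have e1 : t = (u₁ * w₁) * (w₁ * u₁)⁻¹ := by rw [ht_def]; group
    rw [e1, map_mul, map_mul, h2, ← map_mul, ← map_mul, mul_inv_cancel, map_one]
  have hYU : Y ≤ U := hmin Y (fun γ h => h.1) hYx hYne
  have hU3 : ∀ u : Qs, (∀ w : Qs, ρ u * ρ w = ρ w * ρ u) → u.1 ∈ U := by
    intro u hu
    apply hYU
    exact ⟨u.2, fun w hw => hu ⟨w, hw⟩⟩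
  have hcs : ∀ u w : Qs, ∃ l : K, ρ u * ρ w = l • (ρ w * ρ u) := by
    intro u w
    obtain ⟨l, hl⟩ := hUs _ (hcomm u.1 u.2 w.1 w.2)
    refine ⟨l, ?_⟩
    rw [hρ, hρ, ← map_mul, ← map_mul]
    have e1 : u.1 * w.1 = (u.1 * w.1 * u.1⁻¹ * w.1⁻¹) * (w.1 * u.1) := by group
    rw [e1, map_mul, hl, smul_mul_assoc, one_mul]
  have hsymp : Symp ρ :=
    { comm_scalar := hcs
      nondeg := fun u hu => hUs u.1 (hU3 u hu) }
  have hS : scalarSubgroup ρ = U.subgroupOf Qs := by
    ext u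
    rw [Subgroup.mem_subgroupOf]
    constructor
    · intro hu
      exact hU3 u (fun w => IsScalar.comm hu (ρ w))
    · intro hu
      exact hUs u.1 hu
  have hnorm : Normalises ρ a g g' :=
    { mul_inv := by
        show resRho ψ N hNinv x * resRho ψ N hNinv x⁻¹ = 1
        rw [← map_mul, mul_inv_cancel, map_one]
      inv_mul := by
        show resRho ψ N hNinv x⁻¹ * resRho ψ N hNinv x = 1
        rw [← map_mul, inv_mul_cancel, map_one]
      conj := by
        intro u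
        show resRho ψ N hNinv x * resRho ψ N hNinv u.1 =
          resRho ψ N hNinv (a u).1 * resRho ψ N hNinv x
        rw [← map_mul, ← map_mul, ha]
        congr 1
        group }
  have hgr : g ^ r = 1 := by
    show resRho ψ N hNinv x ^ r = 1
    rw [← map_pow, hxr, map_one]
  have hunit : ∀ u : Qs, ρ u * ρ u⁻¹ = 1 := fun u => rho_mul_inv ρ u
  have hfpfA : ∀ u : Qs, (∃ l : K, ρ (a u) = l • ρ u) → u ∈ scalarSubgroup ρ := by
    rintro u ⟨l, hl⟩
    have h1 : a u * u⁻¹ ∈ scalarSubgroup ρ := by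
      refine ⟨l, ?_⟩
      rw [map_mul, hl, smul_mul_assoc, hunit]
    rw [hS, Subgroup.mem_subgroupOf] at h1 ⊢
    apply hfpf u.1 u.2
    exact h1
  -- eigenbasis of g
  obtain ⟨ι', _, b', η', hb'⟩ := exists_eigenbasis g r hrK hgr
  have hη' : ∀ i, η' i ≠ 1 := by
    intro i h1
    have h2 : g (b' i) = b' i := by rw [(hb' i).1, h1, one_smul]
    have h3 : ψ x ((b' i : N) : M) = (b' i : M) := congrArg Subtype.val h2
    have h4 := hxM _ h3
    have h5 : b' i = 0 := Subtype.ext h4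
    exact b'.ne_zero i h5
  let E : Finset K := (Polynomial.nthRootsFinset r (1 : K)).erase 1
  have hE : ∀ i, η' i ∈ E := by
    intro i
    rw [Finset.mem_erase]
    exact ⟨hη' i, (Polynomial.mem_nthRootsFinset hr.pos 1).mpr (hb' i).2⟩
  have hEcard : E.card ≤ r - 1 := by
    have h1 : (1 : K) ∈ Polynomial.nthRootsFinset r (1 : K) :=
      (Polynomial.mem_nthRootsFinset hr.pos 1).mpr (one_pow r)
    rw [Finset.card_erase_of_mem h1]
    have h2 : (Polynomial.nthRootsFinset r (1 : K)).card ≤ r := by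
      unfold Polynomial.nthRootsFinset
      exact (Multiset.toFinset_card_le _).trans (Polynomial.card_nthRoots r 1)
    omega
  have hQK : (Fintype.card Qs : K) ≠ 0 := by
    obtain ⟨n, hn⟩ := IsPGroup.iff_card.mp hQq
    rw [← Nat.card_eq_fintype_card, hn, Nat.cast_pow]
    exact pow_ne_zero _ hqK
  have hmain := card_quot_le hsymp hQK hnorm hr hgr hfpfA b' η' (fun i => (hb' i).1) E hE hEcard
  obtain ⟨m, hm⟩ := card_eq_card_mul_sq ρ hQK (U.subgroupOf Qs)
    (fun u hu => hUs u.1 (Subgroup.mem_subgroupOf.mp hu)) hcs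
    (fun u hu => Subgroup.mem_subgroupOf.mpr (hU3 u hu))
  have hcardU : Nat.card (U.subgroupOf Qs) = Nat.card U :=
    Nat.card_congr (Subgroup.subgroupOfEquivOfLe hUQ).toEquiv
  refine ⟨m, by rw [hm, hcardU], ?_⟩
  have h1 := Subgroup.card_eq_card_quotient_mul_card_subgroup (scalarSubgroup ρ)
  have h2 : Nat.card (scalarSubgroup ρ) = Nat.card (U.subgroupOf Qs) := by rw [hS]
  rw [hm, h2, mul_comm] at h1
  have hpos : 0 < Nat.card (U.subgroupOf Qs) := Nat.card_pos
  have h3 : m ^ 2 = Nat.card (↥Qs ⧸ scalarSubgroup ρ) := Nat.eq_of_mul_eq_mul_right hpos h1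
  rw [h3]
  exact hmain

end Core2K

end Cfsg.Agent.Helper48.SympRep
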