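import Mathlib

/-!
# Decomposition of a coprime module under a rank-two elementary abelian group acting with
fixed-point-free "central" element (abstract additive form).

`V` an abelian group killed by `r`, `X C : End V` commuting with `X ^ p = 1`, `C ^ p = 1`, `C` fixing
only `0`, `p` prime, `p` coprime to `r`.  Then `V` is the direct sum of the fixed spaces of the `p`
operators `X * C ^ i`, `i < p`.
-/

set_option autoImplicit false

namespace Cfsg.Agent.Helper48.NormDecomp

open Finset

variable {V : Type*} [AddCommGroup V]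

/-- the geometric sum `1 + T + ⋯ + T^(p-1)` -/
def gs (T : Module.End ℤ V) (p : ℕ) : Module.End ℤ V := ∑ k ∈ range p, T ^ k

lemma sub_one_mul_gs (T : Module.End ℤ V) (p : ℕ) : (T - 1) * gs T p = T ^ p - 1 :=
  mul_geom_sum T p

lemma gs_fix {T : Module.End ℤ V} {p : ℕ} (hT : T ^ p = 1) (v : V) : T (gs T p v) = gs T p v := by
  have h := congrArg (fun f : Module.End ℤ V => f v) (sub_one_mul_gs T p)
  simp only [hT, sub_self, Module.End.mul_apply, LinearMap.sub_apply, Module.End.one_apply,
    LinearMap.zero_apply] at h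
  exact sub_eq_zero.mp h

lemma pow_apply_of_fix {T : Module.End ℤ V} {v : V} (hv : T v = v) (k : ℕ) : (T ^ k) v = v := by
  induction k with
  | zero => simp
  | succ k ih => rw [pow_succ, Module.End.mul_apply, hv, ih]

lemma gs_of_fix {T : Module.End ℤ V} {v : V} (hv : T v = v) (p : ℕ) : gs T p v = p • v := by
  unfold gs
  rw [LinearMap.sum_apply]
  simp only [pow_apply_of_fix hv, sum_const, card_range]

lemma gs_eq_zero {T : Module.End ℤ V} {p : ℕ} (hT : T ^ p = 1) (hfpf : ∀ v : V, T v = v → v = 0) :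
    gs T p = 0 := by
  ext v
  simpa using hfpf _ (gs_fix hT v)

/-- powers of a fixed-point-free element of prime order are fixed-point-free -/
lemma fpf_pow {C : Module.End ℤ V} {p : ℕ} (hp : p.Prime) (hCp : C ^ p = 1)
    (hC : ∀ v : V, C v = v → v = 0) {k : ℕ} (hk0 : 0 < k) (hkp : k < p) :
    ∀ v : V, (C ^ k) v = v → v = 0 := by
  intro v hv
  have hcop : Nat.Coprime k p := by
    rw [Nat.coprime_comm]
    exact (Nat.Prime.coprime_iff_not_dvd hp).mpr (Nat.not_dvd_of_pos_of_lt hk0 hkp)
  obtain ⟨m, -, hm⟩ := Nat.exists_mul_mod_eq_one_of_coprime hcop hp.one_lt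
  have h1 : (C ^ (k * m)) v = v := by
    rw [pow_mul]
    exact pow_apply_of_fix hv m
  have h2 : C ^ (k * m) = C := by
    rw [pow_eq_pow_mod (k * m) hCp, hm, pow_one]
  rw [h2] at h1
  exact hC v h1

lemma sum_gs {X C : Module.End ℤ V} {p : ℕ} (hp : p.Prime) (hXC : Commute X C)
    (hCp : C ^ p = 1) (hC : ∀ v : V, C v = v → v = 0) :
    ∑ i ∈ range p, gs (X * C ^ i) p = (p : Module.End ℤ V) := by
  have h1 : ∀ i k : ℕ, (X * C ^ i) ^ k = X ^ k * (C ^ k) ^ i := by
    intro i k
    rw [(hXC.pow_right i).mul_pow, ← pow_mul, ← pow_mul, mul_comm i k]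
  unfold gs
  simp only [h1]
  rw [sum_comm]
  simp only [← mul_sum]
  rw [sum_eq_single 0]
  · simp
  · intro k hk hk0
    have hkp : k < p := mem_range.mp hk
    have hz : gs (C ^ k) p = 0 := by
      apply gs_eq_zero
      · rw [← pow_mul, mul_comm, pow_mul, hCp, one_pow]
      · exact fpf_pow hp hCp hC (Nat.pos_of_ne_zero hk0) hkp
    unfold gs at hz
    rw [hz, mul_zero]
  · intro h
    exact absurd (mem_range.mpr hp.pos) h

/-- independence of the fixed spaces -/
lemma indep {X C : Module.End ℤ V} {p : ℕ} (hp : p.Prime) (hXC : Commute X C)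
    (hXp : X ^ p = 1) (hCp : C ^ p = 1) (hC : ∀ v : V, C v = v → v = 0)
    (w : ℕ → V) (hw : ∀ i < p, (X * C ^ i) (w i) = w i) (hsum : ∑ i ∈ range p, w i = 0) :
    ∀ j < p, p • w j = 0 := by
  intro j hj
  have hTp : ∀ i : ℕ, (X * C ^ i) ^ p = 1 := by
    intro i
    rw [(hXC.pow_right i).mul_pow, hXp, ← pow_mul, mul_comm, pow_mul, hCp, one_pow, one_mul]
  have hcomm : ∀ i j : ℕ, Commute (X * C ^ i) (X * C ^ j) := by
    intro i j
    have h1 : Commute (C ^ i) (C ^ j) := (Commute.refl C).pow_pow i j
    have h2 : Commute X (C ^ j) := hXC.pow_right j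
    have h3 : Commute (C ^ i) X := (hXC.pow_right i).symm
    exact ((Commute.refl X).mul_right h2).mul_left (h3.mul_right h1)
  have h0 := congrArg (gs (X * C ^ j) p) hsum
  rw [map_sum, map_zero] at h0
  rw [sum_eq_single j] at h0
  · rw [gs_of_fix (hw j hj)] at h0
    exact h0
  · intro i hi hij
    have hip : i < p := mem_range.mp hi
    set u : V := gs (X * C ^ j) p (w i) with hu
    have huj : (X * C ^ j) u = u := gs_fix (hTp j) (w i)
    have hui : (X * C ^ i) u = u := by
      have hc : Commute (X * C ^ i) (gs (X * C ^ j) p) := by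
        unfold gs
        exact Commute.sum_right _ _ _ (fun k _ => (hcomm i j).pow_right k)
      have h5 : (X * C ^ i) (gs (X * C ^ j) p (w i)) = gs (X * C ^ j) p ((X * C ^ i) (w i)) := by
        have := LinearMap.congr_fun hc.eq (w i)
        rw [Module.End.mul_apply, Module.End.mul_apply] at this
        exact this
      rw [hu, h5, hw i hip]
    rcases Nat.lt_or_gt_of_ne hij with hlt | hgt
    · -- i < j : T_j = C^(j-i) * T_i
      have hT : X * C ^ j = C ^ (j - i) * (X * C ^ i) := by
        have : C ^ (j - i) * (X * C ^ i) = X * (C ^ (j - i) * C ^ i) := by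
          rw [← mul_assoc, ((hXC.pow_right (j - i)).symm).eq, mul_assoc]
        rw [this, ← pow_add, Nat.sub_add_cancel hlt.le]
      have h3 : (C ^ (j - i)) u = u := by
        have := huj
        rw [hT, Module.End.mul_apply, hui] at this
        exact this
      exact fpf_pow hp hCp hC (Nat.sub_pos_of_lt hlt) (lt_of_le_of_lt (Nat.sub_le j i) hj) u h3
    · -- j < i
      have hT : X * C ^ i = C ^ (i - j) * (X * C ^ j) := by
        have : C ^ (i - j) * (X * C ^ j) = X * (C ^ (i - j) * C ^ j) := by
          rw [← mul_assoc, ((hXC.pow_right (i - j)).symm).eq, mul_assoc]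
        rw [this, ← pow_add, Nat.sub_add_cancel hgt.le]
      have h3 : (C ^ (i - j)) u = u := by
        have := hui
        rw [hT, Module.End.mul_apply, huj] at this
        exact this
      exact fpf_pow hp hCp hC (Nat.sub_pos_of_lt hgt) (lt_of_le_of_lt (Nat.sub_le i j) hip) u h3
  · intro h
    exact absurd (mem_range.mpr hj) h


lemma eq_zero_of_nsmul {p r : ℕ} (hcop : Nat.Coprime p r) (hV : ∀ v : V, r • v = 0) {v : V}
    (h : p • v = 0) : v = 0 := by
  have h1 : addOrderOf v ∣ p := addOrderOf_dvd_of_nsmul_eq_zero h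
  have h2 : addOrderOf v ∣ r := addOrderOf_dvd_of_nsmul_eq_zero (hV v)
  have h3 : addOrderOf v ∣ 1 := by
    have := Nat.dvd_gcd h1 h2
    rwa [hcop.gcd_eq_one] at this
  exact AddMonoid.addOrderOf_eq_one_iff.mp (Nat.dvd_one.mp h3)

/-- **Key decomposition**: the cardinality of `V` is the product of the cardinalities of the fixed
spaces of `X * C ^ i`, `i < p`. -/
theorem card_eq_prod [Finite V] {X C : Module.End ℤ V} {p r : ℕ} (hp : p.Prime) (hr : 1 < r)
    (hcop : Nat.Coprime p r) (hV : ∀ v : V, r • v = 0)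
    (hXC : Commute X C) (hXp : X ^ p = 1) (hCp : C ^ p = 1) (hC : ∀ v : V, C v = v → v = 0) :
    Nat.card V = ∏ i : Fin p, Nat.card {v : V // (X * C ^ (i : ℕ)) v = v} := by
  classical
  have hTp : ∀ i : ℕ, (X * C ^ i) ^ p = 1 := by
    intro i
    rw [(hXC.pow_right i).mul_pow, hXp, ← pow_mul, mul_comm, pow_mul, hCp, one_pow, one_mul]
  let F : (∀ i : Fin p, {v : V // (X * C ^ (i : ℕ)) v = v}) → V := fun w => ∑ i, (w i : V)
  have hinj : Function.Injective F := by
    intro w w' hww
    let dd : ℕ → V := fun i => if h : i < p then (w ⟨i, h⟩ : V) - (w' ⟨i, h⟩ : V) else 0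
    have hdd : ∀ i < p, (X * C ^ i) (dd i) = dd i := by
      intro i hi
      simp only [dd, hi, dif_pos, map_sub]
      rw [(w ⟨i, hi⟩).2, (w' ⟨i, hi⟩).2]
    have hsum : ∑ i ∈ range p, dd i = 0 := by
      rw [← Fin.sum_univ_eq_sum_range]
      have : ∀ i : Fin p, dd (i : ℕ) = (w i : V) - (w' i : V) := by
        intro i
        simp only [dd, i.2, dif_pos]
      simp only [this, sum_sub_distrib]
      exact sub_eq_zero.mpr hww
    have hz := indep hp hXC hXp hCp hC dd hdd hsum
    funext i
    apply Subtype.ext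
    have h1 := eq_zero_of_nsmul hcop hV (hz i i.2)
    simp only [dd, i.2, dif_pos] at h1
    exact sub_eq_zero.mp h1
  have hsurj : Function.Surjective F := by
    intro v
    obtain ⟨s, -, hs⟩ := Nat.exists_mul_mod_eq_one_of_coprime hcop hr
    have hsv : ∀ u : V, (p * s) • u = u := by
      intro u
      have h1 : p * s = r * (p * s / r) + 1 := by
        have := Nat.div_add_mod (p * s) r
        omega
      rw [h1, add_smul, mul_smul, one_smul]
      have : r • ((p * s / r) • u) = 0 := hV _
      rw [this, zero_add]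
    refine ⟨fun i => ⟨s • gs (X * C ^ (i : ℕ)) p v, ?_⟩, ?_⟩
    · rw [map_nsmul, gs_fix (hTp _)]
    · show ∑ i : Fin p, s • gs (X * C ^ (i : ℕ)) p v = v
      rw [← smul_sum, Fin.sum_univ_eq_sum_range (fun i => gs (X * C ^ i) p v) p]
      have h2 : ∑ i ∈ range p, gs (X * C ^ i) p v = p • v := by
        have := LinearMap.congr_fun (sum_gs hp hXC hCp hC) v
        rw [LinearMap.sum_apply] at this
        rw [this]
        simp
      rw [h2, ← mul_smul, mul_comm]
      exact hsv v
  have hb : Function.Bijective F := ⟨hinj, hsurj⟩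
  rw [← Nat.card_eq_of_bijective F hb, Nat.card_pi]

end Cfsg.Agent.Helper48.NormDecomp
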