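import Mathlib
import Cfsg.Agent.Lib.Helper48.NormDecomp

/-!
# Group form of the norm decomposition: an abelian `r`-group `A` normalized by commuting elements
`x, c` of order dividing `p` with `C_A(c) = 1` has order the product of the `|C_A(x c^i)|`, `i < p`.
-/

set_option autoImplicit false

namespace Cfsg.Agent.Helper48.NormDecomp

open Subgroup
open scoped IsMulCommutative

variable {G : Type*} [Group G]

/-- conjugation by a normalizing element, as an endomorphism of `A` -/
def conjHom (A : Subgroup G) (g : G) (hg : g ∈ normalizer (A : Set G)) : ↥A →* ↥A where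
  toFun a := ⟨g * a * g⁻¹, (Subgroup.mem_normalizer_iff.mp hg a).mp a.2⟩
  map_one' := by ext; simp
  map_mul' a b := by ext; simp [mul_assoc]

/-- conjugation as an additive endomorphism -/
def conjEndHom (A : Subgroup G) [IsMulCommutative ↥A] :
    ↥(normalizer (A : Set G)) →* Module.End ℤ (Additive ↥A) where
  toFun g := (MonoidHom.toAdditive (conjHom A g g.2)).toIntLinearMap
  map_one' := by
    ext v
    induction v using Additive.rec with
    | ofMul a => simp [conjHom]
  map_mul' g h := by
    ext v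
    induction v using Additive.rec with
    | ofMul a =>
      simp [conjHom, mul_assoc]

lemma conjEndHom_apply (A : Subgroup G) [IsMulCommutative ↥A] (g : ↥(normalizer (A : Set G)))
    (a : ↥A) : conjEndHom A g (Additive.ofMul a) =
      Additive.ofMul (⟨(g : G) * a * (g : G)⁻¹, (Subgroup.mem_normalizer_iff.mp g.2 a).mp a.2⟩ : ↥A) :=
  rfl

lemma conjEndHom_fix_iff (A : Subgroup G) [IsMulCommutative ↥A] (g : ↥(normalizer (A : Set G)))
    (a : ↥A) : conjEndHom A g (Additive.ofMul a) = Additive.ofMul a ↔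
      (a : G) ∈ centralizer ({(g : G)} : Set G) := by
  rw [conjEndHom_apply, Subgroup.mem_centralizer_singleton_iff]
  constructor
  · intro h
    have h1 : (g : G) * a * (g : G)⁻¹ = a := congrArg (fun t : ↥A => (t : G)) (Additive.ofMul.injective h)
    calc (a : G) * g = ((g : G) * a * (g : G)⁻¹) * g := by rw [h1]
      _ = g * a := by group
  · intro h
    congr 1
    apply Subtype.ext
    show (g : G) * a * (g : G)⁻¹ = a
    rw [← h]; group

lemma card_fix (A : Subgroup G) [IsMulCommutative ↥A] (g : ↥(normalizer (A : Set G))) :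
    Nat.card {v : Additive ↥A // conjEndHom A g v = v} =
      Nat.card ↥(A ⊓ centralizer ({(g : G)} : Set G)) := by
  apply Nat.card_congr
  refine
    { toFun := fun v => ⟨((Additive.toMul v.1 : ↥A) : G), ?_⟩
      invFun := fun b => ⟨Additive.ofMul ⟨(b : G), b.2.1⟩, ?_⟩
      left_inv := ?_
      right_inv := ?_ }
  · refine ⟨(Additive.toMul v.1 : ↥A).2, ?_⟩
    have := v.2
    rw [← ofMul_toMul v.1] at this
    exact (conjEndHom_fix_iff A g _).mp this
  · exact (conjEndHom_fix_iff A g _).mpr b.2.2
  · intro v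
    apply Subtype.ext
    simp
  · intro b
    apply Subtype.ext
    simp

lemma additive_exp (A : Subgroup G) [IsMulCommutative ↥A] {r : ℕ} (hAr : ∀ a ∈ A, a ^ r = 1) :
    ∀ v : Additive ↥A, r • v = 0 := by
  intro v
  induction v using Additive.rec with
  | ofMul a =>
    rw [← ofMul_pow]
    have : a ^ r = 1 := Subtype.ext (by simpa using hAr a a.2)
    rw [this]; rfl

/-- **Group form of the decomposition.** -/
theorem card_eq_prod_centralizers (A : Subgroup G) [Finite ↥A] [IsMulCommutative ↥A] {p r : ℕ}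
    (hp : p.Prime) (hr : 1 < r) (hcop : Nat.Coprime p r) (hAr : ∀ a ∈ A, a ^ r = 1)
    (x c : G) (hx : x ∈ normalizer (A : Set G)) (hc : c ∈ normalizer (A : Set G))
    (hxc : x * c = c * x) (hxp : x ^ p = 1) (hcp : c ^ p = 1)
    (hcfix : A ⊓ centralizer ({c} : Set G) = ⊥) :
    Nat.card ↥A = ∏ i : Fin p, Nat.card ↥(A ⊓ centralizer ({x * c ^ (i : ℕ)} : Set G)) := by
  set x' : ↥(normalizer (A : Set G)) := ⟨x, hx⟩ with hx'
  set c' : ↥(normalizer (A : Set G)) := ⟨c, hc⟩ with hc'
  have hV : ∀ v : Additive ↥A, r • v = 0 := by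
    intro v
    induction v using Additive.rec with
    | ofMul a =>
      rw [← ofMul_pow]
      have : a ^ r = 1 := Subtype.ext (by simpa using hAr a a.2)
      rw [this]; rfl
  have hXC : Commute (conjEndHom A x') (conjEndHom A c') := by
    have : x' * c' = c' * x' := Subtype.ext hxc
    show conjEndHom A x' * conjEndHom A c' = conjEndHom A c' * conjEndHom A x'
    rw [← map_mul, ← map_mul, this]
  have hXp : conjEndHom A x' ^ p = 1 := by
    rw [← map_pow]
    have : x' ^ p = 1 := Subtype.ext (by simpa using hxp)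
    rw [this, map_one]
  have hCp : conjEndHom A c' ^ p = 1 := by
    rw [← map_pow]
    have : c' ^ p = 1 := Subtype.ext (by simpa using hcp)
    rw [this, map_one]
  have hC : ∀ v : Additive ↥A, conjEndHom A c' v = v → v = 0 := by
    intro v hv
    induction v using Additive.rec with
    | ofMul a =>
      have h1 := (conjEndHom_fix_iff A c' a).mp hv
      have h2 : (a : G) ∈ A ⊓ centralizer ({c} : Set G) := ⟨a.2, h1⟩
      rw [hcfix, Subgroup.mem_bot] at h2
      have : a = 1 := Subtype.ext h2
      rw [this]; rfl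
  have key := card_eq_prod (V := Additive ↥A) hp hr hcop hV hXC hXp hCp hC
  have h1 : Nat.card (Additive ↥A) = Nat.card ↥A := Nat.card_congr Additive.toMul
  rw [← h1, key]
  apply Finset.prod_congr rfl
  intro i _
  have h2 : conjEndHom A x' * conjEndHom A c' ^ (i : ℕ) = conjEndHom A (x' * c' ^ (i : ℕ)) := by
    rw [map_mul, map_pow]
  rw [h2, card_fix]
  rfl


/-- conjugating the centralized element by a normalizing element does not change the cardinality of
the fixed subgroup -/
lemma card_inf_centralizer_conj (A : Subgroup G) (g t : G) (hg : g ∈ normalizer (A : Set G)) :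
    Nat.card ↥(A ⊓ centralizer ({g * t * g⁻¹} : Set G)) = Nat.card ↥(A ⊓ centralizer ({t} : Set G)) := by
  symm
  apply Nat.card_congr
  refine
    { toFun := fun b => ⟨g * (b : G) * g⁻¹, ?_⟩
      invFun := fun b => ⟨g⁻¹ * (b : G) * g, ?_⟩
      left_inv := ?_
      right_inv := ?_ }
  · refine ⟨(Subgroup.mem_normalizer_iff.mp hg b).mp b.2.1, ?_⟩
    show g * (b : G) * g⁻¹ ∈ centralizer ({g * t * g⁻¹} : Set G)
    rw [Subgroup.mem_centralizer_singleton_iff]
    have h := Subgroup.mem_centralizer_singleton_iff.mp b.2.2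
    calc g * (b : G) * g⁻¹ * (g * t * g⁻¹) = g * ((b : G) * t) * g⁻¹ := by group
      _ = g * (t * (b : G)) * g⁻¹ := by rw [h]
      _ = g * t * g⁻¹ * (g * (b : G) * g⁻¹) := by group
  · refine ⟨?_, ?_⟩
    · have := (Subgroup.mem_normalizer_iff.mp hg (g⁻¹ * (b : G) * g)).mpr
        (by have : g * (g⁻¹ * (b : G) * g) * g⁻¹ = b := by group
            rw [this]; exact b.2.1)
      exact this
    · show g⁻¹ * (b : G) * g ∈ centralizer ({t} : Set G)
      rw [Subgroup.mem_centralizer_singleton_iff]
      have h := Subgroup.mem_centralizer_singleton_iff.mp b.2.2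
      calc g⁻¹ * (b : G) * g * t = g⁻¹ * ((b : G) * (g * t * g⁻¹)) * g := by group
        _ = g⁻¹ * ((g * t * g⁻¹) * (b : G)) * g := by rw [h]
        _ = t * (g⁻¹ * (b : G) * g) := by group
  · intro b
    apply Subtype.ext
    show g⁻¹ * (g * (b : G) * g⁻¹) * g = b
    group
  · intro b
    apply Subtype.ext
    show g * (g⁻¹ * (b : G) * g) * g⁻¹ = b
    group

lemma pow_conj_eq (g x c : G) (h1 : g * x * g⁻¹ = x * c) (h2 : g * c = c * g) :
    ∀ i : ℕ, g ^ i * x * (g ^ i)⁻¹ = x * c ^ i := by
  intro i
  induction i with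
  | zero => simp
  | succ i ih =>
    have hci : g * c ^ i * g⁻¹ = c ^ i := by
      have : Commute g (c ^ i) := (show Commute g c from h2).pow_right i
      rw [this.eq]; group
    calc g ^ (i + 1) * x * (g ^ (i + 1))⁻¹ = g * (g ^ i * x * (g ^ i)⁻¹) * g⁻¹ := by
          rw [pow_succ']; group
      _ = g * (x * c ^ i) * g⁻¹ := by rw [ih]
      _ = (g * x * g⁻¹) * (g * c ^ i * g⁻¹) := by group
      _ = x * c * c ^ i := by rw [h1, hci]
      _ = x * c ^ (i + 1) := by rw [pow_succ', mul_assoc]

/-- **Power form**: if moreover some normalizing `g` conjugates `x` to `x * c` and commutes with `c`,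
all the fixed subgroups are conjugate and `|A| = |C_A(x)| ^ p`. -/
theorem card_eq_pow_centralizer (A : Subgroup G) [Finite ↥A] [IsMulCommutative ↥A] {p r : ℕ}
    (hp : p.Prime) (hr : 1 < r) (hcop : Nat.Coprime p r) (hAr : ∀ a ∈ A, a ^ r = 1)
    (x c g : G) (hx : x ∈ normalizer (A : Set G)) (hc : c ∈ normalizer (A : Set G))
    (hg : g ∈ normalizer (A : Set G))
    (hxc : x * c = c * x) (hxp : x ^ p = 1) (hcp : c ^ p = 1)
    (hcfix : A ⊓ centralizer ({c} : Set G) = ⊥)
    (hg1 : g * x * g⁻¹ = x * c) (hg2 : g * c = c * g) :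
    Nat.card ↥A = Nat.card ↥(A ⊓ centralizer ({x} : Set G)) ^ p := by
  rw [card_eq_prod_centralizers A hp hr hcop hAr x c hx hc hxc hxp hcp hcfix]
  have : ∀ i : Fin p, Nat.card ↥(A ⊓ centralizer ({x * c ^ (i : ℕ)} : Set G)) =
      Nat.card ↥(A ⊓ centralizer ({x} : Set G)) := by
    intro i
    rw [← pow_conj_eq g x c hg1 hg2 (i : ℕ)]
    exact card_inf_centralizer_conj A (g ^ (i : ℕ)) x ((normalizer (A : Set G)).pow_mem hg _)
  simp only [this, Finset.prod_const, Finset.card_univ, Fintype.card_fin]

end Cfsg.Agent.Helper48.NormDecomp
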