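import Mathlib
import Cfsg.Prelude.Def_Transfer
import Cfsg.Agent.Lib.Helper48.SympRepApp
import Cfsg.Agent.Lib.Helper48.NormDecompGroup

/-!
# Group form of the `SympRep` core

`Qs` a `q`-group of symplectic type (with centre `⟨c⟩`) and `x` of prime order `r` normalising it,
fixed-point-free modulo `⟨c⟩`, both normalising an elementary abelian `p`-group `V` on which `c` acts
nontrivially and `x` acts without fixed points: then `|Qs| ≤ q (r-1)^2`.
-/

set_option autoImplicit false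

namespace Cfsg.Agent.Helper48.SympRep

open Subgroup Cfsg.Agent.Helper48.NormDecomp
open scoped IsMulCommutative

variable {G : Type*} [Group G]

lemma mem_zpowers_subtype {N : Subgroup G} (c y : ↥N) :
    y ∈ Subgroup.zpowers c ↔ (y : G) ∈ Subgroup.zpowers (c : G) := by
  rw [Subgroup.mem_zpowers_iff, Subgroup.mem_zpowers_iff]
  constructor
  · rintro ⟨k, hk⟩
    exact ⟨k, by rw [← hk]; simp⟩
  · rintro ⟨k, hk⟩
    refine ⟨k, Subtype.ext ?_⟩
    rw [← hk]; simp

/-- conjugation action as `ZMod p`-linear maps -/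
noncomputable def zmodRep {p : ℕ} (V : Subgroup G) [IsMulCommutative ↥V]
    [Module (ZMod p) (Additive ↥V)] :
    ↥(normalizer (V : Set G)) →* Module.End (ZMod p) (Additive ↥V) where
  toFun := fun g => AddMonoidHom.toZModLinearMap p (conjEndHom V g).toAddMonoidHom
  map_one' := by
    ext v
    simp
  map_mul' := by
    intro g h
    ext v
    simp

lemma zmodRep_apply {p : ℕ} (V : Subgroup G) [IsMulCommutative ↥V]
    [Module (ZMod p) (Additive ↥V)] (g : ↥(normalizer (V : Set G))) (v : Additive ↥V) :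
    zmodRep (p := p) V g v = conjEndHom V g v := rfl

theorem core_group_aux [Finite G] {p q r : ℕ} [Fact p.Prime] (hq : q.Prime) (hr : r.Prime)
    (hpq : p ≠ q) (hpr : p ≠ r) (V Qs : Subgroup G) [IsMulCommutative ↥V]
    [Module (ZMod p) (Additive ↥V)] (x c : G)
    (hQV : Qs ≤ normalizer (V : Set G))
    (hxV : x ∈ normalizer (V : Set G)) (hcQ : c ∈ Qs) (hQq : IsPGroup q Qs)
    (hxr : x ^ r = 1) (hxQ : ∀ u ∈ Qs, x * u * x⁻¹ ∈ Qs)
    (hcq : c ^ q = 1) (hcZ : ∀ u ∈ Qs, u * c = c * u) (hxc : x * c = c * x)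
    (hcomm : ∀ u ∈ Qs, ∀ w ∈ Qs, u * w * u⁻¹ * w⁻¹ ∈ Subgroup.zpowers c)
    (hnd : ∀ u ∈ Qs, (∀ w ∈ Qs, u * w = w * u) → u ∈ Subgroup.zpowers c)
    (hfpf : ∀ u ∈ Qs, x * u * x⁻¹ * u⁻¹ ∈ Subgroup.zpowers c → u ∈ Subgroup.zpowers c)
    (hcV : c ∉ centralizer (V : Set G)) (hxfix : V ⊓ centralizer ({x} : Set G) = ⊥) :
    Nat.card Qs ≤ q * (r - 1) ^ 2 := by
  let φ : ↥(normalizer (V : Set G)) →* Module.End (ZMod p) (Additive ↥V) := zmodRep V
  have hφ : ∀ (g : ↥(normalizer (V : Set G))) (v : Additive ↥V), φ g v = conjEndHom V g v :=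
    fun g v => rfl
  have : Finite (Additive ↥V) := inferInstanceAs (Finite ↥V)
  let Qs' : Subgroup ↥(normalizer (V : Set G)) := Qs.subgroupOf (normalizer (V : Set G))
  let x' : ↥(normalizer (V : Set G)) := ⟨x, hxV⟩
  let c' : ↥(normalizer (V : Set G)) := ⟨c, hQV hcQ⟩
  have hmemQ : ∀ u : ↥(normalizer (V : Set G)), u ∈ Qs' ↔ (u : G) ∈ Qs := fun u => Iff.rfl
  have hcard : Nat.card Qs' = Nat.card Qs :=
    Nat.card_congr (Subgroup.subgroupOfEquivOfLe hQV).toEquiv
  rw [← hcard]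
  have hQq' : IsPGroup q Qs' :=
    hQq.of_equiv (Subgroup.subgroupOfEquivOfLe hQV).symm
  refine core_zmod φ Qs' x' c' hq hr hpq hpr hQq' ?_ ?_ ?_ ?_ ?_ ?_ ?_ ?_ ?_ ?_
  · exact Subtype.ext (by simpa using hxr)
  · intro u hu
    exact hxQ u.1 hu
  · exact Subtype.ext (by simpa using hcq)
  · intro u hu
    exact Subtype.ext (hcZ u.1 hu)
  · exact Subtype.ext hxc
  · intro u hu w hw
    rw [mem_zpowers_subtype]
    exact hcomm u.1 hu w.1 hw
  · intro u hu h
    rw [mem_zpowers_subtype]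
    apply hnd u.1 hu
    intro w hw
    have := h ⟨w, hQV hw⟩ hw
    exact congrArg Subtype.val this
  · intro u hu h
    rw [mem_zpowers_subtype] at h ⊢
    exact hfpf u.1 hu h
  · intro h1
    apply hcV
    rw [Subgroup.mem_centralizer_iff]
    intro v hv
    have h2 := LinearMap.congr_fun h1 (Additive.ofMul (⟨v, hv⟩ : ↥V))
    rw [hφ, Module.End.one_apply, conjEndHom_fix_iff, Subgroup.mem_centralizer_singleton_iff] at h2
    exact h2
  · intro w hw
    induction w using Additive.rec with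
    | ofMul a =>
      rw [hφ, conjEndHom_fix_iff] at hw
      have h1 : (a : G) ∈ V ⊓ centralizer ({x} : Set G) := ⟨a.2, hw⟩
      rw [hxfix, Subgroup.mem_bot] at h1
      have : a = 1 := Subtype.ext h1
      rw [this]
      rfl

theorem core_group [Finite G] {p q r : ℕ} [Fact p.Prime] (hq : q.Prime) (hr : r.Prime)
    (hpq : p ≠ q) (hpr : p ≠ r) (V Qs : Subgroup G) (x c : G)
    (hV : Cfsg.IsElementaryAbelian p V) (hQV : Qs ≤ normalizer (V : Set G))
    (hxV : x ∈ normalizer (V : Set G)) (hcQ : c ∈ Qs) (hQq : IsPGroup q Qs)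
    (hxr : x ^ r = 1) (hxQ : ∀ u ∈ Qs, x * u * x⁻¹ ∈ Qs)
    (hcq : c ^ q = 1) (hcZ : ∀ u ∈ Qs, u * c = c * u) (hxc : x * c = c * x)
    (hcomm : ∀ u ∈ Qs, ∀ w ∈ Qs, u * w * u⁻¹ * w⁻¹ ∈ Subgroup.zpowers c)
    (hnd : ∀ u ∈ Qs, (∀ w ∈ Qs, u * w = w * u) → u ∈ Subgroup.zpowers c)
    (hfpf : ∀ u ∈ Qs, x * u * x⁻¹ * u⁻¹ ∈ Subgroup.zpowers c → u ∈ Subgroup.zpowers c)
    (hcV : c ∉ centralizer (V : Set G)) (hxfix : V ⊓ centralizer ({x} : Set G) = ⊥) :
    Nat.card Qs ≤ q * (r - 1) ^ 2 := by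
  obtain ⟨hVc, hVp⟩ := hV
  have : IsMulCommutative ↥V := hVc
  let _inst : Module (ZMod p) (Additive ↥V) := AddCommGroup.zmodModule (additive_exp V hVp)
  exact core_group_aux hq hr hpq hpr V Qs x c hQV hxV hcQ hQq hxr hxQ hcq hcZ hxc hcomm hnd hfpf
    hcV hxfix

/-- an element of `p`-power order normalising `A`: `|A| ≡ |C_A(c)| mod p` -/
theorem card_modEq_card_centralizer [Finite G] {p : ℕ} [hp : Fact p.Prime] (A : Subgroup G) (c : G)
    (hcp : c ^ p = 1) (hcA : c ∈ normalizer (A : Set G)) :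
    Nat.card ↥A ≡ Nat.card ↥(A ⊓ centralizer ({c} : Set G)) [MOD p] := by
  classical
  set K : Subgroup G := zpowers c with hK
  have hKA : K ≤ normalizer (A : Set G) := by
    rw [hK, zpowers_le]; exact hcA
  have hKp : IsPGroup p K := by
    intro k
    refine ⟨1, ?_⟩
    obtain ⟨k, hk⟩ := k
    obtain ⟨m, rfl⟩ := Subgroup.mem_zpowers_iff.mp hk
    apply Subtype.ext
    simp only [pow_one, Subgroup.coe_pow, Subgroup.coe_one]
    rw [← zpow_natCast, ← zpow_mul, mul_comm, zpow_mul, zpow_natCast, hcp, one_zpow]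
  let _ : MulAction ↥K ↥A :=
    { smul := fun k a => ⟨(k : G) * a * (k : G)⁻¹, (Subgroup.mem_normalizer_iff.mp (hKA k.2) a).mp a.2⟩
      one_smul := by
        intro a
        apply Subtype.ext
        show ((1 : K) : G) * a * ((1 : K) : G)⁻¹ = a
        simp
      mul_smul := by
        intro k l a
        apply Subtype.ext
        show ((k * l : K) : G) * a * ((k * l : K) : G)⁻¹ = (k : G) * ((l : G) * a * (l : G)⁻¹) * (k : G)⁻¹
        simp only [Subgroup.coe_mul, mul_inv_rev]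
        group }
  have hsmul : ∀ (k : ↥K) (a : ↥A), ((k • a : ↥A) : G) = (k : G) * a * (k : G)⁻¹ := fun _ _ => rfl
  have h1 := hKp.card_modEq_card_fixedPoints ↥A
  have h2 : Nat.card (MulAction.fixedPoints ↥K ↥A) = Nat.card ↥(A ⊓ centralizer ({c} : Set G)) := by
    apply Nat.card_congr
    refine
      { toFun := fun t => ⟨((t : ↥A) : G), (t : ↥A).2, ?_⟩
        invFun := fun b => ⟨⟨(b : G), b.2.1⟩, ?_⟩
        left_inv := fun t => rfl
        right_inv := fun b => rfl }
    · have ht := t.2 ⟨c, Subgroup.mem_zpowers c⟩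
      have h3 : c * ((t : ↥A) : G) * c⁻¹ = ((t : ↥A) : G) := by
        have := congrArg (fun u : ↥A => (u : G)) ht
        simpa [hsmul] using this
      show ((t : ↥A) : G) ∈ centralizer ({c} : Set G)
      rw [Subgroup.mem_centralizer_singleton_iff]
      calc ((t : ↥A) : G) * c = (c * ((t : ↥A) : G) * c⁻¹) * c := by rw [h3]
        _ = c * ((t : ↥A) : G) := by group
    · intro k
      apply Subtype.ext
      rw [hsmul]
      obtain ⟨k, hk⟩ := k
      have hb : (b : G) ∈ centralizer ((zpowers c : Subgroup G) : Set G) := by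
        rw [Subgroup.zpowers_eq_closure, Subgroup.centralizer_closure]
        exact b.2.2
      have h4 : k * (b : G) = (b : G) * k := (Subgroup.mem_centralizer_iff.mp hb) k hk
      show k * (b : G) * k⁻¹ = (b : G)
      rw [h4]; group
  rw [h2] at h1
  exact h1

end Cfsg.Agent.Helper48.SympRep
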