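import Mathlib
import Cfsg.Prelude.Def_Transfer
import Cfsg.Agent.Lib.Helper48.SympRep2
import Cfsg.Agent.Lib.Helper48.SympRepGroup
import Cfsg.Agent.Lib.Helper48.FrobSum

/-!
# Group form of the second `SympRep` core (`core2_K`)
-/

set_option autoImplicit false

namespace Cfsg.Agent.Helper48.SympRep

open Subgroup Cfsg.Agent.Helper48.NormDecomp
open scoped IsMulCommutative

section CoreZMod2

open TensorProduct

theorem core2_zmod {p : ℕ} [Fact p.Prime] {W : Type*} [AddCommGroup W] [Module (ZMod p) W] [Finite W]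
    {Γ : Type*} [Group Γ] (φ : Γ →* Module.End (ZMod p) W) (Qs : Subgroup Γ) [Finite Qs]
    (x : Γ) {q r : ℕ} (hq : q.Prime) (hr : r.Prime) (hpq : p ≠ q) (hpr : p ≠ r)
    (hQq : IsPGroup q Qs) (hxr : x ^ r = 1) (hxQ : ∀ u ∈ Qs, x * u * x⁻¹ ∈ Qs)
    (U : Subgroup Γ) (hUQ : U ≤ Qs) (hUZ : ∀ c ∈ U, ∀ γ : Γ, γ * c = c * γ)
    (hcomm : ∀ u ∈ Qs, ∀ w ∈ Qs, u * w * u⁻¹ * w⁻¹ ∈ U)
    (hmin : ∀ Y : Subgroup Γ, Y ≤ Qs → (∀ u ∈ Y, x * u * x⁻¹ ∈ Y) → Y ≠ Qs → Y ≤ U)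
    (hfpf : ∀ u ∈ Qs, x * u * x⁻¹ * u⁻¹ ∈ U → u ∈ U)
    (u₁ w₁ : Γ) (hu₁ : u₁ ∈ Qs) (hw₁ : w₁ ∈ Qs) (ht : φ (u₁ * w₁ * u₁⁻¹ * w₁⁻¹) ≠ 1)
    (hxW : ∀ w : W, φ x w = w → w = 0) :
    ∃ m : ℕ, Nat.card Qs = Nat.card U * m ^ 2 ∧ m ^ 2 ≤ (r - 1) ^ 2 := by
  classical
  let K := AlgebraicClosure (ZMod p)
  have hp : p.Prime := Fact.out
  let bc : Module.End (ZMod p) W →ₐ[ZMod p] Module.End K (K ⊗[ZMod p] W) :=
    Module.End.baseChangeHom (ZMod p) K W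
  let ψ : Γ →* Module.End K (K ⊗[ZMod p] W) := (MonoidHomClass.toMonoidHom bc).comp φ
  have hψ : ∀ γ, ψ γ = bc (φ γ) := fun γ => rfl
  have hbcinj : Function.Injective bc := LinearMap.baseChangeHom_injective (ZMod p) W K
  have hqK : ((q : ℕ) : K) ≠ 0 := by
    rw [Ne, CharP.cast_eq_zero_iff K p q]
    intro hdvd
    exact hpq ((Nat.prime_dvd_prime_iff_eq hp hq).mp hdvd)
  have hrK : ((r : ℕ) : K) ≠ 0 := by
    rw [Ne, CharP.cast_eq_zero_iff K p r]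
    intro hdvd
    exact hpr ((Nat.prime_dvd_prime_iff_eq hp hr).mp hdvd)
  have htM : ψ (u₁ * w₁ * u₁⁻¹ * w₁⁻¹) ≠ 1 := by
    intro h1
    apply ht
    apply hbcinj
    rw [← hψ, h1, map_one]
  have hxM : ∀ m : K ⊗[ZMod p] W, ψ x m = m → m = 0 := by
    let T : Module.End (ZMod p) W := φ x - 1
    have hinj : Function.Injective T := by
      rw [← LinearMap.ker_eq_bot, LinearMap.ker_eq_bot']
      intro w hw
      apply hxW
      have : φ x w - w = 0 := hw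
      exact sub_eq_zero.mp this
    have hbij : Function.Bijective T := Finite.injective_iff_bijective.mp hinj
    have hunit : IsUnit T := (Module.End.isUnit_iff _).mpr hbij
    have hunit' : IsUnit (bc T) := hunit.map bc
    have hbij' := (Module.End.isUnit_iff _).mp hunit'
    intro m hm
    apply hbij'.1
    have hT : bc T = ψ x - 1 := by
      show bc (φ x - 1) = ψ x - 1
      rw [map_sub, map_one, hψ]
    rw [hT, map_zero]
    show ψ x m - m = 0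
    rw [hm, sub_self]
  exact core2_K ψ Qs x hq hr hqK hrK hQq hxr hxQ U hUQ hUZ hcomm hmin hfpf u₁ w₁ hu₁ hw₁ htM hxM

end CoreZMod2

variable {G : Type*} [Group G]

theorem core2_group_aux [Finite G] {p q r : ℕ} [Fact p.Prime] (hq : q.Prime) (hr : r.Prime)
    (hpq : p ≠ q) (hpr : p ≠ r) (V Qs : Subgroup G) [IsMulCommutative ↥V]
    [Module (ZMod p) (Additive ↥V)] (x : G)
    (hQV : Qs ≤ normalizer (V : Set G))
    (hxV : x ∈ normalizer (V : Set G)) (hQq : IsPGroup q Qs)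
    (hxr : x ^ r = 1) (hxQ : ∀ u ∈ Qs, x * u * x⁻¹ ∈ Qs)
    (U : Subgroup G) (hUQ : U ≤ Qs) (hUZ : ∀ c ∈ U, ∀ u ∈ Qs, u * c = c * u)
    (hUx : ∀ c ∈ U, x * c = c * x)
    (hcomm : ∀ u ∈ Qs, ∀ w ∈ Qs, u * w * u⁻¹ * w⁻¹ ∈ U)
    (hmin : ∀ Y : Subgroup G, Y ≤ Qs → (∀ u ∈ Y, x * u * x⁻¹ ∈ Y) → Y ≠ Qs → Y ≤ U)
    (hfpf : ∀ u ∈ Qs, x * u * x⁻¹ * u⁻¹ ∈ U → u ∈ U)
    (u₁ w₁ : G) (hu₁ : u₁ ∈ Qs) (hw₁ : w₁ ∈ Qs)
    (ht : u₁ * w₁ * u₁⁻¹ * w₁⁻¹ ∉ centralizer (V : Set G))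
    (hxfix : V ⊓ centralizer ({x} : Set G) = ⊥) :
    ∃ m : ℕ, Nat.card Qs = Nat.card U * m ^ 2 ∧ m ^ 2 ≤ (r - 1) ^ 2 := by
  -- the ambient group: normaliser of `V` intersected with the centraliser of `U`
  let H : Subgroup G := normalizer (V : Set G) ⊓ centralizer (U : Set G)
  have hHN : H ≤ normalizer (V : Set G) := inf_le_left
  have hQH : Qs ≤ H := by
    intro u hu
    refine ⟨hQV hu, ?_⟩
    show u ∈ centralizer (U : Set G)
    rw [Subgroup.mem_centralizer_iff]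
    intro c hc
    exact (hUZ c hc u hu).symm
  have hxH : x ∈ H := by
    refine ⟨hxV, ?_⟩
    show x ∈ centralizer (U : Set G)
    rw [Subgroup.mem_centralizer_iff]
    intro c hc
    exact (hUx c hc).symm
  have hUH : U ≤ H := hUQ.trans hQH
  let φ : ↥H →* Module.End (ZMod p) (Additive ↥V) := (zmodRep V).comp (Subgroup.inclusion hHN)
  have hφ : ∀ (g : ↥H) (v : Additive ↥V), φ g v =
      conjEndHom V (Subgroup.inclusion hHN g) v := fun g v => rfl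
  have : Finite (Additive ↥V) := inferInstanceAs (Finite ↥V)
  let Qs' : Subgroup ↥H := Qs.subgroupOf H
  let U' : Subgroup ↥H := U.subgroupOf H
  let x' : ↥H := ⟨x, hxH⟩
  have hcard : Nat.card Qs' = Nat.card Qs :=
    Nat.card_congr (Subgroup.subgroupOfEquivOfLe hQH).toEquiv
  have hcardU : Nat.card U' = Nat.card U :=
    Nat.card_congr (Subgroup.subgroupOfEquivOfLe hUH).toEquiv
  rw [← hcard, ← hcardU]
  have hQq' : IsPGroup q Qs' :=
    hQq.of_equiv (Subgroup.subgroupOfEquivOfLe hQH).symm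
  refine core2_zmod φ Qs' x' hq hr hpq hpr hQq' ?_ ?_ U' ?_ ?_ ?_ ?_ ?_
    ⟨u₁, hQH hu₁⟩ ⟨w₁, hQH hw₁⟩ hu₁ hw₁ ?_ ?_
  · exact Subtype.ext (by simpa using hxr)
  · intro u hu
    exact hxQ u.1 hu
  · intro u hu
    exact hUQ hu
  · intro c hc γ
    apply Subtype.ext
    have h1 : (γ : G) ∈ centralizer (U : Set G) := γ.2.2
    exact ((Subgroup.mem_centralizer_iff.mp h1) c.1 hc).symm
  · intro u hu w hw
    exact hcomm u.1 hu w.1 hw
  · intro Y' hY'Q hY'x hY'ne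
    let Y : Subgroup G := Y'.map H.subtype
    have hYQ : Y ≤ Qs := by
      rintro _ ⟨y, hy, rfl⟩
      exact hY'Q hy
    have hYx : ∀ u ∈ Y, x * u * x⁻¹ ∈ Y := by
      rintro _ ⟨y, hy, rfl⟩
      exact ⟨x' * y * x'⁻¹, hY'x y hy, rfl⟩
    have hYne : Y ≠ Qs := by
      intro hY
      apply hY'ne
      ext y
      constructor
      · intro hy
        exact hY'Q hy
      · intro hy
        have h1 : (y : G) ∈ Y := by rw [hY]; exact hy
        obtain ⟨y', hy', hyy⟩ := h1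
        have : y' = y := Subtype.ext hyy
        rw [← this]
        exact hy'
    have hYU := hmin Y hYQ hYx hYne
    intro y hy
    exact hYU ⟨y, hy, rfl⟩
  · intro u hu h
    exact hfpf u.1 hu h
  · intro h1
    apply ht
    rw [Subgroup.mem_centralizer_iff]
    intro v hv
    have h2 := LinearMap.congr_fun h1 (Additive.ofMul (⟨v, hv⟩ : ↥V))
    rw [hφ, Module.End.one_apply, conjEndHom_fix_iff, Subgroup.mem_centralizer_singleton_iff] at h2
    exact h2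
  · intro w hw
    induction w using Additive.rec with
    | ofMul a =>
      rw [hφ, conjEndHom_fix_iff] at hw
      have h1 : (a : G) ∈ V ⊓ centralizer ({x} : Set G) := ⟨a.2, hw⟩
      rw [hxfix, Subgroup.mem_bot] at h1
      have : a = 1 := Subtype.ext h1
      rw [this]
      rfl

theorem core2_group [Finite G] {p q r : ℕ} [Fact p.Prime] (hq : q.Prime) (hr : r.Prime)
    (hpq : p ≠ q) (hpr : p ≠ r) (V Qs : Subgroup G) (x : G)
    (hV : Cfsg.IsElementaryAbelian p V) (hQV : Qs ≤ normalizer (V : Set G))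
    (hxV : x ∈ normalizer (V : Set G)) (hQq : IsPGroup q Qs)
    (hxr : x ^ r = 1) (hxQ : ∀ u ∈ Qs, x * u * x⁻¹ ∈ Qs)
    (U : Subgroup G) (hUQ : U ≤ Qs) (hUZ : ∀ c ∈ U, ∀ u ∈ Qs, u * c = c * u)
    (hUx : ∀ c ∈ U, x * c = c * x)
    (hcomm : ∀ u ∈ Qs, ∀ w ∈ Qs, u * w * u⁻¹ * w⁻¹ ∈ U)
    (hmin : ∀ Y : Subgroup G, Y ≤ Qs → (∀ u ∈ Y, x * u * x⁻¹ ∈ Y) → Y ≠ Qs → Y ≤ U)
    (hfpf : ∀ u ∈ Qs, x * u * x⁻¹ * u⁻¹ ∈ U → u ∈ U)
    (u₁ w₁ : G) (hu₁ : u₁ ∈ Qs) (hw₁ : w₁ ∈ Qs)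
    (ht : u₁ * w₁ * u₁⁻¹ * w₁⁻¹ ∉ centralizer (V : Set G))
    (hxfix : V ⊓ centralizer ({x} : Set G) = ⊥) :
    ∃ m : ℕ, Nat.card Qs = Nat.card U * m ^ 2 ∧ m ^ 2 ≤ (r - 1) ^ 2 := by
  obtain ⟨hVc, hVp⟩ := hV
  have : IsMulCommutative ↥V := hVc
  let _inst : Module (ZMod p) (Additive ↥V) := AddCommGroup.zmodModule (additive_exp V hVp)
  exact core2_group_aux hq hr hpq hpr V Qs x hQV hxV hQq hxr hxQ U hUQ hUZ hUx hcomm hmin hfpf
    u₁ w₁ hu₁ hw₁ ht hxfix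


theorem frob_group_aux [Finite G] {p q r : ℕ} [Fact p.Prime] (hq : q.Prime) (hr : r.Prime)
    (hpq : p ≠ q) (V A : Subgroup G) [IsMulCommutative ↥V]
    [Module (ZMod p) (Additive ↥V)] (x : G)
    (hAV : A ≤ normalizer (V : Set G))
    (hxV : x ∈ normalizer (V : Set G)) (hAq : IsPGroup q A)
    (hxr : x ^ r = 1) (hxA : ∀ u ∈ A, x * u * x⁻¹ ∈ A)
    (hAc : ∀ u ∈ A, ∀ w ∈ A, u * w = w * u)
    (hxfix : V ⊓ centralizer ({x} : Set G) = ⊥) :
    ∀ a ∈ A, a * x * a⁻¹ * x⁻¹ ∈ centralizer (V : Set G) := by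
  have hp : p.Prime := Fact.out
  let φ : ↥(normalizer (V : Set G)) →* Module.End (ZMod p) (Additive ↥V) := zmodRep V
  have hφ : ∀ (g : ↥(normalizer (V : Set G))) (v : Additive ↥V), φ g v = conjEndHom V g v :=
    fun g v => rfl
  let A' : Subgroup ↥(normalizer (V : Set G)) := A.subgroupOf (normalizer (V : Set G))
  let x' : ↥(normalizer (V : Set G)) := ⟨x, hxV⟩
  have hcard : Nat.card A' = Nat.card A :=
    Nat.card_congr (Subgroup.subgroupOfEquivOfLe hAV).toEquiv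
  have hAR : ((Nat.card A' : ℕ) : ZMod p) ≠ 0 := by
    have : Fact q.Prime := ⟨hq⟩
    obtain ⟨n, hn⟩ := IsPGroup.iff_card.mp hAq
    rw [hcard, hn, Nat.cast_pow]
    apply pow_ne_zero
    rw [Ne, ZMod.natCast_eq_zero_iff]
    intro hdvd
    exact hpq ((Nat.prime_dvd_prime_iff_eq hp hq).mp hdvd)
  have hfin : Finite A' := Nat.finite_of_card_ne_zero (by rw [hcard]; exact Nat.card_pos.ne')
  have key := FrobSum.frob_sum φ A' x' hr (Subtype.ext (by simpa using hxr))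
    (fun u hu => hxA u.1 hu) (fun u hu w hw => Subtype.ext (hAc u.1 hu w.1 hw)) hAR ?_
  · intro a ha
    have h1 := key ⟨a, hAV ha⟩ ha
    rw [Subgroup.mem_centralizer_iff]
    intro v hv
    have h2 := LinearMap.congr_fun h1 (Additive.ofMul (⟨v, hv⟩ : ↥V))
    rw [hφ, Module.End.one_apply, conjEndHom_fix_iff, Subgroup.mem_centralizer_singleton_iff] at h2
    exact h2
  · intro w hw
    induction w using Additive.rec with
    | ofMul a =>
      rw [hφ, conjEndHom_fix_iff] at hw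
      have h1 : (a : G) ∈ V ⊓ centralizer ({x} : Set G) := ⟨a.2, hw⟩
      rw [hxfix, Subgroup.mem_bot] at h1
      have : a = 1 := Subtype.ext h1
      rw [this]
      rfl

/-- Frobenius-type lemma: an abelian `q`-group `A` normalised by `x` of prime order `r`, both
normalising the elementary abelian `p`-group `V`, with `C_V(x) = 1`: then `[A, x]` centralises `V`. -/
theorem frob_group [Finite G] {p q r : ℕ} [Fact p.Prime] (hq : q.Prime) (hr : r.Prime)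
    (hpq : p ≠ q) (V A : Subgroup G) (x : G)
    (hV : Cfsg.IsElementaryAbelian p V) (hAV : A ≤ normalizer (V : Set G))
    (hxV : x ∈ normalizer (V : Set G)) (hAq : IsPGroup q A)
    (hxr : x ^ r = 1) (hxA : ∀ u ∈ A, x * u * x⁻¹ ∈ A)
    (hAc : ∀ u ∈ A, ∀ w ∈ A, u * w = w * u)
    (hxfix : V ⊓ centralizer ({x} : Set G) = ⊥) :
    ∀ a ∈ A, a * x * a⁻¹ * x⁻¹ ∈ centralizer (V : Set G) := by
  obtain ⟨hVc, hVp⟩ := hV
  have : IsMulCommutative ↥V := hVc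
  let _inst : Module (ZMod p) (Additive ↥V) := AddCommGroup.zmodModule (additive_exp V hVp)
  exact frob_group_aux hq hr hpq V A x hAV hxV hAq hxr hxA hAc hxfix

end Cfsg.Agent.Helper48.SympRep
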