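import Mathlib
import Cfsg.Prelude.Def_Transfer
import Cfsg.Agent.Lib.Helper48.SympRep2Group

/-!
# Coprime Hall–Higman type theorem, general (not necessarily faithful) form

`key_gen`: `x` of prime order `r` normalising a `q`-group `Q`, both normalising an elementary abelian
`p`-group `V` with `C_V(x) = 1` (`p, q, r` distinct; if `q = 2` and `r` is a Fermat prime assume `Q`
abelian): then `[Q, x]` centralises `V`.
-/

set_option autoImplicit false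

namespace Cfsg.Agent.Helper48.HHC

open Subgroup Cfsg.Agent.Helper48.SympRep Cfsg.Agent.Helper48.NormDecomp
open scoped commutatorElement IsMulCommutative

/-- arithmetic end game -/
lemma arith {q r n : ℕ} (hq : q.Prime) (hr : r.Prime) (hqr : q ≠ r) (hn : 1 ≤ n)
    (h1 : q ^ (2 * n + 1) ≤ q * (r - 1) ^ 2) (h2 : q ^ (2 * n + 1) ≡ q [MOD r]) :
    q = 2 ∧ r = 2 ^ n + 1 := by
  have hq2 : 2 ≤ q := hq.two_le
  have hr2 : 2 ≤ r := hr.two_le
  have h3 : (q ^ n) ^ 2 ≤ (r - 1) ^ 2 := by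
    have : q ^ (2 * n + 1) = q * (q ^ n) ^ 2 := by ring
    rw [this] at h1
    exact Nat.le_of_mul_le_mul_left h1 hq.pos
  have h4 : q ^ n ≤ r - 1 := (Nat.pow_le_pow_iff_left (by norm_num)).mp h3
  have hqn : 2 ≤ q ^ n := by
    calc 2 ≤ q := hq2
      _ = q ^ 1 := (pow_one q).symm
      _ ≤ q ^ n := Nat.pow_le_pow_right hq.pos hn
  have h5 : r ∣ q ^ (2 * n + 1) - q := (Nat.modEq_iff_dvd' (by
    calc q = q ^ 1 := (pow_one q).symm
      _ ≤ q ^ (2 * n + 1) := Nat.pow_le_pow_right hq.pos (by omega))).mp h2.symm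
  have h6 : q ^ (2 * n + 1) - q = q * ((q ^ n - 1) * (q ^ n + 1)) := by
    have h7 : (q ^ n - 1) * (q ^ n + 1) = (q ^ n) ^ 2 - 1 := by
      obtain ⟨m, hm⟩ : ∃ m, q ^ n = m + 1 := ⟨q ^ n - 1, by omega⟩
      rw [hm]
      simp only [Nat.add_sub_cancel]
      have : (m + 1) ^ 2 = m * (m + 1 + 1) + 1 := by ring
      rw [this, Nat.add_sub_cancel]
    rw [h7, Nat.mul_sub, mul_one]
    congr 1
    ring
  rw [h6] at h5
  have h8 : r ∣ (q ^ n - 1) * (q ^ n + 1) := by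
    rcases (Nat.Prime.dvd_mul hr).mp h5 with h | h
    · exact absurd ((Nat.prime_dvd_prime_iff_eq hr hq).mp h).symm hqr
    · exact h
  have h9 : r ∣ q ^ n + 1 := by
    rcases (Nat.Prime.dvd_mul hr).mp h8 with h | h
    · exfalso
      have := Nat.le_of_dvd (by omega) h
      omega
    · exact h
  have h10 : r = q ^ n + 1 := by
    have := Nat.le_of_dvd (by omega) h9
    omega
  have hq2' : q = 2 := by
    by_contra hne
    have hqodd : Odd q := hq.odd_of_ne_two hne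
    have : Odd (q ^ n) := hqodd.pow
    have hreven : Even r := by
      rw [h10]
      exact this.add_one
    have : r = 2 := (Nat.Prime.even_iff hr).mp hreven
    omega
  exact ⟨hq2', by rw [h10, hq2']⟩

/-- the commutator subgroup of a nontrivial finite `q`-subgroup is proper -/
lemma commutator_lt {G : Type*} [Group G] {q : ℕ} [Fact q.Prime] (H : Subgroup G) [Finite H]
    (hH : IsPGroup q H) (hne : H ≠ ⊥) : ⁅H, H⁆ < H := by
  have : Group.IsNilpotent H := hH.isNilpotent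
  have : Nontrivial H := (Subgroup.nontrivial_iff_ne_bot H).mpr hne
  have h := Group.IsSolvable.commutator_lt_top_of_nontrivial H
  rw [← H.range_subtype, MonoidHom.range_eq_map, ← Subgroup.map_commutator,
    Subgroup.map_subtype_lt_map_subtype]
  exact h


/-- structure of a minimal `x`-invariant subgroup not centralised by `x` -/
theorem minimal_structure {G : Type*} [Group G] [Finite G] {q r : ℕ} (hq : q.Prime) (hr : r.Prime)
    (hqr : q ≠ r) (x : G) (Q : Subgroup G) (hxr : x ^ r = 1) (hQ : IsPGroup q Q)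
    (hxQ : ∀ u ∈ Q, x * u * x⁻¹ ∈ Q) (hxnc : ∃ u ∈ Q, x * u ≠ u * x) :
    ∃ Q₁ : Subgroup G, Q₁ ≤ Q ∧ (∀ u ∈ Q₁, x * u * x⁻¹ ∈ Q₁) ∧ (∃ u ∈ Q₁, x * u ≠ u * x) ∧
      (∀ Y : Subgroup G, Y ≤ Q₁ → (∀ u ∈ Y, x * u * x⁻¹ ∈ Y) → Y ≠ Q₁ →
        Y ≤ Q₁ ⊓ centralizer ({x} : Set G)) ∧
      (∀ u ∈ Q₁, x * u * x⁻¹ * u⁻¹ ∈ Q₁ ⊓ centralizer ({x} : Set G) →
        u ∈ Q₁ ⊓ centralizer ({x} : Set G)) ∧
      (∀ u ∈ Q₁, ∀ w ∈ Q₁, u * w * u⁻¹ * w⁻¹ ∈ Q₁ ⊓ centralizer ({x} : Set G)) ∧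
      (∀ c ∈ Q₁ ⊓ centralizer ({x} : Set G), ∀ u ∈ Q₁, u * c = c * u) := by
  classical
  have : Fact q.Prime := ⟨hq⟩
  have : Fact r.Prime := ⟨hr⟩
  -- minimal x-invariant subgroup not centralised by x
  let P : Subgroup G → Prop := fun Y =>
    Y ≤ Q ∧ (∀ u ∈ Y, x * u * x⁻¹ ∈ Y) ∧ ∃ u ∈ Y, x * u ≠ u * x
  have hex : ∃ n, ∃ Y, P Y ∧ Nat.card Y = n := ⟨_, Q, ⟨le_rfl, hxQ, hxnc⟩, rfl⟩
  obtain ⟨Q₁, ⟨hQ₁Q, hxQ₁, hQ₁nc⟩, hQ₁n⟩ := Nat.find_spec hex
  have hminP : ∀ Y, P Y → Y ≤ Q₁ → Y = Q₁ := by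
    intro Y hY hle
    have h1 : Nat.find hex ≤ Nat.card Y := Nat.find_min' hex ⟨Y, hY, rfl⟩
    exact Subgroup.eq_of_le_of_card_ge hle (by rw [hQ₁n]; exact h1)
  set U : Subgroup G := Q₁ ⊓ centralizer ({x} : Set G) with hU
  have hUmem : ∀ u, u ∈ U ↔ u ∈ Q₁ ∧ u * x = x * u := by
    intro u
    rw [hU, Subgroup.mem_inf, Subgroup.mem_centralizer_singleton_iff]
  have hUQ₁ : U ≤ Q₁ := inf_le_left
  have hUx : ∀ c ∈ U, x * c = c * x := fun c hc => ((hUmem c).mp hc).2.symm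
  have hmin : ∀ Y : Subgroup G, Y ≤ Q₁ → (∀ u ∈ Y, x * u * x⁻¹ ∈ Y) → Y ≠ Q₁ → Y ≤ U := by
    intro Y hYQ hYx hYne
    by_contra hnot
    obtain ⟨u, huY, huU⟩ := SetLike.not_le_iff_exists.mp hnot
    apply hYne
    apply hminP Y ⟨hYQ.trans hQ₁Q, hYx, u, huY, ?_⟩ hYQ
    intro hxu
    apply huU
    rw [hUmem]
    exact ⟨hYQ huY, hxu.symm⟩
  have hQ₁q : IsPGroup q Q₁ := hQ.to_le hQ₁Q
  -- (F2)
  have hfpf : ∀ u ∈ Q₁, x * u * x⁻¹ * u⁻¹ ∈ U → u ∈ U := by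
    intro u hu hmem
    obtain ⟨c, hc⟩ : ∃ c, c = x * u * x⁻¹ * u⁻¹ := ⟨_, rfl⟩
    rw [← hc] at hmem
    obtain ⟨hcQ, hcx⟩ := (hUmem c).mp hmem
    have hconj : x * u * x⁻¹ = c * u := by rw [hc]; group
    have hxck : ∀ j : ℕ, x * c ^ j = c ^ j * x := by
      intro j
      induction j with
      | zero => simp
      | succ j ih => rw [pow_succ, ← mul_assoc, ih, mul_assoc, ← hcx, ← mul_assoc]
    have hiter : ∀ i : ℕ, x ^ i * u * (x ^ i)⁻¹ = c ^ i * u := by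
      intro i
      induction i with
      | zero => simp
      | succ i ih =>
        have e1 : x ^ (i + 1) * u * (x ^ (i + 1))⁻¹ = x * (x ^ i * u * (x ^ i)⁻¹) * x⁻¹ := by
          rw [pow_succ']; group
        rw [e1, ih]
        have e2 : x * (c ^ i * u) * x⁻¹ = (x * c ^ i) * x⁻¹ * (x * u * x⁻¹) := by group
        rw [e2, hxck, hconj, pow_succ]
        group
    have h1 := hiter r
    rw [hxr] at h1
    have h2 : c ^ r = 1 := by
      have : (1 : G) * u * (1 : G)⁻¹ = u := by group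
      rw [this] at h1
      exact (mul_eq_right (a := c ^ r) (b := u)).mp h1.symm
    obtain ⟨k, hk⟩ := hQ₁q ⟨c, hcQ⟩
    have hk' : c ^ (q ^ k) = 1 := by
      have := congrArg Subtype.val hk
      simpa using this
    have hc1 : c = 1 := by
      have hd1 : orderOf c ∣ r := orderOf_dvd_of_pow_eq_one h2
      have hd2 : orderOf c ∣ q ^ k := orderOf_dvd_of_pow_eq_one hk'
      have hcop : Nat.Coprime r (q ^ k) :=
        Nat.Coprime.pow_right k ((Nat.coprime_primes hr hq).mpr hqr.symm)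
      have h3 : orderOf c ∣ Nat.gcd r (q ^ k) := Nat.dvd_gcd hd1 hd2
      rw [Nat.Coprime.gcd_eq_one hcop] at h3
      exact orderOf_eq_one_iff.mp (Nat.dvd_one.mp h3)
    rw [hc1, one_mul] at hconj
    rw [hUmem]
    refine ⟨hu, ?_⟩
    calc u * x = (x * u * x⁻¹) * x := by rw [hconj]
      _ = x * u := by group
  -- (F3)
  have hQ₁ne : Q₁ ≠ ⊥ := by
    intro h
    obtain ⟨u, hu, hne⟩ := hQ₁nc
    rw [h, Subgroup.mem_bot] at hu
    apply hne
    rw [hu]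
    simp
  have hcomm : ∀ u ∈ Q₁, ∀ w ∈ Q₁, u * w * u⁻¹ * w⁻¹ ∈ U := by
    have hD := commutator_lt Q₁ hQ₁q hQ₁ne
    have hDU : ⁅Q₁, Q₁⁆ ≤ U := by
      apply hmin _ hD.le _ hD.ne
      have hle : ⁅Q₁, Q₁⁆ ≤ (⁅Q₁, Q₁⁆).comap (MulAut.conj x).toMonoidHom := by
        rw [Subgroup.commutator_le]
        intro g₁ h₁ g₂ h₂
        rw [Subgroup.mem_comap]
        have e1 : (MulAut.conj x).toMonoidHom ⁅g₁, g₂⁆ = ⁅x * g₁ * x⁻¹, x * g₂ * x⁻¹⁆ := by
          rw [commutatorElement_def, commutatorElement_def]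
          simp only [MulEquiv.coe_toMonoidHom, MulAut.conj_apply]
          group
        rw [e1]
        exact Subgroup.commutator_mem_commutator (hxQ₁ _ h₁) (hxQ₁ _ h₂)
      intro d hd
      have := hle hd
      simpa [MulAut.conj_apply] using this
    intro u hu w hw
    have := hDU (Subgroup.commutator_mem_commutator hu hw)
    rwa [commutatorElement_def] at this
  -- (F4)
  have hUnorm : ∀ c ∈ U, ∀ u ∈ Q₁, u * c * u⁻¹ ∈ U := by
    intro c hc u hu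
    have h1 := hcomm u hu c (hUQ₁ hc)
    have : u * c * u⁻¹ = (u * c * u⁻¹ * c⁻¹) * c := by group
    rw [this]
    exact U.mul_mem h1 hc
  have hUZ : ∀ c ∈ U, ∀ u ∈ Q₁, u * c = c * u := by
    let Y : Subgroup G := Q₁ ⊓ centralizer (U : Set G)
    have hYmem : ∀ y, y ∈ Y ↔ y ∈ Q₁ ∧ ∀ c ∈ U, c * y = y * c := by
      intro y
      show y ∈ Q₁ ⊓ centralizer (U : Set G) ↔ _
      rw [Subgroup.mem_inf, Subgroup.mem_centralizer_iff]
      rfl
    have hYx : ∀ y ∈ Y, x * y * x⁻¹ ∈ Y := by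
      intro y hy
      rw [hYmem] at hy ⊢
      refine ⟨hxQ₁ y hy.1, ?_⟩
      intro c hc
      have hcx := ((hUmem c).mp hc).2
      have hcy := hy.2 c hc
      have hcx' : c * x⁻¹ = x⁻¹ * c := by
        calc c * x⁻¹ = x⁻¹ * (x * c) * x⁻¹ := by group
          _ = x⁻¹ * (c * x) * x⁻¹ := by rw [hcx]
          _ = x⁻¹ * c := by group
      calc c * (x * y * x⁻¹) = (c * x) * y * x⁻¹ := by group
        _ = x * (c * y) * x⁻¹ := by rw [hcx]; group
        _ = x * y * (c * x⁻¹) := by rw [hcy]; group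
        _ = x * y * x⁻¹ * c := by rw [hcx']; group
    by_cases hY : Y = Q₁
    · intro c hc u hu
      have : u ∈ Y := by rw [hY]; exact hu
      exact (((hYmem u).mp this).2 c hc).symm
    · exfalso
      have hYU : Y ≤ U := hmin Y inf_le_left hYx hY
      obtain ⟨u, hu, hne⟩ := hQ₁nc
      apply hne
      have huU : u ∈ U := by
        apply hfpf u hu
        have hz : u⁻¹ * (x * u * x⁻¹) ∈ Y := by
          rw [hYmem]
          refine ⟨Q₁.mul_mem (Q₁.inv_mem hu) (hxQ₁ u hu), ?_⟩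
          intro c hc
          have hcx := ((hUmem c).mp hc).2
          have hc' := hUnorm c hc u hu
          have hc'x := ((hUmem _).mp hc').2
          have hcx' : c * x⁻¹ = x⁻¹ * c := by
            calc c * x⁻¹ = x⁻¹ * (x * c) * x⁻¹ := by group
              _ = x⁻¹ * (c * x) * x⁻¹ := by rw [hcx]
              _ = x⁻¹ * c := by group
          calc c * (u⁻¹ * (x * u * x⁻¹)) = u⁻¹ * (u * c * u⁻¹ * x) * u * x⁻¹ := by group
            _ = u⁻¹ * (x * (u * c * u⁻¹)) * u * x⁻¹ := by rw [hc'x]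
            _ = u⁻¹ * x * u * (c * x⁻¹) := by group
            _ = u⁻¹ * x * u * (x⁻¹ * c) := by rw [hcx']
            _ = u⁻¹ * (x * u * x⁻¹) * c := by group
        have hzU := hYU hz
        have h3 := hUnorm _ hzU u hu
        have e : u * (u⁻¹ * (x * u * x⁻¹)) * u⁻¹ = x * u * x⁻¹ * u⁻¹ := by group
        rwa [e] at h3
      exact (((hUmem u).mp huU).2).symm
  exact ⟨Q₁, hQ₁Q, hxQ₁, hQ₁nc, hmin, hfpf, hcomm, hUZ⟩

/-- `core2_zmod` with `U` only assumed to commute with `Qs` and `x` -/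
theorem core2_zmod' {p : ℕ} [Fact p.Prime] {W : Type*} [AddCommGroup W] [Module (ZMod p) W]
    [Finite W] {Γ : Type*} [Group Γ] (φ : Γ →* Module.End (ZMod p) W) (Qs : Subgroup Γ) [Finite Qs]
    (x : Γ) {q r : ℕ} (hq : q.Prime) (hr : r.Prime) (hpq : p ≠ q) (hpr : p ≠ r)
    (hQq : IsPGroup q Qs) (hxr : x ^ r = 1) (hxQ : ∀ u ∈ Qs, x * u * x⁻¹ ∈ Qs)
    (U : Subgroup Γ) (hUQ : U ≤ Qs) (hUZ : ∀ c ∈ U, ∀ u ∈ Qs, u * c = c * u)
    (hUx : ∀ c ∈ U, x * c = c * x)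
    (hcomm : ∀ u ∈ Qs, ∀ w ∈ Qs, u * w * u⁻¹ * w⁻¹ ∈ U)
    (hmin : ∀ Y : Subgroup Γ, Y ≤ Qs → (∀ u ∈ Y, x * u * x⁻¹ ∈ Y) → Y ≠ Qs → Y ≤ U)
    (hfpf : ∀ u ∈ Qs, x * u * x⁻¹ * u⁻¹ ∈ U → u ∈ U)
    (u₁ w₁ : Γ) (hu₁ : u₁ ∈ Qs) (hw₁ : w₁ ∈ Qs) (ht : φ (u₁ * w₁ * u₁⁻¹ * w₁⁻¹) ≠ 1)
    (hxW : ∀ w : W, φ x w = w → w = 0) :
    ∃ m : ℕ, Nat.card Qs = Nat.card U * m ^ 2 ∧ m ^ 2 ≤ (r - 1) ^ 2 := by
  let H : Subgroup Γ := centralizer (U : Set Γ)
  have hQH : Qs ≤ H := by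
    intro u hu
    show u ∈ centralizer (U : Set Γ)
    rw [Subgroup.mem_centralizer_iff]
    intro c hc
    exact (hUZ c hc u hu).symm
  have hxH : x ∈ H := by
    show x ∈ centralizer (U : Set Γ)
    rw [Subgroup.mem_centralizer_iff]
    intro c hc
    exact (hUx c hc).symm
  have hUH : U ≤ H := hUQ.trans hQH
  let φ' : ↥H →* Module.End (ZMod p) W := φ.comp H.subtype
  let Qs' : Subgroup ↥H := Qs.subgroupOf H
  let U' : Subgroup ↥H := U.subgroupOf H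
  let x' : ↥H := ⟨x, hxH⟩
  have hcard : Nat.card Qs' = Nat.card Qs :=
    Nat.card_congr (Subgroup.subgroupOfEquivOfLe hQH).toEquiv
  have hcardU : Nat.card U' = Nat.card U :=
    Nat.card_congr (Subgroup.subgroupOfEquivOfLe hUH).toEquiv
  have hfin : Finite Qs' := Nat.finite_of_card_ne_zero (by rw [hcard]; exact Nat.card_pos.ne')
  rw [← hcard, ← hcardU]
  have hQq' : IsPGroup q Qs' :=
    hQq.of_equiv (Subgroup.subgroupOfEquivOfLe hQH).symm
  refine core2_zmod φ' Qs' x' hq hr hpq hpr hQq' ?_ ?_ U' ?_ ?_ ?_ ?_ ?_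
    ⟨u₁, hQH hu₁⟩ ⟨w₁, hQH hw₁⟩ hu₁ hw₁ ht hxW
  · exact Subtype.ext (by simpa using hxr)
  · intro u hu
    exact hxQ u.1 hu
  · intro u hu
    exact hUQ hu
  · intro c hc γ
    apply Subtype.ext
    have h1 : (γ : Γ) ∈ centralizer (U : Set Γ) := γ.2
    exact ((Subgroup.mem_centralizer_iff.mp h1) c.1 hc).symm
  · intro u hu w hw
    exact hcomm u.1 hu w.1 hw
  · intro Y' hY'Q hY'x hY'ne
    let Y : Subgroup Γ := Y'.map H.subtype
    have hYQ : Y ≤ Qs := by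
      rintro _ ⟨y, hy, rfl⟩
      exact hY'Q hy
    have hYx : ∀ u ∈ Y, x * u * x⁻¹ ∈ Y := by
      rintro _ ⟨y, hy, rfl⟩
      exact ⟨x' * y * x'⁻¹, hY'x y hy, rfl⟩
    have hYne : Y ≠ Qs := by
      intro hY
      apply hY'ne
      ext y
      constructor
      · intro hy
        exact hY'Q hy
      · intro hy
        have h1 : (y : Γ) ∈ Y := by rw [hY]; exact hy
        obtain ⟨y', hy', hyy⟩ := h1
        have : y' = y := Subtype.ext hyy
        rw [← this]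
        exact hy'
    have hYU := hmin Y hYQ hYx hYne
    intro y hy
    exact hYU ⟨y, hy, rfl⟩
  · intro u hu h
    exact hfpf u.1 hu h

/-- linear form: a faithful representation -/
theorem key_lin {p q r : ℕ} [Fact p.Prime] (hq : q.Prime) (hr : r.Prime) (hpq : p ≠ q) (hpr : p ≠ r)
    (hqr : q ≠ r) {W : Type*} [AddCommGroup W] [Module (ZMod p) W] [Finite W]
    {Γ : Type*} [Group Γ] [Finite Γ] (φ : Γ →* Module.End (ZMod p) W)
    (hφ : Function.Injective φ) (x : Γ) (Q : Subgroup Γ)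
    (hxr : x ^ r = 1) (hQ : IsPGroup q Q) (hxQ : ∀ u ∈ Q, x * u * x⁻¹ ∈ Q)
    (hxnc : ∃ u ∈ Q, x * u ≠ u * x)
    (hexc : q = 2 → (∃ n : ℕ, r = 2 ^ n + 1) → ∀ u ∈ Q, ∀ w ∈ Q, u * w = w * u)
    (hxW : ∀ w : W, φ x w = w → w = 0) : False := by
  classical
  have hp : p.Prime := Fact.out
  have : Fact q.Prime := ⟨hq⟩
  have : Fact r.Prime := ⟨hr⟩
  obtain ⟨Q₁, hQ₁Q, hxQ₁, hQ₁nc, hmin, hfpf, hcomm, hUZ⟩ :=
    minimal_structure hq hr hqr x Q hxr hQ hxQ hxnc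
  set U : Subgroup Γ := Q₁ ⊓ centralizer ({x} : Set Γ) with hU
  have hUmem : ∀ u, u ∈ U ↔ u ∈ Q₁ ∧ u * x = x * u := by
    intro u
    rw [hU, Subgroup.mem_inf, Subgroup.mem_centralizer_singleton_iff]
  have hUQ₁ : U ≤ Q₁ := inf_le_left
  have hUx : ∀ c ∈ U, x * c = c * x := fun c hc => ((hUmem c).mp hc).2.symm
  have hQ₁q : IsPGroup q Q₁ := hQ.to_le hQ₁Q
  by_cases hab : ∀ u ∈ Q₁, ∀ w ∈ Q₁, u * w = w * u
  · -- abelian case
    have hAR : ((Nat.card Q₁ : ℕ) : ZMod p) ≠ 0 := by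
      obtain ⟨n, hn⟩ := IsPGroup.iff_card.mp hQ₁q
      rw [hn, Nat.cast_pow]
      apply pow_ne_zero
      rw [Ne, ZMod.natCast_eq_zero_iff]
      intro hdvd
      exact hpq ((Nat.prime_dvd_prime_iff_eq hp hq).mp hdvd)
    have h1 := FrobSum.frob_sum φ Q₁ x hr hxr hxQ₁ hab hAR hxW
    obtain ⟨u, hu, hne⟩ := hQ₁nc
    apply hne
    have h2 := h1 u hu
    have h4 : u * x * u⁻¹ * x⁻¹ = 1 := by
      apply hφ
      rw [h2, map_one]
    calc x * u = (u * x * u⁻¹ * x⁻¹)⁻¹ * (u * x) := by group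
      _ = u * x := by rw [h4, inv_one, one_mul]
  · push Not at hab
    obtain ⟨u₁, hu₁, w₁, hw₁, hne⟩ := hab
    have ht : φ (u₁ * w₁ * u₁⁻¹ * w₁⁻¹) ≠ 1 := by
      intro h
      have h3 : u₁ * w₁ * u₁⁻¹ * w₁⁻¹ = 1 := by
        apply hφ
        rw [h, map_one]
      apply hne
      calc u₁ * w₁ = (u₁ * w₁ * u₁⁻¹ * w₁⁻¹) * (w₁ * u₁) := by group
        _ = w₁ * u₁ := by rw [h3, one_mul]
    obtain ⟨m, hm1, hm2⟩ := core2_zmod' φ Q₁ x hq hr hpq hpr hQ₁q hxr hxQ₁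
      U hUQ₁ hUZ hUx hcomm hmin hfpf u₁ w₁ hu₁ hw₁ ht hxW
    -- arithmetic
    have hxN : x ∈ normalizer (Q₁ : Set Γ) :=
      Subgroup.mem_normalizer_fintype (fun n hn => hxQ₁ n hn)
    have hmod : Nat.card Q₁ ≡ Nat.card U [MOD r] := card_modEq_card_centralizer Q₁ x hxr hxN
    obtain ⟨i, hi⟩ := IsPGroup.iff_card.mp hQ₁q
    have hUq : IsPGroup q U := hQ₁q.to_le hUQ₁
    obtain ⟨j, hj⟩ := IsPGroup.iff_card.mp hUq
    have hm_dvd : m ∣ q ^ i := by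
      rw [← hi, hm1]
      exact Dvd.dvd.mul_left (dvd_pow_self m two_ne_zero) _
    obtain ⟨n, -, hmn⟩ := (Nat.dvd_prime_pow hq).mp hm_dvd
    have hn1 : 1 ≤ n := by
      by_contra h
      have hn0 : n = 0 := by omega
      rw [hn0, pow_zero] at hmn
      rw [hmn, one_pow, mul_one] at hm1
      have hUeq : U = Q₁ := Subgroup.eq_of_le_of_card_ge hUQ₁ (le_of_eq hm1)
      obtain ⟨u, hu, hne'⟩ := hQ₁nc
      apply hne'
      have : u ∈ U := by rw [hUeq]; exact hu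
      exact (((hUmem u).mp this).2).symm
    have hcopU : Nat.gcd r (Nat.card U) = 1 := by
      rw [hj]
      exact Nat.Coprime.pow_right j ((Nat.coprime_primes hr hq).mpr hqr.symm)
    have hmod2 : m ^ 2 ≡ 1 [MOD r] := by
      have h : Nat.card U * m ^ 2 ≡ Nat.card U * 1 [MOD r] := by
        rw [mul_one, ← hm1]
        exact hmod
      exact Nat.ModEq.cancel_left_of_coprime hcopU h
    have h1 : q ^ (2 * n + 1) ≤ q * (r - 1) ^ 2 := by
      have : q ^ (2 * n + 1) = q * (q ^ n) ^ 2 := by ring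
      rw [this, ← hmn]
      exact Nat.mul_le_mul_left _ hm2
    have h2 : q ^ (2 * n + 1) ≡ q [MOD r] := by
      have e : q ^ (2 * n + 1) = q * (q ^ n) ^ 2 := by ring
      rw [e, ← hmn]
      have := Nat.ModEq.mul_left q hmod2
      rwa [mul_one] at this
    obtain ⟨hq2, hr2⟩ := arith hq hr hqr hn1 h1 h2
    exact hne (hexc hq2 ⟨n, hr2⟩ u₁ (hQ₁Q hu₁) w₁ (hQ₁Q hw₁))

theorem key_gen_aux {G : Type*} [Group G] [Finite G] {p q r : ℕ} [Fact p.Prime] (hq : q.Prime)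
    (hr : r.Prime) (hpq : p ≠ q) (hpr : p ≠ r) (hqr : q ≠ r) (V Q : Subgroup G)
    [IsMulCommutative ↥V] [Module (ZMod p) (Additive ↥V)] (x : G)
    (hQV : Q ≤ normalizer (V : Set G)) (hxV : x ∈ normalizer (V : Set G)) (hQq : IsPGroup q Q)
    (hxr : x ^ r = 1) (hxQ : ∀ u ∈ Q, x * u * x⁻¹ ∈ Q)
    (hexc : q = 2 → (∃ n : ℕ, r = 2 ^ n + 1) → ∀ u ∈ Q, ∀ w ∈ Q, u * w = w * u)
    (hxfix : V ⊓ centralizer ({x} : Set G) = ⊥) :
    ∀ u ∈ Q, x * u * x⁻¹ * u⁻¹ ∈ centralizer (V : Set G) := by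
  by_contra hcon
  push Not at hcon
  obtain ⟨u₀, hu₀, hu₀V⟩ := hcon
  obtain ⟨ψ, hψ⟩ : ∃ ψ : ↥(normalizer (V : Set G)) →* Module.End (ZMod p) (Additive ↥V),
      ∀ (g : ↥(normalizer (V : Set G))) (v : Additive ↥V), ψ g v = conjEndHom V g v :=
    ⟨zmodRep V, fun _ _ => rfl⟩
  have : Finite (Additive ↥V) := inferInstanceAs (Finite ↥V)
  have hker : ∀ g : ↥(normalizer (V : Set G)), ψ g = 1 → (g : G) ∈ centralizer (V : Set G) := by
    intro g h1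
    rw [Subgroup.mem_centralizer_iff]
    intro v hv
    have h2 := LinearMap.congr_fun h1 (Additive.ofMul (⟨v, hv⟩ : ↥V))
    rw [hψ, Module.End.one_apply, conjEndHom_fix_iff, Subgroup.mem_centralizer_singleton_iff] at h2
    exact h2
  obtain ⟨ψu, hψu⟩ : ∃ ψu : ↥(normalizer (V : Set G)) →* (Module.End (ZMod p) (Additive ↥V))ˣ,
      ∀ g, ((ψu g : (Module.End (ZMod p) (Additive ↥V))ˣ) : Module.End (ZMod p) (Additive ↥V)) =
        ψ g := ⟨ψ.toHomUnits, fun g => MonoidHom.coe_toHomUnits ψ g⟩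
  obtain ⟨φ, hφinj, hφπ⟩ : ∃ φ : (↥(normalizer (V : Set G)) ⧸ ψu.ker) →*
      Module.End (ZMod p) (Additive ↥V), Function.Injective φ ∧
        ∀ g, φ (QuotientGroup.mk' ψu.ker g) = ψ g := by
    refine ⟨(Units.coeHom _).comp (QuotientGroup.kerLift ψu), ?_, ?_⟩
    · exact Units.val_injective.comp (QuotientGroup.kerLift_injective ψu)
    · intro g
      rw [← hψu g]
      rfl
  obtain ⟨π, hπ⟩ : ∃ π : ↥(normalizer (V : Set G)) →* (↥(normalizer (V : Set G)) ⧸ ψu.ker),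
      π = QuotientGroup.mk' ψu.ker := ⟨_, rfl⟩
  rw [← hπ] at hφπ
  have hπker : ∀ g, π g = 1 → ψ g = 1 := by
    intro g hg
    rw [hπ] at hg
    have h2 : g ∈ ψu.ker := (QuotientGroup.eq_one_iff _).mp hg
    have h3 : ψu g = 1 := MonoidHom.mem_ker.mp h2
    rw [← hψu g, h3]
    rfl
  let Q' : Subgroup ↥(normalizer (V : Set G)) := Q.subgroupOf (normalizer (V : Set G))
  let x' : ↥(normalizer (V : Set G)) := ⟨x, hxV⟩
  let u₀' : ↥(normalizer (V : Set G)) := ⟨u₀, hQV hu₀⟩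
  refine key_lin hq hr hpq hpr hqr φ hφinj (π x') (Q'.map π) ?_ ?_ ?_ ?_ ?_ ?_
  · rw [← map_pow]
    have : x' ^ r = 1 := Subtype.ext (by simpa using hxr)
    rw [this, map_one]
  · exact (hQq.of_equiv (Subgroup.subgroupOfEquivOfLe hQV).symm).map π
  · rintro _ ⟨u, hu, rfl⟩
    refine ⟨x' * u * x'⁻¹, hxQ u.1 hu, ?_⟩
    simp
  · refine ⟨π u₀', ⟨u₀', hu₀, rfl⟩, ?_⟩
    intro h
    apply hu₀V
    have h1 : π (x' * u₀' * x'⁻¹ * u₀'⁻¹) = 1 := by
      rw [map_mul, map_mul, map_mul, h, map_inv, map_inv]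
      group
    exact hker _ (hπker _ h1)
  · intro hq2 hn
    rintro _ ⟨u, hu, rfl⟩ _ ⟨w, hw, rfl⟩
    rw [← map_mul, ← map_mul]
    congr 1
    exact Subtype.ext (hexc hq2 hn u.1 hu w.1 hw)
  · intro w hw
    rw [hφπ] at hw
    induction w using Additive.rec with
    | ofMul a =>
      rw [hψ, conjEndHom_fix_iff] at hw
      have h1 : (a : G) ∈ V ⊓ centralizer ({x} : Set G) := ⟨a.2, hw⟩
      rw [hxfix, Subgroup.mem_bot] at h1
      have : a = 1 := Subtype.ext h1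
      rw [this]
      rfl

/-- **Coprime Hall–Higman type theorem, general form.** -/
theorem key_gen {G : Type*} [Group G] [Finite G] {p q r : ℕ} (hp : p.Prime) (hq : q.Prime)
    (hr : r.Prime) (hpq : p ≠ q) (hpr : p ≠ r) (hqr : q ≠ r) (V Q : Subgroup G) (x : G)
    (hV : Cfsg.IsElementaryAbelian p V)
    (hQV : Q ≤ normalizer (V : Set G)) (hxV : x ∈ normalizer (V : Set G)) (hQq : IsPGroup q Q)
    (hxr : x ^ r = 1) (hxQ : ∀ u ∈ Q, x * u * x⁻¹ ∈ Q)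
    (hexc : q = 2 → (∃ n : ℕ, r = 2 ^ n + 1) → ∀ u ∈ Q, ∀ w ∈ Q, u * w = w * u)
    (hxfix : V ⊓ centralizer ({x} : Set G) = ⊥) :
    ∀ u ∈ Q, x * u * x⁻¹ * u⁻¹ ∈ centralizer (V : Set G) := by
  have : Fact p.Prime := ⟨hp⟩
  obtain ⟨hVc, hVp⟩ := hV
  have : IsMulCommutative ↥V := hVc
  let _inst : Module (ZMod p) (Additive ↥V) := AddCommGroup.zmodModule (additive_exp V hVp)
  exact key_gen_aux hq hr hpq hpr hqr V Q x hQV hxV hQq hxr hxQ hexc hxfix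

end Cfsg.Agent.Helper48.HHC
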