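import Mathlib
import Cfsg.Prelude.Def_Transfer
import Cfsg.Agent.Lib.Helper48.HallHigmanCoprime
import Cfsg.Agent.Lib.Helper48.CoprimeGen
import Cfsg.Agent.Lib.Helper2.PGroup
import Cfsg.Agent.Lib.Helper24.HH125

/-!
# Coprime Hall–Higman type theorem for a normal `p`-subgroup

`commutator_centralizes_normal_pgroup`: `P ⊴ G` a `p`-group, `x` of prime order `r` with `C_P(x) = 1`,
`Q` an `x`-invariant `q`-subgroup (`p, q, r` distinct, `q` odd): then `[Q, x]` centralises `P`.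
-/

set_option autoImplicit false

namespace Cfsg.Agent.Helper48.HHC

open Subgroup
open scoped commutatorElement

theorem commutator_centralizes_normal_pgroup {G : Type*} [Group G] [Finite G] {p q r : ℕ}
    (hp : p.Prime) (hq : q.Prime) (hr : r.Prime) (hpq : p ≠ q) (hpr : p ≠ r) (hqr : q ≠ r)
    (hq2 : q ≠ 2) (P Q : Subgroup G) [hPn : P.Normal] (hP : IsPGroup p P) (x : G) (hxr : x ^ r = 1)
    (hxfix : P ⊓ centralizer ({x} : Set G) = ⊥) (hQq : IsPGroup q Q)
    (hxQ : ∀ u ∈ Q, x * u * x⁻¹ ∈ Q) :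
    ∀ u ∈ Q, x * u * x⁻¹ * u⁻¹ ∈ centralizer (P : Set G) := by
  classical
  have : Fact p.Prime := ⟨hp⟩
  have : Fact r.Prime := ⟨hr⟩
  -- the Frattini subgroup of P, as a normal subgroup of G
  obtain ⟨Φ, hΦdef⟩ : ∃ Φ : Subgroup G, Φ = (frattini ↥P).map P.subtype := ⟨_, rfl⟩
  have hΦn : Φ.Normal := by
    rw [hΦdef]
    infer_instance
  have hΦP : Φ ≤ P := by
    rw [hΦdef]
    rintro _ ⟨y, _, rfl⟩
    exact y.2
  have hpowΦ : ∀ a ∈ P, a ^ p ∈ Φ := by
    intro a ha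
    rw [hΦdef]
    exact ⟨(⟨a, ha⟩ : P) ^ p, Cfsg.Agent.Helper2.pow_mem_frattini hP _, by simp⟩
  have hcommΦ : ∀ a ∈ P, ∀ b ∈ P, a * b * a⁻¹ * b⁻¹ ∈ Φ := by
    intro a ha b hb
    rw [hΦdef]
    refine ⟨⁅(⟨a, ha⟩ : P), ⟨b, hb⟩⁆,
      Cfsg.Agent.Helper2.commutatorElement_mem_frattini hP _ _, ?_⟩
    rw [commutatorElement_def]
    simp
  -- the quotient
  obtain ⟨π, hπdef⟩ : ∃ π : G →* G ⧸ Φ, π = QuotientGroup.mk' Φ := ⟨_, rfl⟩
  have hπsurj : Function.Surjective π := by rw [hπdef]; exact QuotientGroup.mk'_surjective Φ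
  have hπker : ∀ g : G, π g = 1 ↔ g ∈ Φ := by
    intro g
    rw [hπdef]
    exact QuotientGroup.eq_one_iff g
  have hVn : (P.map π).Normal := hPn.map π hπsurj
  have hVtop : normalizer ((P.map π : Subgroup (G ⧸ Φ)) : Set (G ⧸ Φ)) = ⊤ :=
    Subgroup.normalizer_eq_top _
  have hV : Cfsg.IsElementaryAbelian p (P.map π) := by
    refine ⟨?_, ?_⟩
    · rw [← Subgroup.le_centralizer_iff_isMulCommutative]
      rintro _ ⟨a, ha, rfl⟩
      rw [Subgroup.mem_centralizer_iff]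
      rintro _ ⟨b, hb, rfl⟩
      have h1 : π (b * a * b⁻¹ * a⁻¹) = 1 := (hπker _).mpr (hcommΦ b hb a ha)
      rw [map_mul, map_mul, map_mul, map_inv, map_inv] at h1
      calc π b * π a = (π b * π a * (π b)⁻¹ * (π a)⁻¹) * (π a * π b) := by group
        _ = π a * π b := by rw [h1, one_mul]
    · rintro _ ⟨a, ha, rfl⟩
      rw [← map_pow]
      exact (hπker _).mpr (hpowΦ a ha)
  -- no fixed points on the quotient
  have hΦcop : (Nat.card Φ).Coprime r := by
    have hΦp : IsPGroup p Φ := hP.to_le hΦP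
    obtain ⟨k, hk⟩ := IsPGroup.iff_card.mp hΦp
    rw [hk]
    exact Nat.Coprime.pow_left k ((Nat.coprime_primes hp hr).mpr hpr)
  have hxfixV : (P.map π) ⊓ centralizer ({π x} : Set (G ⧸ Φ)) = ⊥ := by
    rw [eq_bot_iff]
    rintro _ ⟨⟨v, hv, rfl⟩, hvx⟩
    rw [Subgroup.mem_bot]
    have hvx' : π v * π x = π x * π v := Subgroup.mem_centralizer_singleton_iff.mp hvx
    have hm : v⁻¹ * (x * v * x⁻¹) ∈ Φ := by
      rw [← hπker]
      rw [map_mul, map_mul, map_mul, map_inv, map_inv, ← hvx']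
      group
    have hxN : x ∈ normalizer (Φ : Set G) := by
      rw [Subgroup.normalizer_eq_top Φ]
      exact Subgroup.mem_top x
    obtain ⟨d, hd, hfix⟩ := Cfsg.Agent.Helper48.exists_mul_mem_fixed Φ hΦcop x v 1
      (by rw [pow_one]; exact hxr) hxN hm
    have h1 : v * d ∈ P ⊓ centralizer ({x} : Set G) := by
      refine ⟨P.mul_mem hv (hΦP hd), ?_⟩
      show v * d ∈ centralizer ({x} : Set G)
      rw [Subgroup.mem_centralizer_singleton_iff]
      calc v * d * x = (x * (v * d) * x⁻¹) * x := by rw [hfix]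
        _ = x * (v * d) := by group
    rw [hxfix, Subgroup.mem_bot] at h1
    have h2 : v = d⁻¹ := eq_inv_of_mul_eq_one_left h1
    rw [hπker, h2]
    exact Φ.inv_mem hd
  -- apply the general theorem in the quotient
  have hkey := key_gen hp hq hr hpq hpr hqr (P.map π) (Q.map π) (π x) hV
    (by rw [hVtop]; exact le_top) (by rw [hVtop]; exact Subgroup.mem_top _) (hQq.map π)
    (by rw [← map_pow, hxr, map_one])
    (by
      rintro _ ⟨u, hu, rfl⟩
      exact ⟨x * u * x⁻¹, hxQ u hu, by simp⟩)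
    (fun h => absurd h hq2) hxfixV
  -- the subgroup of Q acting trivially on P / Φ
  let B : Subgroup G := Q ⊓ (centralizer ((P.map π : Subgroup (G ⧸ Φ)) : Set (G ⧸ Φ))).comap π
  have hBQ : B ≤ Q := inf_le_left
  have hBq : IsPGroup q B := hQq.to_le hBQ
  have hBcop : (Nat.card B).Coprime p := by
    have : Fact q.Prime := ⟨hq⟩
    obtain ⟨k, hk⟩ := IsPGroup.iff_card.mp hBq
    rw [hk]
    exact Nat.Coprime.pow_left k ((Nat.coprime_primes hq hp).mpr hpq.symm)
  have hBP : B ≤ normalizer (P : Set G) := by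
    rw [Subgroup.normalizer_eq_top P]
    exact le_top
  have hcomm : ⁅P, B⁆ ≤ (frattini ↥P).map P.subtype := by
    rw [← hΦdef, Subgroup.commutator_le]
    intro a ha b hb
    rw [← hπker, commutatorElement_def, map_mul, map_mul, map_mul, map_inv, map_inv]
    have hb' : π b ∈ centralizer ((P.map π : Subgroup (G ⧸ Φ)) : Set (G ⧸ Φ)) := hb.2
    have h1 := Subgroup.mem_centralizer_iff.mp hb' (π a) ⟨a, ha, rfl⟩
    calc π a * π b * (π a)⁻¹ * (π b)⁻¹ = (π a * π b) * (π a)⁻¹ * (π b)⁻¹ := by group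
      _ = (π b * π a) * (π a)⁻¹ * (π b)⁻¹ := by rw [h1]
      _ = 1 := by group
  have hPB := Cfsg.Agent.Helper24.le_centralizer_of_commutator_le_frattini P B hP hBcop hBP hcomm
  intro u hu
  have huB : x * u * x⁻¹ * u⁻¹ ∈ B := by
    refine ⟨Q.mul_mem (hxQ u hu) (Q.inv_mem hu), ?_⟩
    show π (x * u * x⁻¹ * u⁻¹) ∈ centralizer ((P.map π : Subgroup (G ⧸ Φ)) : Set (G ⧸ Φ))
    have := hkey (π u) ⟨u, hu, rfl⟩
    rw [map_mul, map_mul, map_mul, map_inv, map_inv]
    exact this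
  rw [Subgroup.mem_centralizer_iff]
  intro a ha
  have h1 := Subgroup.mem_centralizer_iff.mp (hPB ha) _ huB
  exact h1.symm

end Cfsg.Agent.Helper48.HHC
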