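import Mathlib
import Cfsg.Agent.Lib.Helper14.SPIDefs

/-!
# SPI project (S5961, server: helper14), pieces (MIN) and (MINPRIME)

Statements verbatim from `tools/spi_sigs_helper14.lean.txt`.
-/

set_option autoImplicit false

namespace Cfsg.Agent.Helper48.SPI

open Module Polynomial Cfsg.Agent.Helper14.SPI

/-- (MIN) a minimal nonzero invariant subspace. -/
theorem exists_min_invariant {F V : Type*} [Field F] [AddCommGroup V] [Module F V]
    [FiniteDimensional F V] (x : V →ₗ[F] V) (R : Submodule F V) (hRx : R.map x ≤ R) (hR : R ≠ ⊥) :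
    ∃ Y : Submodule F V, Y ≤ R ∧ Y ≠ ⊥ ∧ Y.map x ≤ Y ∧
      ∀ Z : Submodule F V, Z ≤ Y → Z.map x ≤ Z → Z = ⊥ ∨ Z = Y := by
  classical
  let S : Set (Submodule F V) := {Y | Y ≤ R ∧ Y ≠ ⊥ ∧ Y.map x ≤ Y}
  have hS : S.Nonempty := ⟨R, le_rfl, hR, hRx⟩
  have hwf : WellFounded ((· < ·) : Submodule F V → Submodule F V → Prop) := wellFounded_lt
  obtain ⟨Y, hYS, hYmin⟩ := hwf.has_min S hS
  refine ⟨Y, hYS.1, hYS.2.1, hYS.2.2, ?_⟩
  intro Z hZY hZx
  by_cases hZ0 : Z = ⊥
  · exact Or.inl hZ0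
  · right
    have hZS : Z ∈ S := ⟨hZY.trans hYS.1, hZ0, hZx⟩
    have hnlt : ¬ Z < Y := hYmin Z hZS
    exact (lt_or_eq_of_le hZY).resolve_left hnlt

/-- (MINPRIME) on a minimal invariant subspace every `g(x)` is zero or injective. -/
theorem prime_of_min {F V : Type*} [Field F] [AddCommGroup V] [Module F V]
    (x : V →ₗ[F] V) (Y : Submodule F V) (hYx : Y.map x ≤ Y)
    (hmin : ∀ Z : Submodule F V, Z ≤ Y → Z.map x ≤ Z → Z = ⊥ ∨ Z = Y) :
    ∀ g : F[X], (∀ z ∈ Y, aeval x g z = 0) ∨ (∀ z ∈ Y, aeval x g z = 0 → z = 0) := by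
  intro g
  set Z : Submodule F V := Y ⊓ LinearMap.ker (aeval x g) with hZ
  have hZY : Z ≤ Y := inf_le_left
  have hcomm : Commute x (aeval x g) := by
    have h1 : Commute (aeval x (X : F[X])) (aeval x g) := (Commute.all (X : F[X]) g).map (aeval x)
    rwa [aeval_X] at h1
  have hZx : Z.map x ≤ Z := by
    rintro _ ⟨z, hz, rfl⟩
    refine ⟨hYx ⟨z, hz.1, rfl⟩, ?_⟩
    have hz0 : aeval x g z = 0 := hz.2
    show aeval x g (x z) = 0
    have : (aeval x g * x) z = (x * aeval x g) z := by rw [hcomm.eq]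
    rw [Module.End.mul_apply, Module.End.mul_apply, hz0, map_zero] at this
    exact this
  rcases hmin Z hZY hZx with h | h
  · right
    intro z hzY hz0
    have : z ∈ Z := ⟨hzY, hz0⟩
    rw [h] at this
    exact (Submodule.mem_bot F).mp this
  · left
    intro z hzY
    have : z ∈ Z := h ▸ hzY
    exact this.2

end Cfsg.Agent.Helper48.SPI
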