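import Mathlib
import Cfsg.Agent.Lib.Helper48.BG36Conf

/-!
# BG Theorem 3.6: the context of the endgame (`Γ = G ⧸ O_p(H)` acting on `W = V ⧸ Φ(V)`)
-/

set_option autoImplicit false

universe u

namespace Cfsg.Agent.Helper48.BG36

open Subgroup

/-- the hypotheses of the endgame: `L ⊴ Γ` acts faithfully on the `𝔽_p`-module `W`, `O_p(L) = 1`,
`L = [L, R]`, `dim C_W(a) ≤ 1`, and the inductive hypothesis `ihc`. -/
structure EndCtx {Γ : Type*} [Group Γ] {p : ℕ} {W : Type*} [AddCommGroup W] [Module (ZMod p) W]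
    (φ : Γ →* Module.End (ZMod p) W) (L R : Subgroup Γ) (a : Γ) (r : ℕ) : Prop where
  conf : Conf L R a r
  comm : L ≤ ⁅L, R⁆
  faith : ∀ u ∈ L, φ u = 1 → u = 1
  op : ∀ N : Subgroup Γ, N ≤ L → IsPGroup p N → (∀ u ∈ L, ∀ n ∈ N, u * n * u⁻¹ ∈ N) → N = ⊥
  fix : ∃ v₀ : W, ∀ v : W, φ a v = v → ∃ c : ZMod p, v = c • v₀
  ihc : ∀ X R' : Subgroup Γ, X ≤ L → R' ≤ R → a ∈ R' → (∀ ρ ∈ R', ∀ u ∈ X, ρ * u * ρ⁻¹ ∈ X) →
    (X ≠ L ∨ R' ≠ R) → ∀ P₁ : Subgroup Γ, P₁ ≤ ⁅X, R'⁆ → IsPGroup p P₁ →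
      ∃ N : Subgroup Γ, N ≤ X ∧ IsPGroup p N ∧ (∀ u ∈ X, ∀ n ∈ N, u * n * u⁻¹ ∈ N) ∧ P₁ ≤ N


section Props

variable {Γ : Type*} [Group Γ] {p : ℕ} {W : Type*} [AddCommGroup W] [Module (ZMod p) W]

/-- the statement of the extraspecial lemma (EX) for a given representation `φ` -/
def EXProp (φ : Γ →* Module.End (ZMod p) W) : Prop :=
  ∀ {s r : ℕ}, s.Prime → r.Prime → p ≠ s → p ≠ r → s ≠ r → p ≠ 2 → s ≠ 2 → r ≠ 2 →
    ∀ (S : Subgroup Γ), IsPGroup s S → ∀ (z : Γ), z ∈ S → z ^ s = 1 →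
    (∀ u ∈ S, z * u = u * z) →
    (∀ u ∈ S, ∀ w ∈ S, u * w * u⁻¹ * w⁻¹ ∈ Subgroup.zpowers z) →
    (∀ u ∈ S, (∀ w ∈ S, u * w = w * u) → u ∈ Subgroup.zpowers z) →
    (∃ u ∈ S, ∃ w ∈ S, u * w ≠ w * u) →
    ∀ (x a : Γ), x * a = a * x → x ^ p = 1 → a ^ r = 1 →
    (∀ u ∈ S, x * u * x⁻¹ ∈ S) → (∀ u ∈ S, a * u * a⁻¹ ∈ S) →
    x * z = z * x → a * z = z * a →
    (∀ u ∈ S, a * u * a⁻¹ * u⁻¹ ∈ Subgroup.zpowers z → u ∈ Subgroup.zpowers z) →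
    φ z ≠ 1 →
    (∃ v₀ : W, ∀ v : W, φ a v = v → ∃ c : ZMod p, v = c • v₀) →
    ∀ u ∈ S, x * u = u * x

/-- the statement of the common tail of cases (A) and (B-E): an element `x` of order `p`
commuting with `a` which centralizes every proper `Y`-invariant subgroup of the normal `p'`-subgroup
`Q` but not `Q` itself forces `Q` to be an `s`-group centralized by `a`. -/
def TailProp (φ : Γ →* Module.End (ZMod p) W) (a : Γ) (r : ℕ) : Prop :=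
  ∀ (Q : Subgroup Γ), Q.Normal → (Nat.card Q).Coprime p → (Nat.card Q).Coprime r →
    (∀ u ∈ Q, φ u = 1 → u = 1) →
    (∀ q : ℕ, q.Prime → ∀ T : Subgroup Γ, T ≤ Q → IsPGroup q T → (∀ u ∈ T, a * u = u * a) →
      IsCyclic T) →
    ∀ (x : Γ), x ^ p = 1 → x * a = a * x →
    ∀ (Y : Subgroup Γ), x ∈ Y → (∀ y ∈ Y, y * x * y⁻¹ ∈ Subgroup.zpowers x) →
    (Nat.card Q).Coprime (Nat.card Y) →
    (∀ Q₁ : Subgroup Γ, Q₁ ≤ Q → (∀ y ∈ Y, ∀ u ∈ Q₁, y * u * y⁻¹ ∈ Q₁) → Q₁ ≠ Q →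
      ∀ u ∈ Q₁, x * u = u * x) →
    (∃ u ∈ Q, x * u ≠ u * x) →
    (∃ s : ℕ, s.Prime ∧ IsPGroup s Q) ∧ ∀ u ∈ Q, a * u = u * a

end Props

/-- the statement of the endgame theorem (END), in universe `u` -/
def ENDProp (p : ℕ) : Prop :=
  ∀ {Γ : Type u} [Group Γ] [Finite Γ] [Group.IsSolvable Γ], Odd (Nat.card Γ) →
    ∀ {W : Type u} [AddCommGroup W] [Module (ZMod p) W] [Finite W]
      (φ : Γ →* Module.End (ZMod p) W) (L R : Subgroup Γ) [L.Normal] (a : Γ) (r : ℕ),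
      EndCtx φ L R a r → (Nat.card L).Coprime p

end Cfsg.Agent.Helper48.BG36
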