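import Mathlib
import Cfsg.Prelude.Def_Local
import Cfsg.Agent.Lib.Helper31.HHBase
import Cfsg.Agent.Lib.Helper31.HHFilt

/-!
# Hall–Higman Theorem B for elements of order `p`, abstract form

A `p`-soluble group `H` with `O_p(H) = 1` acting faithfully on an elementary abelian `p`-group `W`,
`p` odd and not a Fermat prime: an element `x` with `x ^ p = 1` whose norm `1 + x + ⋯ + x ^ (p-1)`
vanishes on `W` is trivial.
-/

set_option autoImplicit false
set_option maxHeartbeats 400000

namespace Cfsg.Agent.Helper48.Wreath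

open Cfsg Module TensorProduct

/-- Theorem B relative to an invariant `q`-subgroup, for an injective homomorphism to the
endomorphism ring. -/
theorem theoremB_hom {F : Type*} [Field F] {V : Type*} [AddCommGroup V] [Module F V]
    {p : ℕ} [hp : Fact p.Prime] [CharP F p] [FiniteDimensional F V]
    {H : Type*} [Group H] [Finite H] (ρ0 : H →* End F V) (hinj : Function.Injective ρ0)
    (q : ℕ) [hq : Fact q.Prime] (hpq : p ≠ q)
    (Q : Subgroup H) (hQ : IsPGroup q Q) (x : H) (hQx : ∀ g ∈ Q, x * g * x⁻¹ ∈ Q) (n : ℕ)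
    (hx : x ^ p ^ (n + 1) = 1) (hNC : ∃ g ∈ Q, g * x ^ p ^ n ≠ x ^ p ^ n * g) (r : ℕ)
    (hr : (ρ0 x - 1) ^ r = 0) (hmin : ∀ k < r, (ρ0 x - 1) ^ k ≠ 0) :
    Cfsg.Agent.Helper31.HH.Concl p q (n + 1) r Q := by
  set K := AlgebraicClosure F with hK
  have : CharP K p := charP_of_injective_algebraMap (algebraMap F K).injective p
  set Φ : End F V →ₐ[F] End K (K ⊗[F] V) := Module.End.baseChangeHom F K V with hΦ
  have hΦinj : Function.Injective Φ := LinearMap.baseChangeHom_injective F V K
  set ρ : Representation K H (K ⊗[F] V) := (Φ : End F V →* End K (K ⊗[F] V)).comp ρ0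
    with hρ
  have hρinj : Function.Injective ρ := fun a b hab => hinj (hΦinj hab)
  have hpow : ∀ k, (ρ x - 1) ^ k = Φ ((ρ0 x - 1) ^ k) := by
    intro k
    rw [map_pow, map_sub, map_one]
    rfl
  apply Cfsg.Agent.Helper31.HH.theoremB_core p q hpq ρ Q x n r hQ hQx hx
  · obtain ⟨g, hg, hgne⟩ := hNC
    refine ⟨g, hg, fun h => hgne (hρinj ?_)⟩
    rw [map_mul, map_mul]
    exact h
  · rw [hpow, hr, map_zero]
  · intro k hk h0
    rw [hpow] at h0
    apply hmin k hk
    apply hΦinj
    rw [h0, map_zero]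

/-- an action on `W` as `ZMod p`-linear maps on `Additive W` -/
noncomputable def linRep {H : Type*} [Group H] (p : ℕ) {W : Type*} [CommGroup W]
    [Module (ZMod p) (Additive W)] (ψ : H →* MulAut W) :
    H →* Module.End (ZMod p) (Additive W) where
  toFun h := AddMonoidHom.toZModLinearMap p (MonoidHom.toAdditive (ψ h).toMonoidHom)
  map_one' := by
    ext v
    simp
  map_mul' := by
    intro g h
    ext v
    simp

lemma linRep_apply {H : Type*} [Group H] (p : ℕ) {W : Type*} [CommGroup W]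
    [Module (ZMod p) (Additive W)] (ψ : H →* MulAut W) (h : H) (w : W) :
    Additive.toMul (linRep p ψ h (Additive.ofMul w)) = ψ h w := rfl

lemma linRep_injective {H : Type*} [Group H] (p : ℕ) {W : Type*} [CommGroup W]
    [Module (ZMod p) (Additive W)] (ψ : H →* MulAut W) (hψ : Function.Injective ψ) :
    Function.Injective (linRep p ψ) := by
  intro a b hab
  apply hψ
  ext w
  have := congrArg (fun f => Additive.toMul (f (Additive.ofMul w))) hab
  exact this

lemma linRep_pow_apply {H : Type*} [Group H] (p : ℕ) {W : Type*} [CommGroup W]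
    [Module (ZMod p) (Additive W)] (ψ : H →* MulAut W) (h : H) (j : ℕ) (w : W) :
    Additive.toMul (((linRep p ψ h) ^ j) (Additive.ofMul w)) = ((ψ h) ^ j) w := by
  rw [← map_pow, ← map_pow]
  rfl

lemma linRep_sum_apply {H : Type*} [Group H] (p : ℕ) {W : Type*} [CommGroup W]
    [Module (ZMod p) (Additive W)] (ψ : H →* MulAut W) (h : H) (m : ℕ) (w : W) :
    Additive.toMul ((∑ j ∈ Finset.range m, (linRep p ψ h) ^ j) (Additive.ofMul w)) =
      ∏ j ∈ Finset.range m, ((ψ h) ^ j) w := by
  induction m with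
  | zero => simp
  | succ m ih =>
    rw [Finset.sum_range_succ, Finset.prod_range_succ, LinearMap.add_apply, toMul_add, ih,
      linRep_pow_apply]

theorem hhp_aux {H : Type*} [Group H] [Finite H] {p : ℕ} [hp : Fact p.Prime] (hp2 : p ≠ 2)
    (hnf : ¬ ∃ k : ℕ, p = 2 ^ k + 1)
    (hsol : IsPSolvable p H) (hO : pCore p H = ⊥)
    {W : Type*} [CommGroup W] [Finite W] [Module (ZMod p) (Additive W)]
    (ψ : H →* MulAut W) (hψ : Function.Injective ψ) (x : H) (hx : x ^ p = 1)
    (htr : ∀ w : W, ∏ j ∈ Finset.range p, ((ψ x) ^ j) w = 1) : x = 1 := by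
  by_contra hx1
  have hp0 : 0 < p := hp.out.pos
  obtain ⟨q, hq, hqp, Q, hQ, hQx, g, hgQ, hgx⟩ :=
    Cfsg.Agent.Helper31.HH.exists_invariant_q_not_centralized hsol hO 0 x
      (by simpa using hx) (by simpa using hx1)
  have : Fact q.Prime := ⟨hq⟩
  have : Module.Finite (ZMod p) (Additive W) := Module.Finite.of_finite
  set ρ0 := linRep p ψ with hρ0
  have hρ0inj : Function.Injective ρ0 := linRep_injective p ψ hψ
  have hnorm : (∑ j ∈ Finset.range p, (ρ0 x) ^ j) = 0 := by
    ext v
    induction v using Additive.rec with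
    | ofMul w =>
      apply Additive.toMul.injective
      rw [linRep_sum_apply, htr w]
      rfl
  have hgeom : (ρ0 x - 1) ^ (p - 1) = 0 := by
    have := Cfsg.Agent.Helper31.HH.alg_geom_eq (K := ZMod p) p 1 (ρ0 x)
    rw [pow_one] at this
    rw [← this, hnorm]
  have hex : ∃ r, (ρ0 x - 1) ^ r = 0 := ⟨p - 1, hgeom⟩
  classical
  have hr : (ρ0 x - 1) ^ (Nat.find hex) = 0 := Nat.find_spec hex
  have hmin : ∀ k < Nat.find hex, (ρ0 x - 1) ^ k ≠ 0 := fun k hk => Nat.find_min hex hk
  have hrle : Nat.find hex ≤ p - 1 := Nat.find_min' hex hgeom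
  have key := theoremB_hom ρ0 hρ0inj q (Ne.symm hqp) Q hQ x hQx 0 (by simpa using hx)
    ⟨g, hgQ, by simpa using hgx⟩ (Nat.find hex) hr hmin
  rcases key with h | ⟨_, n₀, m, h1, h2, h3, h4, h5⟩
  · rw [zero_add, pow_one] at h
    omega
  · have hn₀ : n₀ = 1 := by omega
    subst hn₀
    rw [pow_one] at h4
    -- p - 1 = q ^ m, p odd, so q = 2
    have hodd : p % 2 = 1 := by
      rcases hp.out.eq_two_or_odd with h | h
      · exact absurd h hp2
      · exact h
    have h2dvd : 2 ∣ q ^ m := by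
      rw [← h4]
      omega
    have hq2 : q = 2 := by
      have := (Nat.prime_two.dvd_of_dvd_pow h2dvd)
      exact ((Nat.prime_dvd_prime_iff_eq Nat.prime_two hq).mp this).symm
    apply hnf
    refine ⟨m, ?_⟩
    rw [hq2] at h4
    omega

/-- **Theorem B for elements of order `p`**, `p` odd and not a Fermat prime. -/
theorem hhp {H : Type*} [Group H] [Finite H] {p : ℕ} [hp : Fact p.Prime] (hp2 : p ≠ 2)
    (hnf : ¬ ∃ k : ℕ, p = 2 ^ k + 1)
    (hsol : IsPSolvable p H) (hO : pCore p H = ⊥)
    {W : Type*} [CommGroup W] [Finite W] (hexp : ∀ w : W, w ^ p = 1)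
    (ψ : H →* MulAut W) (hψ : Function.Injective ψ) (x : H) (hx : x ^ p = 1)
    (htr : ∀ w : W, ∏ j ∈ Finset.range p, ((ψ x) ^ j) w = 1) : x = 1 := by
  let _inst : Module (ZMod p) (Additive W) := AddCommGroup.zmodModule (by
    intro v
    induction v using Additive.rec with
    | ofMul w =>
      rw [← ofMul_pow, hexp w]
      rfl)
  exact hhp_aux hp2 hnf hsol hO ψ hψ x hx htr

end Cfsg.Agent.Helper48.Wreath
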