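import Mathlib
import Cfsg.Agent.Lib.Helper48.SympRep2

/-!
# BG 3.6, extraspecial case: abstract linear algebra lemmas
-/

set_option autoImplicit false
set_option maxHeartbeats 400000

namespace Cfsg.Agent.Helper48.BG36

open Cfsg.Agent.Helper48.SympRep

/-- the counting inequality: if `r Σ d² ≤ r - 1 + (Σ d)²` over at most `r` slots then the `d`'s
differ by at most one. -/
lemma count_le {ι : Type*} [DecidableEq ι] (E : Finset ι) (d : ι → ℕ) (r m : ℕ) (hE : E.card ≤ r)
    (hsum : ∑ μ ∈ E, d μ = m) (hsq : r * ∑ μ ∈ E, d μ ^ 2 ≤ r - 1 + m ^ 2) (hr : 1 ≤ r) :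
    ∀ μ ∈ E, ∀ ν ∈ E, d ν ≤ d μ + 1 := by
  intro μ hμ ν hν
  by_contra hcon
  push Not at hcon
  have hne : μ ≠ ν := by
    rintro rfl
    omega
  -- work in ℤ
  have hsumZ : (∑ e ∈ E, (d e : ℤ)) = m := by
    rw [← hsum]; push_cast; rfl
  have hsqZ : (r : ℤ) * ∑ e ∈ E, (d e : ℤ) ^ 2 ≤ r - 1 + (m : ℤ) ^ 2 := by
    have : ((r * ∑ e ∈ E, d e ^ 2 : ℕ) : ℤ) ≤ ((r - 1 + m ^ 2 : ℕ) : ℤ) := by exact_mod_cast hsq
    push_cast [Nat.cast_sub hr] at this
    linarith
  have hexp : ∑ e ∈ E, ((r : ℤ) * d e - m) ^ 2 =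
      (r : ℤ) ^ 2 * ∑ e ∈ E, (d e : ℤ) ^ 2 - 2 * r * m * ∑ e ∈ E, (d e : ℤ) + E.card * (m : ℤ) ^ 2 := by
    have : ∀ e ∈ E, ((r : ℤ) * d e - m) ^ 2 =
        (r : ℤ) ^ 2 * (d e : ℤ) ^ 2 - 2 * r * m * (d e : ℤ) + (m : ℤ) ^ 2 := by
      intro e _; ring
    rw [Finset.sum_congr rfl this, Finset.sum_add_distrib, Finset.sum_sub_distrib,
      ← Finset.mul_sum, ← Finset.mul_sum, Finset.sum_const, nsmul_eq_mul]
  have hpair : ((r : ℤ) * d μ - m) ^ 2 + ((r : ℤ) * d ν - m) ^ 2 ≤
      ∑ e ∈ E, ((r : ℤ) * d e - m) ^ 2 := by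
    have hsub : ({μ, ν} : Finset ι) ⊆ E := by
      intro e he
      rw [Finset.mem_insert, Finset.mem_singleton] at he
      rcases he with rfl | rfl
      · exact hμ
      · exact hν
    have h1 := Finset.sum_le_sum_of_subset_of_nonneg (f := fun e => ((r : ℤ) * d e - m) ^ 2) hsub
      (fun e _ _ => sq_nonneg _)
    rw [Finset.sum_pair hne] at h1
    exact h1
  have hEZ : (E.card : ℤ) ≤ r := by exact_mod_cast hE
  have hdZ : (d μ : ℤ) + 2 ≤ d ν := by exact_mod_cast hcon
  have hrZ : (1 : ℤ) ≤ r := by exact_mod_cast hr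
  have hm0 : (0 : ℤ) ≤ (m : ℤ) ^ 2 := sq_nonneg _
  rw [hexp, hsumZ] at hpair
  -- upper bound r (r - 1), lower bound 2 r^2
  have hup : (r : ℤ) ^ 2 * ∑ e ∈ E, (d e : ℤ) ^ 2 - 2 * r * m * m + E.card * (m : ℤ) ^ 2 ≤
      r * (r - 1) := by
    have h1 : (E.card : ℤ) * (m : ℤ) ^ 2 ≤ r * (m : ℤ) ^ 2 := mul_le_mul_of_nonneg_right hEZ hm0
    nlinarith
  have hlow : 2 * (r : ℤ) ^ 2 ≤ ((r : ℤ) * d μ - m) ^ 2 + ((r : ℤ) * d ν - m) ^ 2 := by
    have h2 : (2 : ℤ) * r ≤ (r : ℤ) * d ν - r * d μ := by nlinarith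
    nlinarith [sq_nonneg ((r : ℤ) * d μ - m + ((r : ℤ) * d ν - m))]
  nlinarith


section MultLe

variable {K : Type*} [Field K] {M : Type*} [AddCommGroup M] [Module K M]
variable {Q : Type*} [Group Q] [Fintype Q]
variable {ρ : Q →* Module.End K M} {a : Q ≃* Q} {g g' : Module.End K M}

open Classical in
/-- sum of squares of eigenvalue multiplicities is at most the dimension of the centraliser -/
lemma sum_sq_le_finrank_centr [FiniteDimensional K M] {ι : Type*} [Fintype ι] [DecidableEq ι]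
    (b : Module.Basis ι K M) {g : Module.End K M} {η : ι → K} (hb : ∀ i, g (b i) = η i • b i)
    (E : Finset K) (hE : ∀ i, η i ∈ E) :
    ∑ e ∈ E, (Finset.univ.filter (fun i : ι => η i = e)).card ^ 2 ≤
      Module.finrank K (centr g) := by
  set S' : Finset (ι × ι) := Finset.univ.filter (fun p => η p.1 = η p.2) with hS'
  have h1 : S'.card ≤ Module.finrank K (centr g) := by
    have hmem : ∀ p : ι × ι, p ∈ S' → η p.1 = η p.2 := by
      intro p hp
      rw [hS', Finset.mem_filter] at hp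
      exact hp.2
    let f : S' → centr g := fun p =>
      ⟨unitEnd b p.1.1 p.1.2, unitEnd_mem_centr b hb (hmem p.1 p.2)⟩
    have hf : LinearIndependent K f := by
      apply LinearIndependent.of_comp (centr g).subtype
      exact (unitEnd_linearIndependent b).comp (fun p : S' => p.1) Subtype.val_injective
    have := hf.fintype_card_le_finrank
    simpa using this
  have hsum2 : ∑ e ∈ E, (Finset.univ.filter (fun i : ι => η i = e)).card ^ 2 = S'.card := by
    have hmaps : ∀ p ∈ S', η p.1 ∈ E := fun p _ => hE p.1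
    rw [Finset.card_eq_sum_card_fiberwise hmaps]
    refine Finset.sum_congr rfl ?_
    intro e _
    rw [sq, ← Finset.card_product]
    congr 1
    ext ⟨i, j⟩
    simp only [hS', Finset.mem_product, Finset.mem_filter, Finset.mem_univ, true_and]
    constructor
    · rintro ⟨h1, h2⟩
      exact ⟨h1.trans h2.symm, h1⟩
    · rintro ⟨h1, h2⟩
      exact ⟨h2, h1 ▸ h2⟩
  rw [hsum2]
  exact h1

open Classical in
/-- **Multiplicities.** For an irreducible representation of symplectic type normalised by `g`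
of prime order `r` acting fixed-point-freely, the eigenvalue multiplicities of `g` differ by at
most one. -/
theorem mult_le [FiniteDimensional K M] [Nontrivial M] (hρ : Symp ρ)
    (hQ : (Fintype.card Q : K) ≠ 0) (h : Normalises ρ a g g') {r : ℕ} (hr : r.Prime)
    (hgr : g ^ r = 1)
    (hfpf : ∀ u, (∃ l : K, ρ (a u) = l • ρ u) → u ∈ scalarSubgroup ρ)
    (hcomm : ∀ C ∈ commutant ρ, IsScalar C)
    {ι : Type*} [Fintype ι] [DecidableEq ι] (b : Module.Basis ι K M) (η : ι → K)
    (hb : ∀ i, g (b i) = η i • b i) (E : Finset K) (hE : ∀ i, η i ∈ E) (hEcard : E.card ≤ r) :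
    Module.finrank K M * Module.finrank K M = Nat.card (Q ⧸ scalarSubgroup ρ) ∧
    (r * ∑ e ∈ E, (Finset.univ.filter (fun i : ι => η i = e)).card ^ 2 ≤
      r - 1 + Fintype.card ι ^ 2) ∧
    ∀ μ ∈ E, ∀ ν ∈ E, (Finset.univ.filter (fun i : ι => η i = ν)).card ≤
      (Finset.univ.filter (fun i : ι => η i = μ)).card + 1 := by
  have hr2 : 2 ≤ r := hr.two_le
  have hD : 0 < Module.finrank K (commutant ρ) := finrank_commutant_pos ρ
  have hD1 : Module.finrank K (commutant ρ) ≤ 1 := by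
    apply finrank_le_one (⟨1, one_mem_commutant ρ⟩ : commutant ρ)
    intro C
    obtain ⟨l, hl⟩ := hcomm C.1 C.2
    refine ⟨l, ?_⟩
    apply Subtype.ext
    rw [hl]
    rfl
  have h1 := card_mul_finrank_le hρ hQ
  have h2 := finrank_sq_le hρ hQ hcomm
  have hmn : Module.finrank K M * Module.finrank K M = Nat.card (Q ⧸ scalarSubgroup ρ) := by
    apply le_antisymm h2
    calc Nat.card (Q ⧸ scalarSubgroup ρ) = Nat.card (Q ⧸ scalarSubgroup ρ) * 1 := (mul_one _).symm
      _ ≤ Nat.card (Q ⧸ scalarSubgroup ρ) * Module.finrank K (commutant ρ) :=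
        Nat.mul_le_mul_left _ hD
      _ ≤ _ := h1
  refine ⟨hmn, ?_⟩
  have hcard : Module.finrank K M = Fintype.card ι := Module.finrank_eq_card_basis b
  have hsum1 : ∑ e ∈ E, (Finset.univ.filter (fun i : ι => η i = e)).card = Fintype.card ι := by
    rw [← Finset.card_univ (α := ι)]
    exact (Finset.card_eq_sum_card_fiberwise (fun i _ => hE i)).symm
  have hfix : ∀ w : Q ⧸ scalarSubgroup ρ, sigma h w = w ↔ w = 1 := by
    intro w
    obtain ⟨w, rfl⟩ := QuotientGroup.mk_surjective w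
    rw [sigma_mk]
    constructor
    · intro hw
      have h1 : (a w)⁻¹ * w ∈ scalarSubgroup ρ := QuotientGroup.eq.mp hw
      obtain ⟨l, hl⟩ := inv_mem h1
      rw [mul_inv_rev, inv_inv, map_mul] at hl
      have hw' : w ∈ scalarSubgroup ρ := by
        apply hfpf
        refine ⟨l, ?_⟩
        have : ρ (a w) = ρ w * (ρ w⁻¹ * ρ (a w)) := by
          rw [← mul_assoc, rho_mul_inv, one_mul]
        rw [this, hl, mul_smul_comm, mul_one]
      exact (QuotientGroup.eq_one_iff w).mpr hw'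
    · intro hw
      have hw' : w ∈ scalarSubgroup ρ := (QuotientGroup.eq_one_iff w).mp hw
      rw [hw]
      exact (QuotientGroup.eq_one_iff _).mpr ((h.mem_iff w).mpr hw')
  by_cases hσ : sigma h = 1
  · have hall : ∀ w : Q ⧸ scalarSubgroup ρ, w = 1 := by
      intro w
      rw [← hfix, hσ, Equiv.Perm.one_apply]
    have hn1 : Nat.card (Q ⧸ scalarSubgroup ρ) = 1 := by
      rw [Nat.card_eq_one_iff_unique]
      exact ⟨⟨fun x y => (hall x).trans (hall y).symm⟩, ⟨1⟩⟩
    rw [hn1, hcard] at hmn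
    have hι : Fintype.card ι = 1 := by nlinarith [Nat.eq_one_of_mul_eq_one_left hmn]
    have hle1 : ∀ e, (Finset.univ.filter (fun i : ι => η i = e)).card ≤ 1 := by
      intro e
      have : (Finset.univ.filter (fun i : ι => η i = e)).card ≤ Fintype.card ι :=
        Finset.card_le_univ _
      omega
    refine ⟨?_, ?_⟩
    · have h5 : ∑ e ∈ E, (Finset.univ.filter (fun i : ι => η i = e)).card ^ 2 ≤
          ∑ e ∈ E, (Finset.univ.filter (fun i : ι => η i = e)).card := by
        apply Finset.sum_le_sum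
        intro e _
        have := hle1 e
        interval_cases (Finset.univ.filter (fun i : ι => η i = e)).card <;> simp
      rw [hsum1, hι] at h5
      rw [hι]
      calc r * ∑ e ∈ E, (Finset.univ.filter (fun i : ι => η i = e)).card ^ 2 ≤ r * 1 :=
            Nat.mul_le_mul_left _ h5
        _ = r - 1 + 1 ^ 2 := by omega
    · intro μ _ ν _
      have := hle1 ν
      omega
  · have hN := card_orbits (sigma h) r hr (sigma_pow_eq_one h hgr) hσ 1 hfix
    have h3 := finrank_centr_le hρ hQ h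
    have h4 := sum_sq_le_finrank_centr b hb E hE
    set N := Nat.card (MulAction.orbitRel.Quotient (Subgroup.zpowers (sigma h))
      (Q ⧸ scalarSubgroup ρ))
    have h5 : ∑ e ∈ E, (Finset.univ.filter (fun i : ι => η i = e)).card ^ 2 ≤ N := by
      calc _ ≤ Module.finrank K (centr g) := h4
        _ ≤ N * Module.finrank K (commutant ρ) := h3
        _ ≤ N * 1 := Nat.mul_le_mul_left _ hD1
        _ = N := mul_one _
    have h6 : r * ∑ e ∈ E, (Finset.univ.filter (fun i : ι => η i = e)).card ^ 2 ≤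
        r - 1 + Fintype.card ι ^ 2 := by
      calc r * ∑ e ∈ E, (Finset.univ.filter (fun i : ι => η i = e)).card ^ 2 ≤ r * N :=
            Nat.mul_le_mul_left _ h5
        _ = N * r := mul_comm _ _
        _ = Nat.card (Q ⧸ scalarSubgroup ρ) + (r - 1) := hN
        _ = r - 1 + Fintype.card ι ^ 2 := by rw [← hmn, hcard]; ring
    exact ⟨h6, count_le E (fun e => (Finset.univ.filter (fun i : ι => η i = e)).card) r
      (Fintype.card ι) hEcard hsum1 h6 (by omega)⟩

end MultLe

end Cfsg.Agent.Helper48.BG36
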