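import Mathlib
import Cfsg.Agent.Lib.Helper48.BG36EXa

/-!
# BG 3.6, extraspecial case: irreducibility under the pair forces irreducibility
-/

set_option autoImplicit false
set_option maxHeartbeats 400000

namespace Cfsg.Agent.Helper48.BG36

open Cfsg.Agent.Helper48.SympRep

section PairIrr

variable {K : Type*} [Field K] [IsAlgClosed K] {M : Type*} [AddCommGroup M] [Module K M]
  [FiniteDimensional K M]
variable {Q : Type*} [Group Q] [Fintype Q]
variable {ρ : Q →* Module.End K M} {a : Q ≃* Q} {g g' : Module.End K M}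

omit [IsAlgClosed K] [FiniteDimensional K M] in
/-- a conjugation-eigenvector of the commutant with eigenvalue `≠ 1` cannot exist -/
lemma no_twisted [Nontrivial M] (h : Normalises ρ a g g') {r : ℕ} (hr : r.Prime)
    (hgr : g ^ r = 1)
    (hirr : ∀ N : Submodule K M, (∀ u, ∀ v ∈ N, ρ u v ∈ N) → (∀ v ∈ N, g v ∈ N) →
      N = ⊥ ∨ N = ⊤)
    (hfix : ∃ m₀ : M, ∀ m : M, g m = m → ∃ c : K, m = c • m₀)
    (hline : ∀ v : M, (∀ u, ∃ l : K, ρ u v = l • v) → v = 0)
    (T : Module.End K M) (hT : T ∈ commutant ρ) (hT0 : T ≠ 0) (η : K) (hη1 : η ≠ 1)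
    (hηr : η ^ r = 1) (hconj : g * T * g' = η • T) (t : K) (ht : T.HasEigenvalue t) : False := by
  have hη0 : η ≠ 0 := by
    rintro rfl
    rw [zero_pow hr.ne_zero] at hηr
    exact zero_ne_one hηr
  have hTρ : ∀ u, T * ρ u = ρ u * T := (mem_commutant ρ T).mp hT
  -- g T = η T g
  have hgT : g * T = η • (T * g) := by
    calc g * T = g * T * (g' * g) := by rw [h.inv_mul, mul_one]
      _ = (g * T * g') * g := by simp only [mul_assoc]
      _ = η • (T * g) := by rw [hconj, smul_mul_assoc]
  have hTg : T * g = η⁻¹ • (g * T) := by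
    rw [hgT, smul_smul, inv_mul_cancel₀ hη0, one_smul]
  -- T is injective
  have hker : LinearMap.ker T = ⊥ := by
    have hinv1 : ∀ u, ∀ v ∈ LinearMap.ker T, ρ u v ∈ LinearMap.ker T := by
      intro u v hv
      rw [LinearMap.mem_ker] at hv ⊢
      calc T (ρ u v) = (T * ρ u) v := rfl
        _ = (ρ u * T) v := by rw [hTρ]
        _ = ρ u (T v) := rfl
        _ = 0 := by rw [hv, map_zero]
    have hinv2 : ∀ v ∈ LinearMap.ker T, g v ∈ LinearMap.ker T := by
      intro v hv
      rw [LinearMap.mem_ker] at hv ⊢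
      calc T (g v) = (T * g) v := rfl
        _ = (η⁻¹ • (g * T)) v := by rw [hTg]
        _ = η⁻¹ • g (T v) := rfl
        _ = 0 := by rw [hv, map_zero, smul_zero]
    rcases hirr _ hinv1 hinv2 with h0 | h0
    · exact h0
    · exfalso
      apply hT0
      ext v
      have : v ∈ LinearMap.ker T := by rw [h0]; exact Submodule.mem_top
      simpa using this
  have ht0 : t ≠ 0 := by
    rintro rfl
    have h0 : T.eigenspace 0 = ⊥ := by
      rw [Module.End.eigenspace_zero]
      exact hker
    exact ht h0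
  obtain ⟨n₀, hn₀⟩ := ht.exists_hasEigenvector
  have hn₀mem : n₀ ∈ T.eigenspace t := hn₀.1
  have hn₀ne : n₀ ≠ 0 := hn₀.2
  -- eigenvalue shift
  have hshift : ∀ (i : ℕ) (n : M), n ∈ T.eigenspace t →
      (g ^ i) n ∈ T.eigenspace ((η⁻¹) ^ i * t) := by
    intro i
    induction i with
    | zero =>
      intro n hn
      simpa using hn
    | succ i ih =>
      intro n hn
      have h1 := ih n hn
      rw [Module.End.mem_eigenspace_iff] at h1 ⊢
      rw [pow_succ', Module.End.mul_apply]
      calc T (g ((g ^ i) n)) = (T * g) ((g ^ i) n) := rfl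
        _ = (η⁻¹ • (g * T)) ((g ^ i) n) := by rw [hTg]
        _ = η⁻¹ • g (T ((g ^ i) n)) := rfl
        _ = ((η⁻¹) ^ (i + 1) * t) • g ((g ^ i) n) := by
          rw [h1, map_smul, smul_smul, pow_succ']
          ring_nf
  have : Fact r.Prime := ⟨hr⟩
  have hordη : orderOf η⁻¹ = r := by
    apply orderOf_eq_prime
    · rw [inv_pow, hηr, inv_one]
    · intro h1
      apply hη1
      rw [← inv_inv η, h1, inv_one]
  have hne_t : ∀ i, 0 < i → i < r → (η⁻¹) ^ i * t ≠ t := by
    intro i hi hir h1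
    have h2 : (η⁻¹) ^ i = 1 := by
      have : ((η⁻¹) ^ i - 1) * t = 0 := by rw [sub_mul, h1, one_mul, sub_self]
      rcases mul_eq_zero.mp this with h3 | h3
      · exact sub_eq_zero.mp h3
      · exact absurd h3 ht0
    have h3 : r ∣ i := by
      rw [← hordη]
      exact orderOf_dvd_of_pow_eq_one h2
    exact absurd (Nat.le_of_dvd hi h3) (by omega)
  -- the trace-like operator
  set W : Module.End K M := ∑ i ∈ Finset.range r, g ^ i with hW
  have hgW : ∀ n, g (W n) = W n := by
    intro n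
    have h1 : (g - 1) * W = 0 := by
      rw [hW, mul_geom_sum, hgr, sub_self]
    have h2 := LinearMap.congr_fun h1 n
    rw [Module.End.mul_apply, LinearMap.sub_apply, Module.End.one_apply, LinearMap.zero_apply]
      at h2
    exact sub_eq_zero.mp h2
  have hWinj : ∀ n ∈ T.eigenspace t, W n = 0 → n = 0 := by
    intro n hn hWn
    obtain ⟨k, rfl⟩ : ∃ k, r = k + 1 := ⟨r - 1, by have := hr.one_lt; omega⟩
    rw [hW, Finset.sum_range_succ', LinearMap.add_apply, pow_zero, Module.End.one_apply,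
      LinearMap.sum_apply] at hWn
    have h1 : n = -∑ i ∈ Finset.range k, (g ^ (i + 1)) n := by
      rw [eq_neg_iff_add_eq_zero, add_comm]
      exact hWn
    have h2 : n ∈ ⨆ ν, ⨆ (_ : ν ≠ t), T.eigenspace ν := by
      rw [h1]
      apply Submodule.neg_mem
      apply Submodule.sum_mem
      intro i hi
      rw [Finset.mem_range] at hi
      have h3 := hshift (i + 1) n hn
      have h4 := hne_t (i + 1) (by omega) (by omega)
      exact Submodule.mem_iSup_of_mem _ (Submodule.mem_iSup_of_mem h4 h3)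
    have hind := Module.End.eigenspaces_iSupIndep T
    have h5 := (hind t).le_bot ⟨hn, h2⟩
    exact (Submodule.mem_bot K).mp h5
  obtain ⟨m₀, hm₀⟩ := hfix
  obtain ⟨c₀, hc₀⟩ := hm₀ (W n₀) (hgW n₀)
  have hc₀0 : c₀ ≠ 0 := by
    rintro rfl
    rw [zero_smul] at hc₀
    exact hn₀ne (hWinj n₀ hn₀mem hc₀)
  apply hn₀ne
  apply hline
  intro u
  have hu_mem : ρ u n₀ ∈ T.eigenspace t := by
    rw [Module.End.mem_eigenspace_iff] at hn₀mem ⊢
    calc T (ρ u n₀) = (T * ρ u) n₀ := rfl
      _ = (ρ u * T) n₀ := by rw [hTρ]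
      _ = ρ u (T n₀) := rfl
      _ = t • ρ u n₀ := by rw [hn₀mem, map_smul]
  obtain ⟨cu, hcu⟩ := hm₀ (W (ρ u n₀)) (hgW _)
  refine ⟨cu / c₀, ?_⟩
  have h1 : ρ u n₀ - (cu / c₀) • n₀ ∈ T.eigenspace t :=
    Submodule.sub_mem _ hu_mem (Submodule.smul_mem _ _ hn₀mem)
  have h2 : W (ρ u n₀ - (cu / c₀) • n₀) = 0 := by
    rw [map_sub, map_smul, hcu, hc₀, smul_smul, div_mul_cancel₀ _ hc₀0, sub_self]
  exact sub_eq_zero.mp (hWinj _ h1 h2)


/-- irreducibility under the pair `(ρ, g)`, together with the fixed-point bound and the absence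
of invariant lines, forces the commutant of `ρ` to consist of scalars. -/
theorem scalar_commutant_of_pair_irr [Nontrivial M] (h : Normalises ρ a g g') {r : ℕ}
    (hr : r.Prime) (hrK : (r : K) ≠ 0) (hgr : g ^ r = 1)
    (hirr : ∀ N : Submodule K M, (∀ u, ∀ v ∈ N, ρ u v ∈ N) → (∀ v ∈ N, g v ∈ N) →
      N = ⊥ ∨ N = ⊤)
    (hfix : ∃ m₀ : M, ∀ m : M, g m = m → ∃ c : K, m = c • m₀)
    (hline : ∀ v : M, (∀ u, ∃ l : K, ρ u v = l • v) → v = 0) :
    ∀ C ∈ commutant ρ, IsScalar C := by
  have hcomm : Commute g' g := by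
    show g' * g = g * g'
    rw [h.inv_mul, h.mul_inv]
  have hg'r : g' ^ r = 1 := by
    have h1 : g' ^ r * g ^ r = 1 := by
      rw [← hcomm.mul_pow, h.inv_mul, one_pow]
    rwa [hgr, mul_one] at h1
  -- conjugation on the commutant
  let cj : Module.End K (Module.End K M) := (LinearMap.mulLeft K g).comp (LinearMap.mulRight K g')
  have hcj : ∀ T, cj T = g * (T * g') := fun T => rfl
  have hcjpow : ∀ (k : ℕ) T, (cj ^ k) T = g ^ k * (T * g' ^ k) := by
    intro k
    induction k with
    | zero => intro T; simp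
    | succ k ih =>
      intro T
      rw [pow_succ', Module.End.mul_apply, ih, hcj, pow_succ', pow_succ]
      simp only [mul_assoc]
  have hinv : ∀ T ∈ commutant ρ, cj T ∈ commutant ρ := by
    intro T hT
    rw [mem_commutant] at hT ⊢
    intro u
    rw [hcj]
    have h1 : g' * ρ u = ρ (a.symm u) * g' := by
      rw [h.rho_symm u]
      simp only [mul_assoc]
      rw [h.mul_inv, mul_one]
    have h2 : g * ρ (a.symm u) = ρ u * g := by
      rw [h.conj (a.symm u), MulEquiv.apply_symm_apply]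
    calc g * (T * g') * ρ u = g * (T * (g' * ρ u)) := by simp only [mul_assoc]
      _ = g * (T * (ρ (a.symm u) * g')) := by rw [h1]
      _ = g * ((T * ρ (a.symm u)) * g') := by simp only [mul_assoc]
      _ = g * ((ρ (a.symm u) * T) * g') := by rw [hT]
      _ = (g * ρ (a.symm u)) * (T * g') := by simp only [mul_assoc]
      _ = ρ u * (g * (T * g')) := by rw [h2]; simp only [mul_assoc]
  let cjr : Module.End K ↥(commutant ρ) := cj.restrict hinv
  have hcjr : ∀ (k : ℕ) (T : ↥(commutant ρ)), (((cjr ^ k) T : ↥(commutant ρ)) : Module.End K M) =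
      (cj ^ k) T.1 := by
    intro k
    induction k with
    | zero => intro T; simp
    | succ k ih =>
      intro T
      rw [pow_succ', Module.End.mul_apply, pow_succ', Module.End.mul_apply]
      show cj ((cjr ^ k) T).1 = _
      rw [ih]
  have hcjrr : cjr ^ r = 1 := by
    ext T : 2
    rw [hcjr, hcjpow, hgr, hg'r, one_mul, mul_one]
    rfl
  obtain ⟨ι, _, b, η, hb⟩ := exists_eigenbasis cjr r hrK hcjrr
  have hη : ∀ i, η i = 1 := by
    intro i
    by_contra hne
    have hT0 : (b i).1 ≠ 0 := by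
      intro h0
      exact b.ne_zero i (Subtype.ext h0)
    have hconj : g * (b i).1 * g' = η i • (b i).1 := by
      have h1 := congrArg Subtype.val (hb i).1
      have h2 : ((cjr (b i) : ↥(commutant ρ)) : Module.End K M) = g * ((b i).1 * g') := rfl
      rw [h2] at h1
      rw [mul_assoc, h1]
      rfl
    obtain ⟨t, ht⟩ := Module.End.exists_eigenvalue (b i).1
    exact no_twisted h hr hgr hirr hfix hline (b i).1 (b i).2 hT0 (η i) hne (hb i).2 hconj t ht
  have hcjr1 : cjr = 1 := by
    apply b.ext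
    intro i
    rw [(hb i).1, hη i, one_smul, Module.End.one_apply]
  intro C hC
  have hgC : g * C = C * g := by
    have h1 : ((cjr ⟨C, hC⟩ : ↥(commutant ρ)) : Module.End K M) = C := by
      rw [hcjr1]
      rfl
    have h2 : ((cjr ⟨C, hC⟩ : ↥(commutant ρ)) : Module.End K M) = g * (C * g') := rfl
    rw [h2] at h1
    calc g * C = g * C * (g' * g) := by rw [h.inv_mul, mul_one]
      _ = (g * (C * g')) * g := by simp only [mul_assoc]
      _ = C * g := by rw [h1]
  have hCρ : ∀ u, C * ρ u = ρ u * C := (mem_commutant ρ C).mp hC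
  obtain ⟨c, hc⟩ := Module.End.exists_eigenvalue C
  have hinv1 : ∀ u, ∀ v ∈ C.eigenspace c, ρ u v ∈ C.eigenspace c := by
    intro u v hv
    rw [Module.End.mem_eigenspace_iff] at hv ⊢
    calc C (ρ u v) = (C * ρ u) v := rfl
      _ = (ρ u * C) v := by rw [hCρ]
      _ = ρ u (C v) := rfl
      _ = c • ρ u v := by rw [hv, map_smul]
  have hinv2 : ∀ v ∈ C.eigenspace c, g v ∈ C.eigenspace c := by
    intro v hv
    rw [Module.End.mem_eigenspace_iff] at hv ⊢
    calc C (g v) = (C * g) v := rfl
      _ = (g * C) v := by rw [hgC]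
      _ = g (C v) := rfl
      _ = c • g v := by rw [hv, map_smul]
  rcases hirr _ hinv1 hinv2 with h0 | h0
  · exact absurd h0 hc
  · refine ⟨c, ?_⟩
    ext v
    have hv : v ∈ C.eigenspace c := by rw [h0]; exact Submodule.mem_top
    rw [Module.End.mem_eigenspace_iff] at hv
    simpa using hv

end PairIrr

end Cfsg.Agent.Helper48.BG36
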