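import Mathlib
import Cfsg.Agent.Lib.Helper48.BG36EXb

/-!
# BG 3.6, extraspecial case: the symplectic-type representation attached to the group data
-/

set_option autoImplicit false
set_option maxHeartbeats 400000

namespace Cfsg.Agent.Helper48.BG36

open Cfsg.Agent.Helper48.SympRep

variable {K : Type*} [Field K] {M : Type*} [AddCommGroup M] [Module K M]
  {Λ : Type*} [Group Λ]

/-- the group-theoretic context of the extraspecial case -/
structure ExCtx (S : Subgroup Λ) (ρ : ↥S →* Module.End K M) (z : Λ) (ζ : K) (s : ℕ) : Prop where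
  hs : s.Prime
  hzS : z ∈ S
  hζ : ρ ⟨z, hzS⟩ = ζ • 1
  hζ1 : ζ ≠ 1
  hzs : z ^ s = 1
  hzc : ∀ u ∈ S, z * u = u * z
  hcomm : ∀ u ∈ S, ∀ w ∈ S, u * w * u⁻¹ * w⁻¹ ∈ Subgroup.zpowers z
  hcent : ∀ u ∈ S, (∀ w ∈ S, u * w = w * u) → u ∈ Subgroup.zpowers z

namespace ExCtx

variable {S : Subgroup Λ} {ρ : ↥S →* Module.End K M} {z : Λ} {ζ : K} {s : ℕ}

lemma zeta_pow [Nontrivial M] (c : ExCtx S ρ z ζ s) : ζ ^ s = 1 := by
  have h0 : (⟨z, c.hzS⟩ : S) ^ s = 1 := by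
    apply Subtype.ext
    rw [Subgroup.coe_pow]
    exact c.hzs
  have h1 : ρ ((⟨z, c.hzS⟩ : S) ^ s) = ζ ^ s • (1 : Module.End K M) := by
    rw [map_pow, c.hζ, smul_pow, one_pow]
  rw [h0, map_one] at h1
  have h2 : (ζ ^ s - 1) • (1 : Module.End K M) = 0 := by
    rw [sub_smul, one_smul, ← h1, sub_self]
  rcases smul_eq_zero.mp h2 with h3 | h3
  · exact sub_eq_zero.mp h3
  · exact absurd h3 one_ne_zero

lemma orderOf_zeta [Nontrivial M] (c : ExCtx S ρ z ζ s) : orderOf ζ = s := by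
  have : Fact s.Prime := ⟨c.hs⟩
  exact orderOf_eq_prime c.zeta_pow c.hζ1

lemma z_pow_of_zeta_pow [Nontrivial M] (c : ExCtx S ρ z ζ s) (k : ℕ) (hk : ζ ^ k = 1) :
    z ^ k = 1 := by
  have h1 : s ∣ k := by
    rw [← c.orderOf_zeta]
    exact orderOf_dvd_of_pow_eq_one hk
  obtain ⟨t, rfl⟩ := h1
  rw [pow_mul, c.hzs, one_pow]

lemma mem_zpowers (c : ExCtx S ρ z ζ s) (y : Λ) (hy : y ∈ Subgroup.zpowers z) :
    ∃ k : ℕ, y = z ^ k := by
  have hfin : IsOfFinOrder z := isOfFinOrder_iff_pow_eq_one.mpr ⟨s, c.hs.pos, c.hzs⟩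
  rw [← hfin.mem_powers_iff_mem_zpowers] at hy
  obtain ⟨k, hk⟩ := hy
  exact ⟨k, hk.symm⟩

lemma rho_zpow (c : ExCtx S ρ z ζ s) (u : S) (k : ℕ) (hk : u.1 = z ^ k) :
    ρ u = ζ ^ k • (1 : Module.End K M) := by
  have h0 : u = (⟨z, c.hzS⟩ : S) ^ k := by
    apply Subtype.ext
    rw [Subgroup.coe_pow]
    exact hk
  rw [h0, map_pow, c.hζ, smul_pow, one_pow]

lemma rho_ne_zero' [Nontrivial M] (_ : ExCtx S ρ z ζ s) (u : S) : ρ u ≠ 0 := by
  intro h0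
  have : ρ u * ρ u⁻¹ = 1 := by rw [← map_mul, mul_inv_cancel, map_one]
  rw [h0, zero_mul] at this
  exact zero_ne_one this

/-- commutation relation -/
lemma comm_rel (c : ExCtx S ρ z ζ s) (u w : S) :
    ∃ k : ℕ, u.1 * w.1 * u.1⁻¹ * w.1⁻¹ = z ^ k ∧ ρ u * ρ w = ζ ^ k • (ρ w * ρ u) := by
  obtain ⟨k, hk⟩ := c.mem_zpowers _ (c.hcomm u.1 u.2 w.1 w.2)
  refine ⟨k, hk, ?_⟩
  have h1 : u * w = (⟨z, c.hzS⟩ : S) ^ k * (w * u) := by
    apply Subtype.ext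
    rw [Subgroup.coe_mul, Subgroup.coe_mul, Subgroup.coe_pow, Subgroup.coe_mul]
    show u.1 * w.1 = z ^ k * (w.1 * u.1)
    rw [← hk]
    group
  rw [← map_mul, h1, map_mul, map_pow, c.hζ, smul_pow, one_pow, smul_mul_assoc, one_mul, map_mul]

/-- an element acting centrally lies in `⟨z⟩` -/
lemma mem_of_central [Nontrivial M] (c : ExCtx S ρ z ζ s) (u : S)
    (hu : ∀ w : S, ρ u * ρ w = ρ w * ρ u) : u.1 ∈ Subgroup.zpowers z := by
  apply c.hcent u.1 u.2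
  intro w hw
  obtain ⟨k, hk, hk'⟩ := c.comm_rel u ⟨w, hw⟩
  rw [hu ⟨w, hw⟩] at hk'
  have h2 : (1 - ζ ^ k) • (ρ ⟨w, hw⟩ * ρ u) = 0 := by
    linear_combination (norm := module) hk'
  have h3 : ζ ^ k = 1 := by
    rcases smul_eq_zero.mp h2 with h4 | h4
    · exact (sub_eq_zero.mp h4).symm
    · exfalso
      rw [← map_mul] at h4
      exact c.rho_ne_zero' _ h4
  have h5 := c.z_pow_of_zeta_pow k h3
  rw [h5] at hk
  have h6 : u.1 * w = (u.1 * w * u.1⁻¹ * w⁻¹) * (w * u.1) := by group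
  rw [h6, hk, one_mul]

lemma isScalar_of_mem (c : ExCtx S ρ z ζ s) (u : S) (hu : u.1 ∈ Subgroup.zpowers z) :
    IsScalar (ρ u) := by
  obtain ⟨k, hk⟩ := c.mem_zpowers _ hu
  exact ⟨ζ ^ k, c.rho_zpow u k hk⟩

lemma symp [Fintype S] [Nontrivial M] (c : ExCtx S ρ z ζ s) : Symp ρ where
  comm_scalar := by
    intro u w
    obtain ⟨k, _, hk⟩ := c.comm_rel u w
    exact ⟨ζ ^ k, hk⟩
  nondeg := fun u hu => c.isScalar_of_mem u (c.mem_of_central u hu)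

lemma mem_scalarSubgroup_iff [Fintype S] [Nontrivial M] (c : ExCtx S ρ z ζ s) (u : S) :
    u ∈ scalarSubgroup ρ ↔ u.1 ∈ Subgroup.zpowers z := by
  constructor
  · intro hu
    exact c.mem_of_central u (fun w => IsScalar.comm hu (ρ w))
  · intro hu
    exact c.isScalar_of_mem u hu

/-- restriction to an invariant subspace -/
lemma restrict (c : ExCtx S ρ z ζ s) (N : Submodule K M) (hN : ∀ u, ∀ v ∈ N, ρ u v ∈ N) :
    ExCtx S (resRho ρ N hN) z ζ s where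
  hs := c.hs
  hzS := c.hzS
  hζ := by
    ext v
    have h1 := LinearMap.congr_fun c.hζ (v : M)
    rw [resRho_apply, h1]
    rfl
  hζ1 := c.hζ1
  hzs := c.hzs
  hzc := c.hzc
  hcomm := c.hcomm
  hcent := c.hcent

/-- no invariant line when `S` is nonabelian -/
lemma no_line [Nontrivial M] (c : ExCtx S ρ z ζ s) (hnab : ∃ u ∈ S, ∃ w ∈ S, u * w ≠ w * u)
    (v : M) (hv : ∀ u : S, ∃ l : K, ρ u v = l • v) : v = 0 := by
  by_contra hv0
  obtain ⟨u, hu, w, hw, huw⟩ := hnab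
  obtain ⟨k, hk, hk'⟩ := c.comm_rel ⟨u, hu⟩ ⟨w, hw⟩
  obtain ⟨l₁, hl₁⟩ := hv ⟨u, hu⟩
  obtain ⟨l₂, hl₂⟩ := hv ⟨w, hw⟩
  have h1 := LinearMap.congr_fun hk' v
  rw [Module.End.mul_apply, LinearMap.smul_apply, Module.End.mul_apply, hl₂, map_smul, hl₁,
    map_smul, hl₂, smul_smul, smul_smul, smul_smul] at h1
  have h2 : ((1 - ζ ^ k) * (l₁ * l₂)) • v = 0 := by
    have : (l₂ * l₁) • v - (ζ ^ k * l₁ * l₂) • v = 0 := sub_eq_zero.mpr h1
    rw [← sub_smul] at this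
    convert this using 2
    ring
  have hl₁0 : l₁ ≠ 0 := by
    rintro rfl
    rw [zero_smul] at hl₁
    have h3 : ρ (⟨u, hu⟩ : S)⁻¹ (ρ ⟨u, hu⟩ v) = v := by
      rw [← Module.End.mul_apply, ← map_mul, inv_mul_cancel, map_one, Module.End.one_apply]
    rw [hl₁, map_zero] at h3
    exact hv0 h3.symm
  have hl₂0 : l₂ ≠ 0 := by
    rintro rfl
    rw [zero_smul] at hl₂
    have h3 : ρ (⟨w, hw⟩ : S)⁻¹ (ρ ⟨w, hw⟩ v) = v := by
      rw [← Module.End.mul_apply, ← map_mul, inv_mul_cancel, map_one, Module.End.one_apply]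
    rw [hl₂, map_zero] at h3
    exact hv0 h3.symm
  have h3 : ζ ^ k = 1 := by
    rcases smul_eq_zero.mp h2 with h4 | h4
    · rcases mul_eq_zero.mp h4 with h5 | h5
      · exact (sub_eq_zero.mp h5).symm
      · exact absurd h5 (mul_ne_zero hl₁0 hl₂0)
    · exact absurd h4 hv0
  have h5 := c.z_pow_of_zeta_pow k h3
  rw [h5] at hk
  apply huw
  have h6 : u * w = (u * w * u⁻¹ * w⁻¹) * (w * u) := by group
  rw [h6, hk, one_mul]

end ExCtx

end Cfsg.Agent.Helper48.BG36
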