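import Mathlib
import Cfsg.Agent.Lib.Helper48.BG36EXc

/-!
# BG 3.6, extraspecial case: the minimal invariant subspace
-/

set_option autoImplicit false
set_option maxHeartbeats 400000

namespace Cfsg.Agent.Helper48.BG36

open Cfsg.Agent.Helper48.SympRep

section Nil2

variable {K : Type*} [Field K] {V : Type*} [AddCommGroup V] [Module K V] [FiniteDimensional K V]

/-- a nilpotent endomorphism squares to zero on an invariant subspace of dimension `≤ 2` -/
lemma nil2 (Y : Module.End K V) (F : Submodule K V) (hF : ∀ v ∈ F, Y v ∈ F)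
    (hdim : Module.finrank K F ≤ 2) (k : ℕ) (hk : ∀ v ∈ F, (Y ^ k) v = 0) :
    ∀ v ∈ F, Y (Y v) = 0 := by
  let Yr : Module.End K F := Y.restrict hF
  have hpow : ∀ (j : ℕ) (v : F), (((Yr ^ j) v : F) : V) = (Y ^ j) v.1 := by
    intro j
    induction j with
    | zero => intro v; simp
    | succ j ih =>
      intro v
      rw [pow_succ', Module.End.mul_apply, pow_succ', Module.End.mul_apply]
      show Y ((Yr ^ j) v).1 = _
      rw [ih]
  have hk' : Yr ^ k = 0 := by
    ext v
    rw [hpow, hk v.1 v.2]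
    rfl
  have h1 : LinearMap.ker (Yr ^ k) ≤ LinearMap.ker (Yr ^ Module.finrank K F) :=
    Module.End.ker_pow_le_ker_pow_finrank Yr k
  have h2 : Yr ^ Module.finrank K F = 0 := by
    ext v
    have h3 : v ∈ LinearMap.ker (Yr ^ k) := by
      rw [hk']
      simp
    have h4 := h1 h3
    rw [LinearMap.mem_ker] at h4
    rw [h4]
    rfl
  have h3 : Yr ^ 2 = 0 := pow_eq_zero_of_le hdim h2
  intro v hv
  have h4 := hpow 2 ⟨v, hv⟩
  rw [h3, pow_two, Module.End.mul_apply] at h4
  exact h4.symm

open Classical in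
/-- the eigenspace of a diagonal endomorphism is spanned by the basis vectors with that eigenvalue -/
lemma finrank_eigenspace_le {ι : Type*} [Fintype ι] [DecidableEq ι] (b : Module.Basis ι K V)
    (g : Module.End K V) (η : ι → K) (hb : ∀ i, g (b i) = η i • b i) (μ : K) :
    Module.finrank K (g.eigenspace μ) ≤ (Finset.univ.filter (fun i : ι => η i = μ)).card := by
  have hle : g.eigenspace μ ≤
      Submodule.span K ((Finset.univ.filter (fun i : ι => η i = μ)).image b : Set V) := by
    intro v hv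
    rw [Module.End.mem_eigenspace_iff] at hv
    have hrepr : ∀ i, η i * b.repr v i = μ * b.repr v i := by
      intro i
      have h1 : g v = ∑ j, (b.repr v j * η j) • b j := by
        conv_lhs => rw [← b.sum_repr v]
        rw [map_sum]
        refine Finset.sum_congr rfl ?_
        intro j _
        rw [map_smul, hb j, smul_smul]
      have h2 : b.repr (g v) i = b.repr v i * η i := by
        rw [h1, b.repr_sum_self]
      have h3 : b.repr (g v) i = μ * b.repr v i := by
        rw [hv, map_smul]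
        rfl
      rw [mul_comm, ← h2, h3]
    have hzero : ∀ i, η i ≠ μ → b.repr v i = 0 := by
      intro i hi
      have h1 : (η i - μ) * b.repr v i = 0 := by rw [sub_mul, hrepr i, sub_self]
      rcases mul_eq_zero.mp h1 with h2 | h2
      · exact absurd (sub_eq_zero.mp h2) hi
      · exact h2
    rw [← b.sum_repr v]
    apply Submodule.sum_mem
    intro i _
    by_cases hi : η i = μ
    · apply Submodule.smul_mem
      apply Submodule.subset_span
      rw [Finset.coe_image]
      exact ⟨i, by simp [hi], rfl⟩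
    · rw [hzero i hi, zero_smul]
      exact Submodule.zero_mem _
  calc Module.finrank K (g.eigenspace μ) ≤ Module.finrank K (Submodule.span K
        ((Finset.univ.filter (fun i : ι => η i = μ)).image b : Set V)) :=
        Submodule.finrank_mono hle
    _ ≤ ((Finset.univ.filter (fun i : ι => η i = μ)).image b).card :=
        finrank_span_finset_le_card _
    _ ≤ (Finset.univ.filter (fun i : ι => η i = μ)).card := Finset.card_image_le


omit [FiniteDimensional K V] in
lemma restrict_pow_apply (Y : Module.End K V) (F : Submodule K V) (hF : ∀ v ∈ F, Y v ∈ F)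
    (j : ℕ) (v : F) : ((((Y.restrict hF) ^ j) v : F) : V) = (Y ^ j) v.1 := by
  induction j generalizing v with
  | zero => simp
  | succ j ih =>
    rw [pow_succ', Module.End.mul_apply, pow_succ', Module.End.mul_apply]
    show Y (((Y.restrict hF) ^ j) v).1 = _
    rw [ih]

end Nil2

section T1

variable {K : Type*} [Field K] [IsAlgClosed K] {M : Type*} [AddCommGroup M] [Module K M]
  [FiniteDimensional K M] {Λ : Type*} [Group Λ]

/-- **The minimal invariant subspace.** -/
theorem T1 {S : Subgroup Λ} [Finite S] {ρ : ↥S →* Module.End K M} {z : Λ} {ζ : K} {s : ℕ}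
    (c : ExCtx S ρ z ζ s) (hnab : ∃ u ∈ S, ∃ w ∈ S, u * w ≠ w * u) (hSs : IsPGroup s S)
    (hsK : (s : K) ≠ 0) (hs2 : s ≠ 2)
    {α : ↥S ≃* ↥S} {g g' : Module.End K M} (hn : Normalises ρ α g g')
    {r : ℕ} (hr : r.Prime) (hrK : (r : K) ≠ 0) (hr2 : r ≠ 2) (hsr : s ≠ r) (hgr : g ^ r = 1)
    (hfpf : ∀ u : S, (α u).1 * u.1⁻¹ ∈ Subgroup.zpowers z → u.1 ∈ Subgroup.zpowers z)
    (hfix : ∃ m₀ : M, ∀ m : M, g m = m → ∃ c : K, m = c • m₀)
    (N : Submodule K M) (hN0 : N ≠ ⊥) (hN : Inv ρ g g' N)
    (hmin : ∀ N' : Submodule K M, N' ≤ N → N' ≠ ⊥ → (∀ u, ∀ v ∈ N', ρ u v ∈ N') →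
      (∀ v ∈ N', g v ∈ N') → N' = N) :
    (∃ m₁ ∈ N, m₁ ≠ 0 ∧ g m₁ = m₁) ∧
    ∀ Y : Module.End K M, (∀ v ∈ N, Y v ∈ N) → Y * g = g * Y →
      (∃ k : ℕ, ∀ v ∈ N, (Y ^ k) v = 0) → ∀ v ∈ N, Y (Y v) = 0 := by
  classical
  have : Fintype S := Fintype.ofFinite _
  have : Fact s.Prime := ⟨c.hs⟩
  have hNt : Nontrivial ↥N := Submodule.nontrivial_iff_ne_bot.mpr hN0
  set ρN := resRho ρ N hN.1 with hρN
  set gN : Module.End K N := g.restrict hN.2.1 with hgN
  set gN' : Module.End K N := g'.restrict hN.2.2 with hgN'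
  have cN : ExCtx S ρN z ζ s := c.restrict N hN.1
  have hnN : Normalises ρN α gN gN' := hn.restrict hN
  have hgNr : gN ^ r = 1 := by
    ext v
    rw [restrict_pow_apply, hgr]
    rfl
  -- the fixed-point bound on `N`
  have hfixN : ∃ m₀ : N, ∀ m : N, gN m = m → ∃ c : K, m = c • m₀ := by
    obtain ⟨m₀, hm₀⟩ := hfix
    by_cases hex : ∃ m : N, m ≠ 0 ∧ gN m = m
    · obtain ⟨m, hm0, hm⟩ := hex
      refine ⟨m, fun m' hm' => ?_⟩
      obtain ⟨c₁, hc₁⟩ := hm₀ m.1 (congrArg Subtype.val hm)
      obtain ⟨c₂, hc₂⟩ := hm₀ m'.1 (congrArg Subtype.val hm')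
      have hc₁0 : c₁ ≠ 0 := by
        rintro rfl
        rw [zero_smul] at hc₁
        exact hm0 (Subtype.ext hc₁)
      refine ⟨c₂ / c₁, Subtype.ext ?_⟩
      show m'.1 = (c₂ / c₁) • m.1
      rw [hc₂, hc₁, smul_smul, div_mul_cancel₀ _ hc₁0]
    · push Not at hex
      refine ⟨0, fun m hm => ⟨0, ?_⟩⟩
      by_contra hne
      have hm0 : m ≠ 0 := by
        intro h0
        apply hne
        rw [h0, smul_zero]
      exact hex m hm0 hm
  -- irreducibility under the pair
  have hirrN : ∀ N'' : Submodule K N, (∀ u, ∀ v ∈ N'', ρN u v ∈ N'') → (∀ v ∈ N'', gN v ∈ N'') →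
      N'' = ⊥ ∨ N'' = ⊤ := by
    intro N'' h1 h2
    let N' : Submodule K M := N''.map N.subtype
    have hN'le : N' ≤ N := by
      rintro v ⟨w, _, rfl⟩
      exact w.2
    have hN'1 : ∀ u, ∀ v ∈ N', ρ u v ∈ N' := by
      rintro u v ⟨w, hw, rfl⟩
      exact ⟨ρN u w, h1 u w hw, rfl⟩
    have hN'2 : ∀ v ∈ N', g v ∈ N' := by
      rintro v ⟨w, hw, rfl⟩
      exact ⟨gN w, h2 w hw, rfl⟩
    by_cases h0 : N' = ⊥
    · left
      rw [eq_bot_iff]
      intro w hw
      have h3 : (w : M) ∈ N' := ⟨w, hw, rfl⟩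
      rw [h0, Submodule.mem_bot] at h3
      rw [Submodule.mem_bot]
      exact Subtype.ext h3
    · right
      have h3 := hmin N' hN'le h0 hN'1 hN'2
      rw [eq_top_iff]
      intro w _
      have h4 : (w : M) ∈ N' := by rw [h3]; exact w.2
      obtain ⟨w', hw', hww⟩ := h4
      have : w' = w := Subtype.ext hww
      rw [← this]
      exact hw'
  have hlineN := cN.no_line hnab
  have hcommN := scalar_commutant_of_pair_irr hnN hr hrK hgNr hirrN hfixN hlineN
  have hQ : (Fintype.card S : K) ≠ 0 := by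
    obtain ⟨n, hn'⟩ := IsPGroup.iff_card.mp hSs
    rw [← Nat.card_eq_fintype_card, hn', Nat.cast_pow]
    exact pow_ne_zero _ hsK
  have hfpfN : ∀ u, (∃ l : K, ρN (α u) = l • ρN u) → u ∈ scalarSubgroup ρN := by
    rintro u ⟨l, hl⟩
    have h1 : IsScalar (ρN (α u * u⁻¹)) := by
      refine ⟨l, ?_⟩
      rw [map_mul, hl, smul_mul_assoc, rho_mul_inv]
    have h2 : (α u * u⁻¹ : S).1 ∈ Subgroup.zpowers z := (cN.mem_scalarSubgroup_iff _).mp h1
    have h3 : u.1 ∈ Subgroup.zpowers z := hfpf u h2
    exact (cN.mem_scalarSubgroup_iff u).mpr h3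
  obtain ⟨ι, _, b, η, hb⟩ := exists_eigenbasis gN r hrK hgNr
  let E : Finset K := Polynomial.nthRootsFinset r (1 : K)
  have hE : ∀ i, η i ∈ E := fun i => (Polynomial.mem_nthRootsFinset hr.pos 1).mpr (hb i).2
  have h1E : (1 : K) ∈ E := (Polynomial.mem_nthRootsFinset hr.pos 1).mpr (one_pow r)
  have hEcard : E.card ≤ r := by
    show (Polynomial.nthRootsFinset r (1 : K)).card ≤ r
    unfold Polynomial.nthRootsFinset
    exact (Multiset.toFinset_card_le _).trans (Polynomial.card_nthRoots r 1)
  obtain ⟨hmn, hsq, hd⟩ := mult_le cN.symp hQ hnN hr hgNr hfpfN hcommN b η (fun i => (hb i).1) E hE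
    hEcard
  have hsum1 : ∑ e ∈ E, (Finset.univ.filter (fun i : ι => η i = e)).card = Fintype.card ι := by
    rw [← Finset.card_univ (α := ι)]
    exact (Finset.card_eq_sum_card_fiberwise (fun i _ => hE i)).symm
  have hcardι : Module.finrank K N = Fintype.card ι := Module.finrank_eq_card_basis b
  -- multiplicity of the eigenvalue 1
  have hd1 : (Finset.univ.filter (fun i : ι => η i = 1)).card ≤ 1 := by
    rw [Finset.card_le_one]
    intro i hi j hj
    rw [Finset.mem_filter] at hi hj
    by_contra hij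
    obtain ⟨m₀, hm₀⟩ := hfixN
    have hfi : gN (b i) = b i := by rw [(hb i).1, hi.2, one_smul]
    have hfj : gN (b j) = b j := by rw [(hb j).1, hj.2, one_smul]
    obtain ⟨c₁, hc₁⟩ := hm₀ _ hfi
    obtain ⟨c₂, hc₂⟩ := hm₀ _ hfj
    have hc₁0 : c₁ ≠ 0 := by
      rintro rfl
      rw [zero_smul] at hc₁
      exact b.ne_zero i hc₁
    have h1 : b j = (c₂ / c₁) • b i := by
      rw [hc₂, hc₁, smul_smul, div_mul_cancel₀ _ hc₁0]
    have h2 := congrArg (fun v => b.repr v j) h1
    simp only [map_smul, Module.Basis.repr_self, Finsupp.smul_apply, Finsupp.single_apply,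
      if_true, smul_eq_mul] at h2
    rw [if_neg hij, mul_zero] at h2
    exact one_ne_zero h2
  rcases Nat.le_one_iff_eq_zero_or_eq_one.mp hd1 with hd0 | hd1'
  · -- no fixed vector: impossible by parity
    exfalso
    have hle1 : ∀ e ∈ E, (Finset.univ.filter (fun i : ι => η i = e)).card ≤ 1 := by
      intro e he
      have := hd 1 h1E e he
      omega
    have hsqsum : ∑ e ∈ E, (Finset.univ.filter (fun i : ι => η i = e)).card ^ 2 =
        Fintype.card ι := by
      rw [← hsum1]
      refine Finset.sum_congr rfl ?_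
      intro e he
      have := hle1 e he
      interval_cases (Finset.univ.filter (fun i : ι => η i = e)).card <;> simp
    rw [hsqsum] at hsq
    set m := Fintype.card ι with hm
    have hmr : m ≤ r := by
      calc m = ∑ e ∈ E, (Finset.univ.filter (fun i : ι => η i = e)).card := hsum1.symm
        _ ≤ ∑ _e ∈ E, 1 := Finset.sum_le_sum hle1
        _ = E.card := by simp
        _ ≤ r := hEcard
    -- m * m is a power of s, bigger than one
    have hidx : Nat.card (↥S ⧸ scalarSubgroup ρN) = (scalarSubgroup ρN).index := rfl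
    have hne_top : scalarSubgroup ρN ≠ ⊤ := by
      intro htop
      obtain ⟨u, hu, w, hw, huw⟩ := hnab
      have h1 : (⟨u, hu⟩ : S) ∈ scalarSubgroup ρN := by rw [htop]; exact Subgroup.mem_top _
      have h2 : u ∈ Subgroup.zpowers z := (cN.mem_scalarSubgroup_iff _).mp h1
      obtain ⟨k, rfl⟩ := cN.mem_zpowers u h2
      apply huw
      have h3 : ∀ k : ℕ, z ^ k * w = w * z ^ k := by
        intro k
        induction k with
        | zero => simp
        | succ k ih => rw [pow_succ, mul_assoc, c.hzc w hw, ← mul_assoc, ih, mul_assoc]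
      exact h3 k
    have hn1 : 1 < Nat.card (↥S ⧸ scalarSubgroup ρN) := by
      rw [hidx]
      exact Subgroup.one_lt_index_of_ne_top hne_top
    have hdvd : Nat.card (↥S ⧸ scalarSubgroup ρN) ∣ Nat.card S := by
      rw [hidx]
      exact Subgroup.index_dvd_card _
    obtain ⟨n, hn'⟩ := IsPGroup.iff_card.mp hSs
    rw [hn', ← hmn, hcardι] at hdvd
    rw [← hmn, hcardι] at hn1
    have hmdvd : m ∣ s ^ n := (Dvd.intro _ rfl).trans hdvd
    obtain ⟨i, _, hi⟩ := (Nat.dvd_prime_pow c.hs).mp hmdvd
    have hi0 : i ≠ 0 := by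
      rintro rfl
      rw [pow_zero] at hi
      rw [hi] at hn1
      omega
    have hsodd : Odd s := c.hs.odd_of_ne_two hs2
    have hrodd : Odd r := hr.odd_of_ne_two hr2
    have hmodd : Odd m := by rw [hi]; exact hsodd.pow
    have hm2 : 2 ≤ m := by
      by_contra hlt
      push Not at hlt
      have : m * m ≤ 1 := by nlinarith
      omega
    have hmge : r ≤ m + 1 := by
      have h1 : (r : ℤ) * m ≤ r - 1 + (m : ℤ) ^ 2 := by
        have : ((r * m : ℕ) : ℤ) ≤ ((r - 1 + m ^ 2 : ℕ) : ℤ) := by exact_mod_cast hsq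
        push_cast [Nat.cast_sub hr.pos] at this
        linarith
      have h2 : (2 : ℤ) ≤ m := by exact_mod_cast hm2
      have h3 : (r : ℤ) ≤ m + 1 := by nlinarith
      exact_mod_cast h3
    rcases Nat.lt_or_ge m r with hlt | hge
    · -- m = r - 1
      have : m + 1 = r := by omega
      obtain ⟨a₁, ha₁⟩ := hmodd
      obtain ⟨a₂, ha₂⟩ := hrodd
      omega
    · have hmr' : m = r := le_antisymm hmr hge
      have h1 : r ∣ s ^ i := by rw [← hi, hmr']
      have h2 : r ∣ s := hr.dvd_of_dvd_pow h1
      exact hsr ((Nat.prime_dvd_prime_iff_eq hr c.hs).mp h2).symm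
  · -- a fixed vector exists and all multiplicities are at most two
    have hne : (Finset.univ.filter (fun i : ι => η i = 1)).Nonempty := by
      rw [← Finset.card_pos, hd1']
      exact Nat.one_pos
    obtain ⟨i₁, hi₁⟩ := hne
    rw [Finset.mem_filter] at hi₁
    refine ⟨⟨(b i₁ : M), (b i₁).2, ?_, ?_⟩, ?_⟩
    · intro h0
      exact b.ne_zero i₁ (Subtype.ext h0)
    · have h1 : gN (b i₁) = b i₁ := by rw [(hb i₁).1, hi₁.2, one_smul]
      exact congrArg Subtype.val h1
    · intro Y hYN hYg ⟨k, hk⟩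
      set YN : Module.End K N := Y.restrict hYN with hYNdef
      have hcommYg : YN * gN = gN * YN := by
        ext v
        have := LinearMap.congr_fun hYg (v : M)
        exact this
      have hYY : YN * YN = 0 := by
        apply b.ext
        intro i
        set F := gN.eigenspace (η i) with hF
        have hbF : b i ∈ F := Module.End.mem_eigenspace_iff.mpr (hb i).1
        have hFinv : ∀ v ∈ F, YN v ∈ F := by
          intro v hv
          rw [Module.End.mem_eigenspace_iff] at hv ⊢
          calc gN (YN v) = (gN * YN) v := rfl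
            _ = (YN * gN) v := by rw [hcommYg]
            _ = YN (gN v) := rfl
            _ = η i • YN v := by rw [hv, map_smul]
        have hFdim : Module.finrank K F ≤ 2 := by
          have h1 : Module.finrank K F ≤ (Finset.univ.filter (fun j : ι => η j = η i)).card :=
            finrank_eigenspace_le b gN η (fun i => (hb i).1) (η i)
          have h2 := hd 1 h1E (η i) (hE i)
          omega
        have hFk : ∀ v ∈ F, (YN ^ k) v = 0 := by
          intro v _
          apply Subtype.ext
          rw [restrict_pow_apply, hk v.1 v.2]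
          rfl
        have := nil2 YN F hFinv hFdim k hFk (b i) hbF
        rw [Module.End.mul_apply, this]
        rfl
      intro v hv
      have h1 := LinearMap.congr_fun hYY ⟨v, hv⟩
      exact congrArg Subtype.val h1

end T1

end Cfsg.Agent.Helper48.BG36
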