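import Mathlib
import Cfsg.Agent.Lib.Helper48.BG36EXd
import Cfsg.Agent.Lib.Helper31.HHBase

/-!
# BG 3.6, extraspecial case: the statement over an algebraically closed field
-/

set_option autoImplicit false
set_option maxHeartbeats 400000

namespace Cfsg.Agent.Helper48.BG36

open Cfsg.Agent.Helper48.SympRep

section Aux

variable {K : Type*} [Field K] {M : Type*} [AddCommGroup M] [Module K M]
  {Λ : Type*} [Group Λ]

/-- conjugation by a normalizing element, as an automorphism of the finite subgroup `S` -/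
noncomputable def conjEquiv (S : Subgroup Λ) [Finite S] (y : Λ) (hy : ∀ u ∈ S, y * u * y⁻¹ ∈ S) :
    ↥S ≃* ↥S :=
  MulEquiv.ofBijective
    ({ toFun := fun u => ⟨y * u.1 * y⁻¹, hy u.1 u.2⟩
       map_one' := by apply Subtype.ext; simp
       map_mul' := by intro u w; apply Subtype.ext; simp [mul_assoc] } : ↥S →* ↥S)
    (Finite.injective_iff_bijective.mp (by
      intro u w huw
      have h1 : y * u.1 * y⁻¹ = y * w.1 * y⁻¹ := congrArg Subtype.val huw
      apply Subtype.ext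
      simpa using h1))

lemma conjEquiv_apply (S : Subgroup Λ) [Finite S] (y : Λ) (hy : ∀ u ∈ S, y * u * y⁻¹ ∈ S)
    (u : S) : ((conjEquiv S y hy u : S) : Λ) = y * u.1 * y⁻¹ := rfl

lemma inv_conj_mem (S : Subgroup Λ) [Finite S] (y : Λ) (hy : ∀ u ∈ S, y * u * y⁻¹ ∈ S)
    (u : Λ) (hu : u ∈ S) : y⁻¹ * u * y ∈ S := by
  obtain ⟨w, hw⟩ := (conjEquiv S y hy).surjective ⟨u, hu⟩
  have h1 : y * w.1 * y⁻¹ = u := congrArg Subtype.val hw
  have h2 : y⁻¹ * u * y = w.1 := by rw [← h1]; group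
  rw [h2]
  exact w.2

lemma normalises_conj (ψ : Λ →* Module.End K M) (S : Subgroup Λ) [Finite S] (y : Λ)
    (hy : ∀ u ∈ S, y * u * y⁻¹ ∈ S) :
    Normalises (ψ.comp S.subtype) (conjEquiv S y hy) (ψ y) (ψ y⁻¹) where
  mul_inv := by rw [← map_mul, mul_inv_cancel, map_one]
  inv_mul := by rw [← map_mul, inv_mul_cancel, map_one]
  conj := by
    intro u
    show ψ y * ψ u.1 = ψ (y * u.1 * y⁻¹) * ψ y
    rw [← map_mul, ← map_mul]
    congr 1
    group

/-- the stabilizer of a subspace -/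
def stab (ψ : Λ →* Module.End K M) (N : Submodule K M) : Subgroup Λ where
  carrier := {γ | (∀ v ∈ N, ψ γ v ∈ N) ∧ (∀ v ∈ N, ψ γ⁻¹ v ∈ N)}
  one_mem' := by
    refine ⟨fun v hv => ?_, fun v hv => ?_⟩
    · rw [map_one]; exact hv
    · rw [inv_one, map_one]; exact hv
  mul_mem' := by
    rintro γ γ' ⟨h1, h2⟩ ⟨h1', h2'⟩
    refine ⟨fun v hv => ?_, fun v hv => ?_⟩
    · rw [map_mul]; exact h1 _ (h1' v hv)
    · rw [mul_inv_rev, map_mul]; exact h2' _ (h2 v hv)
  inv_mem' := by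
    rintro γ ⟨h1, h2⟩
    refine ⟨h2, ?_⟩
    rw [inv_inv]
    exact h1

lemma mem_stab (ψ : Λ →* Module.End K M) (N : Submodule K M) (γ : Λ) :
    γ ∈ stab ψ N ↔ (∀ v ∈ N, ψ γ v ∈ N) ∧ (∀ v ∈ N, ψ γ⁻¹ v ∈ N) := Iff.rfl

/-- the representation of the stabilizer on the subspace -/
def stabRep (ψ : Λ →* Module.End K M) (N : Submodule K M) :
    ↥(stab ψ N) →* Module.End K ↥N where
  toFun γ := (ψ γ.1).restrict γ.2.1
  map_one' := by
    ext v
    simp
  map_mul' := by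
    intro γ γ'
    ext v
    simp

lemma stabRep_apply (ψ : Λ →* Module.End K M) (N : Submodule K M) (γ : ↥(stab ψ N)) (v : N) :
    ((stabRep ψ N γ v : N) : M) = ψ γ.1 (v : M) := rfl

end Aux


section EXK

variable {K : Type*} [Field K] [IsAlgClosed K] {M : Type*} [AddCommGroup M] [Module K M]
  [FiniteDimensional K M] {Λ : Type*} [Group Λ] [Finite Λ]

open Cfsg.Agent.Helper31.HH in
/-- **The extraspecial case over an algebraically closed field.** -/
theorem EX_K {p : ℕ} [hp : Fact p.Prime] [CharP K p] [Nontrivial M] (ψ : Λ →* Module.End K M)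
    {s r : ℕ} (hs : s.Prime) (hr : r.Prime) (hps : p ≠ s) (hpr : p ≠ r) (hsr : s ≠ r)
    (hp2 : p ≠ 2) (hs2 : s ≠ 2) (hr2 : r ≠ 2)
    (S : Subgroup Λ) (hSs : IsPGroup s S)
    (z : Λ) (hzS : z ∈ S) (ζ : K) (hζ : ψ z = ζ • 1) (hζ1 : ζ ≠ 1) (hzs : z ^ s = 1)
    (hzc : ∀ u ∈ S, z * u = u * z)
    (hcomm : ∀ u ∈ S, ∀ w ∈ S, u * w * u⁻¹ * w⁻¹ ∈ Subgroup.zpowers z)
    (hcent : ∀ u ∈ S, (∀ w ∈ S, u * w = w * u) → u ∈ Subgroup.zpowers z)
    (hnab : ∃ u ∈ S, ∃ w ∈ S, u * w ≠ w * u)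
    (x a : Λ) (hxa : x * a = a * x) (hxp : x ^ p = 1) (har : a ^ r = 1)
    (hxS : ∀ u ∈ S, x * u * x⁻¹ ∈ S) (haS : ∀ u ∈ S, a * u * a⁻¹ ∈ S)
    (hfpf : ∀ u ∈ S, a * u * a⁻¹ * u⁻¹ ∈ Subgroup.zpowers z → u ∈ Subgroup.zpowers z)
    (hfix : ∃ m₀ : M, ∀ m : M, ψ a m = m → ∃ c : K, m = c • m₀) :
    ∀ u ∈ S, x * u = u * x := by
  classical
  have hpP : p.Prime := hp.out
  have : Fact s.Prime := ⟨hs⟩
  have hsK : ((s : ℕ) : K) ≠ 0 := by
    rw [Ne, CharP.cast_eq_zero_iff K p s]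
    intro hdvd
    exact hps ((Nat.prime_dvd_prime_iff_eq hpP hs).mp hdvd)
  have hrK : ((r : ℕ) : K) ≠ 0 := by
    rw [Ne, CharP.cast_eq_zero_iff K p r]
    intro hdvd
    exact hpr ((Nat.prime_dvd_prime_iff_eq hpP hr).mp hdvd)
  set ρ : ↥S →* Module.End K M := ψ.comp S.subtype with hρ
  have c : ExCtx S ρ z ζ s :=
    { hs := hs, hzS := hzS, hζ := hζ, hζ1 := hζ1, hzs := hzs, hzc := hzc, hcomm := hcomm,
      hcent := hcent }
  set α := conjEquiv S a haS with hα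
  set g : Module.End K M := ψ a with hg
  set g' : Module.End K M := ψ a⁻¹ with hg'
  have hn : Normalises ρ α g g' := normalises_conj ψ S a haS
  have hgr : g ^ r = 1 := by rw [hg, ← map_pow, har, map_one]
  have hg'eq : g' = g ^ (r - 1) := by
    have h1 : g' * g ^ r = g' := by rw [hgr, mul_one]
    have h2 : g ^ r = g * g ^ (r - 1) := by
      rw [← pow_succ']
      congr 1
      have := hr.pos
      omega
    rw [h2, ← mul_assoc, hn.inv_mul, one_mul] at h1
    exact h1.symm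
  have hg'inv : ∀ N' : Submodule K M, (∀ v ∈ N', g v ∈ N') → ∀ v ∈ N', g' v ∈ N' := by
    intro N' hN' v hv
    rw [hg'eq]
    have : ∀ k : ℕ, ∀ v ∈ N', (g ^ k) v ∈ N' := by
      intro k
      induction k with
      | zero => intro v hv; simpa using hv
      | succ k ih =>
        intro v hv
        rw [pow_succ', Module.End.mul_apply]
        exact hN' _ (ih v hv)
    exact this _ v hv
  -- a minimal invariant subspace
  let P : ℕ → Prop := fun n => ∃ N : Submodule K M, N ≠ ⊥ ∧ (∀ u, ∀ v ∈ N, ρ u v ∈ N) ∧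
    (∀ v ∈ N, g v ∈ N) ∧ Module.finrank K N = n
  have hex : ∃ n, P n := ⟨_, ⊤, top_ne_bot, fun _ _ _ => Submodule.mem_top,
    fun _ _ => Submodule.mem_top, rfl⟩
  obtain ⟨N, hN0, hNρ, hNg, hNn⟩ := Nat.find_spec hex
  have hmin : ∀ N' : Submodule K M, N' ≤ N → N' ≠ ⊥ → (∀ u, ∀ v ∈ N', ρ u v ∈ N') →
      (∀ v ∈ N', g v ∈ N') → N' = N := by
    intro N' hle h0 h1 h2
    have h3 : Nat.find hex ≤ Module.finrank K N' := Nat.find_min' hex ⟨N', h0, h1, h2, rfl⟩
    exact Submodule.eq_of_le_of_finrank_le hle (by rw [hNn]; exact h3)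
  have hNinv : Inv ρ g g' N := ⟨hNρ, hNg, hg'inv N hNg⟩
  have hfpf' : ∀ u : S, (α u).1 * u.1⁻¹ ∈ Subgroup.zpowers z → u.1 ∈ Subgroup.zpowers z := by
    intro u hu
    apply hfpf u.1 u.2
    rw [hα, conjEquiv_apply] at hu
    exact hu
  obtain ⟨⟨m₁, hm₁N, hm₁0, hgm₁⟩, hY⟩ := T1 c hnab hSs hsK hs2 hn hr hrK hr2 hsr hgr hfpf' hfix N
    hN0 hNinv hmin
  -- `x` stabilizes `N`
  set X : Module.End K M := ψ x with hX
  have hXg : X * g = g * X := by rw [hX, hg, ← map_mul, ← map_mul, hxa]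
  have hXinj : Function.Injective X := by
    intro v w hvw
    have h1 : ψ x⁻¹ (X v) = ψ x⁻¹ (X w) := by rw [hvw]
    rw [hX, ← Module.End.mul_apply, ← Module.End.mul_apply, ← map_mul, inv_mul_cancel, map_one]
      at h1
    exact h1
  have hXN : ∀ v ∈ N, X v ∈ N := by
    set N₂ : Submodule K M := N.map X with hN₂
    have hN₂ρ : ∀ u, ∀ v ∈ N₂, ρ u v ∈ N₂ := by
      rintro u v ⟨w, hw, rfl⟩
      have hu' : x⁻¹ * u.1 * x ∈ S := inv_conj_mem S x hxS u.1 u.2
      refine ⟨ρ ⟨x⁻¹ * u.1 * x, hu'⟩ w, hNρ _ w hw, ?_⟩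
      show ψ x (ψ (x⁻¹ * u.1 * x) w) = ψ u.1 (ψ x w)
      rw [← Module.End.mul_apply, ← Module.End.mul_apply, ← map_mul, ← map_mul]
      congr 2
      group
    have hN₂g : ∀ v ∈ N₂, g v ∈ N₂ := by
      rintro v ⟨w, hw, rfl⟩
      refine ⟨g w, hNg w hw, ?_⟩
      show X (g w) = g (X w)
      rw [← Module.End.mul_apply, hXg]
      rfl
    have hXm₁ : X m₁ ∈ N := by
      obtain ⟨m₀, hm₀⟩ := hfix
      have h1 : g (X m₁) = X m₁ := by
        rw [← Module.End.mul_apply, ← hXg, Module.End.mul_apply, hgm₁]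
      obtain ⟨c₁, hc₁⟩ := hm₀ m₁ hgm₁
      obtain ⟨c₂, hc₂⟩ := hm₀ (X m₁) h1
      have hc₁0 : c₁ ≠ 0 := by
        rintro rfl
        rw [zero_smul] at hc₁
        exact hm₁0 hc₁
      have h2 : X m₁ = (c₂ / c₁) • m₁ := by
        rw [hc₂, hc₁, smul_smul, div_mul_cancel₀ _ hc₁0]
      rw [h2]
      exact N.smul_mem _ hm₁N
    have hXm₁0 : X m₁ ≠ 0 := by
      intro h0
      apply hm₁0
      apply hXinj
      rw [h0, map_zero]
    have hinf : N ⊓ N₂ = N := by
      apply hmin _ inf_le_left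
      · intro hbot
        have : X m₁ ∈ N ⊓ N₂ := ⟨hXm₁, ⟨m₁, hm₁N, rfl⟩⟩
        rw [hbot, Submodule.mem_bot] at this
        exact hXm₁0 this
      · intro u v hv
        exact ⟨hNρ u v hv.1, hN₂ρ u v hv.2⟩
      · intro v hv
        exact ⟨hNg v hv.1, hN₂g v hv.2⟩
    have hle : N ≤ N₂ := by
      rw [← hinf]
      exact inf_le_right
    have hdim : Module.finrank K N₂ = Module.finrank K N := by
      rw [hN₂]
      exact (Submodule.equivMapOfInjective X hXinj N).symm.finrank_eq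
    have heq : N = N₂ := Submodule.eq_of_le_of_finrank_le hle (by rw [hdim])
    intro v hv
    rw [heq]
    exact ⟨v, hv, rfl⟩
  have hXpow : X ^ p = 1 := by rw [hX, ← map_pow, hxp, map_one]
  -- the stabilizer
  have hX'N : ∀ v ∈ N, ψ x⁻¹ v ∈ N := by
    have hx' : x⁻¹ = x ^ (p - 1) := by
      have h1 : x * x ^ (p - 1) = 1 := by
        rw [← pow_succ']
        have : p - 1 + 1 = p := by have := hpP.pos; omega
        rw [this, hxp]
      exact inv_eq_of_mul_eq_one_right h1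
    rw [hx', map_pow]
    have : ∀ k : ℕ, ∀ v ∈ N, ((ψ x) ^ k) v ∈ N := by
      intro k
      induction k with
      | zero => intro v hv; simpa using hv
      | succ k ih =>
        intro v hv
        rw [pow_succ', Module.End.mul_apply]
        exact hXN _ (ih v hv)
    exact this _
  have hxst : x ∈ stab ψ N := ⟨hXN, hX'N⟩
  have hSst : S ≤ stab ψ N := by
    intro u hu
    exact ⟨fun v hv => hNρ ⟨u, hu⟩ v hv, fun v hv => hNρ ⟨u⁻¹, S.inv_mem hu⟩ v hv⟩
  -- quadratic action of `x` on `N`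
  have hCharEnd : CharP (Module.End K M) p :=
    charP_of_injective_algebraMap (algebraMap K (Module.End K M)).injective p
  have hYp : (X - 1) ^ p = 0 := by
    haveI := hCharEnd
    rw [sub_pow_char_of_commute p (Commute.one_right X), hXpow, one_pow, sub_self]
  have hquad : ∀ v ∈ N, (X - 1) ((X - 1) v) = 0 := by
    apply hY (X - 1)
    · intro v hv
      rw [LinearMap.sub_apply, Module.End.one_apply]
      exact N.sub_mem (hXN v hv) hv
    · rw [sub_mul, mul_sub, hXg, one_mul, mul_one]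
    · exact ⟨p, fun v _ => by rw [hYp]; rfl⟩
  have hNt : Nontrivial ↥N := Submodule.nontrivial_iff_ne_bot.mpr hN0
  set ρB := stabRep ψ N with hρB
  set QB : Subgroup ↥(stab ψ N) := S.subgroupOf (stab ψ N) with hQB
  set xB : ↥(stab ψ N) := ⟨x, hxst⟩ with hxB
  have hquadB : (ρB xB - 1) ^ 2 = 0 := by
    ext v
    rw [pow_two, Module.End.mul_apply]
    have h1 : ∀ w : N, (((ρB xB - 1) w : N) : M) = (X - 1) (w : M) := by
      intro w
      rfl
    rw [h1, h1]
    exact hquad v.1 v.2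
  by_cases hNC : ∃ γ ∈ QB, ρB γ * ρB (xB ^ p ^ 0) ≠ ρB (xB ^ p ^ 0) * ρB γ
  · -- Hall–Higman Theorem B gives a contradiction
    exfalso
    have hex2 : ∃ k, (ρB xB - 1) ^ k = 0 := ⟨2, hquadB⟩
    have hr'1 := Nat.find_spec hex2
    have hr'2 : ∀ k < Nat.find hex2, (ρB xB - 1) ^ k ≠ 0 := fun k hk => Nat.find_min hex2 hk
    have hr'le : Nat.find hex2 ≤ 2 := Nat.find_min' hex2 hquadB
    have hQBs : IsPGroup s QB := by
      rw [hQB]
      exact hSs.comap_subtype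
    have hQBx : ∀ γ ∈ QB, xB * γ * xB⁻¹ ∈ QB := by
      intro γ hγ
      rw [hQB, Subgroup.mem_subgroupOf] at hγ ⊢
      exact hxS _ hγ
    have hxBp : xB ^ p ^ (0 + 1) = 1 := by
      apply Subtype.ext
      rw [zero_add, pow_one, Subgroup.coe_pow]
      exact hxp
    have hconcl := theoremB_core p s hps ρB QB xB 0 (Nat.find hex2) hQBs hQBx hxBp hNC hr'1 hr'2
    have hp3 : 3 ≤ p := by
      have := hpP.two_le
      omega
    rcases hconcl with h1 | ⟨_, n₀, m, hn₀1, hn₀2, hm1, heq, _⟩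
    · rw [zero_add, pow_one] at h1
      omega
    · have hn₀ : n₀ = 1 := by omega
      rw [hn₀, pow_one] at heq
      have hsodd : Odd s := hs.odd_of_ne_two hs2
      have hpodd : Odd p := hpP.odd_of_ne_two hp2
      have h2 : Odd (s ^ m) := hsodd.pow
      rw [← heq] at h2
      obtain ⟨a₁, ha₁⟩ := hpodd
      obtain ⟨a₂, ha₂⟩ := h2
      omega
  · -- `x` commutes with `S` on `N`, hence centralizes `S`
    push Not at hNC
    intro u hu
    have hcN : ExCtx S (resRho ρ N hNρ) z ζ s := c.restrict N hNρ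
    set k : Λ := x * u * x⁻¹ * u⁻¹ with hk
    have hkS : k ∈ S := S.mul_mem (hxS u hu) (S.inv_mem hu)
    have hk1 : resRho ρ N hNρ ⟨k, hkS⟩ = 1 := by
      have h1 := hNC ⟨u, hSst hu⟩ (by rw [hQB, Subgroup.mem_subgroupOf]; exact hu)
      rw [pow_zero, pow_one] at h1
      ext v
      have h2 := LinearMap.congr_fun h1 (resRho ρ N hNρ ⟨u⁻¹, S.inv_mem hu⟩ (ρB xB⁻¹ v))
      have h3 : ∀ (γ : ↥(stab ψ N)) (w : N), ((ρB γ w : N) : M) = ψ γ.1 (w : M) := fun γ w => rfl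
      have h4 : ∀ (u' : S) (w : N), ((resRho ρ N hNρ u' w : N) : M) = ψ u'.1 (w : M) :=
        fun u' w => rfl
      have h5 : ψ u (ψ x (ψ u⁻¹ (ψ x⁻¹ (v : M)))) = ψ x (ψ u (ψ u⁻¹ (ψ x⁻¹ (v : M)))) :=
        congrArg Subtype.val h2
      rw [h4, Module.End.one_apply]
      show ψ (x * u * x⁻¹ * u⁻¹) (v : M) = v
      -- h5 : ψ u (ψ x (ψ u⁻¹ (ψ x⁻¹ v))) = ψ x (ψ u (ψ u⁻¹ (ψ x⁻¹ v)))
      have h6 : ψ u (ψ x (ψ u⁻¹ (ψ x⁻¹ (v : M)))) = (v : M) := by
        rw [h5]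
        simp only [← Module.End.mul_apply, ← map_mul]
        have : x * (u * (u⁻¹ * x⁻¹)) = 1 := by group
        rw [this, map_one, Module.End.one_apply]
      have h7 : ψ (x * u * x⁻¹ * u⁻¹) (v : M) =
          ψ (x * u * x⁻¹ * u⁻¹) (ψ u (ψ x (ψ u⁻¹ (ψ x⁻¹ (v : M))))) := by rw [h6]
      rw [h7]
      simp only [← Module.End.mul_apply, ← map_mul]
      have : x * u * x⁻¹ * u⁻¹ * (u * (x * (u⁻¹ * x⁻¹))) = 1 := by group
      rw [this, map_one, Module.End.one_apply]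
    have hkz : k ∈ Subgroup.zpowers z := by
      apply hcN.mem_of_central ⟨k, hkS⟩
      intro w
      rw [hk1, one_mul, mul_one]
    obtain ⟨j, hj⟩ := hcN.mem_zpowers k hkz
    have h8 := hcN.rho_zpow ⟨k, hkS⟩ j hj
    rw [hk1] at h8
    have h9 : ζ ^ j = 1 := by
      obtain ⟨v, hv⟩ := exists_ne (0 : N)
      have h10 := LinearMap.congr_fun h8 v
      rw [Module.End.one_apply, LinearMap.smul_apply, Module.End.one_apply] at h10
      have h11 : (ζ ^ j - 1) • v = 0 := by rw [sub_smul, one_smul, ← h10, sub_self]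
      rcases smul_eq_zero.mp h11 with h12 | h12
      · exact sub_eq_zero.mp h12
      · exact absurd h12 hv
    have h10 := hcN.z_pow_of_zeta_pow j h9
    rw [h10] at hj
    have h11 : x * u = (x * u * x⁻¹ * u⁻¹) * (u * x) := by group
    rw [h11, ← hk, hj, one_mul]

end EXK

end Cfsg.Agent.Helper48.BG36
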