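import Mathlib
import Cfsg.Agent.Lib.Helper48.BG36EXe
import Cfsg.Agent.Lib.Helper48.BG36EndCtx

/-!
# BG 3.6, extraspecial case (EX)
-/

set_option autoImplicit false
set_option maxHeartbeats 400000

namespace Cfsg.Agent.Helper48.BG36

open Cfsg.Agent.Helper48.SympRep TensorProduct

section BaseChange

variable {p : ℕ} [Fact p.Prime] {V : Type*} [AddCommGroup V] [Module (ZMod p) V]
  (K : Type*) [Field K] [Algebra (ZMod p) K]

/-- the bound on the fixed space survives base change -/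
lemma fix_baseChange (f : Module.End (ZMod p) V) {r : ℕ} (hr : ((r : ℕ) : ZMod p) ≠ 0)
    (hfr : f ^ r = 1) (hfix : ∃ v₀ : V, ∀ v : V, f v = v → ∃ c : ZMod p, v = c • v₀) :
    ∃ m₀ : K ⊗[ZMod p] V, ∀ m : K ⊗[ZMod p] V,
      Module.End.baseChangeHom (ZMod p) K V f m = m → ∃ c : K, m = c • m₀ := by
  obtain ⟨v₀, hv₀⟩ := hfix
  refine ⟨(1 : K) ⊗ₜ[ZMod p] v₀, ?_⟩
  set bc := Module.End.baseChangeHom (ZMod p) K V with hbc
  set π : Module.End (ZMod p) V := ((r : ℕ) : ZMod p)⁻¹ • ∑ i ∈ Finset.range r, f ^ i with hπ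
  have hfπ : ∀ v, f (π v) = π v := by
    intro v
    have h1 : (f - 1) * ∑ i ∈ Finset.range r, f ^ i = 0 := by rw [mul_geom_sum, hfr, sub_self]
    have h2 : (f - 1) * π = 0 := by rw [hπ, mul_smul_comm, h1, smul_zero]
    have h3 := LinearMap.congr_fun h2 v
    rw [Module.End.mul_apply, LinearMap.sub_apply, Module.End.one_apply, LinearMap.zero_apply]
      at h3
    exact sub_eq_zero.mp h3
  have hπv : ∀ v, ∃ c : ZMod p, π v = c • v₀ := fun v => hv₀ _ (hfπ v)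
  have hbcπ : ∀ m : K ⊗[ZMod p] V, ∃ c : K, bc π m = c • ((1 : K) ⊗ₜ[ZMod p] v₀) := by
    intro m
    induction m using TensorProduct.induction_on with
    | zero => exact ⟨0, by rw [map_zero, zero_smul]⟩
    | tmul k v =>
      obtain ⟨c, hc⟩ := hπv v
      refine ⟨c • k, ?_⟩
      have h1 : bc π (k ⊗ₜ[ZMod p] v) = k ⊗ₜ[ZMod p] (π v) := by
        rw [hbc]
        exact LinearMap.baseChange_tmul _ _ _
      have e1 : k • ((1 : K) ⊗ₜ[ZMod p] v₀) = k ⊗ₜ[ZMod p] v₀ := by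
        rw [TensorProduct.smul_tmul', smul_eq_mul, mul_one]
      rw [h1, hc, TensorProduct.tmul_smul, smul_assoc, e1]
    | add m₁ m₂ h₁ h₂ =>
      obtain ⟨c₁, hc₁⟩ := h₁
      obtain ⟨c₂, hc₂⟩ := h₂
      exact ⟨c₁ + c₂, by rw [map_add, hc₁, hc₂, add_smul]⟩
  intro m hm
  have hpow : ∀ i : ℕ, ((bc f) ^ i) m = m := by
    intro i
    induction i with
    | zero => simp
    | succ i ih => rw [pow_succ', Module.End.mul_apply, ih, hm]
  have h1 : bc π m = m := by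
    rw [hπ, map_smul, map_sum, LinearMap.smul_apply, LinearMap.sum_apply]
    simp only [map_pow, hpow]
    rw [Finset.sum_const, Finset.card_range, ← Nat.cast_smul_eq_nsmul (ZMod p), smul_smul,
      inv_mul_cancel₀ hr, one_smul]
  obtain ⟨c, hc⟩ := hbcπ m
  exact ⟨c, by rw [← h1, hc]⟩

end BaseChange


section EXZ

/-- **(EX) the extraspecial case.** -/
theorem EX {p : ℕ} [hp : Fact p.Prime] {V : Type*} [AddCommGroup V] [Module (ZMod p) V] [Finite V]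
    {Γ : Type*} [Group Γ] [Finite Γ] (φ : Γ →* Module.End (ZMod p) V) : EXProp φ := by
  intro s r hs hr hps hpr hsr hp2 hs2 hr2 S hSs z hzS hzs hzc hcomm hcent hnab x a hxa hxp har
    hxS haS hxz haz hfpf hzφ hfix
  classical
  let K := AlgebraicClosure (ZMod p)
  have hpP : p.Prime := hp.out
  let bc : Module.End (ZMod p) V →ₐ[ZMod p] Module.End K (K ⊗[ZMod p] V) :=
    Module.End.baseChangeHom (ZMod p) K V
  let ψ : Γ →* Module.End K (K ⊗[ZMod p] V) := (MonoidHomClass.toMonoidHom bc).comp φ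
  have hψ : ∀ γ, ψ γ = bc (φ γ) := fun γ => rfl
  have hbcinj : Function.Injective bc := LinearMap.baseChangeHom_injective (ZMod p) V K
  have hsK : ((s : ℕ) : K) ≠ 0 := by
    rw [Ne, CharP.cast_eq_zero_iff K p s]
    intro hdvd
    exact hps ((Nat.prime_dvd_prime_iff_eq hpP hs).mp hdvd)
  have hrZ : ((r : ℕ) : ZMod p) ≠ 0 := by
    rw [Ne, ZMod.natCast_eq_zero_iff]
    intro hdvd
    exact hpr ((Nat.prime_dvd_prime_iff_eq hpP hr).mp hdvd)
  have hzM : ψ z ≠ 1 := by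
    intro h1
    apply hzφ
    apply hbcinj
    rw [← hψ, h1, map_one]
  have hCs : ψ z ^ s = 1 := by rw [← map_pow, hzs, map_one]
  obtain ⟨ι, _, b, η, hb⟩ := exists_eigenbasis (ψ z) s hsK hCs
  have hex : ∃ i, η i ≠ 1 := by
    by_contra hall
    push Not at hall
    apply hzM
    apply b.ext
    intro i
    rw [(hb i).1, hall i, one_smul, Module.End.one_apply]
  obtain ⟨i₀, hi₀⟩ := hex
  set ζ := η i₀ with hζ
  have hM' : Nontrivial ↥((ψ z).eigenspace ζ) := by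
    rw [Submodule.nontrivial_iff_ne_bot]
    intro hbot
    have hmem : b i₀ ∈ (ψ z).eigenspace ζ := Module.End.mem_eigenspace_iff.mpr (hb i₀).1
    rw [hbot, Submodule.mem_bot] at hmem
    exact b.ne_zero i₀ hmem
  -- the centralizer of `z`
  set Λ : Subgroup Γ := Subgroup.centralizer ({z} : Set Γ) with hΛ
  have hSΛ : S ≤ Λ := by
    intro u hu
    exact Subgroup.mem_centralizer_singleton_iff.mpr (hzc u hu).symm
  have hxΛ : x ∈ Λ := Subgroup.mem_centralizer_singleton_iff.mpr hxz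
  have haΛ : a ∈ Λ := Subgroup.mem_centralizer_singleton_iff.mpr haz
  let ψ₁ : ↥Λ →* Module.End K ↥((ψ z).eigenspace ζ) := resEigen ψ z ζ
  have hψ₁ : ∀ (γ : ↥Λ) (v : ↥((ψ z).eigenspace ζ)),
      ((ψ₁ γ v : ↥((ψ z).eigenspace ζ)) : K ⊗[ZMod p] V) = ψ γ.1 (v : K ⊗[ZMod p] V) :=
    fun γ v => rfl
  let S₁ : Subgroup ↥Λ := S.subgroupOf Λ
  have hS₁ : ∀ y : ↥Λ, y ∈ S₁ ↔ y.1 ∈ S := fun y => Subgroup.mem_subgroupOf
  let z₁ : ↥Λ := ⟨z, hSΛ hzS⟩
  let x₁ : ↥Λ := ⟨x, hxΛ⟩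
  let a₁ : ↥Λ := ⟨a, haΛ⟩
  have hzp : ∀ y : ↥Λ, y ∈ Subgroup.zpowers z₁ ↔ y.1 ∈ Subgroup.zpowers z := by
    intro y
    rw [Subgroup.mem_zpowers_iff, Subgroup.mem_zpowers_iff]
    constructor
    · rintro ⟨k, hk⟩
      refine ⟨k, ?_⟩
      rw [← hk, Subgroup.coe_zpow]
    · rintro ⟨k, hk⟩
      refine ⟨k, Subtype.ext ?_⟩
      rw [Subgroup.coe_zpow]
      exact hk
  have hζ₁ : ψ₁ z₁ = ζ • 1 := by
    ext v
    rw [hψ₁]
    exact Module.End.mem_eigenspace_iff.mp v.2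
  -- the fixed-point bound
  have hφar : φ a ^ r = 1 := by rw [← map_pow, har, map_one]
  obtain ⟨m₀, hm₀⟩ := fix_baseChange K (φ a) hrZ hφar hfix
  have hfix₁ : ∃ m₁ : ↥((ψ z).eigenspace ζ), ∀ m : ↥((ψ z).eigenspace ζ), ψ₁ a₁ m = m →
      ∃ c : K, m = c • m₁ := by
    by_cases hex : ∃ m : ↥((ψ z).eigenspace ζ), m ≠ 0 ∧ ψ₁ a₁ m = m
    · obtain ⟨m, hm0, hm⟩ := hex
      refine ⟨m, fun m' hm' => ?_⟩
      obtain ⟨c₁, hc₁⟩ := hm₀ m.1 (congrArg Subtype.val hm)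
      obtain ⟨c₂, hc₂⟩ := hm₀ m'.1 (congrArg Subtype.val hm')
      have hc₁0 : c₁ ≠ 0 := by
        rintro rfl
        rw [zero_smul] at hc₁
        exact hm0 (Subtype.ext hc₁)
      refine ⟨c₂ / c₁, Subtype.ext ?_⟩
      show m'.1 = (c₂ / c₁) • m.1
      rw [hc₂, hc₁, smul_smul, div_mul_cancel₀ _ hc₁0]
    · push Not at hex
      refine ⟨0, fun m hm => ⟨0, ?_⟩⟩
      by_contra hne
      have hm0 : m ≠ 0 := by
        intro h0
        apply hne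
        rw [h0, smul_zero]
      exact hex m hm0 hm
  have key := EX_K (K := K) (M := ↥((ψ z).eigenspace ζ)) (Λ := ↥Λ) (p := p) ψ₁ hs hr hps hpr hsr
    hp2 hs2 hr2 S₁ hSs.comap_subtype z₁
    ((hS₁ z₁).mpr hzS) ζ hζ₁ hi₀ (Subtype.ext (by rw [Subgroup.coe_pow]; exact hzs))
    (fun u hu => Subtype.ext (hzc u.1 ((hS₁ u).mp hu)))
    (fun u hu w hw => (hzp _).mpr (hcomm u.1 ((hS₁ u).mp hu) w.1 ((hS₁ w).mp hw)))
    (fun u hu hc => (hzp u).mpr (hcent u.1 ((hS₁ u).mp hu) (fun w hw =>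
      congrArg Subtype.val (hc ⟨w, hSΛ hw⟩ ((hS₁ _).mpr hw)))))
    (by
      obtain ⟨u, hu, w, hw, huw⟩ := hnab
      exact ⟨⟨u, hSΛ hu⟩, (hS₁ _).mpr hu, ⟨w, hSΛ hw⟩, (hS₁ _).mpr hw,
        fun h => huw (congrArg Subtype.val h)⟩)
    x₁ a₁ (Subtype.ext hxa) (Subtype.ext (by rw [Subgroup.coe_pow]; exact hxp))
    (Subtype.ext (by rw [Subgroup.coe_pow]; exact har))
    (fun u hu => (hS₁ _).mpr (hxS u.1 ((hS₁ u).mp hu)))
    (fun u hu => (hS₁ _).mpr (haS u.1 ((hS₁ u).mp hu)))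
    (fun u hu hc => (hzp u).mpr (hfpf u.1 ((hS₁ u).mp hu) ((hzp _).mp hc)))
    hfix₁
  intro u hu
  exact congrArg Subtype.val (key ⟨u, hSΛ hu⟩ ((hS₁ _).mpr hu))

end EXZ

end Cfsg.Agent.Helper48.BG36
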