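import Mathlib
import Cfsg.Agent.Lib.Helper48.BG36EX
import Cfsg.Agent.Lib.Helper20.BG36TAIL
import Cfsg.Agent.Lib.Helper71.BG36E1
import Cfsg.Agent.Lib.Helper58.BG36caseA
import Cfsg.Agent.Lib.Helper11.BG36caseB

/-!
# BG Theorem 3.6: the endgame theorem (END), assembled from (EX), (TAIL), (E1), (caseA), (caseB)
-/

set_option autoImplicit false

universe u

namespace Cfsg.Agent.Helper48.BG36

open Subgroup

/-- (END): in the endgame context, `L` is a `p'`-group. -/
theorem END_thm {p : ℕ} [hp : Fact p.Prime] : ENDProp.{u} p := by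
  intro Γ _ _ _ hodd W _ _ _ φ L R _ a r h
  by_contra hcop
  have hpL : p ∣ Nat.card L := by
    by_contra hnd
    exact hcop ((Nat.Prime.coprime_iff_not_dvd hp.out).mpr hnd).symm
  obtain ⟨Q, P, hQn, hQL, hQp, hCQ, hPL, hPp, hP1, hRP, hPR⟩ :=
    Cfsg.Agent.Helper71.BG36.E1 φ L R a h hpL
  -- `p ≠ r`
  have hpr : p ≠ r := by
    rintro rfl
    have hord : orderOf a = p := by
      have hdvd : orderOf a ∣ p := orderOf_dvd_of_pow_eq_one h.conf.pow
      rcases (Nat.dvd_prime hp.out).mp hdvd with h1 | h1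
      · exact absurd (orderOf_eq_one_iff.mp h1) h.conf.ne
      · exact h1
    have hpR : p ∣ Nat.card R := by
      have := Subgroup.orderOf_dvd_natCard R h.conf.mem
      rwa [hord] at this
    have h1 : p ∣ Nat.gcd (Nat.card L) (Nat.card R) := Nat.dvd_gcd hpL hpR
    rw [h.conf.cop] at h1
    exact hp.out.one_lt.ne' (Nat.dvd_one.mp h1)
  have hT : TailProp φ a r :=
    Cfsg.Agent.Helper20.BG36.TAIL hodd φ a h.conf.prime h.conf.pow h.conf.ne hpr h.fix (EX φ)
  by_cases hRa : R = Subgroup.zpowers a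
  · exact Cfsg.Agent.Helper11.BG36.caseB hodd φ L R a h hT hRa Q P hQn hQL hQp hCQ hPL hPp hP1
      hRP hPR
  · exact Cfsg.Agent.Helper58.BG36.caseA hodd φ L R a h hT hRa Q P hQn hQL hQp hCQ hPL hPp hP1
      hRP hPR

end Cfsg.Agent.Helper48.BG36
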