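import Mathlib
import Cfsg.Agent.Lib.Helper48.BG36End
import Cfsg.Agent.Lib.Helper11.BG36C
import Cfsg.Agent.Lib.Helper11.BG36D
import Cfsg.Agent.Lib.Helper57.BG36M
import Cfsg.Agent.Lib.Helper64.BG36stepC
import Cfsg.Agent.Lib.Helper52.Coprime
import Cfsg.Agent.Lib.Helper55.Cores

/-!
# BG Theorem 3.6: the main induction
-/

set_option autoImplicit false

universe u

namespace Cfsg.Agent.Helper48.BG36

open Subgroup Cfsg

lemma card_lt_of_surj_not_inj {α β : Type*} [Finite α] (f : α → β) (hs : Function.Surjective f)
    (hni : ¬ Function.Injective f) : Nat.card β < Nat.card α := by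
  classical
  haveI := Fintype.ofFinite α
  haveI : Finite β := Finite.of_surjective f hs
  haveI := Fintype.ofFinite β
  rw [Nat.card_eq_fintype_card, Nat.card_eq_fintype_card]
  exact Fintype.card_lt_of_surjective_not_injective f hs hni

/-- the image of `H` in `G ⧸ N` is smaller than `H` when `1 ≠ N ≤ H`. -/
lemma card_map_mk_lt {G : Type*} [Group G] [Finite G] (H N : Subgroup G) [N.Normal] (hNH : N ≤ H)
    (hN : N ≠ ⊥) : Nat.card (H.map (QuotientGroup.mk' N)) < Nat.card H := by
  apply card_lt_of_surj_not_inj ((QuotientGroup.mk' N).subgroupMap H)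
    ((QuotientGroup.mk' N).subgroupMap_surjective H)
  intro hinj
  apply hN
  rw [Subgroup.eq_bot_iff_forall]
  intro x hx
  have h1 : (QuotientGroup.mk' N).subgroupMap H ⟨x, hNH hx⟩ =
      (QuotientGroup.mk' N).subgroupMap H 1 := by
    apply Subtype.ext
    show (QuotientGroup.mk' N) x = (QuotientGroup.mk' N) 1
    rw [map_one]
    exact (QuotientGroup.eq_one_iff x).mpr hx
  have := hinj h1
  simpa using congrArg Subtype.val this

/-- the main induction of BG Theorem 3.6 -/
theorem P2_all {p : ℕ} [hp : Fact p.Prime] : ∀ n : ℕ, P2.{u} p n := by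
  intro n
  induction n with
  | zero =>
    intro G _ _ _ hodd H R a r h hn
    exfalso
    have h1 : 0 < Nat.card H := Nat.card_pos
    have h2 : 0 < Nat.card R := Nat.card_pos
    have := Nat.mul_pos h1 h2
    omega
  | succ n IH =>
    apply Cfsg.Agent.Helper11.BG36.normalize
    intro G _ _ _ hodd H R a r hHn h hn
    have : H.Normal := hHn
    have hle : ⁅H, R⁆ ≤ H := Subgroup.commutator_le_left H R
    by_cases hHR : H ≤ ⁅H, R⁆
    · -- `⁅H, R⁆ = H`
      have heq : ⁅H, R⁆ = H := le_antisymm hle hHR
      rw [heq]
      set N : Subgroup G := (pPrimeCore p ↥H).map H.subtype with hNdef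
      have hNn : N.Normal := ConjAct.normal_of_characteristic_of_normal
      have hNH : N ≤ H := Subgroup.map_subtype_le _
      have hNcop : (Nat.card N).Coprime p := by
        rw [hNdef, Subgroup.card_map_of_injective H.subtype_injective]
        exact Cfsg.Agent.Helper55.pPrimeCore_coprime p
      by_cases hN1 : N = ⊥
      · -- `O_{p'}(H) = 1`
        have hcore : pPrimeCore p ↥H = ⊥ := by
          rw [hNdef] at hN1
          exact (Subgroup.map_eq_bot_iff_of_injective _ H.subtype_injective).mp hN1
        refine Cfsg.Agent.Helper64.BG36.stepC END_thm IH hodd H R a r h hn hHR ?_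
        intro N' hN'H hN'cop hN'inv
        have hnorm : (N'.subgroupOf H).Normal := by
          refine ⟨fun x hx g => ?_⟩
          rw [Subgroup.mem_subgroupOf] at hx ⊢
          simpa using hN'inv g g.2 x hx
        have hcard : Nat.card (N'.subgroupOf H) = Nat.card N' :=
          Nat.card_congr (Subgroup.subgroupOfEquivOfLe hN'H).toEquiv
        have hle' : N'.subgroupOf H ≤ pPrimeCore p ↥H :=
          Cfsg.Agent.Helper55.le_pPrimeCore hnorm (by rw [hcard]; exact hN'cop)
        rw [hcore, le_bot_iff, Subgroup.subgroupOf_eq_bot] at hle'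
        exact hle'.eq_bot_of_le hN'H
      · -- pass to `G ⧸ O_{p'}(H)`
        have hconf := Cfsg.Agent.Helper57.BG36.conf_quot h N hNH
        have hlt := card_map_mk_lt H N hNH hN1
        have hRle : Nat.card (R.map (QuotientGroup.mk' N)) ≤ Nat.card R :=
          Nat.le_of_dvd Nat.card_pos (R.card_map_dvd _)
        have hcard : Nat.card (H.map (QuotientGroup.mk' N)) *
            Nat.card (R.map (QuotientGroup.mk' N)) ≤ n := by
          have h3 : Nat.card (H.map (QuotientGroup.mk' N)) *
              Nat.card (R.map (QuotientGroup.mk' N)) < Nat.card H * Nat.card R :=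
            Nat.mul_lt_mul_of_lt_of_le hlt hRle Nat.card_pos
          omega
        have hodd' : Odd (Nat.card (G ⧸ N)) :=
          Odd.of_dvd_nat hodd (Subgroup.card_quotient_dvd_card N)
        have key := IH (G ⧸ N) hodd' _ _ _ r hconf hcard
        rw [← Subgroup.map_commutator, heq] at key
        exact Cfsg.Agent.Helper57.BG36.plen_of_quot H N hNcop key
    · -- `⁅H, R⁆ < H`: induction
      have hne : ⁅H, R⁆ ≠ H := fun he => hHR he.ge
      have hlt : Nat.card (⁅H, R⁆ : Subgroup G) < Nat.card H :=
        lt_of_le_of_ne (Subgroup.card_le_of_le hle)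
          (fun he => hne (Subgroup.eq_of_le_of_card_ge hle he.ge))
      have hconf : Conf ⁅H, R⁆ R a r :=
        { norm := by
            have := Cfsg.Agent.Helper11.BG36.le_normalizer_commutator_left R H
            rwa [Subgroup.commutator_comm] at this
          cop := Nat.Coprime.coprime_dvd_left (Subgroup.card_dvd_of_le hle) h.cop
          mem := h.mem
          prime := h.prime
          pow := h.pow
          ne := h.ne
          cyc := fun q hq T hT hTq hTa => h.cyc q hq T (hT.trans hle) hTq hTa }
      have hcard : Nat.card (⁅H, R⁆ : Subgroup G) * Nat.card R ≤ n := by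
        have h3 : Nat.card (⁅H, R⁆ : Subgroup G) * Nat.card R < Nat.card H * Nat.card R :=
          Nat.mul_lt_mul_of_pos_right hlt Nat.card_pos
        omega
      have key := IH G hodd ⁅H, R⁆ R a r hconf hcard
      rwa [Cfsg.Agent.Helper52.commutator_commutator_eq H R h.norm h.cop.symm
        (Or.inl inferInstance)] at key

end Cfsg.Agent.Helper48.BG36
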