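import Mathlib
import Cfsg.Agent.Lib.Helper14.SPIDefs

/-!
# SPI project (S5961, server: helper14): small shared lemmas for my pieces (IND), (ST)
-/

set_option autoImplicit false

namespace Cfsg.Agent.Helper48.SPI

open Module Polynomial Cfsg.Agent.Helper14.SPI

section

variable {F V : Type*} [Field F] [AddCommGroup V] [Module F V]

/-- an invariant subspace is invariant under all powers -/
theorem h48_pow_mem (x : V →ₗ[F] V) (Y : Submodule F V) (hYx : Y.map x ≤ Y) (k : ℕ) :
    ∀ n ∈ Y, (x ^ k) n ∈ Y := by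
  induction k with
  | zero => intro n hn; simpa using hn
  | succ k ih =>
    intro n hn
    rw [pow_succ', Module.End.mul_apply]
    exact hYx ⟨_, ih n hn, rfl⟩

/-- on an invariant subspace an element of finite order is onto -/
theorem h48_preimage (x : V →ₗ[F] V) (r : ℕ) (hr : 0 < r) (hxr : x ^ r = 1)
    (Y : Submodule F V) (hYx : Y.map x ≤ Y) : ∀ n ∈ Y, ∃ n' ∈ Y, x n' = n := by
  intro n hn
  refine ⟨(x ^ (r - 1)) n, h48_pow_mem x Y hYx (r - 1) n hn, ?_⟩
  have : x ((x ^ (r - 1)) n) = (x ^ r) n := by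
    rw [← Module.End.mul_apply, ← pow_succ', Nat.sub_add_cancel hr]
  rw [this, hxr, Module.End.one_apply]

/-- the orthogonal complement of an invariant subspace inside an invariant subspace is invariant -/
theorem h48_orth_inv (B : LinearMap.BilinForm F V) (x : V →ₗ[F] V) (hx : IsIsom B x)
    (r : ℕ) (hr : 0 < r) (hxr : x ^ r = 1)
    (R W : Submodule F V) (hRx : R.map x ≤ R) (hWx : W.map x ≤ W) :
    (R ⊓ B.orthogonal W).map x ≤ R ⊓ B.orthogonal W := by
  rintro _ ⟨v, hv, rfl⟩
  refine ⟨hRx ⟨v, hv.1, rfl⟩, ?_⟩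
  show x v ∈ B.orthogonal W
  rw [LinearMap.BilinForm.mem_orthogonal_iff]
  intro n hn
  obtain ⟨n', hn', rfl⟩ := h48_preimage x r hr hxr W hWx n hn
  show B (x n') (x v) = 0
  rw [hx]
  have h2 : v ∈ B.orthogonal W := hv.2
  rw [LinearMap.BilinForm.mem_orthogonal_iff] at h2
  exact h2 n' hn'

/-- an orthogonal family of nondegenerate subspaces is independent -/
theorem h48_indep_of_orth {K : Type*} (B : LinearMap.BilinForm F V) (W : K → Submodule F V)
    (hnd : ∀ k, NondegOn B (W k))
    (horth : ∀ k k', k ≠ k' → ∀ u ∈ W k, ∀ v ∈ W k', B u v = 0) : iSupIndep W := by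
  intro i
  rw [Submodule.disjoint_def]
  intro u hu hu'
  by_contra hu0
  obtain ⟨v, hv, huv⟩ := hnd i u hu hu0
  apply huv
  have hle : (⨆ (j : K) (_ : j ≠ i), W j) ≤ LinearMap.ker (LinearMap.flip B v) := by
    refine iSup_le fun j => iSup_le fun hj => ?_
    intro w hw
    show LinearMap.flip B v w = 0
    rw [LinearMap.flip_apply]
    exact horth j i hj w hw v hv
  have h2 := hle hu'
  rw [LinearMap.mem_ker, LinearMap.flip_apply] at h2
  exact h2

/-- a subspace with trivial radical is nondegenerate (alternating form) -/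
theorem h48_nondeg_of_rad (B : LinearMap.BilinForm F V) (hB : B.IsAlt) (Y : Submodule F V)
    (h : Y ⊓ B.orthogonal Y = ⊥) : NondegOn B Y := by
  intro u hu hu0
  by_contra hcon
  have hcon : ∀ v ∈ Y, B u v = 0 := by
    intro v hv
    by_contra h1
    exact hcon ⟨v, hv, h1⟩
  apply hu0
  have : u ∈ Y ⊓ B.orthogonal Y := by
    refine ⟨hu, ?_⟩
    show u ∈ B.orthogonal Y
    rw [LinearMap.BilinForm.mem_orthogonal_iff]
    intro n hn
    show B n u = 0
    exact hB.isRefl.eq_zero (hcon n hn)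
  rw [h] at this
  exact (Submodule.mem_bot F).mp this

end

/-- the constant `c` is positive -/
theorem h48_order_pos (q r : ℕ) [Fact r.Prime] (hrq : ¬ r ∣ q) :
    0 < orderOf ((q : ℕ) : ZMod r) := by
  rw [orderOf_pos_iff, isOfFinOrder_iff_pow_eq_one]
  have hr : r.Prime := Fact.out
  refine ⟨r - 1, Nat.sub_pos_of_lt hr.one_lt, ?_⟩
  apply ZMod.pow_card_sub_one_eq_one
  rwa [Ne, ZMod.natCast_eq_zero_iff]

theorem h48_cOf_pos (q r : ℕ) [Fact r.Prime] (hrq : ¬ r ∣ q) : 0 < cOf q r := by
  have h := h48_order_pos q r hrq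
  unfold cOf
  split_ifs
  · exact h
  · omega

end Cfsg.Agent.Helper48.SPI
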