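import Mathlib
import Cfsg.Agent.Lib.Helper14.SPIDefs
import Cfsg.Agent.Lib.Helper48.SPIBase

/-!
# SPI project (S5961, server: helper14), piece (IND): the core, with (ST) and (ORTHC) as hypotheses
-/

set_option autoImplicit false

namespace Cfsg.Agent.Helper48.SPI

open Module Polynomial Cfsg.Agent.Helper14.SPI

/-- (IND) with the structure theorem (ST) and (ORTHC) as hypotheses -/
theorem h48_block_decomp_core {F V : Type*} [Field F] [Fintype F] [AddCommGroup V] [Module F V]
    [FiniteDimensional F V] (B : LinearMap.BilinForm F V) (hB : B.IsAlt)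
    (x : V →ₗ[F] V) (hx : IsIsom B x) (r : ℕ) [Fact r.Prime]
    (hrq : ¬ r ∣ Fintype.card F) (hxr : x ^ r = 1)
    (hST : ∀ R : Submodule F V, R.map x ≤ R → NondegOn B R → (∀ v ∈ R, x v = v → v = 0) → R ≠ ⊥ →
      ∃ W : Submodule F V, W ≤ R ∧ W.map x ≤ W ∧ NondegOn B W ∧
        finrank F W = cOf (Fintype.card F) r)
    (hORTHC : ∀ R W : Submodule F V, W ≤ R → NondegOn B W → NondegOn B R →
      W ⊓ (R ⊓ B.orthogonal W) = ⊥ ∧ W ⊔ (R ⊓ B.orthogonal W) = R ∧
        NondegOn B (R ⊓ B.orthogonal W))
    (R : Submodule F V) (hRx : R.map x ≤ R) (hRnd : NondegOn B R)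
    (hfpf : ∀ v ∈ R, x v = v → v = 0) :
    ∃ (m : ℕ) (W : Fin m → Submodule F V), IsOrthFam B R W ∧ (∀ k, (W k).map x ≤ W k) ∧
      (∀ k, finrank F (W k) = cOf (Fintype.card F) r) := by
  have hr : 0 < r := (Fact.out : r.Prime).pos
  induction hn : finrank F R using Nat.strong_induction_on generalizing R with
  | _ n ih =>
    by_cases hR0 : R = ⊥
    · refine ⟨0, Fin.elim0, ⟨?_, ?_, fun k => k.elim0, fun k => k.elim0⟩, fun k => k.elim0,
        fun k => k.elim0⟩
      · intro i; exact i.elim0
      · rw [hR0, iSup_eq_bot]; intro i; exact i.elim0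
    · obtain ⟨W0, hW0R, hW0x, hW0nd, hW0c⟩ := hST R hRx hRnd hfpf hR0
      obtain ⟨hinf, hsup, hnd'⟩ := hORTHC R W0 hW0R hW0nd hRnd
      set R' : Submodule F V := R ⊓ B.orthogonal W0 with hR'
      have hR'x : R'.map x ≤ R' := h48_orth_inv B x hx r hr hxr R W0 hRx hW0x
      have hR'R : R' ≤ R := inf_le_left
      have hcpos : 0 < cOf (Fintype.card F) r := h48_cOf_pos _ r hrq
      have hdim : finrank F R = finrank F W0 + finrank F R' := by
        have h := Submodule.finrank_sup_add_finrank_inf_eq W0 R'
        rw [hsup, hinf, finrank_bot, add_zero] at h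
        exact h
      have hlt : finrank F R' < n := by omega
      obtain ⟨m, W', hfam, hW'x, hW'c⟩ :=
        ih (finrank F R') hlt R' hR'x hnd' (fun v hv => hfpf v (hR'R hv)) rfl
      -- the new family
      refine ⟨m + 1, Fin.cons W0 W', ?_, ?_, ?_⟩
      · have hnd : ∀ k, NondegOn B ((Fin.cons W0 W' : Fin (m + 1) → Submodule F V) k) := by
          intro k
          refine Fin.cases ?_ (fun j => ?_) k
          · simpa using hW0nd
          · simpa using hfam.nondeg j
        have hW'le : ∀ j, W' j ≤ R' := fun j => hfam.sup ▸ le_iSup W' j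
        have h0j : ∀ j, ∀ u ∈ W0, ∀ v ∈ W' j, B u v = 0 := by
          intro j u hu v hv
          have hv' : v ∈ B.orthogonal W0 := (hW'le j hv).2
          rw [LinearMap.BilinForm.mem_orthogonal_iff] at hv'
          exact hv' u hu
        have horth : ∀ k k', k ≠ k' →
            ∀ u ∈ (Fin.cons W0 W' : Fin (m + 1) → Submodule F V) k,
            ∀ v ∈ (Fin.cons W0 W' : Fin (m + 1) → Submodule F V) k', B u v = 0 := by
          intro k k'
          refine Fin.cases ?_ (fun j => ?_) k <;> refine Fin.cases ?_ (fun j' => ?_) k'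
          · intro h; exact absurd rfl h
          · intro _ u hu v hv
            rw [Fin.cons_zero] at hu
            rw [Fin.cons_succ] at hv
            exact h0j j' u hu v hv
          · intro _ u hu v hv
            rw [Fin.cons_zero] at hv
            rw [Fin.cons_succ] at hu
            exact hB.isRefl.eq_zero (h0j j v hv u hu)
          · intro h u hu v hv
            rw [Fin.cons_succ] at hu hv
            exact hfam.orth j j' (fun e => h (by rw [e])) u hu v hv
        refine ⟨h48_indep_of_orth B _ hnd horth, ?_, hnd, horth⟩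
        apply le_antisymm
        · refine iSup_le fun k => ?_
          refine Fin.cases ?_ (fun j => ?_) k
          · rw [Fin.cons_zero]; exact hW0R
          · rw [Fin.cons_succ]; exact (hW'le j).trans hR'R
        · rw [← hsup]
          refine sup_le ?_ ?_
          · exact le_iSup_of_le 0 (by rw [Fin.cons_zero])
          · rw [← hfam.sup]
            refine iSup_le fun j => ?_
            exact le_iSup_of_le j.succ (by rw [Fin.cons_succ])
      · intro k
        refine Fin.cases ?_ (fun j => ?_) k
        · rw [Fin.cons_zero]; exact hW0x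
        · rw [Fin.cons_succ]; exact hW'x j
      · intro k
        refine Fin.cases ?_ (fun j => ?_) k
        · rw [Fin.cons_zero]; exact hW0c
        · rw [Fin.cons_succ]; exact hW'c j

end Cfsg.Agent.Helper48.SPI
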