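import Mathlib
import Cfsg.Agent.Lib.Helper14.SPIDefs
import Cfsg.Agent.Lib.Helper48.SPIBase
import Cfsg.Agent.Lib.Helper48.SPIMIN

/-!
# SPI project (S5961, server: helper14), piece (ST): the core, with (IRR) (PAIR) (POLAR) (EVEN)
as hypotheses
-/

set_option autoImplicit false

namespace Cfsg.Agent.Helper48.SPI

open Module Polynomial Cfsg.Agent.Helper14.SPI

/-- the radical of an invariant subspace is invariant -/
theorem h48_rad_inv {F V : Type*} [Field F] [AddCommGroup V] [Module F V]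
    (B : LinearMap.BilinForm F V) (x : V →ₗ[F] V) (hx : IsIsom B x)
    (r : ℕ) (hr : 0 < r) (hxr : x ^ r = 1) (Y : Submodule F V) (hYx : Y.map x ≤ Y) :
    (Y ⊓ B.orthogonal Y).map x ≤ Y ⊓ B.orthogonal Y :=
  h48_orth_inv B x hx r hr hxr Y Y hYx hYx

/-- (ST) with (IRR) (PAIR) (POLAR) (EVEN) as hypotheses -/
theorem h48_block_on_core {F V : Type*} [Field F] [Fintype F] [AddCommGroup V] [Module F V]
    [FiniteDimensional F V] (B : LinearMap.BilinForm F V) (hB : B.IsAlt)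
    (x : V →ₗ[F] V) (hx : IsIsom B x) (r : ℕ) [Fact r.Prime]
    (hxr : x ^ r = 1)
    (hIRR : ∀ Z : Submodule F V, Z.map x ≤ Z → (∀ v ∈ Z, x v = v → v = 0) →
      (∀ g : F[X], (∀ z ∈ Z, aeval x g z = 0) ∨ (∀ z ∈ Z, aeval x g z = 0 → z = 0)) →
      ∀ u : V, u ∈ Z → u ≠ 0 →
      ∃ Y : Submodule F V, Y ≤ Z ∧ u ∈ Y ∧ Y.map x ≤ Y ∧
        finrank F Y = orderOf ((Fintype.card F : ℕ) : ZMod r))
    (hPAIR : ∀ R : Submodule F V, R.map x ≤ R → NondegOn B R →
      ∀ Y : Submodule F V, Y ≤ R → Y.map x ≤ Y →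
      (∀ Z : Submodule F V, Z ≤ Y → Z.map x ≤ Z → Z = ⊥ ∨ Z = Y) →
      (∀ u ∈ Y, ∀ v ∈ Y, B u v = 0) →
      ∃ W : Submodule F V, W ≤ R ∧ Y ≤ W ∧ W.map x ≤ W ∧ NondegOn B W ∧
        finrank F W = 2 * finrank F Y ∧
        (Even (orderOf ((Fintype.card F : ℕ) : ZMod r)) →
          ∀ g : F[X], (∀ z ∈ W, aeval x g z = 0) ∨ (∀ z ∈ W, aeval x g z = 0 → z = 0)))
    (hPOLAR : ∀ W : Submodule F V, W.map x ≤ W → NondegOn B W → W ≠ ⊥ →
      (∀ v ∈ W, x v = v → v = 0) → ∃ u ∈ W, B u (x u) ≠ 0)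
    (hEVEN : ∀ W : Submodule F V, NondegOn B W → Even (finrank F W))
    (R : Submodule F V) (hRx : R.map x ≤ R) (hRnd : NondegOn B R)
    (hfpf : ∀ v ∈ R, x v = v → v = 0) (hR0 : R ≠ ⊥) :
    ∃ W : Submodule F V, W ≤ R ∧ W.map x ≤ W ∧ NondegOn B W ∧
      finrank F W = cOf (Fintype.card F) r := by
  have hr : 0 < r := (Fact.out : r.Prime).pos
  set i := orderOf ((Fintype.card F : ℕ) : ZMod r) with hi
  -- a minimal invariant subspace, of dimension `i`
  obtain ⟨Y, hYR, hY0, hYx, hYmin⟩ := exists_min_invariant x R hRx hR0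
  have hYprime := prime_of_min x Y hYx hYmin
  have hYfpf : ∀ v ∈ Y, x v = v → v = 0 := fun v hv => hfpf v (hYR hv)
  obtain ⟨u, hu, hu0⟩ := (Submodule.ne_bot_iff Y).mp hY0
  obtain ⟨Y', hY'Y, huY', hY'x, hY'dim⟩ := hIRR Y hYx hYfpf hYprime u hu hu0
  have hY'eq : Y' = Y := by
    rcases hYmin Y' hY'Y hY'x with h | h
    · rw [h] at huY'; exact absurd ((Submodule.mem_bot F).mp huY') hu0
    · exact h
  have hYdim : finrank F Y = i := by rw [← hY'eq]; exact hY'dim
  -- the radical of `Y`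
  rcases hYmin (Y ⊓ B.orthogonal Y) inf_le_left (h48_rad_inv B x hx r hr hxr Y hYx) with hrad | hrad
  · -- `Y` nondegenerate
    have hYnd : NondegOn B Y := h48_nondeg_of_rad B hB Y hrad
    have hev : Even i := by rw [← hYdim]; exact hEVEN Y hYnd
    refine ⟨Y, hYR, hYx, hYnd, ?_⟩
    rw [hYdim]
    unfold cOf
    rw [if_pos hev]
  · -- `Y` totally isotropic
    have hiso : ∀ u ∈ Y, ∀ v ∈ Y, B u v = 0 := by
      intro u hu v hv
      have hv' : v ∈ Y ⊓ B.orthogonal Y := by rw [hrad]; exact hv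
      have hv'' : v ∈ B.orthogonal Y := hv'.2
      rw [LinearMap.BilinForm.mem_orthogonal_iff] at hv''
      exact hv'' u hu
    obtain ⟨W, hWR, hYW, hWx, hWnd, hWdim, hWprime⟩ := hPAIR R hRx hRnd Y hYR hYx hYmin hiso
    by_cases hev : Even i
    · -- `i` even: find a nondegenerate invariant subspace of dimension `i` inside `W`
      have hWp := hWprime hev
      have hW0 : W ≠ ⊥ := by
        intro h
        apply hY0
        rw [eq_bot_iff, ← h]
        exact hYW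
      have hWfpf : ∀ v ∈ W, x v = v → v = 0 := fun v hv => hfpf v (hWR hv)
      obtain ⟨w, hw, hBw⟩ := hPOLAR W hWx hWnd hW0 hWfpf
      have hw0 : w ≠ 0 := by
        intro h
        apply hBw
        rw [h, map_zero, LinearMap.zero_apply]
      obtain ⟨Y2, hY2W, hwY2, hY2x, hY2dim⟩ := hIRR W hWx hWfpf hWp w hw hw0
      have hY2nd : NondegOn B Y2 := by
        apply h48_nondeg_of_rad B hB Y2
        by_contra hne
        set Z := Y2 ⊓ B.orthogonal Y2 with hZ
        have hZx : Z.map x ≤ Z := h48_rad_inv B x hx r hr hxr Y2 hY2x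
        have hZY2 : Z ≤ Y2 := inf_le_left
        have hZW : Z ≤ W := hZY2.trans hY2W
        obtain ⟨z, hz, hz0⟩ := (Submodule.ne_bot_iff Z).mp hne
        have hZp : ∀ g : F[X], (∀ z ∈ Z, aeval x g z = 0) ∨ (∀ z ∈ Z, aeval x g z = 0 → z = 0) := by
          intro g
          rcases hWp g with h | h
          · exact Or.inl fun z hz => h z (hZW hz)
          · exact Or.inr fun z hz => h z (hZW hz)
        obtain ⟨Y3, hY3Z, _, _, hY3dim⟩ :=
          hIRR Z hZx (fun v hv => hWfpf v (hZW hv)) hZp z hz hz0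
        have hY3 : Y3 = Y2 :=
          Submodule.eq_of_le_of_finrank_eq (hY3Z.trans hZY2) (by rw [hY3dim, hY2dim])
        have hZeq : Y2 ≤ Z := hY3 ▸ hY3Z
        -- then `w ∈ Y2^⊥`, contradiction
        have hxw : x w ∈ Y2 := hY2x ⟨w, hwY2, rfl⟩
        have hxw' : x w ∈ B.orthogonal Y2 := (hZeq hxw).2
        rw [LinearMap.BilinForm.mem_orthogonal_iff] at hxw'
        exact hBw (hxw' w hwY2)
      refine ⟨Y2, hY2W.trans hWR, hY2x, hY2nd, ?_⟩
      rw [hY2dim]
      unfold cOf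
      rw [if_pos hev]
    · refine ⟨W, hWR, hWx, hWnd, ?_⟩
      rw [hWdim, hYdim]
      unfold cOf
      rw [if_neg hev]

end Cfsg.Agent.Helper48.SPI
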