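import Mathlib
import Cfsg.Agent.Lib.Helper14.SPIDefs
import Cfsg.Agent.Lib.Helper48.SPISTCore
import Cfsg.Agent.Lib.Helper46.SPIIRR
import Cfsg.Agent.Lib.Helper71.SPIPAIR
import Cfsg.Agent.Lib.Helper66.SPIPOLAR
import Cfsg.Agent.Lib.Helper29.SPIEVEN

/-!
# SPI project (S5961, server: helper14), piece (ST) `exists_block_on`

Statement verbatim from `tools/spi_sigs_helper14.lean.txt`; assembled from my core
`h48_block_on_core` and the landed pieces (MIN) (MINPRIME) [mine], (IRR) [helper46], (PAIR) [helper71],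
(POLAR) [helper66], (EVEN) [helper29].
-/

set_option autoImplicit false

namespace Cfsg.Agent.Helper48.SPI

open Module Polynomial Cfsg.Agent.Helper14.SPI

/-- (ST) the structure theorem, from (MIN) (MINPRIME) (IRR) (PAIR) (POLAR) (EVEN). -/
theorem exists_block_on {F V : Type*} [Field F] [Fintype F] [AddCommGroup V] [Module F V]
    [FiniteDimensional F V] (B : LinearMap.BilinForm F V) (hB : B.IsAlt)
    (x : V →ₗ[F] V) (hx : IsIsom B x) (r : ℕ) [Fact r.Prime] (hr2 : r ≠ 2) (hr0 : (r : F) ≠ 0)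
    (hrq : ¬ r ∣ Fintype.card F) (hxr : x ^ r = 1)
    (R : Submodule F V) (hRx : R.map x ≤ R) (hRnd : NondegOn B R)
    (hfpf : ∀ v ∈ R, x v = v → v = 0) (hR0 : R ≠ ⊥) :
    ∃ W : Submodule F V, W ≤ R ∧ W.map x ≤ W ∧ NondegOn B W ∧
      finrank F W = cOf (Fintype.card F) r := by
  have hodd : Odd r := (Fact.out : r.Prime).odd_of_ne_two hr2
  exact h48_block_on_core B hB x hx r hxr
    (fun Z hZx hZf hZp u hu hu0 =>
      Cfsg.Agent.Helper46.SPI.exists_cyclic_of_prime x r hrq hxr Z hZx hZf hZp u hu hu0)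
    (fun R' hR'x hR'nd Y hYR hYx hmin hiso =>
      Cfsg.Agent.Helper71.SPI.pair_block B hB x hx r hr0 hrq hxr R' hR'x hR'nd Y hYR hYx hmin hiso)
    (fun W hWx hWnd hW0 hWf =>
      Cfsg.Agent.Helper66.SPI.exists_nonisotropic B hB x hx r hodd hxr W hWx hWnd hW0 hWf)
    (fun W hWnd => Cfsg.Agent.Helper29.SPI.even_finrank_of_nondegOn B hB W hWnd)
    R hRx hRnd hfpf hR0

end Cfsg.Agent.Helper48.SPI
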