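import Mathlib
import Cfsg.Agent.Lib.Helper14.SPIDefs
import Cfsg.Agent.Lib.Helper48.SPIINDCore
import Cfsg.Agent.Lib.Helper48.SPIST
import Cfsg.Agent.Lib.Helper66.SPIORTHC

/-!
# SPI project (S5961, server: helper14), piece (IND) `exists_block_decomp_on`

Statement verbatim from `tools/spi_sigs_helper14.lean.txt`; strong induction (my core
`h48_block_decomp_core`) with (ST) [mine] and (ORTHC) [helper66].
-/

set_option autoImplicit false

namespace Cfsg.Agent.Helper48.SPI

open Module Polynomial Cfsg.Agent.Helper14.SPI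

/-- (IND) full block decomposition of `R`, by strong induction on `finrank R` with (ST), (ORTHC). -/
theorem exists_block_decomp_on {F V : Type*} [Field F] [Fintype F] [AddCommGroup V] [Module F V]
    [FiniteDimensional F V] (B : LinearMap.BilinForm F V) (hB : B.IsAlt)
    (x : V →ₗ[F] V) (hx : IsIsom B x) (r : ℕ) [Fact r.Prime] (hr2 : r ≠ 2) (hr0 : (r : F) ≠ 0)
    (hrq : ¬ r ∣ Fintype.card F) (hxr : x ^ r = 1)
    (R : Submodule F V) (hRx : R.map x ≤ R) (hRnd : NondegOn B R)
    (hfpf : ∀ v ∈ R, x v = v → v = 0) :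
    ∃ (m : ℕ) (W : Fin m → Submodule F V), IsOrthFam B R W ∧ (∀ k, (W k).map x ≤ W k) ∧
      (∀ k, finrank F (W k) = cOf (Fintype.card F) r) :=
  h48_block_decomp_core B hB x hx r hrq hxr
    (fun R' hR'x hR'nd hR'f hR'0 =>
      exists_block_on B hB x hx r hr2 hr0 hrq hxr R' hR'x hR'nd hR'f hR'0)
    (fun R' W hWR hW hR' => Cfsg.Agent.Helper66.SPI.orth_compl_on B hB R' W hWR hW hR')
    R hRx hRnd hfpf

end Cfsg.Agent.Helper48.SPI
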