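import Mathlib
import Cfsg.Agent.Lib.Helper93.MD0

/-!
# MD project (S2140), piece (F3): `n = 3`

Server: helper93.  Statement verbatim from `tools/md_sigs_helper93.lean.txt`.
-/

set_option autoImplicit false

namespace Cfsg.Agent.Helper48.MD

open Module Cfsg.Agent.Helper93.McL Cfsg.Agent.Helper93.MD

variable {F V : Type*} [Field F] [Fintype F] [AddCommGroup V] [Module F V] [FiniteDimensional F V]

/-- A basis of a 3-dimensional space starting with `u, v`. -/
lemma f3_exists_basis (hn : finrank F V = 3) {u v : V} (hu : u ≠ 0)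
    (hv : v ∉ Submodule.span F {u}) :
    ∃ b : Basis (Fin 3) F V, b 0 = u ∧ b 1 = v := by
  have hli : LinearIndependent F ![u, v] := by
    rw [LinearIndependent.pair_iff' hu]
    intro a ha
    apply hv
    rw [Submodule.mem_span_singleton]
    exact ⟨a, ha⟩
  obtain ⟨x, hx⟩ := exists_linearIndependent_snoc_of_lt_finrank hli (by omega)
  have hcard : Fintype.card (Fin (2 + 1)) = finrank F V := by simp [hn]
  refine ⟨basisOfLinearIndependentOfCardEqFinrank hx hcard, ?_, ?_⟩
  · rw [coe_basisOfLinearIndependentOfCardEqFinrank]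
    rfl
  · rw [coe_basisOfLinearIndependentOfCardEqFinrank]
    rfl

/-- Diagonal elements of `SL(V)`. -/
lemma f3_exists_diag {ι : Type*} [Fintype ι] [DecidableEq ι] (b : Basis ι F V) (d : ι → F)
    (hd : ∏ i, d i = 1) : ∃ g : V ≃ₗ[F] V, g ∈ SLV F V ∧ ∀ i, g (b i) = d i • b i := by
  have hdet : LinearMap.det (Matrix.toLin b b (Matrix.diagonal d)) = 1 := by
    rw [LinearMap.det_toLin, Matrix.det_diagonal, hd]
  have hne : LinearMap.det (Matrix.toLin b b (Matrix.diagonal d)) ≠ 0 := by
    rw [hdet]; exact one_ne_zero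
  refine ⟨LinearMap.equivOfDetNeZero _ hne, ?_, ?_⟩
  · rw [mem_SLV]
    apply Units.ext
    rw [LinearEquiv.coe_det]
    simpa using hdet
  · intro i
    change Matrix.toLin b b (Matrix.diagonal d) (b i) = d i • b i
    rw [Matrix.toLin_self]
    rw [Finset.sum_eq_single i]
    · simp
    · intro j _ hj
      rw [Matrix.diagonal_apply_ne _ hj, zero_smul]
    · intro h; exact absurd (Finset.mem_univ i) h

/-- (F3) `n = 3`. -/
theorem f3 (hn : finrank F V = 3) {u v : V} (hu : u ≠ 0) (hv : v ∉ Submodule.span F {u})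
    (K : Subgroup (V ≃ₗ[F] V)) (hKS : K ≤ SLV F V) (hKu : ∀ k ∈ K, ∃ α : F, k u = α • u)
    (hKE : ∀ φ : Dual F V, φ u = 0 → tv u φ ∈ K → φ = 0)
    (hcov : ∀ g ∈ SLV F V, (∃ α : F, g u = α • u) → ∃ φ : Dual F V, φ u = 0 ∧ tv u φ * g ∈ K)
    (D : CData K u v) :
    ∃ (c : Dual F V) (μ : F), c ≠ 0 ∧ c u = 0 ∧ c v = 0 ∧ D.b c = μ • c := by
  obtain ⟨b, hb0, hb1⟩ := f3_exists_basis hn hu hv
  set c₀ : Dual F V := b.coord 2 with hc₀
  have hc0 : c₀ u = 0 := by
    rw [← hb0, hc₀, Basis.coord_apply, Basis.repr_self, Finsupp.single_apply]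
    simp
  have hc1 : c₀ v = 0 := by
    rw [← hb1, hc₀, Basis.coord_apply, Basis.repr_self, Finsupp.single_apply]
    simp
  have hc2 : c₀ (b 2) = 1 := by
    rw [hc₀, Basis.coord_apply, Basis.repr_self, Finsupp.single_apply]
    simp
  have hcne : c₀ ≠ 0 := by
    intro h
    rw [h] at hc2
    simp at hc2
  have hbu : D.b c₀ u = 0 := D.b_u c₀ hc0 hc1
  -- the key point: `D.b c₀ v = 0`
  have ha : D.b c₀ v = 0 := by
    by_cases h2 : (2 : F) = 0
    · -- characteristic 2
      have hb00 : (0 : Dual F V) = D.b 0 := by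
        apply D.b_uniq 0 0 (by simp) (by simp) (by simp)
        rw [tv_zero_right, tv_zero_right, mul_one]
        exact K.one_mem
      have hadd := D.b_add c₀ c₀ hc0 hc1 hc0 hc1
      have hcc : c₀ + c₀ = 0 := by
        rw [← two_smul F c₀, h2, zero_smul]
      have hbb : D.b c₀ + D.b c₀ = 0 := by
        rw [← two_smul F (D.b c₀), h2, zero_smul]
      rw [hcc, hbb, ← hb00, zero_sub] at hadd
      have h3 : (D.b c₀ v) • c₀ = 0 := by
        rw [eq_comm, neg_eq_zero] at hadd
        exact hadd
      have h4 := congrArg (fun ψ : Dual F V => ψ (b 2)) h3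
      simpa [hc2] using h4
    · -- odd characteristic
      obtain ⟨g, hgS, hg⟩ := f3_exists_diag b ![1, -1, -1] (by simp [Fin.prod_univ_three])
      have hgu : g u = u := by
        have := hg 0
        rw [hb0] at this
        simpa using this
      have hgv : g v = -v := by
        have := hg 1
        rw [hb1] at this
        simpa using this
      obtain ⟨φ₀, hφ₀, hk⟩ := hcov g hgS ⟨1, by rw [hgu, one_smul]⟩
      set k : V ≃ₗ[F] V := tv u φ₀ * g with hkdef
      have hku : k u = (1 : F) • u := by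
        rw [hkdef, LinearEquiv.mul_apply, hgu, tv_apply hφ₀, hφ₀, zero_smul, add_zero, one_smul]
      have hkv : k v = (-1 : F) • v + (-φ₀ v) • u := by
        rw [hkdef, LinearEquiv.mul_apply, hgv, tv_apply hφ₀]
        simp
      -- `c₀ ∘ g = -c₀`
      have hcg : ∀ y : V, c₀ (g y) = -c₀ y := by
        have : c₀ ∘ₗ (g : V →ₗ[F] V) = -c₀ := by
          apply b.ext
          intro i
          rw [LinearMap.comp_apply, LinearEquiv.coe_coe, hg i, map_smul, LinearMap.neg_apply, hc₀,
            Basis.coord_apply, Basis.repr_self, Finsupp.single_apply]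
          fin_cases i <;> simp
        intro y
        have h := congrArg (fun ψ : Dual F V => ψ y) this
        simpa using h
      have hck : ∀ y : V, c₀ (k y) = -c₀ y := by
        intro y
        rw [hkdef, LinearEquiv.mul_apply, tv_apply hφ₀, map_add, map_smul, hc0, smul_zero, add_zero,
          hcg]
      have hcks : c₀ ∘ₗ (k.symm : V →ₗ[F] V) = -c₀ := by
        apply LinearMap.ext
        intro x
        have := hck (k.symm x)
        rw [LinearEquiv.apply_symm_apply] at this
        rw [LinearMap.comp_apply, LinearEquiv.coe_coe, LinearMap.neg_apply, this, neg_neg]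
      have heq := D.b_equiv k hk 1 (-1) (-φ₀ v) hku hkv c₀ hc0 hc1
      rw [hcks] at heq
      have h1 : ((-1 : F)) • (-c₀) = c₀ := by simp
      rw [h1] at heq
      have hksv : k.symm v = -v - φ₀ v • u := by
        rw [LinearEquiv.symm_apply_eq, map_sub, map_neg, map_smul, hkv, hku]
        simp
      have h5 := congrArg (fun ψ : Dual F V => ψ v) heq
      simp only [LinearMap.add_apply, LinearMap.smul_apply, LinearMap.comp_apply,
        LinearEquiv.coe_coe, LinearMap.neg_apply, hc1, hksv, map_sub, map_neg, map_smul, hbu,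
        smul_eq_mul, mul_zero, sub_zero, neg_zero, add_zero, one_mul] at h5
      have h6 : (2 : F) * D.b c₀ v = 0 := by
        rw [two_mul]
        nth_rewrite 1 [h5]
        ring
      rcases mul_eq_zero.mp h6 with h | h
      · exact absurd h h2
      · exact h
  refine ⟨c₀, D.b c₀ (b 2), hcne, hc0, hc1, ?_⟩
  apply b.ext
  intro i
  fin_cases i
  · change D.b c₀ (b 0) = (D.b c₀ (b 2) • c₀) (b 0)
    rw [hb0, hbu, LinearMap.smul_apply, hc0, smul_zero]
  · change D.b c₀ (b 1) = (D.b c₀ (b 2) • c₀) (b 1)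
    rw [hb1, ha, LinearMap.smul_apply, hc1, smul_zero]
  · change D.b c₀ (b 2) = (D.b c₀ (b 2) • c₀) (b 2)
    rw [LinearMap.smul_apply, hc2, smul_eq_mul, mul_one]

end Cfsg.Agent.Helper48.MD
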