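import Mathlib
import Cfsg.Prelude.Def_CaseTheorems

set_option autoImplicit false

namespace Cfsg.Agent.Helper48

open Subgroup

variable {G : Type*} [Group G]

theorem isPGroup_pCore (p : ℕ) [Fact p.Prime] (G : Type*) [Group G] :
    IsPGroup p (Cfsg.pCore p G) := by
  unfold Cfsg.pCore
  exact Sylow.sSup_of_normal _ (fun _ h => h.2) (fun _ h => h.1)

theorem le_pCore {p : ℕ} {N : Subgroup G} (hN : N.Normal) (hp : IsPGroup p N) :
    N ≤ Cfsg.pCore p G :=
  le_sSup ⟨hN, hp⟩

theorem map_pCore_le {p : ℕ} {T T' : Type*} [Group T] [Group T'] (e : T ≃* T') :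
    (Cfsg.pCore p T).map e.toMonoidHom ≤ Cfsg.pCore p T' := by
  rw [Subgroup.map_le_iff_le_comap]
  conv_lhs => unfold Cfsg.pCore
  apply sSup_le
  intro N hN
  rw [← Subgroup.map_le_iff_le_comap]
  apply le_sSup
  refine ⟨?_, ?_⟩
  · have := hN.1
    exact Subgroup.Normal.map this e.toMonoidHom e.surjective
  · exact hN.2.map _

theorem map_pCore_eq {p : ℕ} {T T' : Type*} [Group T] [Group T'] (e : T ≃* T') :
    (Cfsg.pCore p T).map e.toMonoidHom = Cfsg.pCore p T' := by
  apply le_antisymm (map_pCore_le e)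
  intro x hx
  have h1 := map_pCore_le (p := p) e.symm (mem_map_of_mem _ hx)
  refine ⟨e.symm x, h1, ?_⟩
  simp

instance pCore_characteristic (p : ℕ) (T : Type*) [Group T] : (Cfsg.pCore p T).Characteristic := by
  rw [characteristic_iff_map_eq]
  intro ϕ
  exact map_pCore_eq ϕ

/-- `T` has characteristic `p`: `C_T(O_p(T)) ≤ O_p(T)`. -/
def CharPGroup (p : ℕ) (T : Type*) [Group T] : Prop :=
  centralizer (Cfsg.pCore p T : Set T) ≤ Cfsg.pCore p T

theorem CharPGroup.of_equiv {p : ℕ} {T T' : Type*} [Group T] [Group T'] (e : T ≃* T')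
    (h : CharPGroup p T) : CharPGroup p T' := by
  intro x hx
  have h1 : e.symm x ∈ centralizer (Cfsg.pCore p T : Set T) := by
    rw [mem_centralizer_iff]
    intro q hq
    have hq' : e q ∈ Cfsg.pCore p T' := by
      rw [← map_pCore_eq e]
      exact mem_map_of_mem _ hq
    have := (mem_centralizer_iff.mp hx) (e q) hq'
    apply e.injective
    simpa using this
  have h2 := h h1
  have h3 : e (e.symm x) ∈ (Cfsg.pCore p T).map e.toMonoidHom := mem_map_of_mem _ h2
  rw [map_pCore_eq e] at h3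
  simpa using h3

/-- A normal subgroup of a finite group of characteristic `p` has characteristic `p`. -/
theorem CharPGroup.of_normal {p : ℕ} [Fact p.Prime] {K : Type*} [Group K] [Finite K]
    (h : CharPGroup p K) (N : Subgroup K) [hN : N.Normal] : CharPGroup p N := by
  set Q := Cfsg.pCore p K with hQ
  set R := Cfsg.pCore p N with hR
  have hQn : Q.Normal := by rw [hQ]; infer_instance
  have hRp : IsPGroup p R := isPGroup_pCore p N
  have hRc : R.Characteristic := by rw [hR]; infer_instance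
  have hR'n : (R.map N.subtype).Normal := inferInstance
  have hR'Q : R.map N.subtype ≤ Q := le_pCore hR'n (hRp.map _)
  have hQNR : (Q ⊓ N).subgroupOf N ≤ R := by
    apply le_pCore
    · infer_instance
    · exact ((isPGroup_pCore p K).to_inf_left).comap_subtype
  -- the centralizer is a p-group
  have hCp : IsPGroup p (centralizer (R : Set N)) := by
    rintro ⟨c, hc⟩
    -- key: for u ∈ Q, c u c⁻¹ = r u with r ∈ R' commuting with c
    have key : ∀ u ∈ Q, ∀ k : ℕ, (c : K) ^ k * u * ((c : K) ^ k)⁻¹ =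
        ((c : K) * u * (c : K)⁻¹ * u⁻¹) ^ k * u := by
      intro u hu
      have hr : (c : K) * u * (c : K)⁻¹ * u⁻¹ ∈ Q ⊓ N := by
        refine ⟨Q.mul_mem (hQn.conj_mem u hu c) (Q.inv_mem hu), ?_⟩
        have : (c : K) * u * (c : K)⁻¹ * u⁻¹ = (c : K) * (u * (c : K)⁻¹ * u⁻¹) := by group
        rw [this]
        exact N.mul_mem c.2 (hN.conj_mem _ (N.inv_mem c.2) u)
      have hrR : (⟨_, hr.2⟩ : N) ∈ R := hQNR (mem_subgroupOf.mpr hr)
      have hcomm : (c : K) * ((c : K) * u * (c : K)⁻¹ * u⁻¹) =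
          ((c : K) * u * (c : K)⁻¹ * u⁻¹) * (c : K) := by
        have := (mem_centralizer_iff.mp hc) _ hrR
        have := congrArg Subtype.val this
        simpa using this.symm
      intro k
      induction k with
      | zero => simp
      | succ k ih =>
        set r := (c : K) * u * (c : K)⁻¹ * u⁻¹ with hrdef
        have hcr : Commute (c : K) r := hcomm
        calc (c : K) ^ (k + 1) * u * ((c : K) ^ (k + 1))⁻¹
            = (c : K) * ((c : K) ^ k * u * ((c : K) ^ k)⁻¹) * (c : K)⁻¹ := by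
              rw [pow_succ']; group
          _ = (c : K) * (r ^ k * u) * (c : K)⁻¹ := by rw [ih]
          _ = ((c : K) * r ^ k * (c : K)⁻¹) * ((c : K) * u * (c : K)⁻¹) := by group
          _ = r ^ k * ((c : K) * u * (c : K)⁻¹) := by
              rw [(hcr.pow_right k).eq, mul_inv_cancel_right]
          _ = r ^ k * (r * u) := by rw [hrdef]; group
          _ = r ^ (k + 1) * u := by rw [pow_succ]; group
    -- c ^ card R' centralizes Q
    obtain ⟨a, ha⟩ := (IsPGroup.iff_card).mp hRp
    have hcent : (c : K) ^ (p ^ a) ∈ centralizer (Q : Set K) := by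
      rw [mem_centralizer_iff]
      intro u hu
      have hk := key u hu (p ^ a)
      have hr : (c : K) * u * (c : K)⁻¹ * u⁻¹ ∈ Q ⊓ N := by
        refine ⟨Q.mul_mem (hQn.conj_mem u hu c) (Q.inv_mem hu), ?_⟩
        have : (c : K) * u * (c : K)⁻¹ * u⁻¹ = (c : K) * (u * (c : K)⁻¹ * u⁻¹) := by group
        rw [this]
        exact N.mul_mem c.2 (hN.conj_mem _ (N.inv_mem c.2) u)
      have hrR : (⟨_, hr.2⟩ : N) ∈ R := hQNR (mem_subgroupOf.mpr hr)
      have h1 : (⟨_, hrR⟩ : R) ^ (p ^ a) = 1 := by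
        rw [← ha]; exact pow_card_eq_one'
      have h2 : ((c : K) * u * (c : K)⁻¹ * u⁻¹) ^ (p ^ a) = 1 := by
        have := congrArg (fun z : R => ((z : N) : K)) h1
        simpa using this
      rw [h2, one_mul] at hk
      calc u * (c : K) ^ (p ^ a) = ((c : K) ^ (p ^ a) * u * ((c : K) ^ (p ^ a))⁻¹) * (c : K) ^ (p ^ a) := by
            rw [hk]
        _ = (c : K) ^ (p ^ a) * u := by group
    have hQmem := h hcent
    obtain ⟨b, hb⟩ := (isPGroup_pCore p K) ⟨_, hQmem⟩
    refine ⟨a + b, ?_⟩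
    apply Subtype.ext
    apply Subtype.ext
    have := congrArg Subtype.val hb
    simp only [SubmonoidClass.coe_pow, OneMemClass.coe_one] at this ⊢
    rw [pow_add, pow_mul]
    exact this
  have hRn : R.Normal := by rw [hR]; infer_instance
  have hCn : (centralizer (R : Set N)).Normal := inferInstance
  exact le_pCore hCn hCp

theorem card_sup_coprime_of_normal [Finite G] {p : ℕ} (H K : Subgroup G) [K.Normal]
    (hH : (Nat.card H).Coprime p) (hK : (Nat.card K).Coprime p) :
    (Nat.card ↥(H ⊔ K)).Coprime p := by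
  have h1 : Nat.card ↥(H ⊔ K) = Nat.card K * K.relIndex (H ⊔ K) := by
    rw [← Subgroup.relIndex_bot_left, ← Subgroup.relIndex_bot_left,
      Subgroup.relIndex_mul_relIndex ⊥ K (H ⊔ K) bot_le le_sup_right]
  rw [h1, Subgroup.relIndex_sup_right]
  exact Nat.Coprime.mul_left hK (Nat.Coprime.coprime_dvd_left (Subgroup.relIndex_dvd_card K H) hH)

/-- In a finite group, `O_{p'}(G)` has order prime to `p`. -/
theorem pPrimeCore_card_coprime [Finite G] (p : ℕ) :
    (Nat.card (Cfsg.pPrimeCore p G)).Coprime p := by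
  set X : Set (Subgroup G) := {N : Subgroup G | N.Normal ∧ (Nat.card N).Coprime p} with hX
  have hfin : X.Finite := Set.toFinite X
  have hne : X.Nonempty := ⟨⊥, inferInstance, by simp⟩
  obtain ⟨M, hM, hmax⟩ := Set.exists_max_image X (fun N => Nat.card N) hfin hne
  have hle : ∀ K ∈ X, K ≤ M := by
    intro K hK
    have := hM.1
    have hKM : K ⊔ M ∈ X :=
      ⟨by have := hK.1; infer_instance, card_sup_coprime_of_normal K M hK.2 hM.2⟩
    have h1 := hmax _ hKM
    have h2 : M = K ⊔ M := Subgroup.eq_of_le_of_card_ge le_sup_right h1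
    rw [h2]; exact le_sup_left
  have heq : Cfsg.pPrimeCore p G = M := le_antisymm (sSup_le hle) (le_sSup hM)
  rw [heq]; exact hM.2

theorem le_pPrimeCore {p : ℕ} {N : Subgroup G} (hN : N.Normal) (h : (Nat.card N).Coprime p) :
    N ≤ Cfsg.pPrimeCore p G :=
  le_sSup ⟨hN, h⟩

end Cfsg.Agent.Helper48
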