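import Mathlib
import Cfsg.Prelude.Def_Transfer
import Cfsg.Agent.Lib.Helper24.CYCDefs

/-!
# CYC project (S4016), piece (I1) `caseI_comm_iff`

Server: helper24.  Statement verbatim from `tools/cyc_sigs_helper24.lean.txt`.
-/

set_option autoImplicit false

namespace Cfsg.Agent.Helper48.CYC

open Subgroup Cfsg.Agent.Helper24.CYC

universe u

variable {G : Type u} [Group G] [Finite G] {p : ℕ} [Fact p.Prime]

/-- In Case I the centraliser of an involution is a `p'`-group. -/
lemma i1_not_dvd_centralizer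
    (hI : ∀ s u : G, s * s = 1 → s ≠ 1 → orderOf u = p → s * u ≠ u * s)
    (s : G) (hs : s * s = 1) (hs1 : s ≠ 1) :
    ¬ p ∣ Nat.card (Subgroup.centralizer ({s} : Set G)) := by
  intro hdvd
  obtain ⟨u, hu⟩ := exists_prime_orderOf_dvd_card' (G := Subgroup.centralizer ({s} : Set G)) p hdvd
  have hu' : orderOf (u : G) = p := by rw [Subgroup.orderOf_coe, hu]
  have hcomm := Subgroup.mem_centralizer_iff.mp u.2 s (Set.mem_singleton s)
  exact hI s u hs hs1 hu' hcomm

omit [Finite G] in
/-- A Sylow `2`-subgroup is a `p'`-group for odd `p`. -/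
lemma i1_not_dvd_sylow (hp2 : p ≠ 2) (S : Sylow 2 G) [Finite G] :
    ¬ p ∣ Nat.card (S : Subgroup G) := by
  intro hdvd
  obtain ⟨n, hn⟩ := IsPGroup.iff_card.mp S.isPGroup'
  rw [hn] at hdvd
  have hp : p.Prime := Fact.out
  have := (Nat.prime_dvd_prime_iff_eq hp Nat.prime_two).mp (hp.dvd_of_dvd_pow hdvd)
  exact hp2 this

/-- In Case I a `2`-subgroup centralising an involution `s` of the Sylow `2`-subgroup `S` lies in `S`. -/
lemma i1_le_sylow (hC : Core p G)
    (hI : ∀ s u : G, s * s = 1 → s ≠ 1 → orderOf u = p → s * u ≠ u * s)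
    (S : Sylow 2 G) (s : G) (hsS : s ∈ S) (hs : s * s = 1) (hs1 : s ≠ 1)
    (Q : Subgroup G) (hQ : IsPGroup 2 Q) (hQs : Q ≤ Subgroup.centralizer ({s} : Set G)) :
    Q ≤ (S : Subgroup G) := by
  have hCab := hC.c1.min.ab _ (i1_not_dvd_centralizer hI s hs hs1)
  have hSab := hC.c1.min.ab _ (i1_not_dvd_sylow hC.c1.podd S)
  have hSC : (S : Subgroup G) ≤ Subgroup.centralizer ({s} : Set G) := by
    intro x hx
    rw [Subgroup.mem_centralizer_iff]
    intro y hy
    rw [Set.mem_singleton_iff] at hy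
    subst hy
    exact hSab y hsS x hx
  have hnorm : Q ≤ Subgroup.normalizer ((S : Subgroup G) : Set G) := by
    intro x hx
    have hxc : x ∈ Subgroup.centralizer ((S : Subgroup G) : Set G) := by
      rw [Subgroup.mem_centralizer_iff]
      intro y hy
      exact hCab y (hSC hy) x (hQs hx)
    exact Subgroup.centralizer_le_normalizer _ hxc
  have hsup : IsPGroup 2 ((S : Subgroup G) ⊔ Q : Subgroup G) :=
    IsPGroup.to_sup_of_normal_left' S.isPGroup' hQ hnorm
  have heq := S.is_maximal' hsup le_sup_left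
  calc Q ≤ (S : Subgroup G) ⊔ Q := le_sup_right
    _ = S := heq

/-- (I1) -/
theorem caseI_comm_iff (hC : Core p G) (hI : ∀ s u : G, s * s = 1 → s ≠ 1 → orderOf u = p → s * u ≠ u * s)
    (S : Sylow 2 G) (s : G) (hsS : s ∈ S) (hs : s * s = 1) (hs1 : s ≠ 1) (t : G) (ht : t * t = 1) :
    s * t = t * s ↔ t ∈ S := by
  constructor
  · intro hst
    have hQ : IsPGroup 2 (Subgroup.zpowers t) := by
      rintro ⟨g, hg⟩
      obtain ⟨n, rfl⟩ := Subgroup.mem_zpowers_iff.mp hg
      refine ⟨1, Subtype.ext ?_⟩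
      change (t ^ n) ^ 2 ^ 1 = 1
      rw [pow_one, ← zpow_natCast, ← zpow_mul, mul_comm, zpow_mul, zpow_natCast, pow_two, ht,
        one_zpow]
    have hQs : Subgroup.zpowers t ≤ Subgroup.centralizer ({s} : Set G) := by
      rw [Subgroup.zpowers_le]
      rw [Subgroup.mem_centralizer_iff]
      intro y hy
      rw [Set.mem_singleton_iff] at hy
      subst hy
      exact hst
    exact i1_le_sylow hC hI S s hsS hs hs1 _ hQ hQs (Subgroup.mem_zpowers t)
  · intro htS
    exact hC.c1.min.ab _ (i1_not_dvd_sylow hC.c1.podd S) s hsS t htS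

end Cfsg.Agent.Helper48.CYC
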