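import Mathlib
import Cfsg.Prelude.Def_Transfer
import Cfsg.Agent.Lib.Helper24.CYCDefs
import Cfsg.Agent.Lib.Helper48.CYCI1

/-!
# CYC project (S4016), piece (I2) `caseI_card_invol`

Server: helper24.  Statement verbatim from `tools/cyc_sigs_helper24.lean.txt`.
-/

set_option autoImplicit false

namespace Cfsg.Agent.Helper48.CYC

open Subgroup Cfsg.Agent.Helper24.CYC
open scoped Pointwise

universe u

variable {G : Type u} [Group G] [Finite G] {p : ℕ} [Fact p.Prime]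

omit [Finite G] [Fact p.Prime] in
/-- membership in a conjugate Sylow subgroup -/
lemma i2_mem_smul {q : ℕ} (g : G) (S : Sylow q G) (t : G) :
    t ∈ g • S ↔ g⁻¹ * t * g ∈ S := by
  have h1 : t ∈ ((g • S : Sylow q G) : Subgroup G) ↔ t ∈ MulAut.conj g • (S : Subgroup G) := by
    rw [Sylow.coe_subgroup_smul]
  change t ∈ ((g • S : Sylow q G) : Subgroup G) ↔ _
  rw [h1, Subgroup.mem_pointwise_smul_iff_inv_smul_mem]
  simp only [MulAut.smul_def, MulAut.conj_inv_apply]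
  rfl

/-- In Case I an involution lies in a unique Sylow `2`-subgroup. -/
lemma i2_unique (hC : Core p G)
    (hI : ∀ s u : G, s * s = 1 → s ≠ 1 → orderOf u = p → s * u ≠ u * s)
    (t : G) (ht : t * t = 1) (ht1 : t ≠ 1) (S1 S2 : Sylow 2 G) (h1 : t ∈ S1) (h2 : t ∈ S2) :
    S1 = S2 := by
  have hab := hC.c1.min.ab _ (i1_not_dvd_sylow hC.c1.podd S2)
  have hS2 : (S2 : Subgroup G) ≤ Subgroup.centralizer ({t} : Set G) := by
    intro x hx
    rw [Subgroup.mem_centralizer_iff]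
    intro y hy
    rw [Set.mem_singleton_iff] at hy
    subst hy
    exact hab y h2 x hx
  have hle := i1_le_sylow hC hI S1 t h1 ht ht1 _ S2.isPGroup' hS2
  exact Sylow.ext (S2.is_maximal' S1.isPGroup' hle)

/-- (I2) -/
theorem caseI_card_invol (hC : Core p G) (hI : ∀ s u : G, s * s = 1 → s ≠ 1 → orderOf u = p → s * u ≠ u * s)
    (S : Sylow 2 G) :
    Nat.card {t : G // t * t = 1 ∧ t ≠ 1} =
      Nat.card (Sylow 2 G) * Nat.card {t : G // t ∈ S ∧ t * t = 1 ∧ t ≠ 1} := by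
  classical
  -- every involution lies in some Sylow 2-subgroup
  have hex : ∀ a : {t : G // t * t = 1 ∧ t ≠ 1}, ∃ S' : Sylow 2 G, a.1 ∈ S' := by
    intro a
    have hQ : IsPGroup 2 (Subgroup.zpowers a.1) := by
      rintro ⟨g, hg⟩
      obtain ⟨n, rfl⟩ := Subgroup.mem_zpowers_iff.mp hg
      refine ⟨1, Subtype.ext ?_⟩
      change (a.1 ^ n) ^ 2 ^ 1 = 1
      rw [pow_one, ← zpow_natCast, ← zpow_mul, mul_comm, zpow_mul, zpow_natCast, pow_two, a.2.1,
        one_zpow]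
    obtain ⟨S', hS'⟩ := hQ.exists_le_sylow
    exact ⟨S', hS' (Subgroup.mem_zpowers a.1)⟩
  choose f hf using hex
  have hfib : ∀ S' : Sylow 2 G,
      Nat.card {a : {t : G // t * t = 1 ∧ t ≠ 1} // f a = S'} =
        Nat.card {t : G // t ∈ S ∧ t * t = 1 ∧ t ≠ 1} := by
    intro S'
    obtain ⟨g, hg⟩ := MulAction.exists_smul_eq G S S'
    have e1 : {a : {t : G // t * t = 1 ∧ t ≠ 1} // f a = S'} ≃
        {t : G // t ∈ S' ∧ t * t = 1 ∧ t ≠ 1} :=
      { toFun := fun a => ⟨a.1.1, by have h := hf a.1; rw [a.2] at h; exact h, a.1.2.1, a.1.2.2⟩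
        invFun := fun t => ⟨⟨t.1, t.2.2⟩,
          i2_unique hC hI t.1 t.2.2.1 t.2.2.2 _ _ (hf ⟨t.1, t.2.2⟩) t.2.1⟩
        left_inv := fun a => by apply Subtype.ext; apply Subtype.ext; rfl
        right_inv := fun t => by apply Subtype.ext; rfl }
    have e2 : {t : G // t ∈ S' ∧ t * t = 1 ∧ t ≠ 1} ≃ {t : G // t ∈ S ∧ t * t = 1 ∧ t ≠ 1} := by
      refine (MulAut.conj g⁻¹).toEquiv.subtypeEquiv ?_
      intro t
      have hmem : t ∈ S' ↔ MulAut.conj g⁻¹ t ∈ S := by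
        rw [← hg, i2_mem_smul]
        simp
      have h1 : MulAut.conj g⁻¹ t * MulAut.conj g⁻¹ t = 1 ↔ t * t = 1 := by
        rw [← map_mul, MulEquiv.map_eq_one_iff]
      have h2 : MulAut.conj g⁻¹ t = 1 ↔ t = 1 := MulEquiv.map_eq_one_iff _
      change _ ↔ (MulAut.conj g⁻¹ t ∈ S ∧ MulAut.conj g⁻¹ t * MulAut.conj g⁻¹ t = 1 ∧
        MulAut.conj g⁻¹ t ≠ 1)
      rw [hmem, h1, Ne, Ne, h2]
    exact Nat.card_congr (e1.trans e2)
  let _ : Fintype (Sylow 2 G) := Fintype.ofFinite _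
  rw [Nat.card_congr (Equiv.sigmaFiberEquiv f).symm, Nat.card_sigma]
  simp only [hfib, Finset.sum_const, Finset.card_univ, smul_eq_mul, Nat.card_eq_fintype_card]

end Cfsg.Agent.Helper48.CYC
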