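import Mathlib
import Cfsg.Prelude.Def_Transfer
import Cfsg.Agent.Lib.Helper24.CYCDefs
import Cfsg.Agent.Lib.Helper48.CYCI2

/-!
# CYC project (S4016), piece (IIC) `caseII_all`

Server: helper24.  Statement verbatim from `tools/cyc_sigs_helper24.lean.txt`.
-/

set_option autoImplicit false

namespace Cfsg.Agent.Helper48.CYC

open Subgroup Cfsg.Agent.Helper24.CYC
open scoped Pointwise

universe u

variable {G : Type u} [Group G] [Finite G] {p : ℕ} [Fact p.Prime]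

omit [Finite G] [Fact p.Prime] in
lemma iic_mem_NP (k : G) (P₀ : Sylow p G) (x : G) :
    x ∈ NP (k • P₀) ↔ k⁻¹ * x * k ∈ NP P₀ := by
  change x ∈ Subgroup.normalizer (((k • P₀ : Sylow p G) : Subgroup G) : Set G) ↔
    k⁻¹ * x * k ∈ Subgroup.normalizer ((P₀ : Subgroup G) : Set G)
  rw [Subgroup.mem_normalizer_iff, Subgroup.mem_normalizer_iff]
  constructor
  · intro H h'
    have h1 := H (k * h' * k⁻¹)
    change (k * h' * k⁻¹ ∈ k • P₀ ↔ x * (k * h' * k⁻¹) * x⁻¹ ∈ k • P₀) at h1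
    rw [i2_mem_smul, i2_mem_smul] at h1
    have e1 : k⁻¹ * (k * h' * k⁻¹) * k = h' := by group
    have e2 : k⁻¹ * (x * (k * h' * k⁻¹) * x⁻¹) * k = k⁻¹ * x * k * h' * (k⁻¹ * x * k)⁻¹ := by
      group
    rw [e1, e2] at h1
    exact h1
  · intro H h
    have h1 := H (k⁻¹ * h * k)
    change (h ∈ k • P₀ ↔ x * h * x⁻¹ ∈ k • P₀)
    rw [i2_mem_smul, i2_mem_smul]
    have e2 : k⁻¹ * x * k * (k⁻¹ * h * k) * (k⁻¹ * x * k)⁻¹ = k⁻¹ * (x * h * x⁻¹) * k := by
      group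
    rw [e2] at h1
    exact h1

omit [Finite G] [Fact p.Prime] in
lemma iic_mem_CP (k : G) (P₀ : Sylow p G) (x : G) :
    x ∈ CP (k • P₀) ↔ k⁻¹ * x * k ∈ CP P₀ := by
  change x ∈ Subgroup.centralizer (((k • P₀ : Sylow p G) : Subgroup G) : Set G) ↔
    k⁻¹ * x * k ∈ Subgroup.centralizer ((P₀ : Subgroup G) : Set G)
  rw [Subgroup.mem_centralizer_iff, Subgroup.mem_centralizer_iff]
  constructor
  · intro H h' hh'
    have hmem : k * h' * k⁻¹ ∈ k • P₀ := by
      rw [i2_mem_smul]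
      have e1 : k⁻¹ * (k * h' * k⁻¹) * k = h' := by group
      rw [e1]
      exact hh'
    have h1 := H (k * h' * k⁻¹) hmem
    calc h' * (k⁻¹ * x * k) = k⁻¹ * (k * h' * k⁻¹ * x) * k := by group
      _ = k⁻¹ * (x * (k * h' * k⁻¹)) * k := by rw [h1]
      _ = k⁻¹ * x * k * h' := by group
  · intro H h hh
    have hmem : k⁻¹ * h * k ∈ P₀ := (i2_mem_smul k P₀ h).mp hh
    have h1 := H (k⁻¹ * h * k) hmem
    calc h * x = k * (k⁻¹ * h * k * (k⁻¹ * x * k)) * k⁻¹ := by group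
      _ = k * (k⁻¹ * x * k * (k⁻¹ * h * k)) * k⁻¹ := by rw [h1]
      _ = x * h := by group

omit [Finite G] in
lemma iic_mem_centralizer_conj (k s x : G) :
    x ∈ Subgroup.centralizer ({k * s * k⁻¹} : Set G) ↔
      k⁻¹ * x * k ∈ Subgroup.centralizer ({s} : Set G) := by
  rw [Subgroup.mem_centralizer_iff, Subgroup.mem_centralizer_iff]
  simp only [Set.mem_singleton_iff, forall_eq]
  constructor
  · intro h
    calc s * (k⁻¹ * x * k) = k⁻¹ * (k * s * k⁻¹ * x) * k := by group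
      _ = k⁻¹ * (x * (k * s * k⁻¹)) * k := by rw [h]
      _ = k⁻¹ * x * k * s := by group
  · intro h
    calc k * s * k⁻¹ * x = k * (s * (k⁻¹ * x * k)) * k⁻¹ := by group
      _ = k * (k⁻¹ * x * k * s) * k⁻¹ := by rw [h]
      _ = x * (k * s * k⁻¹) := by group

/-- (IIC) -/
theorem caseII_all (hC : Core p G) (S : Sylow 2 G) (P₀ : Sylow p G) (s : G) (hsS : s ∈ S) (hs : s * s = 1) (hs1 : s ≠ 1)
    (hsC : s ∈ CP P₀) (h4 : Nat.card {t : G // t ∈ S ∧ t * t = 1} = 4)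
    (hconj : ∀ t ∈ S, t * t = 1 → t ≠ 1 → ∃ g : G, g * s * g⁻¹ = t)
    (hcard : Nat.card (CP P₀) = 2 * Nat.card P₀ ∧ Nat.card (NP P₀) = 4 * Nat.card P₀) :
    (∀ z : G, z * z = 1 → z ≠ 1 → ∃ P : Sylow p G, Subgroup.centralizer {z} = NP P ∧ z ∈ CP P) ∧
      ∀ P : Sylow p G, Nat.card (CP P) = 2 * Nat.card P ∧ Nat.card (NP P) = 4 * Nat.card P ∧ (Ivs P).Nonempty := by
  have hp : p.Prime := Fact.out
  have hp2 : p ≠ 2 := hC.c1.podd
  -- `C_G(s) = N_G(P₀)`
  have hCs : Subgroup.centralizer ({s} : Set G) = NP P₀ := by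
    have hne : (P₀ : Subgroup G) ≠ ⊥ := Sylow.ne_bot_of_dvd_card P₀ hC.c1.min.pdvd
    obtain ⟨a, ha1⟩ := (Subgroup.ne_bot_iff_exists_ne_one).mp hne
    have ha1' : (a : G) ≠ 1 := fun h => ha1 (Subtype.ext h)
    have hsord : orderOf s = 2 := orderOf_eq_prime (by rw [pow_two]; exact hs) hs1
    have hcop : (orderOf s).Coprime p := by
      rw [hsord]
      exact (Nat.coprime_primes Nat.prime_two hp).mpr (Ne.symm hp2)
    have hcomm : (a : G) * s = s * a := Subgroup.mem_centralizer_iff.mp hsC a a.2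
    exact hC.key P₀ a s a.2 ha1' hs1 hcop hcomm
  -- `Ivs P₀` is nonempty
  have hIvs0 : (Ivs P₀).Nonempty := by
    have hSab := hC.c1.min.ab _ (i1_not_dvd_sylow hp2 S)
    by_contra hemp
    rw [Set.not_nonempty_iff_eq_empty] at hemp
    have hall : ∀ t : G, t ∈ S → t * t = 1 → t ∈ CP P₀ := by
      intro t htS ht
      by_contra htC
      have htN : t ∈ NP P₀ := by
        rw [← hCs, Subgroup.mem_centralizer_iff]
        intro y hy
        rw [Set.mem_singleton_iff] at hy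
        subst hy
        exact hSab y hsS t htS
      have : t ∈ Ivs P₀ := ⟨ht, htN, htC⟩
      rw [hemp] at this
      exact this
    -- `T = S ⊓ C_G(P₀)` has at most 2 elements
    have hT1 : Nat.card ((S : Subgroup G) ⊓ CP P₀ : Subgroup G) ∣ Nat.card (S : Subgroup G) :=
      Subgroup.card_dvd_of_le inf_le_left
    have hT2 : Nat.card ((S : Subgroup G) ⊓ CP P₀ : Subgroup G) ∣ Nat.card (CP P₀) :=
      Subgroup.card_dvd_of_le inf_le_right
    obtain ⟨a, ha⟩ := IsPGroup.iff_card.mp S.isPGroup'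
    obtain ⟨c, hc⟩ := IsPGroup.iff_card.mp P₀.isPGroup'
    rw [ha] at hT1
    obtain ⟨b, -, hb⟩ := (Nat.dvd_prime_pow Nat.prime_two).mp hT1
    rw [hcard.1, hc, hb] at hT2
    have hcop : Nat.Coprime (2 ^ b) (p ^ c) :=
      Nat.Coprime.pow _ _ ((Nat.coprime_primes Nat.prime_two hp).mpr (Ne.symm hp2))
    have hdvd2 : 2 ^ b ∣ 2 := Nat.Coprime.dvd_of_dvd_mul_right hcop hT2
    have hle2 : Nat.card ((S : Subgroup G) ⊓ CP P₀ : Subgroup G) ≤ 2 := by
      rw [hb]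
      exact Nat.le_of_dvd (by norm_num) hdvd2
    have hinj : Nat.card {t : G // t ∈ S ∧ t * t = 1} ≤
        Nat.card ((S : Subgroup G) ⊓ CP P₀ : Subgroup G) := by
      apply Nat.card_le_card_of_injective
        (fun t : {t : G // t ∈ S ∧ t * t = 1} =>
          (⟨t.1, Subgroup.mem_inf.mpr ⟨t.2.1, hall t.1 t.2.1 t.2.2⟩⟩ :
            ((S : Subgroup G) ⊓ CP P₀ : Subgroup G)))
      intro t t' htt'
      apply Subtype.ext
      have h := congrArg (fun z : ((S : Subgroup G) ⊓ CP P₀ : Subgroup G) => (z : G)) htt'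
      exact h
    rw [h4] at hinj
    omega
  constructor
  · intro z hz hz1
    -- `z` lies in a Sylow 2-subgroup `g • S`
    have hQ : IsPGroup 2 (Subgroup.zpowers z) := by
      rintro ⟨g, hg⟩
      obtain ⟨n, rfl⟩ := Subgroup.mem_zpowers_iff.mp hg
      refine ⟨1, Subtype.ext ?_⟩
      change (z ^ n) ^ 2 ^ 1 = 1
      rw [pow_one, ← zpow_natCast, ← zpow_mul, mul_comm, zpow_mul, zpow_natCast, pow_two, hz,
        one_zpow]
    obtain ⟨S', hS'⟩ := hQ.exists_le_sylow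
    have hzS' : z ∈ S' := hS' (Subgroup.mem_zpowers z)
    obtain ⟨g, hg⟩ := MulAction.exists_smul_eq G S S'
    rw [← hg, i2_mem_smul] at hzS'
    have ht2 : g⁻¹ * z * g * (g⁻¹ * z * g) = 1 := by
      calc g⁻¹ * z * g * (g⁻¹ * z * g) = g⁻¹ * (z * z) * g := by group
        _ = 1 := by rw [hz]; group
    have ht1 : g⁻¹ * z * g ≠ 1 := by
      intro h
      apply hz1
      calc z = g * (g⁻¹ * z * g) * g⁻¹ := by group
        _ = 1 := by rw [h]; group
    obtain ⟨h, hh⟩ := hconj _ hzS' ht2 ht1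
    have hzk : z = (g * h) * s * (g * h)⁻¹ := by
      calc z = g * (g⁻¹ * z * g) * g⁻¹ := by group
        _ = g * (h * s * h⁻¹) * g⁻¹ := by rw [hh]
        _ = (g * h) * s * (g * h)⁻¹ := by group
    refine ⟨(g * h) • P₀, ?_, ?_⟩
    · ext x
      rw [hzk, iic_mem_centralizer_conj, hCs, iic_mem_NP]
    · rw [iic_mem_CP, hzk]
      have e : (g * h)⁻¹ * ((g * h) * s * (g * h)⁻¹) * (g * h) = s := by group
      rw [e]
      exact hsC
  · intro P
    obtain ⟨k, hk⟩ := MulAction.exists_smul_eq G P₀ P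
    have eC : Nat.card (CP P) = Nat.card (CP P₀) := by
      rw [← hk]
      refine Nat.card_congr ((MulAut.conj k⁻¹).toEquiv.subtypeEquiv ?_)
      intro x
      change x ∈ CP (k • P₀) ↔ MulAut.conj k⁻¹ x ∈ CP P₀
      rw [iic_mem_CP]
      simp
    have eN : Nat.card (NP P) = Nat.card (NP P₀) := by
      rw [← hk]
      refine Nat.card_congr ((MulAut.conj k⁻¹).toEquiv.subtypeEquiv ?_)
      intro x
      change x ∈ NP (k • P₀) ↔ MulAut.conj k⁻¹ x ∈ NP P₀
      rw [iic_mem_NP]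
      simp
    have eP : Nat.card P = Nat.card P₀ := by
      rw [← hk]
      refine Nat.card_congr ((MulAut.conj k⁻¹).toEquiv.subtypeEquiv ?_)
      intro x
      change x ∈ k • P₀ ↔ MulAut.conj k⁻¹ x ∈ P₀
      rw [i2_mem_smul]
      simp
    refine ⟨by rw [eC, eP]; exact hcard.1, by rw [eN, eP]; exact hcard.2, ?_⟩
    obtain ⟨t₀, ht₀, ht₀N, ht₀C⟩ := hIvs0
    refine ⟨k * t₀ * k⁻¹, ?_, ?_, ?_⟩
    · calc k * t₀ * k⁻¹ * (k * t₀ * k⁻¹) = k * (t₀ * t₀) * k⁻¹ := by group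
        _ = 1 := by rw [ht₀]; group
    · rw [← hk, iic_mem_NP]
      have e : k⁻¹ * (k * t₀ * k⁻¹) * k = t₀ := by group
      rw [e]
      exact ht₀N
    · rw [← hk, iic_mem_CP]
      have e : k⁻¹ * (k * t₀ * k⁻¹) * k = t₀ := by group
      rw [e]
      exact ht₀C

end Cfsg.Agent.Helper48.CYC
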