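import Mathlib
import Cfsg.Prelude.Def_Transfer
import Cfsg.Agent.Lib.Helper24.CYCDefs
import Cfsg.Agent.S0182

/-!
# CYC project (S4016), piece (OA) `odd_caseA`

Server: helper24.  Statement verbatim from `tools/cyc_sigs_helper24.lean.txt`.
-/

set_option autoImplicit false

namespace Cfsg.Agent.Helper48.CYC

open Subgroup Cfsg.Agent.Helper24.CYC

universe u

variable {G : Type u} [Group G] [Finite G] {p : ℕ} [Fact p.Prime]

/-- Under `h0`, an element commuting with an element of order `p` is a `p`-element. -/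
lemma oa_ppart
    (h0 : ∀ a t : G, orderOf a = p → t ≠ 1 → (orderOf t).Coprime p → a * t ≠ t * a)
    (y u : G) (hu : orderOf u = p) (huy : u * y = y * u) : ∃ k : ℕ, y ^ p ^ k = 1 := by
  have hp : p.Prime := Fact.out
  have hn : orderOf y ≠ 0 := (orderOf_pos y).ne'
  obtain ⟨k, m, hm, hkm⟩ := Nat.exists_eq_pow_mul_and_not_dvd hn p hp.ne_one
  refine ⟨k, ?_⟩
  by_contra ht1
  have htm : (y ^ p ^ k) ^ m = 1 := by
    rw [← pow_mul, ← hkm, pow_orderOf_eq_one]
  have hcop : (orderOf (y ^ p ^ k)).Coprime p := by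
    have h1 : orderOf (y ^ p ^ k) ∣ m := orderOf_dvd_of_pow_eq_one htm
    have h2 : m.Coprime p := ((Nat.Prime.coprime_iff_not_dvd hp).mpr hm).symm
    exact Nat.Coprime.coprime_dvd_left h1 h2
  have hcomm : u * y ^ p ^ k = y ^ p ^ k * u := (Commute.pow_right huy _).eq
  exact h0 u (y ^ p ^ k) hu ht1 hcop hcomm

/-- A `p`-element normalising a Sylow `p`-subgroup lies in it. -/
lemma oa_mem_sylow (P : Sylow p G) (y : G) (hy : y ∈ NP P) (k : ℕ) (hk : y ^ p ^ k = 1) :
    y ∈ P := by
  have hQ : IsPGroup p (Subgroup.zpowers y) := by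
    rintro ⟨g, hg⟩
    obtain ⟨n, rfl⟩ := Subgroup.mem_zpowers_iff.mp hg
    refine ⟨k, Subtype.ext ?_⟩
    change (y ^ n) ^ p ^ k = 1
    rw [← zpow_natCast, ← zpow_mul, mul_comm, zpow_mul, zpow_natCast, hk, one_zpow]
  have hnorm : Subgroup.zpowers y ≤ Subgroup.normalizer ((P : Subgroup G) : Set G) := by
    rw [Subgroup.zpowers_le]
    exact hy
  have hsup : IsPGroup p ((P : Subgroup G) ⊔ Subgroup.zpowers y : Subgroup G) :=
    IsPGroup.to_sup_of_normal_left' P.isPGroup' hQ hnorm
  have heq := P.is_maximal' hsup le_sup_left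
  have : y ∈ (P : Subgroup G) ⊔ Subgroup.zpowers y :=
    (le_sup_right : Subgroup.zpowers y ≤ _) (Subgroup.mem_zpowers y)
  rw [heq] at this
  exact this

/-- (OA) -/
theorem odd_caseA (hC : Core p G) (hodd : Odd (Nat.card G))
    (h0 : ∀ a t : G, orderOf a = p → t ≠ 1 → (orderOf t).Coprime p → a * t ≠ t * a) : False := by
  have hp : p.Prime := Fact.out
  have hCA : ∀ x : G, x ≠ 1 → ∀ a ∈ Subgroup.centralizer ({x} : Set G),
      ∀ b ∈ Subgroup.centralizer ({x} : Set G), a * b = b * a := by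
    intro x hx1
    by_cases hdvd : p ∣ Nat.card (Subgroup.centralizer ({x} : Set G))
    · obtain ⟨u, hu⟩ :=
        exists_prime_orderOf_dvd_card' (G := Subgroup.centralizer ({x} : Set G)) p hdvd
      have hu' : orderOf (u : G) = p := by rw [Subgroup.orderOf_coe, hu]
      have hux : (u : G) * x = x * u :=
        (Subgroup.mem_centralizer_iff.mp u.2 x (Set.mem_singleton x)).symm
      obtain ⟨k, hk⟩ := oa_ppart h0 x u hu' hux
      -- a Sylow `p`-subgroup containing `x`
      have hQ : IsPGroup p (Subgroup.zpowers x) := by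
        rintro ⟨g, hg⟩
        obtain ⟨n, rfl⟩ := Subgroup.mem_zpowers_iff.mp hg
        refine ⟨k, Subtype.ext ?_⟩
        change (x ^ n) ^ p ^ k = 1
        rw [← zpow_natCast, ← zpow_mul, mul_comm, zpow_mul, zpow_natCast, hk, one_zpow]
      obtain ⟨P₁, hP₁⟩ := hQ.exists_le_sylow
      have hxP : x ∈ P₁ := hP₁ (Subgroup.mem_zpowers x)
      -- a power of `x` of order `p`
      have hpdvd : p ∣ orderOf x := by
        have h1 : orderOf x ∣ p ^ k := orderOf_dvd_of_pow_eq_one hk
        obtain ⟨j, -, hj⟩ := (Nat.dvd_prime_pow hp).mp h1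
        have hj0 : j ≠ 0 := by
          intro h
          rw [h, pow_zero, orderOf_eq_one_iff] at hj
          exact hx1 hj
        rw [hj]
        exact dvd_pow_self p hj0
      have hx'ord : orderOf (x ^ (orderOf x / p)) = p :=
        orderOf_pow_orderOf_div (orderOf_pos x).ne' hpdvd
      have hmem : ∀ y ∈ Subgroup.centralizer ({x} : Set G), y ∈ P₁ := by
        intro y hy
        have hxy : x * y = y * x := Subgroup.mem_centralizer_iff.mp hy x (Set.mem_singleton x)
        have hx'y : x ^ (orderOf x / p) * y = y * x ^ (orderOf x / p) :=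
          (Commute.pow_left hxy _).eq
        obtain ⟨k', hk'⟩ := oa_ppart h0 y _ hx'ord hx'y
        have hyN : y ∈ NP P₁ := hC.c1.centp P₁ x hxP hx1 hy
        exact oa_mem_sylow P₁ y hyN k' hk'
      intro a ha b hb
      have hcyc : IsCyclic P₁ := hC.c1.min.cyc P₁
      have h1 := (IsCyclic.commGroup (α := ↥(P₁ : Subgroup G))).mul_comm
        ⟨a, hmem a ha⟩ ⟨b, hmem b hb⟩
      exact congrArg Subtype.val h1
    · exact hC.c1.min.ab _ hdvd
  have hsol : Group.IsSolvable G := Cfsg.Agent.S0182.result hodd hCA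
  haveI := hC.c1.min.simple
  have hcomm := IsSimpleGroup.comm_iff_isSolvable.mpr hsol
  obtain ⟨a, b, hab⟩ := hC.c1.min.nonab
  exact hab (hcomm a b)

end Cfsg.Agent.Helper48.CYC
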