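import Mathlib
import Cfsg.Agent.Lib.Helper62.SLN0
import Cfsg.Agent.Lib.Helper81.SLPermChar

/-!
# SLN server (helper62, S2332): piece (G9) `card_transvections`

The set of conjugates of the `uEl u`, `u ≠ 0`, is the set of all transvections `1 + v φᵀ`
(`v ≠ 0`, `φ ≠ 0`, `φ ⬝ᵥ v = 0`); the pairs `(v, φ)` are counted directly and each transvection comes
from exactly `q - 1` pairs.
-/

set_option autoImplicit false

namespace Cfsg.Agent.Helper48.SLN

open Matrix Module Cfsg.Agent.Helper93.U2 Cfsg.Agent.Helper62.SLN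

section Gen

variable {F : Type*} [Field F] {ι : Type*} [Fintype ι] [DecidableEq ι]

theorem h48_card_ne {α : Type*} [Finite α] (a : α) :
    Nat.card {x : α // x ≠ a} = Nat.card α - 1 := by
  classical
  have := Fintype.ofFinite α
  rw [Nat.card_eq_fintype_card, Nat.card_eq_fintype_card]
  simp [Fintype.card_subtype_compl]

/-- the number of functionals vanishing on a nonzero vector -/
theorem h48_card_ker [Fintype F] (v : ι → F) (hv : v ≠ 0) :
    Nat.card {φ : ι → F // φ ⬝ᵥ v = 0} = Fintype.card F ^ (Fintype.card ι - 1) := by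
  obtain ⟨i, hi⟩ : ∃ i, v i ≠ 0 := by
    by_contra hcon
    push Not at hcon
    exact hv (funext hcon)
  let f : (ι → F) →ₗ[F] F :=
    { toFun := fun φ => φ ⬝ᵥ v
      map_add' := fun a b => add_dotProduct a b v
      map_smul' := fun c a => by simp [smul_dotProduct] }
  have hsurj : Function.Surjective f := by
    intro c
    refine ⟨(c / v i) • Pi.single i 1, ?_⟩
    show ((c / v i) • Pi.single i 1) ⬝ᵥ v = c
    rw [smul_dotProduct, single_dotProduct, one_mul, smul_eq_mul, div_mul_cancel₀ c hi]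
  have hrk := LinearMap.finrank_range_add_finrank_ker f
  rw [LinearMap.range_eq_top.2 hsurj, finrank_top, Module.finrank_self,
    Module.finrank_fintype_fun_eq_card] at hrk
  have hker : finrank F (LinearMap.ker f) = Fintype.card ι - 1 := by omega
  have hcard := Module.natCard_eq_pow_finrank (K := F) (V := LinearMap.ker f)
  rw [hker, Nat.card_eq_fintype_card (α := F)] at hcard
  rw [← hcard]
  exact Nat.card_congr (Equiv.subtypeEquivRight (fun φ => (LinearMap.mem_ker (f := f)).symm))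

/-- the number of nonzero functionals vanishing on a nonzero vector -/
theorem h48_card_ker_ne [Fintype F] (v : ι → F) (hv : v ≠ 0) :
    Nat.card {φ : ι → F // φ ≠ 0 ∧ φ ⬝ᵥ v = 0} = Fintype.card F ^ (Fintype.card ι - 1) - 1 := by
  rw [← h48_card_ker v hv]
  have h0 : (0 : ι → F) ⬝ᵥ v = 0 := zero_dotProduct v
  rw [← h48_card_ne (⟨0, h0⟩ : {φ : ι → F // φ ⬝ᵥ v = 0})]
  apply Nat.card_congr
  exact
    { toFun := fun φ => ⟨⟨φ.1, φ.2.2⟩, fun h => φ.2.1 (congrArg Subtype.val h)⟩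
      invFun := fun ψ => ⟨ψ.1.1, fun h => ψ.2 (Subtype.ext h), ψ.1.2⟩
      left_inv := fun φ => rfl
      right_inv := fun ψ => rfl }

/-- the pairs `(v, φ)` -/
abbrev h48Pairs (F : Type*) [Field F] (ι : Type*) [Fintype ι] : Type _ :=
  {p : (ι → F) × (ι → F) // p.1 ≠ 0 ∧ p.2 ≠ 0 ∧ p.2 ⬝ᵥ p.1 = 0}

theorem h48_card_pairs [Fintype F] :
    Nat.card (h48Pairs F ι) =
      (Fintype.card F ^ Fintype.card ι - 1) * (Fintype.card F ^ (Fintype.card ι - 1) - 1) := by
  classical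
  have e : h48Pairs F ι ≃
      Σ v : {v : ι → F // v ≠ 0}, {φ : ι → F // φ ≠ 0 ∧ φ ⬝ᵥ v.1 = 0} :=
    { toFun := fun p => ⟨⟨p.1.1, p.2.1⟩, ⟨p.1.2, p.2.2⟩⟩
      invFun := fun s => ⟨(s.1.1, s.2.1), s.1.2, s.2.2⟩
      left_inv := fun p => rfl
      right_inv := fun s => rfl }
  rw [Nat.card_congr e, Nat.card_sigma]
  have hfib : ∀ v : {v : ι → F // v ≠ 0},
      Nat.card {φ : ι → F // φ ≠ 0 ∧ φ ⬝ᵥ v.1 = 0} =
        Fintype.card F ^ (Fintype.card ι - 1) - 1 := fun v => h48_card_ker_ne v.1 v.2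
  rw [Finset.sum_congr rfl (fun v _ => hfib v), Finset.sum_const, Finset.card_univ, smul_eq_mul]
  congr 1
  rw [← Nat.card_eq_fintype_card, h48_card_ne (0 : ι → F), Nat.card_eq_fintype_card,
    Fintype.card_fun]

/-- rank one matrices determine their factors up to a scalar -/
theorem h48_rank_one (v v' φ φ' : ι → F) (hv : v ≠ 0) (hv' : v' ≠ 0) (hφ' : φ' ≠ 0)
    (h : vecMulVec v φ = vecMulVec v' φ') :
    ∃ c : Fˣ, v' = (c : F) • v ∧ φ' = ((c⁻¹ : Fˣ) : F) • φ := by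
  have hij : ∀ i j, v i * φ j = v' i * φ' j := by
    intro i j
    have := congrFun (congrFun h i) j
    simpa [vecMulVec_apply] using this
  obtain ⟨j0, hj0⟩ : ∃ j, φ' j ≠ 0 := by
    by_contra hcon
    push Not at hcon
    exact hφ' (funext hcon)
  obtain ⟨i0, hi0⟩ : ∃ i, v i ≠ 0 := by
    by_contra hcon
    push Not at hcon
    exact hv (funext hcon)
  have hv'eq : ∀ i, v' i = (φ j0 / φ' j0) * v i := by
    intro i
    have := hij i j0
    field_simp
    linear_combination -this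
  have hc : φ j0 / φ' j0 ≠ 0 := by
    intro h0
    apply hv'
    funext i
    rw [hv'eq i, h0, zero_mul]
    rfl
  refine ⟨Units.mk0 _ hc, ?_, ?_⟩
  · funext i
    simp only [Units.val_mk0, Pi.smul_apply, smul_eq_mul]
    exact hv'eq i
  · funext j
    simp only [Units.val_inv_eq_inv_val, Units.val_mk0, Pi.smul_apply, smul_eq_mul]
    have h1 := hij i0 j
    rw [hv'eq i0] at h1
    have h2 : φ j = (φ j0 / φ' j0) * φ' j := by
      have : v i0 * φ j = v i0 * ((φ j0 / φ' j0) * φ' j) := by rw [h1]; ring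
      exact mul_left_cancel₀ hi0 this
    rw [h2, ← mul_assoc, inv_mul_cancel₀ hc, one_mul]

/-- the transvection `1 + v φᵀ` -/
def h48tv (p : h48Pairs F ι) : SpecialLinearGroup ι F :=
  ⟨1 + vecMulVec p.1.1 p.1.2, by
    rw [vecMulVec_eq Unit, det_one_add_replicateCol_mul_replicateRow, p.2.2.2, add_zero]⟩

theorem h48tv_val (p : h48Pairs F ι) :
    (h48tv p : Matrix ι ι F) = 1 + vecMulVec p.1.1 p.1.2 := rfl

/-- conjugating `1 + a bᵀ` -/
theorem h48_conj (x : SpecialLinearGroup ι F) (a b : ι → F) :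
    x.1 * (1 + vecMulVec a b) * (x⁻¹ : SpecialLinearGroup ι F).1 =
      1 + vecMulVec (x.1 *ᵥ a) (b ᵥ* (x⁻¹ : SpecialLinearGroup ι F).1) := by
  have h1 : x.1 * (x⁻¹ : SpecialLinearGroup ι F).1 = 1 :=
    congrArg Subtype.val (mul_inv_cancel x)
  rw [mul_add, mul_one, add_mul, h1, mul_vecMulVec, vecMulVec_mul]

theorem h48_inv_mul (x : SpecialLinearGroup ι F) :
    (x⁻¹ : SpecialLinearGroup ι F).1 * x.1 = 1 :=
  congrArg Subtype.val (inv_mul_cancel x)

theorem h48_mul_inv (x : SpecialLinearGroup ι F) :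
    x.1 * (x⁻¹ : SpecialLinearGroup ι F).1 = 1 :=
  congrArg Subtype.val (mul_inv_cancel x)

/-- rescaling a pair -/
def h48scale (c : Fˣ) (p : h48Pairs F ι) : h48Pairs F ι :=
  ⟨((c : F) • p.1.1, ((c⁻¹ : Fˣ) : F) • p.1.2), by
    refine ⟨?_, ?_, ?_⟩
    · intro h
      rcases smul_eq_zero.1 h with h1 | h1
      · exact c.ne_zero h1
      · exact p.2.1 h1
    · intro h
      rcases smul_eq_zero.1 h with h1 | h1
      · exact (c⁻¹).ne_zero h1
      · exact p.2.2.1 h1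
    · show (((c⁻¹ : Fˣ) : F) • p.1.2) ⬝ᵥ ((c : F) • p.1.1) = 0
      rw [smul_dotProduct, dotProduct_smul, p.2.2.2, smul_zero, smul_zero]⟩

theorem h48tv_scale (c : Fˣ) (p : h48Pairs F ι) : h48tv (h48scale c p) = h48tv p := by
  apply Subtype.ext
  show (1 + vecMulVec ((c : F) • p.1.1) (((c⁻¹ : Fˣ) : F) • p.1.2) : Matrix ι ι F) =
    1 + vecMulVec p.1.1 p.1.2
  rw [smul_vecMulVec, vecMulVec_smul, smul_smul, ← Units.val_mul, mul_inv_cancel, Units.val_one,
    one_smul]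

/-- each transvection comes from exactly `q - 1` pairs -/
theorem h48_card_fiber [Fintype F] (p0 : h48Pairs F ι) :
    Nat.card {p : h48Pairs F ι // h48tv p = h48tv p0} = Fintype.card F - 1 := by
  classical
  rw [← Fintype.card_units (α := F), ← Nat.card_eq_fintype_card]
  symm
  apply Nat.card_congr
  refine Equiv.ofBijective
    (fun c : Fˣ => (⟨h48scale c p0, h48tv_scale c p0⟩ : {p : h48Pairs F ι // h48tv p = h48tv p0}))
    ⟨?_, ?_⟩
  · intro c c' h
    have h1 : (h48scale c p0).1.1 = (h48scale c' p0).1.1 := by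
      have := congrArg (fun q : {p : h48Pairs F ι // h48tv p = h48tv p0} => q.1.1.1) h
      exact this
    have h2 : (c : F) • p0.1.1 = (c' : F) • p0.1.1 := h1
    obtain ⟨i, hi⟩ : ∃ i, p0.1.1 i ≠ 0 := by
      by_contra hcon
      push Not at hcon
      exact p0.2.1 (funext hcon)
    have h3 := congrFun h2 i
    simp only [Pi.smul_apply, smul_eq_mul] at h3
    exact Units.ext (mul_right_cancel₀ hi h3)
  · rintro ⟨p, hp⟩
    have hmat : vecMulVec p0.1.1 p0.1.2 = vecMulVec p.1.1 p.1.2 := by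
      have h0 : (h48tv p0 : Matrix ι ι F) = (h48tv p : Matrix ι ι F) := by rw [hp]
      rw [h48tv_val, h48tv_val] at h0
      exact add_left_cancel h0
    obtain ⟨c, hc1, hc2⟩ := h48_rank_one p0.1.1 p.1.1 p0.1.2 p.1.2 p0.2.1 p.2.1 p.2.2.1 hmat
    refine ⟨c, ?_⟩
    apply Subtype.ext
    apply Subtype.ext
    show ((c : F) • p0.1.1, ((c⁻¹ : Fˣ) : F) • p0.1.2) = p.1
    rw [← hc1, ← hc2]

end Gen

section Main

variable {F : Type*} [Field F] {κ : Type} [Fintype κ] [DecidableEq κ]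

/-- `uEl u = 1 + e₁ (0, u)ᵀ` -/
theorem h48_uEl_eq (u : κ → F) :
    (uEl u : Matrix (Unit ⊕ κ) (Unit ⊕ κ) F) =
      1 + vecMulVec (Pi.single (Sum.inl ()) 1) (Sum.elim (fun _ => 0) u) := by
  rw [uEl_val]
  ext i j
  rcases i with ⟨⟩ | i <;> rcases j with ⟨⟩ | j <;>
    simp [fromBlocks, vecMulVec_apply, Matrix.one_apply, Pi.single_apply]

/-- the set of transvections -/
abbrev h48T (F : Type*) [Field F] (κ : Type) [Fintype κ] [DecidableEq κ] :
    Set (SpecialLinearGroup (Unit ⊕ κ) F) :=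
  {g | ∃ x, ∃ u : κ → F, u ≠ 0 ∧ g = x * uEl u * x⁻¹}

theorem h48_mem_T (hκ : 1 ≤ Fintype.card κ) (p : h48Pairs F (Unit ⊕ κ)) :
    h48tv p ∈ h48T F κ := by
  obtain ⟨⟨v, φ⟩, hv, hφ, hφv⟩ := p
  obtain ⟨k⟩ : Nonempty κ := Fintype.card_pos_iff.1 (by omega)
  obtain ⟨x, hx⟩ := Cfsg.Agent.Helper81.exists_sl_smul_single (F := F)
    (Sum.inl () : Unit ⊕ κ) (Sum.inr k) (by simp) v hv
  have hx' : x.1 *ᵥ (Pi.single (Sum.inl ()) 1) = v := hx
  set b : Unit ⊕ κ → F := φ ᵥ* x.1 with hb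
  have hb0 : b (Sum.inl ()) = 0 := by
    have h0 : b ⬝ᵥ (Pi.single (Sum.inl ()) 1) =
        φ ⬝ᵥ (x.1 *ᵥ Pi.single (Sum.inl ()) 1) := by
      rw [hb, dotProduct_mulVec]
    rw [dotProduct_single, mul_one, hx'] at h0
    rw [h0]
    exact hφv
  have hbelim : Sum.elim (fun _ => 0) (fun k => b (Sum.inr k)) = b := by
    funext i
    rcases i with ⟨⟩ | i
    · simp [hb0]
    · rfl
  have hφb : b ᵥ* (x⁻¹ : SpecialLinearGroup (Unit ⊕ κ) F).1 = φ := by
    rw [hb, vecMul_vecMul, h48_mul_inv, vecMul_one]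
  refine ⟨x, fun k => b (Sum.inr k), ?_, ?_⟩
  · intro h0
    apply hφ
    rw [← hφb, ← hbelim, h0]
    have h1 : Sum.elim (fun _ : Unit => (0 : F)) (0 : κ → F) = 0 := by
      funext i; rcases i with ⟨⟩ | i <;> rfl
    rw [h1, zero_vecMul]
  · apply Subtype.ext
    show (1 + vecMulVec v φ : Matrix (Unit ⊕ κ) (Unit ⊕ κ) F) =
      x.1 * (uEl (fun k => b (Sum.inr k))).1 * (x⁻¹ : SpecialLinearGroup (Unit ⊕ κ) F).1
    have h2 := h48_uEl_eq (fun k => b (Sum.inr k))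
    rw [hbelim] at h2
    rw [show (uEl (fun k => b (Sum.inr k))).1 = _ from h2, h48_conj, hx', hφb]

theorem h48_exists_pair (g : SpecialLinearGroup (Unit ⊕ κ) F) (hg : g ∈ h48T F κ) :
    ∃ p : h48Pairs F (Unit ⊕ κ), h48tv p = g := by
  obtain ⟨x, u, hu, rfl⟩ := hg
  set b : Unit ⊕ κ → F := Sum.elim (fun _ => 0) u with hb
  set e1 : Unit ⊕ κ → F := Pi.single (Sum.inl ()) 1 with he1
  have hb0 : b ⬝ᵥ e1 = 0 := by
    rw [he1, dotProduct_single, mul_one]; rfl
  have hbne : b ≠ 0 := by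
    intro h0
    apply hu
    funext k
    exact congrFun h0 (Sum.inr k)
  have he1ne : e1 ≠ 0 := by
    intro h0
    have h1 := congrFun h0 (Sum.inl ())
    simp [he1] at h1
  have hv : x.1 *ᵥ e1 ≠ 0 := by
    intro h0
    apply he1ne
    have h1 : (x⁻¹ : SpecialLinearGroup (Unit ⊕ κ) F).1 *ᵥ (x.1 *ᵥ e1) = e1 := by
      rw [mulVec_mulVec, h48_inv_mul, one_mulVec]
    rw [← h1, h0, mulVec_zero]
  have hφ : b ᵥ* (x⁻¹ : SpecialLinearGroup (Unit ⊕ κ) F).1 ≠ 0 := by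
    intro h0
    apply hbne
    have h1 : (b ᵥ* (x⁻¹ : SpecialLinearGroup (Unit ⊕ κ) F).1) ᵥ* x.1 = b := by
      rw [vecMul_vecMul, h48_inv_mul, vecMul_one]
    rw [← h1, h0, zero_vecMul]
  have hφv : (b ᵥ* (x⁻¹ : SpecialLinearGroup (Unit ⊕ κ) F).1) ⬝ᵥ (x.1 *ᵥ e1) = 0 := by
    rw [dotProduct_mulVec, vecMul_vecMul, h48_inv_mul, vecMul_one, hb0]
  refine ⟨⟨(x.1 *ᵥ e1, b ᵥ* (x⁻¹ : SpecialLinearGroup (Unit ⊕ κ) F).1), hv, hφ, hφv⟩, ?_⟩
  apply Subtype.ext
  show (1 + vecMulVec (x.1 *ᵥ e1) (b ᵥ* (x⁻¹ : SpecialLinearGroup (Unit ⊕ κ) F).1) :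
      Matrix (Unit ⊕ κ) (Unit ⊕ κ) F) =
    x.1 * (uEl u).1 * (x⁻¹ : SpecialLinearGroup (Unit ⊕ κ) F).1
  rw [show (uEl u).1 = _ from h48_uEl_eq u, h48_conj]

theorem h48_gs (q n : ℕ) (hq : 1 ≤ q) : gs q n * (q - 1) = q ^ n - 1 := by
  have h1 : 1 ≤ q ^ n := Nat.one_le_pow n q hq
  unfold gs
  zify [hq, h1]
  exact geom_sum_mul (q : ℤ) n

/-- piece G9 : the number of transvections -/
theorem card_transvections [Fintype F] (hκ : 1 ≤ Fintype.card κ) :
    Nat.card {g : SpecialLinearGroup (Unit ⊕ κ) F | ∃ x, ∃ u : κ → F, u ≠ 0 ∧ g = x * uEl u * x⁻¹} =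
      gs (Fintype.card F) (Fintype.card κ + 1) * (Fintype.card F ^ Fintype.card κ - 1) := by
  classical
  have hfin : Fintype ↥(h48T F κ) := Fintype.ofFinite _
  let Φ : h48Pairs F (Unit ⊕ κ) → ↥(h48T F κ) := fun p => ⟨h48tv p, h48_mem_T hκ p⟩
  have e : h48Pairs F (Unit ⊕ κ) ≃ Σ t : ↥(h48T F κ), {p : h48Pairs F (Unit ⊕ κ) // Φ p = t} :=
    (Equiv.sigmaFiberEquiv Φ).symm
  have hP := h48_card_pairs (F := F) (ι := Unit ⊕ κ)
  rw [Nat.card_congr e, Nat.card_sigma] at hP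
  have hfib : ∀ t : ↥(h48T F κ),
      Nat.card {p : h48Pairs F (Unit ⊕ κ) // Φ p = t} = Fintype.card F - 1 := by
    intro t
    obtain ⟨p0, hp0⟩ := h48_exists_pair t.1 t.2
    rw [← h48_card_fiber p0]
    apply Nat.card_congr
    apply Equiv.subtypeEquivRight
    intro p
    rw [hp0]
    exact Subtype.ext_iff
  rw [Finset.sum_congr rfl (fun t _ => hfib t), Finset.sum_const, Finset.card_univ, smul_eq_mul,
    Fintype.card_sum, Fintype.card_unit, ← Nat.card_eq_fintype_card] at hP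
  have hq : 2 ≤ Fintype.card F := Fintype.one_lt_card
  have hgs := h48_gs (Fintype.card F) (Fintype.card κ + 1) (by omega)
  rw [show 1 + Fintype.card κ - 1 = Fintype.card κ by omega, add_comm 1 (Fintype.card κ),
    ← hgs] at hP
  have hpos : 0 < Fintype.card F - 1 := by omega
  have h3 : Nat.card ↥(h48T F κ) * (Fintype.card F - 1) =
      gs (Fintype.card F) (Fintype.card κ + 1) * (Fintype.card F ^ Fintype.card κ - 1) *
        (Fintype.card F - 1) := by
    rw [hP]; ring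
  exact Nat.eq_of_mul_eq_mul_right hpos h3

end Main

end Cfsg.Agent.Helper48.SLN
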