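import Mathlib
import Cfsg.Prelude.Def_LocalStructure
import Cfsg.Agent.Lib.Helper46.PCore

set_option autoImplicit false

namespace Cfsg.Agent.Helper48

open Cfsg

section closureElem

variable {G : Type*} [Group G]

/-- The subgroup generated by pairwise commuting elements of exponent `p` is elementary abelian. -/
theorem isElementaryAbelian_closure_of_comm {p : ℕ} (T : Set G)
    (hcomm : ∀ a ∈ T, ∀ b ∈ T, a * b = b * a) (hp : ∀ a ∈ T, a ^ p = 1) :
    IsElementaryAbelian p (Subgroup.closure T) := by
  -- the subgroup `E` of central elements of `closure T` of exponent `p`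
  let E : Subgroup G :=
    { carrier := {x | x ∈ Subgroup.closure T ∧ x ∈ Subgroup.centralizer (Subgroup.closure T : Set G)
        ∧ x ^ p = 1}
      one_mem' := ⟨one_mem _, one_mem _, one_pow _⟩
      mul_mem' := by
        rintro a b ⟨ha1, ha2, ha3⟩ ⟨hb1, hb2, hb3⟩
        refine ⟨mul_mem ha1 hb1, mul_mem ha2 hb2, ?_⟩
        have hc : Commute a b := (Subgroup.mem_centralizer_iff.mp hb2 a ha1)
        rw [hc.mul_pow, ha3, hb3, one_mul]
      inv_mem' := by
        rintro a ⟨ha1, ha2, ha3⟩
        exact ⟨inv_mem ha1, inv_mem ha2, by rw [inv_pow, ha3, inv_one]⟩ }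
  have hTE : Subgroup.closure T ≤ E := by
    rw [Subgroup.closure_le]
    intro t ht
    refine ⟨Subgroup.subset_closure ht, ?_, hp t ht⟩
    rw [Subgroup.mem_centralizer_iff]
    intro x hx
    have : Subgroup.closure T ≤ Subgroup.centralizer ({t} : Set G) := by
      rw [Subgroup.closure_le]
      intro s hs
      rw [SetLike.mem_coe, Subgroup.mem_centralizer_iff]
      intro y hy
      rw [Set.mem_singleton_iff] at hy
      subst hy
      exact hcomm y ht s hs
    exact (Subgroup.mem_centralizer_iff.mp (this hx) t rfl).symm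
  refine ⟨?_, fun a ha => (hTE ha).2.2⟩
  rw [← Subgroup.le_centralizer_iff_isMulCommutative]
  intro a ha
  exact (hTE ha).2.1

end closureElem

section preduced

variable {L : Type*} [Group L] {p : ℕ}

/-- A `p`-reduced normal subgroup lies in `Ω₁ Z(O_p(L))` (no characteristic-`p` hypothesis
needed). -/
theorem le_omegaZCore_of_reduced' [Fact p.Prime] {V : Subgroup L} (hV : IsPReducedNormal p V) :
    V ≤ Helper46.omegaZCore p L := by
  have h1 : V ≤ Subgroup.centralizer (pCore p L : Set L) :=
    Subgroup.le_centralizer_iff.mp (Helper46.pCore_le_centralizer_of_reduced hV)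
  have h2 : V ≤ pCore p L := by
    apply Helper46.le_pCore hV.1
    rw [Helper46.isPGroup_subgroup_iff]
    intro x hx
    exact ⟨1, by rw [pow_one]; exact hV.2.1.2 x hx⟩
  intro x hx
  exact ⟨h2 hx, h1 hx, hV.2.1.2 x hx⟩

theorem largestPReduced_le_omegaZCore [Fact p.Prime] :
    largestPReduced p L ≤ Helper46.omegaZCore p L :=
  sSup_le fun _ hV => le_omegaZCore_of_reduced' hV

theorem isElementaryAbelian_largestPReduced [Fact p.Prime] :
    IsElementaryAbelian p (largestPReduced p L) :=
  Helper46.isElementaryAbelian_of_le_omegaZCore largestPReduced_le_omegaZCore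

instance largestPReduced_normal : (largestPReduced p L).Normal :=
  Subgroup.sSup_normal _ (fun _ h => h.1)

theorem pCore_le_centralizer_largestPReduced [Fact p.Prime] :
    pCore p L ≤ Subgroup.centralizer (largestPReduced p L : Set L) := by
  rw [Subgroup.le_centralizer_iff]
  exact largestPReduced_le_omegaZCore.trans (fun x hx => hx.2.1)

end preduced

section inG

variable {G : Type*} [Group G] {p : ℕ}

theorem largestPReducedOf_le (M : Subgroup G) : largestPReducedOf p M ≤ M := by
  rintro _ ⟨x, -, rfl⟩
  exact x.2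

theorem pCoreOf_le (M : Subgroup G) : pCoreOf p M ≤ M := by
  rintro _ ⟨x, -, rfl⟩
  exact x.2

theorem le_normalizer_map_subtype_of_normal (M : Subgroup G) (K : Subgroup M) [K.Normal] :
    M ≤ Subgroup.normalizer ((K.map M.subtype : Subgroup G) : Set G) := by
  intro m hm
  rw [Subgroup.mem_normalizer_iff]
  intro x
  constructor
  · rintro ⟨y, hy, rfl⟩
    exact ⟨⟨m, hm⟩ * y * ⟨m, hm⟩⁻¹, Subgroup.Normal.conj_mem inferInstance y hy _, rfl⟩
  · rintro ⟨y, hy, hyx⟩
    refine ⟨⟨m, hm⟩⁻¹ * y * ⟨m, hm⟩, ?_, ?_⟩
    · have := Subgroup.Normal.conj_mem (inferInstance : K.Normal) y hy (⟨m, hm⟩⁻¹)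
      simpa using this
    · simp only [Subgroup.subtype_apply, Subgroup.coe_mul, Subgroup.coe_inv] at hyx ⊢
      rw [hyx]; group

theorem le_normalizer_largestPReducedOf (M : Subgroup G) :
    M ≤ Subgroup.normalizer (largestPReducedOf p M : Set G) :=
  le_normalizer_map_subtype_of_normal M _

theorem le_normalizer_pCoreOf (M : Subgroup G) :
    M ≤ Subgroup.normalizer (pCoreOf p M : Set G) :=
  le_normalizer_map_subtype_of_normal M _

theorem isElementaryAbelian_largestPReducedOf [Fact p.Prime] (M : Subgroup G) :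
    IsElementaryAbelian p (largestPReducedOf p M) := by
  have h := isElementaryAbelian_largestPReduced (L := M) (p := p)
  refine ⟨?_, ?_⟩
  · haveI := h.1
    exact Subgroup.map_isMulCommutative _ _
  · rintro _ ⟨x, hx, rfl⟩
    have := h.2 x hx
    simpa using congrArg Subtype.val this

theorem pCoreOf_le_centralizer_largestPReducedOf [Fact p.Prime] (M : Subgroup G) :
    pCoreOf p M ≤ Subgroup.centralizer (largestPReducedOf p M : Set G) := by
  rintro _ ⟨x, hx, rfl⟩
  rw [Subgroup.mem_centralizer_iff]
  rintro _ ⟨y, hy, rfl⟩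
  have := Subgroup.mem_centralizer_iff.mp (pCore_le_centralizer_largestPReduced hx) y hy
  exact congrArg Subtype.val this

theorem isPGroup_pCoreOf [Fact p.Prime] (M : Subgroup G) : IsPGroup p (pCoreOf p M) :=
  (Helper46.isPGroup_pCore (G := M) (p := p)).map M.subtype

/-- `M·C_G(Y_M)` normalizes `Y_M`. -/
theorem sup_centralizer_le_normalizer_largestPReducedOf (M : Subgroup G) :
    M ⊔ Subgroup.centralizer (largestPReducedOf p M : Set G) ≤
      Subgroup.normalizer (largestPReducedOf p M : Set G) :=
  sup_le (le_normalizer_largestPReducedOf M) (Subgroup.centralizer_le_normalizer _)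

end inG

end Cfsg.Agent.Helper48
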