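import Mathlib
import Cfsg.Agent.Lib.Helper21.CharPLocal

set_option autoImplicit false

namespace Cfsg.Agent.Helper48

open Subgroup Cfsg

/-- If a normal subgroup `K` of `Y` has characteristic `p` and contains `C_Y(O_p(Y))`, then `Y` has
characteristic `p`. -/
theorem isCharP_of_normal_of_centralizer_le {Y : Type*} [Group Y] [Finite Y] {p : ℕ} [Fact p.Prime]
    (K : Subgroup Y) [hKn : K.Normal] (hK : Helper30.IsCharP p ↥K)
    (hle : centralizer (pCore p Y : Set Y) ≤ K) : Helper30.IsCharP p Y := by
  rw [Helper21.isCharP_iff_centralizer_le]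
  set D := centralizer (pCore p Y : Set Y) with hD
  have hQn : (pCore p Y).Normal := Helper70.pCore_normal p Y
  have hDn : D.Normal := inferInstance
  have hD'n : (D.subgroupOf K).Normal := hDn.subgroupOf K
  have h1 : Helper30.IsCharP p ↥(D.subgroupOf K) := Helper30.IsCharP.of_normal hK (D.subgroupOf K)
  have h2 : Helper30.IsCharP p ↥D := Helper30.IsCharP.of_mulEquiv (Subgroup.subgroupOfEquivOfLe hle) h1
  exact Helper30.centralizer_pCore_le_of_isCharP h2

/-- The centralizer of a subgroup is normal in its normalizer. -/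
theorem centralizer_subgroupOf_normalizer_normal {G : Type*} [Group G] (V : Subgroup G) :
    ((centralizer (V : Set G)).subgroupOf (normalizer (V : Set G))).Normal :=
  (Subgroup.normal_subgroupOf_iff_le_normalizer (centralizer_le_normalizer _)).2
    (Helper21.normalizer_le_normalizer_centralizer' V)

/-- If `C_G(V)` has characteristic `p` (for a `p`-subgroup `V`), so does `N_G(V)`. -/
theorem isCharP_normalizer_of_centralizer {G : Type*} [Group G] [Finite G] {p : ℕ} [Fact p.Prime]
    (V : Subgroup G) (hV : IsPGroup p V)
    (hC : Helper30.IsCharP p ↥(centralizer (V : Set G))) :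
    Helper30.IsCharP p ↥(normalizer (V : Set G)) := by
  set N := normalizer (V : Set G) with hN
  set K : Subgroup N := (centralizer (V : Set G)).subgroupOf N with hK
  haveI hKn : K.Normal := centralizer_subgroupOf_normalizer_normal V
  have hKc : Helper30.IsCharP p ↥K :=
    Helper30.IsCharP.of_mulEquiv (Subgroup.subgroupOfEquivOfLe (centralizer_le_normalizer _)).symm hC
  apply isCharP_of_normal_of_centralizer_le K hKc
  intro y hy
  rw [hK, mem_subgroupOf, mem_centralizer_iff]
  intro v hv
  have hVN : V.subgroupOf N ≤ pCore p ↥N := by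
    apply Helper70.le_pCore
    · exact hV.comap_subtype
  have hv' : (⟨v, le_normalizer hv⟩ : N) ∈ pCore p ↥N := hVN (mem_subgroupOf.mpr hv)
  have := (mem_centralizer_iff.mp hy) _ hv'
  exact congrArg Subtype.val this

/-- If `N_G(V)` has characteristic `p`, so does `C_G(V)`. -/
theorem isCharP_centralizer_of_normalizer {G : Type*} [Group G] [Finite G] {p : ℕ} [Fact p.Prime]
    (V : Subgroup G) (hN : Helper30.IsCharP p ↥(normalizer (V : Set G))) :
    Helper30.IsCharP p ↥(centralizer (V : Set G)) := by
  haveI := centralizer_subgroupOf_normalizer_normal V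
  have h1 := Helper30.IsCharP.of_normal hN ((centralizer (V : Set G)).subgroupOf (normalizer (V : Set G)))
  exact Helper30.IsCharP.of_mulEquiv (Subgroup.subgroupOfEquivOfLe (centralizer_le_normalizer _)) h1

/-- `V ≤ U` `p`-subgroups, `C_G(V)` of characteristic `p` (in the `F*` form): then `C_G(U)` and
`N_G(U)` have characteristic `p`. -/
theorem isCharP_centralizer_of_le' {G : Type*} [Group G] [Finite G] {p : ℕ} [Fact p.Prime]
    (U V : Subgroup G) (hU : IsPGroup p U) (hVU : V ≤ U)
    (hC : Helper30.IsCharP p ↥(centralizer (V : Set G))) :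
    Helper30.IsCharP p ↥(centralizer (U : Set G)) := by
  rw [Helper21.isCharP_iff_centralizer_le] at hC ⊢
  exact Helper21.isCharP_centralizer_of_le U hU V hVU hC

theorem isCharP_normalizer_of_le' {G : Type*} [Group G] [Finite G] {p : ℕ} [Fact p.Prime]
    (U V : Subgroup G) (hU : IsPGroup p U) (hVU : V ≤ U)
    (hC : Helper30.IsCharP p ↥(centralizer (V : Set G))) :
    Helper30.IsCharP p ↥(normalizer (U : Set G)) :=
  isCharP_normalizer_of_centralizer U hU (isCharP_centralizer_of_le' U V hU hVU hC)

end Cfsg.Agent.Helper48
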