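import Mathlib
import Cfsg.Agent.Lib.Helper73.BG161Ctx
import Cfsg.Agent.Lib.Helper95.BG15.FitSigma
import Cfsg.Agent.Lib.Helper54.BenderLocalB
import Cfsg.Agent.Lib.Helper50.Hyperplane
import Cfsg.Agent.Lib.Helper55.BGBasic
import Cfsg.Agent.Lib.Helper78.BG121
import Cfsg.Agent.Lib.Helper1.ZCoprime
import Cfsg.Agent.Lib.Helper55.BGFit
import Cfsg.Agent.Lib.Helper34.BG10a
import Cfsg.Agent.Lib.Helper16.BG161G1

/-!
# B–G Lemma 16.1, piece (C3) of helper73's plan (`tools/bg161_plan_helper73.md`)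

If a complement `E ≥ K` of `H_σ` in `H` acts fixed-point-freely on `H_σ`, then `E ≤ M*`.
`le_Mstar_of_fpf_of` takes the generic Frobenius lemma (G1) `frob_fix` as the hypothesis `FrobFix G`;
`le_Mstar_of_fpf` (the exact signature of `tools/bg161_sigs_helper73.lean.txt`) plugs in helper16's proof.
-/

set_option autoImplicit false

namespace Cfsg.Agent.Helper48.BG161

open Subgroup Cfsg.Agent.Helper73.BG161

variable {G : Type*} [Group G] [Finite G]

/-- the statement of piece (G1) `frob_fix` of helper73's plan, as a `Prop` -/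
def FrobFix (G : Type*) [Group G] [Finite G] : Prop :=
  ∀ (F Y W : Subgroup G), Y ≠ ⊥ →
    Y ≤ normalizer (F : Set G) → F ≤ normalizer (W : Set G) →
    Y ≤ normalizer (W : Set G) → (∀ a ∈ W, ∀ b ∈ W, a * b = b * a) →
    (Nat.card F).Coprime (Nat.card W) →
    (∀ y ∈ Y, y ≠ 1 → F ⊓ centralizer ({y} : Set G) = ⊥) →
    (∀ y ∈ Y, y ≠ 1 → W ⊓ centralizer ({y} : Set G) = ⊥) →
    F ≤ centralizer (W : Set G)

omit [Finite G] in
theorem exists_prime_card_le [Finite G] {K : Subgroup G} (hK : K ≠ ⊥) :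
    ∃ Y : Subgroup G, Y ≤ K ∧ (Nat.card Y).Prime := by
  have hcard : Nat.card K ≠ 1 := fun h => hK (Subgroup.card_eq_one.mp h)
  obtain ⟨q, hq, hqd⟩ := Nat.exists_prime_and_dvd hcard
  have := Fact.mk hq
  obtain ⟨x, hx⟩ := exists_prime_orderOf_dvd_card' q hqd
  refine ⟨Subgroup.zpowers (x : G), ?_, ?_⟩
  · rw [Subgroup.zpowers_le]; exact x.2
  · rw [Nat.card_zpowers, Subgroup.orderOf_coe, hx]; exact hq

omit [Finite G] in
theorem zpowers_eq_of_prime_card [Finite G] {Y : Subgroup G} (hY : (Nat.card Y).Prime) {y : G}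
    (hy : y ∈ Y) (hy1 : y ≠ 1) : Subgroup.zpowers y = Y := by
  have hle : Subgroup.zpowers y ≤ Y := by rw [Subgroup.zpowers_le]; exact hy
  apply Subgroup.eq_of_le_of_card_ge hle
  have h1 : Nat.card (Subgroup.zpowers y) ∣ Nat.card Y := Subgroup.card_dvd_of_le hle
  rcases (Nat.dvd_prime hY).mp h1 with h | h
  · exfalso
    rw [Subgroup.card_eq_one, Subgroup.zpowers_eq_bot] at h
    exact hy1 h
  · exact h.ge

omit [Finite G] in
theorem centralizer_singleton_eq_of_prime_card [Finite G] {Y : Subgroup G} (hY : (Nat.card Y).Prime)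
    {y : G} (hy : y ∈ Y) (hy1 : y ≠ 1) :
    centralizer ({y} : Set G) = centralizer (Y : Set G) := by
  apply le_antisymm
  · intro g hg
    rw [mem_centralizer_iff] at hg ⊢
    intro z hz
    rw [← zpowers_eq_of_prime_card hY hy hy1] at hz
    obtain ⟨k, rfl⟩ := Subgroup.mem_zpowers_iff.mp hz
    have hc : Commute y g := hg y rfl
    exact (hc.zpow_left k)
  · exact centralizer_le (by simpa using hy)

omit [Finite G] in
theorem conj_mem_inf_centralizer {Hs : Subgroup G} {g : G} (hg : g ∈ normalizer (Hs : Set G))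
    {n : G} (hn : n ∈ Hs ⊓ centralizer (Hs : Set G)) :
    g * n * g⁻¹ ∈ Hs ⊓ centralizer (Hs : Set G) := by
  rw [Subgroup.mem_inf] at hn ⊢
  refine ⟨(mem_normalizer_iff.mp hg n).mp hn.1, ?_⟩
  rw [mem_centralizer_iff]
  intro x hx
  have hx' : g⁻¹ * x * g ∈ Hs := by
    have := (mem_normalizer_iff.mp ((normalizer (Hs : Set G)).inv_mem hg) x).mp hx
    simpa using this
  have hc := (mem_centralizer_iff.mp hn.2) (g⁻¹ * x * g) hx'
  calc x * (g * n * g⁻¹) = g * ((g⁻¹ * x * g) * n) * g⁻¹ := by group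
    _ = g * (n * (g⁻¹ * x * g)) * g⁻¹ := by rw [hc]
    _ = g * n * g⁻¹ * x := by group

omit [Finite G] in
theorem le_normalizer_inf_centralizer {H Hs : Subgroup G} (h : H ≤ normalizer (Hs : Set G)) :
    H ≤ normalizer ((Hs ⊓ centralizer (Hs : Set G) : Subgroup G) : Set G) := by
  intro g hg
  have hn := h hg
  rw [mem_normalizer_iff]
  intro n
  constructor
  · exact fun hn' => conj_mem_inf_centralizer hn hn'
  · intro hn'
    have := conj_mem_inf_centralizer ((normalizer (Hs : Set G)).inv_mem hn) hn'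
    simpa [mul_assoc] using this

/-- (C3) with the generic Frobenius lemma (G1) as a hypothesis. -/
theorem le_Mstar_of_fpf_of (hFF : FrobFix G) (f : Facts G) {M K U Mstar H : Subgroup G}
    (b : Base M K U Mstar H)
    (E : Subgroup G) (hE : Cfsg.IsComplIn E (Cfsg.sigmaCore H) H) (hKE : K ≤ E)
    (hfpf : ∀ e ∈ E, e ≠ 1 → Cfsg.sigmaCore H ⊓ centralizer ({e} : Set G) = ⊥) :
    E ≤ Mstar := by
  classical
  have hG := b.hG
  haveI : IsSimpleGroup G := Cfsg.Agent.Helper34.BG.isSimple hG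
  obtain ⟨hEH, hHsH, hEHs, hprod⟩ := id hE
  obtain ⟨-, hHsσ, hHsidx⟩ := (f.t1350 H b.hH).1
  -- the primes of `E` are outside `σ(H)`
  have hEσ : ∀ p : ℕ, p.Prime → p ∣ Nat.card E → p ∉ Cfsg.sigma H := by
    intro p hp hpd hps
    apply hHsidx p hp hps
    rw [Cfsg.Agent.Helper78.BG121.relIndex_eq_of_isComplIn hE]
    exact hpd
  have hEHscop : (Nat.card E).Coprime (Nat.card (Cfsg.sigmaCore H)) :=
    Nat.coprime_of_dvd (fun k hk hkE hkH => hEσ k hk hkE (hHsσ k hk hkH))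
  have hHnHs : H ≤ normalizer (Cfsg.sigmaCore H : Set G) :=
    Cfsg.Agent.Helper55.BGB.le_normalizer_sigmaCore H
  have hHtop : H ≠ ⊤ := b.hH.1
  have hEtop : E ≠ ⊤ := fun h => hHtop (top_le_iff.mp (h ▸ hEH))
  -- `W = Z(H_σ)`
  obtain ⟨W, hWdef⟩ : ∃ W : Subgroup G,
      W = Cfsg.sigmaCore H ⊓ centralizer (Cfsg.sigmaCore H : Set G) := ⟨_, rfl⟩
  have hWHs : W ≤ Cfsg.sigmaCore H := hWdef ▸ inf_le_left
  have hWab : ∀ a ∈ W, ∀ c ∈ W, a * c = c * a := by
    intro a ha c hc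
    rw [hWdef] at ha hc
    obtain ⟨ha1, -⟩ := Subgroup.mem_inf.mp ha
    obtain ⟨-, hc2⟩ := Subgroup.mem_inf.mp hc
    exact ((mem_centralizer_iff.mp hc2) a ha1)
  have hW1 : W ≠ ⊥ := by
    haveI : Group.IsNilpotent ↥(Cfsg.sigmaCore H) := b.hHnil
    haveI : Nontrivial ↥(Cfsg.sigmaCore H) := (Subgroup.nontrivial_iff_ne_bot _).mpr b.hHσ1
    have hc : Subgroup.center ↥(Cfsg.sigmaCore H) ≠ ⊥ := Group.IsNilpotent.center_ne_bot _
    obtain ⟨⟨z, hz⟩, hz1⟩ := (Subgroup.ne_bot_iff_exists_ne_one).mp hc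
    intro hbot
    have hzW : (z : G) ∈ W := by
      rw [hWdef]
      refine Subgroup.mem_inf.mpr ⟨z.2, ?_⟩
      rw [mem_centralizer_iff]
      intro h hh
      have := Subgroup.mem_center_iff.mp hz ⟨h, hh⟩
      exact congrArg Subtype.val this
    rw [hbot, Subgroup.mem_bot] at hzW
    apply hz1
    apply Subtype.ext
    apply Subtype.ext
    simpa using hzW
  have hHnW : H ≤ normalizer (W : Set G) := hWdef ▸ le_normalizer_inf_centralizer hHnHs
  -- `Y ≤ K` of prime order `q`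
  obtain ⟨Y, hYK, hYp⟩ := exists_prime_card_le b.hK1
  obtain ⟨q, hq⟩ : ∃ q, q = Nat.card Y := ⟨_, rfl⟩
  have hqp : q.Prime := hq ▸ hYp
  have : Fact q.Prime := ⟨hqp⟩
  have hYE : Y ≤ E := hYK.trans hKE
  have hqσ : q ∉ Cfsg.sigma H := b.hKσH q hqp (hq ▸ Subgroup.card_dvd_of_le hYK)
  have hY1 : Y ≠ ⊥ := by
    intro h
    rw [h, Subgroup.card_bot] at hYp
    exact Nat.not_prime_one hYp
  have hYtop : Y ≠ ⊤ := fun h => hEtop (top_le_iff.mp (h ▸ hYE))
  have hcent : ∀ y ∈ Y, y ≠ 1 → centralizer ({y} : Set G) = centralizer (Y : Set G) :=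
    fun y hy hy1 => centralizer_singleton_eq_of_prime_card hYp hy hy1
  have hYW : ∀ y ∈ Y, y ≠ 1 → W ⊓ centralizer ({y} : Set G) = ⊥ := by
    intro y hy hy1
    rw [eq_bot_iff, ← hfpf y (hYE hy) hy1]
    exact inf_le_inf_right _ hWHs
  have hYq : IsPGroup q Y := IsPGroup.of_card (n := 1) (by rw [pow_one, hq])
  -- the Fitting subgroup of `E`
  obtain ⟨F, hFdef⟩ : ∃ F : Subgroup G, F = Cfsg.fittingOf E := ⟨_, rfl⟩
  have hFE : F ≤ E := hFdef ▸ Cfsg.Agent.Helper54.BenderLocal.fittingOf_le E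
  have hEnF : E ≤ normalizer (F : Set G) :=
    hFdef ▸ Cfsg.Agent.Helper54.BenderLocal.le_normalizer_fittingOf E
  have hFnil : Group.IsNilpotent ↥F := hFdef ▸ Cfsg.Agent.Helper54.BenderLocal.isNilpotent_fittingOf E
  have h1420 := (f.t1420 H b.hH E hE).1
  have hFab : IsMulCommutative ↥F :=
    h1420 F (hFE.trans hEH) hFnil
      (fun p hp hpd => hEσ p hp (hpd.trans (Subgroup.card_dvd_of_le hFE)))
  have hFcomm : ∀ x ∈ F, ∀ y ∈ F, x * y = y * x := by
    intro x hx y hy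
    have := hFab.is_comm.comm (⟨x, hx⟩ : ↥F) ⟨y, hy⟩
    exact congrArg Subtype.val this
  -- `Y` centralizes every `O_s(E)`
  have hOp : ∀ s : ℕ, s.Prime → Cfsg.Agent.Helper95.BG15.FitSigma.Op E s ≤ centralizer (Y : Set G) := by
    intro s hs
    have : Fact s.Prime := ⟨hs⟩
    obtain ⟨A, hAdef⟩ : ∃ A : Subgroup G, A = Cfsg.Agent.Helper95.BG15.FitSigma.Op E s := ⟨_, rfl⟩
    rw [← hAdef]
    have hAE : A ≤ E := hAdef ▸ Cfsg.Agent.Helper95.BG15.FitSigma.Op_le E s
    have hEnA : E ≤ normalizer (A : Set G) := hAdef ▸ Cfsg.Agent.Helper95.BG15.FitSigma.Op_norm E s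
    have hAs : IsPGroup s A := hAdef ▸ Cfsg.Agent.Helper95.BG15.FitSigma.Op_isPGroup E s
    have hAF : A ≤ F := by
      rw [hAdef, hFdef]; exact Cfsg.Agent.Helper95.BG15.FitSigma.Op_le_fittingOf E s
    have hYnA : Y ≤ normalizer (A : Set G) := hYE.trans hEnA
    by_cases hsq : s = q
    · -- the `q`-group `A Y` is abelian
      subst hsq
      have hN : IsPGroup s (Y ⊔ A : Subgroup G) := IsPGroup.to_sup_of_normal_right' hYq hAs hYnA
      have hNH : Y ⊔ A ≤ H := sup_le (hYE.trans hEH) (hAE.trans hEH)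
      have hNnil : Group.IsNilpotent ↥(Y ⊔ A : Subgroup G) := hN.isNilpotent
      have hNab : IsMulCommutative ↥(Y ⊔ A : Subgroup G) := by
        apply h1420 _ hNH hNnil
        intro p hp hpd
        obtain ⟨n, hn⟩ := IsPGroup.iff_card.mp hN
        rw [hn] at hpd
        have : p = s := (Nat.prime_dvd_prime_iff_eq hp hs).mp (hp.dvd_of_dvd_pow hpd)
        rw [this]; exact hqσ
      intro a ha
      rw [mem_centralizer_iff]
      intro y hy
      have := hNab.is_comm.comm (⟨y, (le_sup_left : Y ≤ Y ⊔ A) hy⟩ : ↥(Y ⊔ A : Subgroup G))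
        ⟨a, (le_sup_right : A ≤ Y ⊔ A) ha⟩
      exact congrArg Subtype.val this
    · -- `s ≠ q`: `[A, Y]` centralizes `W` by `frob_fix`, hence is trivial
      haveI hAab : IsMulCommutative ↥A :=
        ⟨⟨fun a c => Subtype.ext (hFcomm a.1 (hAF a.2) c.1 (hAF c.2))⟩⟩
      have hcopYA : (Nat.card Y).Coprime (Nat.card A) := by
        obtain ⟨n, hn⟩ := IsPGroup.iff_card.mp hAs
        rw [hn, ← hq]
        exact Nat.Coprime.pow_right n ((Nat.coprime_primes hqp hs).mpr (Ne.symm hsq))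
      have hG2 : ⁅A, Y⁆ ⊓ centralizer (Y : Set G) = ⊥ :=
        Cfsg.Agent.Helper1.ZCoprime.commutator_inf_centralizer_eq_bot Y A hYnA hcopYA
      have hP0A : ⁅A, Y⁆ ≤ A := Cfsg.Agent.Helper1.commutator_le_of_le_normalizer hYnA
      have hYnP0 : Y ≤ normalizer ((⁅A, Y⁆ : Subgroup G) : Set G) :=
        Cfsg.Agent.Helper1.le_normalizer_commutator_right hYnA
      have hP0E : ⁅A, Y⁆ ≤ E := hP0A.trans hAE
      have hcop' : (Nat.card (⁅A, Y⁆ : Subgroup G)).Coprime (Nat.card W) :=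
        Nat.Coprime.coprime_dvd_left (Subgroup.card_dvd_of_le hP0E)
          (Nat.Coprime.coprime_dvd_right (Subgroup.card_dvd_of_le hWHs) hEHscop)
      have hP0W : ⁅A, Y⁆ ≤ centralizer (W : Set G) := by
        refine hFF ⁅A, Y⁆ Y W hY1 hYnP0 ((hP0E.trans hEH).trans hHnW) ((hYE.trans hEH).trans hHnW)
          hWab hcop' ?_ hYW
        intro y hy hy1
        rw [hcent y hy hy1]
        exact hG2
      have hP0bot : ⁅A, Y⁆ = ⊥ := by
        by_contra hne
        obtain ⟨⟨e, he⟩, he1⟩ := (Subgroup.ne_bot_iff_exists_ne_one).mp hne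
        have he1' : e ≠ 1 := fun h => he1 (Subtype.ext h)
        have hfe := hfpf e (hP0E he) he1'
        apply hW1
        rw [eq_bot_iff, ← hfe]
        intro w hw
        refine Subgroup.mem_inf.mpr ⟨hWHs hw, ?_⟩
        rw [mem_centralizer_iff]
        intro x hx
        rw [Set.mem_singleton_iff] at hx
        subst hx
        exact ((mem_centralizer_iff.mp (hP0W he)) w hw).symm
      exact Subgroup.commutator_eq_bot_iff_le_centralizer.mp hP0bot
  have hFcY : F ≤ centralizer (Y : Set G) := by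
    rw [hFdef, Cfsg.Agent.Helper95.BG15.FitSigma.fittingOf_eq_iSup]
    exact iSup_le (fun p => hOp p.1 p.2)
  have hYcF : Y ≤ centralizer (F : Set G) := Subgroup.le_centralizer_iff.mp hFcY
  have hEsolv : Group.IsSolvable ↥E := Cfsg.Agent.Helper34.BG.solvable_of_ne_top hG hEtop
  have hYF : Y ≤ F := by
    intro y hy
    have hDR : E ⊓ centralizer (Cfsg.fittingOf E : Set G) ≤ normalizer (E : Set G) :=
      inf_le_left.trans Subgroup.le_normalizer
    have := Cfsg.Agent.Helper54.BenderLocal.inf_centralizer_fittingOf_le E E hEsolv hDR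
    rw [hFdef]
    exact this ⟨hYE hy, hYE hy, hFdef ▸ hYcF hy⟩
  -- the elements of order dividing `q` of `F`
  let U2 : Subgroup G :=
    { carrier := {x | x ∈ F ∧ x ^ q = 1}
      one_mem' := ⟨F.one_mem, one_pow q⟩
      mul_mem' := by
        rintro x y ⟨hx, hxq⟩ ⟨hy, hyq⟩
        refine ⟨F.mul_mem hx hy, ?_⟩
        have hc : Commute x y := hFcomm x hx y hy
        rw [hc.mul_pow, hxq, hyq, one_mul]
      inv_mem' := by
        rintro x ⟨hx, hxq⟩
        exact ⟨F.inv_mem hx, by rw [inv_pow, hxq, inv_one]⟩ }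
  have hU2F : U2 ≤ F := fun x hx => hx.1
  have hU2q : ∀ x ∈ U2, x ^ q = 1 := fun x hx => hx.2
  have hle_U2 : ∀ Z : Subgroup G, Z ≤ F → Nat.card Z = q → Z ≤ U2 := by
    intro Z hZF hZ z hz
    refine ⟨hZF hz, ?_⟩
    have h1 : (⟨z, hz⟩ : ↥Z) ^ Nat.card Z = 1 := pow_card_eq_one'
    rw [hZ] at h1
    exact congrArg Subtype.val h1
  -- `Y` is the only subgroup of order `q` of `F`
  have huniq : ∀ Z : Subgroup G, Z ≤ F → Nat.card Z = q → Z = Y := by
    intro Z hZF hZ
    by_contra hne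
    have hYU2 : Y ≤ U2 := hle_U2 Y hYF hq.symm
    have hZU2 : Z ≤ U2 := hle_U2 Z hZF hZ
    have hU2pg : IsPGroup q U2 := by
      intro g
      refine ⟨1, ?_⟩
      apply Subtype.ext
      simpa using hU2q g.1 g.2
    obtain ⟨n, hn⟩ := IsPGroup.iff_card.mp hU2pg
    have hYne : Y ≠ U2 := by
      intro h
      apply hne
      apply Subgroup.eq_of_le_of_card_ge (h ▸ hZU2)
      rw [hZ, hq]
    have hn2 : 2 ≤ n := by
      by_contra hlt
      have hcardlt : Nat.card Y < Nat.card U2 := Cfsg.Agent.Helper48.card_lt_of_le_of_ne hYU2 hYne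
      rw [hn, ← hq] at hcardlt
      have : n ≤ 1 := by omega
      have h2 : q ^ n ≤ q ^ 1 := Nat.pow_le_pow_right hqp.pos this
      rw [pow_one] at h2
      omega
    have hcard : q ^ 2 ≤ Nat.card U2 := by
      rw [hn]; exact Nat.pow_le_pow_right hqp.pos hn2
    have hU2c : ∀ x ∈ U2, ∀ y ∈ U2, x * y = y * x :=
      fun x hx y hy => hFcomm x (hU2F hx) y (hU2F hy)
    have hU2E : U2 ≤ E := hU2F.trans hFE
    have hU2n : U2 ≤ normalizer (Cfsg.sigmaCore H : Set G) := (hU2E.trans hEH).trans hHnHs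
    have hR : (Nat.card (Cfsg.sigmaCore H)).Coprime q := by
      rw [Nat.coprime_comm, Nat.Prime.coprime_iff_not_dvd hqp]
      exact fun hd => hqσ (hHsσ q hqp hd)
    obtain ⟨Y2, hY2U, hY2card, hfix⟩ :=
      Cfsg.Agent.Helper50.exists_hyperplane_fixed U2 (Cfsg.sigmaCore H) hU2c hU2q hcard hU2n hR b.hHσ1
    have hY2ne : Y2 ≠ ⊥ := by
      intro h
      rw [h, Subgroup.card_bot, one_mul] at hY2card
      rw [← hY2card] at hcard
      have : q < q ^ 2 := by
        calc q = q ^ 1 := (pow_one q).symm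
          _ < q ^ 2 := Nat.pow_lt_pow_right hqp.one_lt (by norm_num)
      omega
    obtain ⟨⟨e, he⟩, he1⟩ := (Subgroup.ne_bot_iff_exists_ne_one).mp hY2ne
    have he1' : e ≠ 1 := fun h => he1 (Subtype.ext h)
    apply hfix
    rw [eq_bot_iff, ← hfpf e (hU2E (hY2U he)) he1']
    exact inf_le_inf_left _ (centralizer_le (by simpa using he))
  -- `E` normalizes `Y`
  have hEnY : E ≤ normalizer (Y : Set G) := by
    intro e he
    have hmap : ∀ g ∈ E, Y.map (MulAut.conj g).toMonoidHom = Y := by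
      intro g hg
      apply huniq
      · rintro _ ⟨y, hy, rfl⟩
        have := (mem_normalizer_iff.mp (hEnF hg) y).mp (hYF hy)
        simpa using this
      · rw [Subgroup.card_map_of_injective (MulAut.conj g).injective, hq]
    rw [mem_normalizer_iff]
    intro n
    constructor
    · intro hn
      rw [← hmap e he]
      exact ⟨n, hn, by simp⟩
    · intro hn
      rw [← hmap e⁻¹ (E.inv_mem he)]
      exact ⟨e * n * e⁻¹, hn, by simp [mul_assoc]⟩
  have h1367 := (f.t1367 M b.hM K U b.hKU b.hK1 Mstar b.hMstar b.hKst b.hKstH).2 Y hYK hYp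
  have hN : normalizer (Y : Set G) ≤ Mstar :=
    Cfsg.Agent.Helper55.BGB.normalizer_le_of_unique hY1 hYtop (fun L hL hCL => h1367.2 L hL hCL)
  exact hEnY.trans hN

/-- (C3) if a complement `E ≥ K` of `H_σ` in `H` acts fixed-point-freely on `H_σ`, then `E ≤ M*`
(exact signature of `tools/bg161_sigs_helper73.lean.txt`). -/
theorem le_Mstar_of_fpf (f : Facts G) {M K U Mstar H : Subgroup G} (b : Base M K U Mstar H)
    (E : Subgroup G) (hE : Cfsg.IsComplIn E (Cfsg.sigmaCore H) H) (hKE : K ≤ E)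
    (hfpf : ∀ e ∈ E, e ≠ 1 → Cfsg.sigmaCore H ⊓ centralizer ({e} : Set G) = ⊥) :
    E ≤ Mstar :=
  le_Mstar_of_fpf_of (fun F Y W => Cfsg.Agent.Helper16.BG161.frob_fix F Y W) f b E hE hKE hfpf

end Cfsg.Agent.Helper48.BG161
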