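import Mathlib
import Cfsg.Agent.Lib.Helper48.BG161C3
import Cfsg.Agent.Lib.Helper99.FrobFR
import Cfsg.Agent.Lib.Helper95.BG15.FitSigma
import Cfsg.Agent.Lib.Helper54.BenderLocalB
import Cfsg.Agent.Lib.Helper52.CoprimeSylow
import Cfsg.Agent.Lib.Helper76.EqOrd1
import Cfsg.Agent.Lib.Helper1.ZCoprime

/-!
# B–G Theorem 14.2, lemma (L9) of `Lib/Helper54/BG142_PROOF.md`: Frobenius-normality, pure core

`frob_normal`: a solvable group `E` with cyclic Sylow subgroups acts coprimely on `N`, every `e ≠ 1` of `E`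
has the same fixed points `K0` on `N`, and for some prime `q` no Sylow `q`-subgroup of `N` lies in `K0`.
Then every subgroup of prime order of `E` is normal in `E`.

Proof: if `X` (of prime order `t`) is not normal then `X ⊄ F(E)` (the Sylow subgroups of `F(E)` are
cyclic and normal in `E`), so `X` does not centralize `F(E)`, hence acts nontrivially on some cyclic
`O_s(E)`, `s ≠ t`, hence on its subgroup `Y'` of order `s` (normal in `E`).  `Y'X` is a Frobenius group;
for a `Y'X`-invariant Sylow `q`-subgroup `Q` of `N` we have `C_Q(X) = Q ∩ K0 = C_Q(Y')`, and helper99's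
Lemma FR (`frob_centralizes`) gives `[Q, Y'] = 1`, i.e. `Q ≤ K0`.
-/

set_option autoImplicit false

namespace Cfsg.Agent.Helper48.BG142

open Subgroup

variable {G : Type*} [Group G] [Finite G]

omit [Finite G] in
/-- elements of a cyclic subgroup commute -/
theorem comm_of_isCyclic {T : Subgroup G} (hT : IsCyclic ↥T) {a b : G} (ha : a ∈ T) (hb : b ∈ T) :
    a * b = b * a := by
  obtain ⟨g, hg⟩ := hT.exists_generator
  obtain ⟨m, hm⟩ := Subgroup.mem_zpowers_iff.mp (hg ⟨a, ha⟩)
  obtain ⟨n, hn⟩ := Subgroup.mem_zpowers_iff.mp (hg ⟨b, hb⟩)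
  have : (⟨a, ha⟩ : ↥T) * ⟨b, hb⟩ = ⟨b, hb⟩ * ⟨a, ha⟩ := by
    rw [← hm, ← hn, ← zpow_add, ← zpow_add, add_comm]
  exact congrArg Subtype.val this

/-- two subgroups of the same order inside a cyclic subgroup coincide -/
theorem eq_of_card_eq_of_le_cyclic {T S₁ S₂ : Subgroup G} (hT : IsCyclic ↥T) (h₁ : S₁ ≤ T)
    (h₂ : S₂ ≤ T) (h : Nat.card S₁ = Nat.card S₂) : S₁ = S₂ := by
  have e := Cfsg.Agent.Helper76.EqOrd.eq_of_card_eq_of_isCyclic (S₁.subgroupOf T) (S₂.subgroupOf T)
    (by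
      rw [Nat.card_congr (Subgroup.subgroupOfEquivOfLe h₁).toEquiv,
        Nat.card_congr (Subgroup.subgroupOfEquivOfLe h₂).toEquiv, h])
  rw [Subgroup.subgroupOf_inj, inf_eq_left.mpr h₁, inf_eq_left.mpr h₂] at e
  exact e

/-- if all Sylow subgroups of `E` are cyclic, every `p`-subgroup of `E` is cyclic -/
theorem isCyclic_of_pgroup_le {E : Subgroup G}
    (hcyc : ∀ (p : ℕ) [Fact p.Prime] (P : Sylow p ↥E), IsCyclic ↥(P : Subgroup ↥E))
    {p : ℕ} [Fact p.Prime] {T : Subgroup G} (hTE : T ≤ E) (hT : IsPGroup p T) : IsCyclic ↥T := by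
  have hT' : IsPGroup p (T.subgroupOf E) := hT.of_equiv (Subgroup.subgroupOfEquivOfLe hTE).symm
  obtain ⟨P, hP⟩ := hT'.exists_le_sylow
  haveI := hcyc p P
  haveI : IsCyclic ↥(T.subgroupOf E) :=
    isCyclic_of_injective (Subgroup.inclusion hP) (Subgroup.inclusion_injective hP)
  exact isCyclic_of_surjective (Subgroup.subgroupOfEquivOfLe hTE).toMonoidHom
    (Subgroup.subgroupOfEquivOfLe hTE).surjective

/-- a nontrivial `s`-subgroup contains a subgroup of order `s` -/
theorem exists_le_card_eq_prime {s : ℕ} [hs : Fact s.Prime] {B : Subgroup G} (hB : IsPGroup s B)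
    (hB1 : B ≠ ⊥) : ∃ Z : Subgroup G, Z ≤ B ∧ Nat.card Z = s := by
  have hdvd : s ∣ Nat.card B := by
    obtain ⟨n, hn⟩ := IsPGroup.iff_card.mp hB
    rcases n with _ | n
    · rw [pow_zero] at hn
      exact absurd (Subgroup.card_eq_one.mp hn) hB1
    · rw [hn, pow_succ]
      exact dvd_mul_left _ _
  obtain ⟨x, hx⟩ := exists_prime_orderOf_dvd_card' s hdvd
  refine ⟨Subgroup.zpowers (x : G), by rw [Subgroup.zpowers_le]; exact x.2, ?_⟩
  rw [Nat.card_zpowers, Subgroup.orderOf_coe, hx]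

open Cfsg.Agent.Helper95.BG15.FitSigma in
/-- **(L9), pure core.** -/
theorem frob_normal (hodd : Odd (Nat.card G)) (N E K0 : Subgroup G)
    (hEN : E ≤ normalizer (N : Set G))
    (hcop : (Nat.card E).Coprime (Nat.card N)) (hEsolv : Group.IsSolvable ↥E)
    (hcyc : ∀ (p : ℕ) [Fact p.Prime] (P : Sylow p ↥E), IsCyclic ↥(P : Subgroup ↥E))
    (hsemi : ∀ e ∈ E, e ≠ 1 → N ⊓ centralizer ({e} : Set G) = K0)
    (hQ : ∃ q : ℕ, q.Prime ∧ ∀ Q : Sylow q ↥N, ¬ (Q : Subgroup ↥N).map N.subtype ≤ K0)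
    (X : Subgroup G) (hXE : X ≤ E) (hX : (Nat.card X).Prime) :
    E ≤ normalizer (X : Set G) := by
  classical
  obtain ⟨t, ht⟩ : ∃ t, t = Nat.card X := ⟨_, rfl⟩
  have htp : t.Prime := ht ▸ hX
  have : Fact t.Prime := ⟨htp⟩
  have hXt : IsPGroup t X := IsPGroup.of_card (n := 1) (by rw [pow_one, ht])
  have h2G : ¬ 2 ∣ Nat.card G := by
    intro h
    exact (Nat.not_even_iff_odd.mpr hodd) (even_iff_two_dvd.mpr h)
  -- the Fitting subgroup of `E`
  obtain ⟨F, hFdef⟩ : ∃ F : Subgroup G, F = Cfsg.fittingOf E := ⟨_, rfl⟩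
  -- every subgroup of `O_s(E)` is normal in `E`
  have hOpcyc : ∀ (s : ℕ) [Fact s.Prime], IsCyclic ↥(Op E s) :=
    fun s _ => isCyclic_of_pgroup_le hcyc (Op_le E s) (Op_isPGroup E s)
  have hnormal_of_le : ∀ (s : ℕ) [Fact s.Prime] (Z : Subgroup G), Z ≤ Op E s →
      E ≤ normalizer (Z : Set G) := by
    intro s _ Z hZ e he
    apply Cfsg.Agent.Helper52.mem_normalizer_of_map_conj_eq
    apply eq_of_card_eq_of_le_cyclic (hOpcyc s) ?_ hZ (Cfsg.Agent.Helper52.card_map_conj e Z)
    exact Cfsg.Agent.Helper52.map_conj_le_of_le_normalizer hZ (Op_norm E s he)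
  by_cases hXF : X ≤ F
  · -- `X ≤ O_t(E)`
    have hXOp : X ≤ Op E t := by
      intro x hx
      apply mem_Op_of_mem_fittingOf E t (hFdef ▸ hXF hx) (j := 1)
      have h1 : (⟨x, hx⟩ : ↥X) ^ Nat.card X = 1 := pow_card_eq_one'
      rw [pow_one, ht]
      exact congrArg Subtype.val h1
    exact hnormal_of_le t X hXOp
  · exfalso
    -- `X` does not centralize `F`
    have hXcF : ¬ X ≤ centralizer (F : Set G) := by
      intro h
      apply hXF
      intro x hx
      have hDR : E ⊓ centralizer (Cfsg.fittingOf E : Set G) ≤ normalizer (E : Set G) :=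
        inf_le_left.trans Subgroup.le_normalizer
      have := Cfsg.Agent.Helper54.BenderLocal.inf_centralizer_fittingOf_le E E hEsolv hDR
      rw [hFdef]
      exact this ⟨hXE hx, hXE hx, hFdef ▸ h hx⟩
    have hex : ∃ s : {p : ℕ // p.Prime}, ¬ Op E (s : ℕ) ≤ centralizer (X : Set G) := by
      by_contra hall
      push Not at hall
      apply hXcF
      rw [Subgroup.le_centralizer_iff, hFdef, fittingOf_eq_iSup]
      exact iSup_le hall
    obtain ⟨⟨s, hs⟩, hAX⟩ := hex
    have : Fact s.Prime := ⟨hs⟩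
    obtain ⟨A, hAdef⟩ : ∃ A : Subgroup G, A = Op E s := ⟨_, rfl⟩
    rw [← hAdef] at hAX
    have hAE : A ≤ E := hAdef ▸ Op_le E s
    have hEnA : E ≤ normalizer (A : Set G) := hAdef ▸ Op_norm E s
    have hAs : IsPGroup s A := hAdef ▸ Op_isPGroup E s
    have hAcyc : IsCyclic ↥A := hAdef ▸ hOpcyc s
    have hXnA : X ≤ normalizer (A : Set G) := hXE.trans hEnA
    -- `s ≠ t`
    have hst : s ≠ t := by
      intro hst
      subst hst
      have hN : IsPGroup s (X ⊔ A : Subgroup G) := IsPGroup.to_sup_of_normal_right' hXt hAs hXnA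
      have hNE : X ⊔ A ≤ E := sup_le hXE hAE
      have hNcyc : IsCyclic ↥(X ⊔ A : Subgroup G) := isCyclic_of_pgroup_le hcyc hNE hN
      apply hAX
      intro a ha
      rw [mem_centralizer_iff]
      intro x hx
      exact comm_of_isCyclic hNcyc ((le_sup_left : X ≤ X ⊔ A) hx) ((le_sup_right : A ≤ X ⊔ A) ha)
    have hA1 : A ≠ ⊥ := by
      intro h
      apply hAX
      rw [h]
      exact bot_le
    obtain ⟨Y', hY'A, hY's⟩ := exists_le_card_eq_prime hAs hA1
    have hY'E : Y' ≤ E := hY'A.trans hAE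
    have hEnY' : E ≤ normalizer (Y' : Set G) := hnormal_of_le s Y' (hAdef ▸ hY'A)
    have hY'p : (Nat.card Y').Prime := hY's ▸ hs
    have hY'1 : Y' ≠ ⊥ := by
      intro h
      rw [h, Subgroup.card_bot] at hY'p
      exact Nat.not_prime_one hY'p
    have hY'pg : IsPGroup s Y' := IsPGroup.of_card (n := 1) (by rw [pow_one, hY's])
    -- `X` does not centralize `Y'`
    have hXY' : ¬ Y' ≤ centralizer (X : Set G) := by
      intro hcen
      apply hAX
      haveI hAab : IsMulCommutative ↥A :=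
        ⟨⟨fun a c => Subtype.ext (comm_of_isCyclic hAcyc a.2 c.2)⟩⟩
      have hcopXA : (Nat.card X).Coprime (Nat.card A) := by
        obtain ⟨n, hn⟩ := IsPGroup.iff_card.mp hAs
        rw [hn, ← ht]
        exact Nat.Coprime.pow_right n ((Nat.coprime_primes htp hs).mpr (Ne.symm hst))
      have hG2 : ⁅A, X⁆ ⊓ centralizer (X : Set G) = ⊥ :=
        Cfsg.Agent.Helper1.ZCoprime.commutator_inf_centralizer_eq_bot X A hXnA hcopXA
      have hP0A : ⁅A, X⁆ ≤ A := Cfsg.Agent.Helper1.commutator_le_of_le_normalizer hXnA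
      by_contra hne
      have hP0ne : ⁅A, X⁆ ≠ ⊥ :=
        fun h => hne (Subgroup.commutator_eq_bot_iff_le_centralizer.mp h)
      obtain ⟨Z, hZle, hZs⟩ := exists_le_card_eq_prime (hAs.to_le hP0A) hP0ne
      have hZY' : Z = Y' :=
        eq_of_card_eq_of_le_cyclic hAcyc (hZle.trans hP0A) hY'A (hZs.trans hY's.symm)
      have hle : Y' ≤ ⁅A, X⁆ ⊓ centralizer (X : Set G) := le_inf (hZY' ▸ hZle) hcen
      rw [hG2] at hle
      exact hY'1 (le_bot_iff.mp hle)
    -- a generator `x` of `X`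
    obtain ⟨⟨x, hxX⟩, hx1'⟩ := (Subgroup.ne_bot_iff_exists_ne_one).mp
      (show X ≠ ⊥ from fun h => by rw [h, Subgroup.card_bot] at hX; exact Nat.not_prime_one hX)
    have hx1 : x ≠ 1 := fun h => hx1' (Subtype.ext h)
    have hxt : x ^ t = 1 := by
      have h1 : (⟨x, hxX⟩ : ↥X) ^ Nat.card X = 1 := pow_card_eq_one'
      rw [← ht] at h1
      exact congrArg Subtype.val h1
    have hxE : x ∈ E := hXE hxX
    have hxnY' : x ∈ normalizer (Y' : Set G) := hEnY' hxE
    have hex2 : ∃ u ∈ Y', x * u * x⁻¹ * u⁻¹ ≠ 1 := by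
      by_contra hall
      push Not at hall
      apply hXY'
      intro u hu
      rw [← Cfsg.Agent.Helper48.BG161.centralizer_singleton_eq_of_prime_card hX hxX hx1,
        mem_centralizer_iff]
      intro y hy
      rw [Set.mem_singleton_iff] at hy
      subst hy
      have h1 := hall u hu
      have h2 : y * u * y⁻¹ = u := by
        have := congrArg (· * u) h1
        simpa using this
      calc y * u = y * u * y⁻¹ * y := by group
        _ = u * y := by rw [h2]
    obtain ⟨u0, hu0, hu0ne⟩ := hex2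
    have hu01 : u0 ≠ 1 := by
      intro h
      apply hu0ne
      rw [h]
      group
    have hc0 : x * u0 * x⁻¹ * u0⁻¹ ∈ Y' :=
      Y'.mul_mem ((mem_normalizer_iff.mp hxnY' u0).mp hu0) (Y'.inv_mem hu0)
    have hKgen : Y' ≤ Subgroup.closure {g | ∃ u ∈ Y', g = x * u * x⁻¹ * u⁻¹} := by
      have h1 : Subgroup.zpowers (x * u0 * x⁻¹ * u0⁻¹) ≤
          Subgroup.closure {g | ∃ u ∈ Y', g = x * u * x⁻¹ * u⁻¹} := by
        rw [Subgroup.zpowers_le]
        exact Subgroup.subset_closure ⟨u0, hu0, rfl⟩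
      exact (Cfsg.Agent.Helper48.BG161.zpowers_eq_of_prime_card hY'p hc0 hu0ne).symm.le.trans h1
    -- a `Y'X`-invariant Sylow `q`-subgroup of `N`
    obtain ⟨q, hqp, hQall⟩ := hQ
    have : Fact q.Prime := ⟨hqp⟩
    have hDE : Y' ⊔ X ≤ E := sup_le hY'E hXE
    have hDN : Y' ⊔ X ≤ normalizer (N : Set G) := hDE.trans hEN
    have hcopD : (Nat.card (Y' ⊔ X : Subgroup G)).Coprime (Nat.card N) :=
      Nat.Coprime.coprime_dvd_left (Subgroup.card_dvd_of_le hDE) hcop
    have hDsolv : Group.IsSolvable ↥(Y' ⊔ X : Subgroup G) :=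
      haveI := hEsolv
      Group.isSolvable_of_isSolvable_injective (Subgroup.inclusion_injective hDE)
    obtain ⟨Q, hQN, hQcard, hDQ⟩ :=
      Cfsg.Agent.Helper52.exists_invariant_sylow (Y' ⊔ X) N hDN hcopD (Or.inl hDsolv) q
    obtain ⟨P, hP⟩ := Cfsg.Agent.Helper52.exists_sylow_of_card q N Q hQN hQcard
    have hQK0 : ¬ Q ≤ K0 := hP ▸ hQall P
    have hQq : IsPGroup q Q :=
      IsPGroup.of_card (n := (Nat.card N).factorization q) (by rw [hQcard]; rfl)
    have hQ1 : Q ≠ ⊥ := by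
      intro h
      apply hQK0
      rw [h]
      exact bot_le
    have hqQ : q ∣ Nat.card Q := by
      obtain ⟨n, hn⟩ := IsPGroup.iff_card.mp hQq
      rcases n with _ | n
      · rw [pow_zero] at hn
        exact absurd (Subgroup.card_eq_one.mp hn) hQ1
      · rw [hn, pow_succ]
        exact dvd_mul_left _ _
    have hqN : q ∣ Nat.card N := hqQ.trans (Subgroup.card_dvd_of_le hQN)
    have hsE : s ∣ Nat.card E := hY's ▸ Subgroup.card_dvd_of_le hY'E
    have htE : t ∣ Nat.card E := ht ▸ Subgroup.card_dvd_of_le hXE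
    have hq2 : q ≠ 2 := by
      intro h
      apply h2G
      rw [← h]
      exact hqN.trans (Subgroup.card_subgroup_dvd_card N)
    have hs2 : s ≠ 2 := by
      intro h
      apply h2G
      rw [← h]
      exact hsE.trans (Subgroup.card_subgroup_dvd_card E)
    have hqs : q ≠ s := by
      intro h
      have := Nat.eq_one_of_dvd_coprimes hcop (h ▸ hsE) hqN
      exact hqp.one_lt.ne' this
    have hqt : q ≠ t := by
      intro h
      have := Nat.eq_one_of_dvd_coprimes hcop (h ▸ htE) hqN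
      exact hqp.one_lt.ne' this
    have hΩ : ∀ y ∈ Q, x * y = y * x → y ^ q = 1 → y ∈ centralizer (Y' : Set G) := by
      intro y hy hxy _
      have hyK0 : y ∈ K0 := by
        rw [← hsemi x hxE hx1]
        refine Subgroup.mem_inf.mpr ⟨hQN hy, ?_⟩
        rw [mem_centralizer_iff]
        intro z hz
        rw [Set.mem_singleton_iff] at hz
        subst hz
        exact hxy
      rw [mem_centralizer_iff]
      intro u hu
      by_cases hu1 : u = 1
      · subst hu1
        simp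
      · have hyu : y ∈ N ⊓ centralizer ({u} : Set G) := by
          rw [hsemi u (hY'E hu) hu1]
          exact hyK0
        exact (mem_centralizer_iff.mp (Subgroup.mem_inf.mp hyu).2) u rfl
    have hQY' : Q ≤ centralizer (Y' : Set G) :=
      Cfsg.Agent.Helper99.FrobFR.frob_centralizes hqp hs htp hq2 hs2 hqs hqt hst Q Y' x hQq hY'pg
        (le_sup_left.trans hDQ) (hDQ ((le_sup_right : X ≤ Y' ⊔ X) hxX)) hxnY' hxt hKgen hΩ
    apply hQK0
    intro y hy
    rw [← hsemi u0 (hY'E hu0) hu01]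
    refine Subgroup.mem_inf.mpr ⟨hQN hy, ?_⟩
    rw [mem_centralizer_iff]
    intro z hz
    rw [Set.mem_singleton_iff] at hz
    subst hz
    exact (mem_centralizer_iff.mp (hQY' hy)) z hu0

end Cfsg.Agent.Helper48.BG142
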