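import Mathlib
import Cfsg.Prelude.Def_GeometricClasses
import Cfsg.Agent.Lib.Helper97.ESDefs

/-!
# ES project (S5877), piece (G1): the nice basis (Burnside)

Server: helper97.  Statement verbatim from `tools/es_sigs_helper97.lean.txt`.
-/

set_option autoImplicit false

namespace Cfsg.Agent.Helper48.ES

open Cfsg Cfsg.Geo Cfsg.Agent.Helper97.ES
open scoped MatrixGroups

/-- Burnside's theorem (via Jacobson density): a subalgebra of `End F V` acting irreducibly with
commutant `F` is everything. -/
theorem g1_burnside {F : Type*} [Field F] {V : Type*} [AddCommGroup V] [Module F V] [Finite V]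
    [Nontrivial V] (A : Subalgebra F (Module.End F V))
    (hirr : ∀ W : Submodule F V, (∀ a ∈ A, W.map a ≤ W) → W = ⊥ ∨ W = ⊤)
    (hcomm : ∀ e : Module.End F V, (∀ a ∈ A, e * a = a * e) → ∃ c : F, e = c • 1) :
    A = ⊤ := by
  have hsmul : ∀ (a : A) (v : V), a • v = (a : Module.End F V) v := fun a v => rfl
  have halg : ∀ (c : F) (v : V), (algebraMap F A c) • v = c • v := by
    intro c v
    rw [hsmul]
    simp [Algebra.algebraMap_eq_smul_one]
  have : IsSimpleModule A V := by
    rw [isSimpleModule_iff]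
    refine { eq_bot_or_eq_top := ?_ }
    intro W
    let W' : Submodule F V :=
      { carrier := W
        add_mem' := W.add_mem
        zero_mem' := W.zero_mem
        smul_mem' := by
          intro c v hv
          have := W.smul_mem (algebraMap F A c) hv
          rwa [halg] at this }
    have h1 : ∀ a ∈ A, W'.map a ≤ W' := by
      intro a ha v hv
      obtain ⟨w, hw, rfl⟩ := hv
      exact W.smul_mem ⟨a, ha⟩ hw
    rcases hirr W' h1 with h | h
    · left
      ext v
      have h3 : v ∈ W' ↔ v ∈ (⊥ : Submodule F V) := by rw [h]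
      rw [Submodule.mem_bot] at h3 ⊢
      exact h3
    · right
      ext v
      have h3 : v ∈ W' ↔ v ∈ (⊤ : Submodule F V) := by rw [h]
      exact ⟨fun _ => Submodule.mem_top, fun _ => h3.mpr Submodule.mem_top⟩
  have : Module.Finite (Module.End A V) V := Module.Finite.of_finite
  have hsurj := Module.Finite.toModuleEnd_moduleEnd_surjective (R := A) (M := V)
  have hsc : ∀ e : Module.End A V, ∃ c : F, ∀ v, e v = c • v := by
    intro e
    let e' : Module.End F V :=
      { toFun := e
        map_add' := e.map_add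
        map_smul' := by
          intro c v
          rw [← halg, e.map_smul, halg]
          rfl }
    have h1 : ∀ a ∈ A, e' * a = a * e' := by
      intro a ha
      ext v
      change e (a v) = a (e v)
      have := e.map_smul (⟨a, ha⟩ : A) v
      exact this
    obtain ⟨c, hc⟩ := hcomm e' h1
    refine ⟨c, fun v => ?_⟩
    have h2 : e' v = (c • (1 : Module.End F V)) v := LinearMap.congr_fun hc v
    rw [LinearMap.smul_apply, Module.End.one_apply] at h2
    exact h2
  rw [eq_top_iff]
  intro φ _
  let f : Module.End (Module.End A V) V :=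
    { toFun := φ
      map_add' := φ.map_add
      map_smul' := by
        intro e v
        obtain ⟨c, hc⟩ := hsc e
        change φ (e v) = e (φ v)
        rw [hc, hc, φ.map_smul] }
  obtain ⟨a, ha⟩ := hsurj f
  have : (a : Module.End F V) = φ := by
    ext v
    have := LinearMap.congr_fun ha v
    exact this
  rw [← this]
  exact a.2

section grp

variable {F : Type*} [Field F] [Finite F] {n r : ℕ} {R : Subgroup (GL (Fin n) F)}

omit [Finite F] in
lemma g1_mem_matrixSet {y : GL (Fin n) F} (hy : y ∈ R) :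
    ((y : GL (Fin n) F) : Matrix (Fin n) (Fin n) F) ∈ matrixSet R :=
  ⟨y, hy, rfl⟩

omit [Finite F] in
/-- The span of the matrices of `R` is the adjoin. -/
lemma g1_adjoin_eq_span (R : Subgroup (GL (Fin n) F)) :
    Subalgebra.toSubmodule (Algebra.adjoin F (matrixSet R)) = Submodule.span F (matrixSet R) := by
  rw [Algebra.adjoin_eq_span]
  congr 1
  have h : matrixSet R =
      ((R.toSubmonoid.map (Units.coeHom (Matrix (Fin n) (Fin n) F)) :
        Submonoid (Matrix (Fin n) (Fin n) F)) : Set (Matrix (Fin n) (Fin n) F)) := by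
    ext M
    simp only [matrixSet, Set.mem_image, SetLike.mem_coe, Submonoid.mem_map,
      Subgroup.mem_toSubmonoid, Units.coeHom_apply]
  rw [h, Submonoid.closure_eq]

/-- Burnside for `R`: the matrices of `R` span the matrix algebra. -/
theorem g1_span_top (hn : 0 < n) (hirr : ActsAbsolutelyIrreducibly (matrixSet R)) :
    Submodule.span F (matrixSet R) = ⊤ := by
  have : Nonempty (Fin n) := ⟨⟨0, hn⟩⟩
  let φ : Matrix (Fin n) (Fin n) F →ₐ[F] Module.End F (Fin n → F) :=
    (Matrix.toLinAlgEquiv' : Matrix (Fin n) (Fin n) F ≃ₐ[F] Module.End F (Fin n → F)).toAlgHom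
  have hφ : ∀ M : Matrix (Fin n) (Fin n) F, φ M = Matrix.toLin' M := fun M => rfl
  let A : Subalgebra F (Module.End F (Fin n → F)) := (Algebra.adjoin F (matrixSet R)).map φ
  have hmemA : ∀ s ∈ matrixSet R, Matrix.toLin' s ∈ A := by
    intro s hs
    exact ⟨s, Algebra.subset_adjoin hs, rfl⟩
  have hA : A = ⊤ := by
    apply g1_burnside A
    · intro W hW
      apply hirr.1 W
      intro s hs
      exact hW _ (hmemA s hs)
    · intro e he
      have h1 : ∀ s ∈ matrixSet R, LinearMap.toMatrix' e * s = s * LinearMap.toMatrix' e := by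
        intro s hs
        have h2 := he _ (hmemA s hs)
        have h3 := congrArg LinearMap.toMatrix' h2
        rw [Module.End.mul_eq_comp, Module.End.mul_eq_comp, LinearMap.toMatrix'_comp,
          LinearMap.toMatrix'_comp, LinearMap.toMatrix'_toLin'] at h3
        exact h3
      obtain ⟨c, hc⟩ := hirr.2 _ h1
      refine ⟨c, ?_⟩
      have h4 := congrArg Matrix.toLin' hc
      rw [Matrix.toLin'_toMatrix'] at h4
      rw [h4]
      ext v
      simp
  rw [← g1_adjoin_eq_span, eq_top_iff]
  intro B _
  have hB : φ B ∈ A := by rw [hA]; exact Algebra.mem_top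
  obtain ⟨B', hB', hBB'⟩ := hB
  have : B' = B := by
    apply (Matrix.toLinAlgEquiv' : Matrix (Fin n) (Fin n) F ≃ₐ[F] Module.End F (Fin n → F)).injective
    exact hBB'
  rw [← this]
  exact hB'

omit [Finite F] in
/-- (B1) an element of `R` commuting with all of `R` is scalar. -/
lemma g1_scalar_of_central (hirr : ActsAbsolutelyIrreducibly (matrixSet R)) {z : GL (Fin n) F}
    (hz : ∀ x ∈ R, x * z = z * x) :
    ∃ c : F, ((z : GL (Fin n) F) : Matrix (Fin n) (Fin n) F) = c • 1 := by
  apply hirr.2
  rintro s ⟨x, hx, rfl⟩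
  have := hz x hx
  have h := congrArg (fun g : GL (Fin n) F => (g : Matrix (Fin n) (Fin n) F)) this
  simp only [Units.val_mul] at h
  exact h.symm

omit [Finite F] in
/-- (B2) conjugation inside `R` multiplies by a scalar. -/
lemma g1_conj_scalar (S : Setup r R) {w y : GL (Fin n) F} (hw : w ∈ R) (hy : y ∈ R) :
    ∃ c : F, ((w * y * w⁻¹ : GL (Fin n) F) : Matrix (Fin n) (Fin n) F) =
      c • ((y : GL (Fin n) F) : Matrix (Fin n) (Fin n) F) := by
  have hcomm : (⟨w, hw⟩ * ⟨y, hy⟩ * (⟨w, hw⟩ : ↥R)⁻¹ * (⟨y, hy⟩ : ↥R)⁻¹ : ↥R) ∈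
      Subgroup.center ↥R := by
    rw [← S.hext, ← commutatorElement_def, commutator_def]
    exact Subgroup.commutator_mem_commutator (Subgroup.mem_top _) (Subgroup.mem_top _)
  have hz : ∀ x ∈ R, x * (w * y * w⁻¹ * y⁻¹) = (w * y * w⁻¹ * y⁻¹) * x := by
    intro x hx
    have h1 := Subgroup.mem_center_iff.mp hcomm ⟨x, hx⟩
    have h2 := congrArg (fun g : R => (g : GL (Fin n) F)) h1
    simpa using h2
  obtain ⟨c, hc⟩ := g1_scalar_of_central S.hirr hz
  refine ⟨c, ?_⟩
  have h3 : (w * y * w⁻¹ : GL (Fin n) F) = (w * y * w⁻¹ * y⁻¹) * y := by group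
  rw [h3, Units.val_mul, hc]
  simp

omit [Finite F] in
/-- Linear independence of elements of `R` which are pairwise distinct modulo the centre. -/
theorem g1_li (S : Setup r R) {ι : Type*} (y : ι → GL (Fin n) F) (hy : ∀ i, y i ∈ R)
    (hne : ∀ i j, i ≠ j → ∃ w ∈ R, w * ((y i)⁻¹ * y j) ≠ ((y i)⁻¹ * y j) * w) :
    LinearIndependent F (fun i => ((y i : GL (Fin n) F) : Matrix (Fin n) (Fin n) F)) := by
  classical
  rw [linearIndependent_iff']
  intro s
  induction' hk : s.card using Nat.strong_induction_on with k ih generalizing s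
  intro g hsum
  -- the claim
  have claim : ∀ i ∈ s, ∀ j ∈ s, i ≠ j → g j = 0 := by
    intro i hi j hj hij
    obtain ⟨w, hw, hwne⟩ := hne i j hij
    choose lam hlam using fun t => g1_conj_scalar S hw (hy t)
    have hconj : ∑ t ∈ s, (g t * lam t) • ((y t : GL (Fin n) F) : Matrix (Fin n) (Fin n) F)
        = 0 := by
      have h1 : ((w : GL (Fin n) F) : Matrix (Fin n) (Fin n) F) *
          (∑ t ∈ s, g t • ((y t : GL (Fin n) F) : Matrix (Fin n) (Fin n) F)) *
          ((w⁻¹ : GL (Fin n) F) : Matrix (Fin n) (Fin n) F) = 0 := by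
        rw [hsum, mul_zero, zero_mul]
      rw [Finset.mul_sum, Finset.sum_mul] at h1
      rw [← h1]
      apply Finset.sum_congr rfl
      intro t _
      have h2 := hlam t
      simp only [Units.val_mul] at h2
      rw [Matrix.mul_smul, Matrix.smul_mul, h2, smul_smul]
    have hsub : ∑ t ∈ s.erase i,
        (g t * (lam t - lam i)) • ((y t : GL (Fin n) F) : Matrix (Fin n) (Fin n) F) = 0 := by
      have h1 : ∑ t ∈ s,
          (g t * (lam t - lam i)) • ((y t : GL (Fin n) F) : Matrix (Fin n) (Fin n) F) = 0 := by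
        have h2 : ∀ t ∈ s,
            (g t * (lam t - lam i)) • ((y t : GL (Fin n) F) : Matrix (Fin n) (Fin n) F) =
            (g t * lam t) • ((y t : GL (Fin n) F) : Matrix (Fin n) (Fin n) F) -
              lam i • (g t • ((y t : GL (Fin n) F) : Matrix (Fin n) (Fin n) F)) := by
          intro t _
          rw [smul_smul, ← sub_smul]
          congr 1
          ring
        rw [Finset.sum_congr rfl h2, Finset.sum_sub_distrib, ← Finset.smul_sum, hconj, hsum,
          smul_zero, sub_zero]
      rw [← Finset.sum_erase_add s _ hi] at h1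
      simpa using h1
    have hcard : (s.erase i).card < k := by
      rw [← hk]
      exact Finset.card_erase_lt_of_mem hi
    have h3 := ih _ hcard (s.erase i) rfl (fun t => g t * (lam t - lam i)) hsub j
      (Finset.mem_erase.mpr ⟨hij.symm, hj⟩)
    rcases mul_eq_zero.mp h3 with h | h
    · exact h
    · exfalso
      apply hwne
      have hlamij : lam j = lam i := sub_eq_zero.mp h
      -- `a * (yi⁻¹ yj) = b` with `a = w yi w⁻¹`, `b = w yj w⁻¹`
      have hab : (w * y i * w⁻¹) * ((y i)⁻¹ * y j) = w * y j * w⁻¹ := by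
        apply Units.ext
        rw [Units.val_mul, hlam i, hlam j, hlamij, Units.val_mul, Matrix.smul_mul, ← mul_assoc]
        congr 1
        rw [← Units.val_mul, mul_inv_cancel, Units.val_one, one_mul]
      have : w * ((y i)⁻¹ * y j) = ((y i)⁻¹ * y j) * w := by
        have h5 : (y i)⁻¹ * y j = (w * y i * w⁻¹)⁻¹ * (w * y j * w⁻¹) := by
          rw [← hab]; group
        have h6 : (w * y i * w⁻¹)⁻¹ * (w * y j * w⁻¹) = w * ((y i)⁻¹ * y j) * w⁻¹ := by group
        rw [h6] at h5
        calc w * ((y i)⁻¹ * y j) = (w * ((y i)⁻¹ * y j) * w⁻¹) * w := by group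
          _ = ((y i)⁻¹ * y j) * w := by rw [← h5]
      exact this
  intro i hi
  by_cases hex : ∃ j ∈ s, j ≠ i
  · obtain ⟨j, hj, hji⟩ := hex
    exact claim j hj i hi hji
  · push Not at hex
    have hs : s = {i} := by
      ext t
      rw [Finset.mem_singleton]
      exact ⟨fun ht => hex t ht, fun ht => ht ▸ hi⟩
    rw [hs, Finset.sum_singleton] at hsum
    rcases smul_eq_zero.mp hsum with h | h
    · exact h
    · exfalso
      have h1 : ((y i : GL (Fin n) F) : Matrix (Fin n) (Fin n) F) *
          (((y i)⁻¹ : GL (Fin n) F) : Matrix (Fin n) (Fin n) F) = 1 := by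
        rw [← Units.val_mul, mul_inv_cancel, Units.val_one]
      rw [h, zero_mul] at h1
      -- `0 = 1` in the matrix ring forces `n = 0`, but then still `y i = 0` is fine; use det
      have h2 := congrArg Matrix.det h1
      rw [Matrix.det_one] at h2
      by_cases hn : n = 0
      · subst hn
        -- over `Fin 0` all matrices are equal; the relation `g i • y i = 0` gives nothing, but
        -- `g i = 0` must still be shown: impossible in general, so exclude `n = 0` via `Setup`
        have hsub : Subsingleton (GL (Fin 0) F) := by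
          refine ⟨fun a b => Units.ext (Subsingleton.elim _ _)⟩
        have hc1 : Nat.card (Subgroup.center R) = 1 := by
          have : Subsingleton R := ⟨fun a b => Subtype.ext (Subsingleton.elim _ _)⟩
          have : Subsingleton (Subgroup.center R) :=
            ⟨fun a b => Subtype.ext (Subsingleton.elim _ _)⟩
          exact Nat.card_unique
        rw [S.hZ] at hc1
        exact S.hr.one_lt.ne' hc1
      · have : Nonempty (Fin n) := ⟨⟨0, Nat.pos_of_ne_zero hn⟩⟩
        rw [Matrix.det_zero] at h2
        exact zero_ne_one h2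

/-- **(G1) the nice basis (Burnside).** -/
theorem exists_niceBasis (S : Setup r R) :
    ∃ x : Fin (n * n) → Matrix (Fin n) (Fin n) F, NiceBasis R x := by
  classical
  have hn : 0 < n := by
    by_contra h
    have hn0 : n = 0 := by omega
    subst hn0
    have hsub : Subsingleton (GL (Fin 0) F) := by
      refine ⟨fun a b => Units.ext (Subsingleton.elim _ _)⟩
    have hc1 : Nat.card (Subgroup.center R) = 1 := by
      have : Subsingleton R := ⟨fun a b => Subtype.ext (Subsingleton.elim _ _)⟩
      have : Subsingleton (Subgroup.center R) :=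
        ⟨fun a b => Subtype.ext (Subsingleton.elim _ _)⟩
      exact Nat.card_unique
    rw [S.hZ] at hc1
    exact S.hr.one_lt.ne' hc1
  let Q := ↥R ⧸ Subgroup.center ↥R
  let yq : Q → GL (Fin n) F := fun q => ((Quotient.out q : ↥R) : GL (Fin n) F)
  have hyR : ∀ q, yq q ∈ R := fun q => (Quotient.out q).2
  have hne : ∀ q q', q ≠ q' →
      ∃ w ∈ R, w * ((yq q)⁻¹ * yq q') ≠ ((yq q)⁻¹ * yq q') * w := by
    intro q q' hqq'
    by_contra hcon
    push Not at hcon
    apply hqq'
    have hmem : (Quotient.out q)⁻¹ * Quotient.out q' ∈ Subgroup.center ↥R := by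
      rw [Subgroup.mem_center_iff]
      intro g
      apply Subtype.ext
      have := hcon g.1 g.2
      simpa [yq] using this
    have h1 := QuotientGroup.eq.mpr hmem
    rwa [QuotientGroup.out_eq', QuotientGroup.out_eq'] at h1
  have hli := g1_li S yq hyR hne
  have hdecomp : ∀ ρ ∈ R, ∃ q : Q, ∃ c : F,
      ((ρ : GL (Fin n) F) : Matrix (Fin n) (Fin n) F) =
        c • ((yq q : GL (Fin n) F) : Matrix (Fin n) (Fin n) F) := by
    intro ρ hρ
    obtain ⟨z, hz⟩ := QuotientGroup.mk_out_eq_mul (Subgroup.center ↥R) (⟨ρ, hρ⟩ : ↥R)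
    have hzc : ∀ x ∈ R, x * (((z : ↥R) : GL (Fin n) F))⁻¹ =
        (((z : ↥R) : GL (Fin n) F))⁻¹ * x := by
      intro x hx
      have h1 := Subgroup.mem_center_iff.mp (Subgroup.inv_mem _ z.2) ⟨x, hx⟩
      have h2 := congrArg (fun g : ↥R => (g : GL (Fin n) F)) h1
      simpa using h2
    obtain ⟨c, hc⟩ := g1_scalar_of_central S.hirr hzc
    refine ⟨((⟨ρ, hρ⟩ : ↥R) : Q), c, ?_⟩
    have h3 : ρ = yq ((⟨ρ, hρ⟩ : ↥R) : Q) * (((z : ↥R) : GL (Fin n) F))⁻¹ := by
      have h4 := congrArg (fun g : ↥R => (g : GL (Fin n) F)) hz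
      simp only [Subgroup.coe_mul] at h4
      change yq _ = _ at h4
      rw [h4]
      group
    conv_lhs => rw [h3]
    rw [Units.val_mul, hc]
    simp
  have hspan : ⊤ ≤ Submodule.span F
      (Set.range fun q => ((yq q : GL (Fin n) F) : Matrix (Fin n) (Fin n) F)) := by
    rw [← g1_span_top hn S.hirr]
    apply Submodule.span_le.mpr
    rintro s ⟨ρ, hρ, rfl⟩
    obtain ⟨q, c, hc⟩ := hdecomp ρ hρ
    change ((ρ : GL (Fin n) F) : Matrix (Fin n) (Fin n) F) ∈ _
    rw [hc]
    exact Submodule.smul_mem _ _ (Submodule.subset_span ⟨q, rfl⟩)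
  let b := Module.Basis.mk hli hspan
  have hfin : Finite Q := inferInstance
  let _ : Fintype Q := Fintype.ofFinite Q
  have hcard : Fintype.card Q = n * n := by
    rw [← Module.finrank_eq_card_basis b]
    simp [Module.finrank_matrix]
  let e : Q ≃ Fin (n * n) := Fintype.equivFinOfCardEq hcard
  refine ⟨fun t => ((yq (e.symm t) : GL (Fin n) F) : Matrix (Fin n) (Fin n) F), ?_, ?_, ?_⟩
  · exact hli.comp e.symm e.symm.injective
  · intro t
    exact ⟨yq (e.symm t), hyR _, rfl⟩
  · intro y hy
    have hy' : y ∈ ((R ⊔ scalars (Fin n) F : Subgroup (GL (Fin n) F)) : Set (GL (Fin n) F)) := hy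
    rw [Subgroup.mul_normal] at hy'
    obtain ⟨ρ, hρ, z, hz, rfl⟩ := Set.mem_mul.mp hy'
    obtain ⟨q, c, hc⟩ := hdecomp ρ hρ
    obtain ⟨c', hc'⟩ := (mem_scalars_iff z).mp hz
    refine ⟨e q, c * (c' : F), ?_⟩
    rw [Equiv.symm_apply_apply, Units.val_mul, hc, hc']
    simp [smul_smul, mul_comm]

end grp

end Cfsg.Agent.Helper48.ES
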