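import Mathlib
import Cfsg.Prelude.Def_Transfer

set_option autoImplicit false

namespace Cfsg.Agent.Helper48

open scoped commutatorElement
open Classical

/-- Flip lemma: a permutation exchanging `P` and `¬P` shows that `P` holds on exactly half of a
finset stable under the permutation. -/
theorem two_mul_card_filter_of_flip {α : Type*} (s : Finset α) (P : α → Prop) [DecidablePred P]
    (σ : α ≃ α) (hs : ∀ a, a ∈ s ↔ σ a ∈ s) (h : ∀ a ∈ s, (P (σ a) ↔ ¬ P a)) :
    2 * (s.filter P).card = s.card := by
  have h1 : (s.filter P).card + (s.filter (fun a => ¬ P a)).card = s.card :=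
    Finset.card_filter_add_card_filter_not (s := s) P
  have h2 : (s.filter (fun a => ¬ P a)).card = (s.filter P).card := by
    apply Finset.card_bij (fun a _ => σ a)
    · intro a ha
      rw [Finset.mem_filter] at ha ⊢
      exact ⟨(hs a).mp ha.1, (h a ha.1).mpr ha.2⟩
    · intro a _ b _ hab
      exact σ.injective hab
    · intro b hb
      rw [Finset.mem_filter] at hb
      have hb' : σ.symm b ∈ s := by
        rw [hs, σ.apply_symm_apply]; exact hb.1
      refine ⟨σ.symm b, ?_, σ.apply_symm_apply b⟩
      rw [Finset.mem_filter]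
      refine ⟨hb', fun hP => ?_⟩
      have := (h _ hb').mp (by rw [σ.apply_symm_apply]; exact hb.2)
      exact this hP
  omega

section extra

variable {E : Type*} [Group E]

/-- The finset of elements of a subgroup. -/
noncomputable def fs [Fintype E] (H : Subgroup E) : Finset E := Finset.univ.filter (· ∈ H)

theorem mem_fs [Fintype E] {H : Subgroup E} {x : E} : x ∈ fs H ↔ x ∈ H := by
  simp [fs]

theorem card_fs [Fintype E] (H : Subgroup E) : (fs H).card = Nat.card H := by
  rw [Nat.card_eq_fintype_card, Fintype.card_subtype]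
  rfl

theorem fs_top [Fintype E] : fs (⊤ : Subgroup E) = Finset.univ := by
  ext x; simp [fs]

/-- Standing hypotheses: centre of order 2 and central commutators. -/
structure Ex2 (E : Type*) [Group E] : Prop where
  card_center : Nat.card (Subgroup.center E) = 2
  comm_mem : ∀ x y : E, ⁅x, y⁆ ∈ Subgroup.center E

theorem Ex2.of_extraspecial (h : Cfsg.IsExtraspecial 2 E) : Ex2 E := by
  refine ⟨h.2, fun x y => ?_⟩
  rw [← h.1.2.2]
  exact Subgroup.commutator_mem_commutator (Subgroup.mem_top x) (Subgroup.mem_top y)

theorem Ex2.exists_c (h : Ex2 E) : ∃ c : E, c ∈ Subgroup.center E ∧ c ≠ 1 ∧ c * c = 1 ∧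
    ∀ t ∈ Subgroup.center E, t = 1 ∨ t = c := by
  obtain ⟨c, hc1, hcu⟩ := (Nat.card_eq_two_iff' (1 : Subgroup.center E)).mp h.card_center
  have hc1' : (c : E) ≠ 1 := fun hh => hc1 (Subtype.ext hh)
  have hall : ∀ t ∈ Subgroup.center E, t = 1 ∨ t = (c : E) := by
    intro t ht
    by_cases h1 : t = 1
    · exact Or.inl h1
    · right
      have := hcu ⟨t, ht⟩ (fun hh => h1 (congrArg Subtype.val hh))
      exact congrArg Subtype.val this
  refine ⟨c, c.2, hc1', ?_, hall⟩
  rcases hall _ (mul_mem c.2 c.2) with h2 | h2
  · exact h2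
  · exfalso
    apply hc1'
    have : (c : E) * c = c * 1 := by rw [mul_one]; exact h2
    exact mul_left_cancel this

theorem Ex2.comm_mul_left (h : Ex2 E) (a b x : E) : ⁅a * b, x⁆ = ⁅a, x⁆ * ⁅b, x⁆ := by
  have h1 := Subgroup.mem_center_iff.mp (h.comm_mem b x)
  have h2 : ⁅a * b, x⁆ = a * ⁅b, x⁆ * a⁻¹ * ⁅a, x⁆ := by
    simp only [commutatorElement_def]; group
  rw [h2, h1 a, mul_inv_cancel_right]
  exact (h1 _).symm

theorem Ex2.comm_mul_right (h : Ex2 E) (x a b : E) : ⁅x, a * b⁆ = ⁅x, a⁆ * ⁅x, b⁆ := by
  have h1 := Subgroup.mem_center_iff.mp (h.comm_mem x b)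
  have h2 : ⁅x, a * b⁆ = ⁅x, a⁆ * (a * ⁅x, b⁆ * a⁻¹) := by
    simp only [commutatorElement_def]; group
  rw [h2, h1 a, mul_inv_cancel_right]

end extra

/-- A sum over a finset with two regimes. -/
theorem two_mul_sum_two_cases {α : Type*} (s : Finset α) (p : α → Prop) [DecidablePred p]
    (f : α → ℕ) (n : ℕ)
    (h1 : ∀ a ∈ s, p a → f a = n) (h2 : ∀ a ∈ s, ¬ p a → 2 * f a = n) :
    2 * ∑ a ∈ s, f a = n * (s.card + (s.filter p).card) := by
  rw [← Finset.sum_filter_add_sum_filter_not s p f, mul_add, Finset.mul_sum, Finset.mul_sum]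
  have e1 : ∑ a ∈ s.filter p, 2 * f a = (s.filter p).card * (2 * n) := by
    rw [← smul_eq_mul, ← Finset.sum_const]
    apply Finset.sum_congr rfl
    intro a ha
    rw [Finset.mem_filter] at ha
    rw [h1 a ha.1 ha.2]
  have e2 : ∑ a ∈ s.filter (fun a => ¬ p a), 2 * f a = (s.filter (fun a => ¬ p a)).card * n := by
    rw [← smul_eq_mul, ← Finset.sum_const]
    apply Finset.sum_congr rfl
    intro a ha
    rw [Finset.mem_filter] at ha
    rw [h2 a ha.1 ha.2]
  have e3 : (s.filter p).card + (s.filter (fun a => ¬ p a)).card = s.card :=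
    Finset.card_filter_add_card_filter_not (s := s) p
  rw [e1, e2, ← e3]
  ring

section count

variable {E : Type*} [Group E] [Fintype E]

theorem Ex2.two_mul_card_commuting (h : Ex2 E) (H : Subgroup E) (x : E)
    (hx : x ∉ Subgroup.centralizer (H : Set E)) :
    2 * ((fs H).filter (fun y => y * x = x * y)).card = Nat.card H := by
  obtain ⟨c, hcZ, hc1, hcc, hall⟩ := h.exists_c
  have hex : ∃ h₀ ∈ H, h₀ * x ≠ x * h₀ := by
    by_contra hno
    push Not at hno
    apply hx
    rw [Subgroup.mem_centralizer_iff]
    exact fun y hy => hno y hy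
  obtain ⟨h₀, hh₀, hne⟩ := hex
  have hc₀ : ⁅h₀, x⁆ = c := by
    rcases hall _ (h.comm_mem h₀ x) with h1 | h1
    · exact absurd (commutatorElement_eq_one_iff_mul_comm.mp h1) hne
    · exact h1
  rw [← card_fs]
  apply two_mul_card_filter_of_flip (fs H) _ (Equiv.mulRight h₀)
  · intro a
    simp only [mem_fs, Equiv.coe_mulRight]
    exact (Subgroup.mul_mem_cancel_right H hh₀).symm
  · intro a _
    simp only [Equiv.coe_mulRight]
    rw [← commutatorElement_eq_one_iff_mul_comm, ← commutatorElement_eq_one_iff_mul_comm,
      h.comm_mul_left, hc₀]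
    rcases hall _ (h.comm_mem a x) with h1 | h1
    · rw [h1, one_mul]
      simp [hc1]
    · rw [h1, hcc]
      simp [hc1]

/-- `|B| · |C_E(B)| = 2 |E|` for every subgroup `B` containing the centre. -/
theorem Ex2.card_mul_card_centralizer (h : Ex2 E) (B : Subgroup E)
    (hZB : Subgroup.center E ≤ B) :
    Nat.card B * Nat.card (Subgroup.centralizer (B : Set E)) = 2 * Nat.card E := by
  have hdc := Finset.sum_card_bipartiteAbove_eq_sum_card_bipartiteBelow (s := fs B)
    (t := (Finset.univ : Finset E)) (fun b x => b * x = x * b)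
  simp only [Finset.bipartiteAbove, Finset.bipartiteBelow] at hdc
  have hL : 2 * ∑ b ∈ fs B, (Finset.univ.filter (fun x => b * x = x * b)).card
      = Nat.card E * ((fs B).card + ((fs B).filter (· ∈ Subgroup.center E)).card) := by
    refine two_mul_sum_two_cases (fs B) (· ∈ Subgroup.center E)
      (fun b => (Finset.univ.filter (fun x => b * x = x * b)).card) (Nat.card E) ?_ ?_
    · intro b _ hb
      have : Finset.univ.filter (fun x : E => b * x = x * b) = Finset.univ := by
        ext x
        simp only [Finset.mem_filter, Finset.mem_univ, true_and, iff_true]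
        exact (Subgroup.mem_center_iff.mp hb x).symm
      simp only [this, Finset.card_univ, Nat.card_eq_fintype_card]
    · intro b _ hb
      have hb' : b ∉ Subgroup.centralizer ((⊤ : Subgroup E) : Set E) := by
        rw [Subgroup.coe_top, Subgroup.centralizer_univ]; exact hb
      have := h.two_mul_card_commuting ⊤ b hb'
      rw [fs_top, Subgroup.card_top] at this
      rw [← this]
      have e : Finset.univ.filter (fun x : E => b * x = x * b) =
          Finset.univ.filter (fun y : E => y * b = b * y) := by
        ext x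
        simp only [Finset.mem_filter, Finset.mem_univ, true_and]
        exact eq_comm
      simp only [e]
  have hR : 2 * ∑ x ∈ (Finset.univ : Finset E), ((fs B).filter (fun b => b * x = x * b)).card
      = Nat.card B * ((Finset.univ : Finset E).card +
          (Finset.univ.filter (· ∈ Subgroup.centralizer (B : Set E))).card) := by
    refine two_mul_sum_two_cases Finset.univ (· ∈ Subgroup.centralizer (B : Set E))
      (fun x => ((fs B).filter (fun b => b * x = x * b)).card) (Nat.card B) ?_ ?_
    · intro x _ hx
      have : (fs B).filter (fun b : E => b * x = x * b) = fs B := by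
        ext b
        simp only [Finset.mem_filter, and_iff_left_iff_imp, mem_fs]
        intro hb
        exact Subgroup.mem_centralizer_iff.mp hx b hb
      simp only [this, card_fs]
    · intro x _ hx
      exact h.two_mul_card_commuting B x hx
  have hZc : ((fs B).filter (· ∈ Subgroup.center E)).card = 2 := by
    have : (fs B).filter (· ∈ Subgroup.center E) = fs (Subgroup.center E) := by
      ext x
      simp only [Finset.mem_filter, mem_fs]
      exact ⟨fun hx => hx.2, fun hx => ⟨hZB hx, hx⟩⟩
    rw [this, card_fs, h.card_center]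
  have hCc : (Finset.univ.filter (· ∈ Subgroup.centralizer (B : Set E))).card =
      Nat.card (Subgroup.centralizer (B : Set E)) := card_fs _
  rw [hZc, card_fs] at hL
  rw [hCc, Finset.card_univ, ← Nat.card_eq_fintype_card] at hR
  rw [hdc] at hL
  rw [hL] at hR
  nlinarith [hR]

omit [Fintype E] in
theorem Ex2.sq_mem_center (h : Ex2 E) (x : E) : x ^ 2 ∈ Subgroup.center E := by
  obtain ⟨c, hcZ, hc1, hcc, hall⟩ := h.exists_c
  rw [Subgroup.mem_center_iff]
  intro g
  rw [← commutatorElement_eq_one_iff_mul_comm, pow_two, h.comm_mul_right]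
  rcases hall _ (h.comm_mem g x) with h1 | h1
  · rw [h1, one_mul]
  · rw [h1, hcc]

omit [Fintype E] in
theorem sq_mul_of_sq_eq_one (x a : E) (ha : a * a = 1) : (x * a) ^ 2 = x ^ 2 * ⁅x⁻¹, a⁆ := by
  have ha' : a⁻¹ = a := inv_eq_of_mul_eq_one_left ha
  rw [commutatorElement_def, ha', pow_two, pow_two]
  group

/-- Counting the solutions of `x ^ 2 = 1` in an extraspecial 2-group of plus type: if `A` is an
elementary abelian subgroup with `|A|² = 2 |E|` then `2 · #{x | x² = 1} = |E| + |A|`. -/
theorem Ex2.two_mul_card_sq_eq_one (h : Ex2 E) (A : Subgroup E)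
    (hA : Cfsg.IsElementaryAbelian 2 A) (hcard : Nat.card A * Nat.card A = 2 * Nat.card E) :
    2 * (Finset.univ.filter (fun x : E => x ^ 2 = 1)).card = Nat.card E + Nat.card A := by
  obtain ⟨c, hcZ, hc1, hcc, hall⟩ := h.exists_c
  have hAcomm : ∀ a ∈ A, ∀ b ∈ A, a * b = b * a := by
    intro a ha b hb
    have := hA.1
    exact setLike_mul_comm (s := A) ha hb
  have hAsq : ∀ a ∈ A, a * a = 1 := fun a ha => by rw [← pow_two]; exact hA.2 a ha
  -- `A ⊔ Z` is abelian
  set B := A ⊔ Subgroup.center E with hB
  have hAB : A ≤ B := le_sup_left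
  have hZB : Subgroup.center E ≤ B := le_sup_right
  have hBA : B ≤ Subgroup.centralizer (A : Set E) := by
    apply sup_le
    · intro a ha
      rw [Subgroup.mem_centralizer_iff]
      intro b hb
      exact hAcomm b hb a ha
    · exact Subgroup.center_le_centralizer _
  have hBB : B ≤ Subgroup.centralizer (B : Set E) := by
    apply sup_le
    · rw [Subgroup.le_centralizer_iff]
      exact hBA
    · exact Subgroup.center_le_centralizer _
  have hprod := h.card_mul_card_centralizer B hZB
  -- cardinalities
  have h1 : Nat.card A ≤ Nat.card B := Subgroup.card_le_of_le hAB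
  have h2 : Nat.card B ≤ Nat.card (Subgroup.centralizer (B : Set E)) := Subgroup.card_le_of_le hBB
  have hApos : 0 < Nat.card A := Nat.card_pos
  have h3 : Nat.card B = Nat.card A := by nlinarith
  have h4 : Nat.card (Subgroup.centralizer (B : Set E)) = Nat.card A := by nlinarith
  have hBeqA : A = B := Subgroup.eq_of_le_of_card_ge hAB (le_of_eq h3)
  have hCeq : B = Subgroup.centralizer (B : Set E) :=
    Subgroup.eq_of_le_of_card_ge hBB (le_of_eq (by rw [h4, h3]))
  have hCA : ∀ x : E, x ∈ Subgroup.centralizer (A : Set E) → x ∈ A := by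
    intro x hx
    rw [hBeqA, hCeq, ← hBeqA]
    exact hx
  -- double counting
  have hdc := Finset.sum_card_bipartiteAbove_eq_sum_card_bipartiteBelow (s := fs A)
    (t := (Finset.univ : Finset E)) (fun a x => (x * a) ^ 2 = 1)
  simp only [Finset.bipartiteAbove, Finset.bipartiteBelow] at hdc
  have hL : ∀ a ∈ fs A, (Finset.univ.filter (fun x : E => (x * a) ^ 2 = 1)).card =
      (Finset.univ.filter (fun x : E => x ^ 2 = 1)).card := by
    intro a _
    apply Finset.card_bij (fun x _ => x * a)
    · intro x hx
      simp only [Finset.mem_filter, Finset.mem_univ, true_and] at hx ⊢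
      exact hx
    · intro x _ y _ hxy
      exact mul_right_cancel hxy
    · intro y hy
      simp only [Finset.mem_filter, Finset.mem_univ, true_and] at hy
      refine ⟨y * a⁻¹, ?_, by group⟩
      simp only [Finset.mem_filter, Finset.mem_univ, true_and]
      rw [inv_mul_cancel_right]
      exact hy
  rw [Finset.sum_congr rfl hL, Finset.sum_const, card_fs, smul_eq_mul] at hdc
  have hR : 2 * ∑ x ∈ (Finset.univ : Finset E), ((fs A).filter (fun a => (x * a) ^ 2 = 1)).card
      = Nat.card A * ((Finset.univ : Finset E).card + (Finset.univ.filter (· ∈ A)).card) := by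
    refine two_mul_sum_two_cases Finset.univ (· ∈ A)
      (fun x => ((fs A).filter (fun a => (x * a) ^ 2 = 1)).card) (Nat.card A) ?_ ?_
    · intro x _ hx
      have : (fs A).filter (fun a : E => (x * a) ^ 2 = 1) = fs A := by
        ext a
        simp only [Finset.mem_filter, and_iff_left_iff_imp, mem_fs]
        intro ha
        exact hA.2 _ (mul_mem hx ha)
      simp only [this, card_fs]
    · intro x _ hx
      have hx' : x ∉ Subgroup.centralizer (A : Set E) := fun hh => hx (hCA x hh)
      have hex : ∃ a₀ ∈ A, a₀ * x ≠ x * a₀ := by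
        by_contra hno
        push Not at hno
        apply hx'
        rw [Subgroup.mem_centralizer_iff]
        exact fun y hy => hno y hy
      obtain ⟨a₀, ha₀, hne⟩ := hex
      have hc₀ : ⁅x⁻¹, a₀⁆ = c := by
        rcases hall _ (h.comm_mem x⁻¹ a₀) with h1 | h1
        · exfalso
          apply hne
          have h5 := commutatorElement_eq_one_iff_mul_comm.mp h1
          calc a₀ * x = x * (x⁻¹ * a₀) * x := by group
            _ = x * (a₀ * x⁻¹) * x := by rw [h5]
            _ = x * a₀ := by group
        · exact h1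
      show 2 * ((fs A).filter (fun a => (x * a) ^ 2 = 1)).card = Nat.card A
      rw [← card_fs]
      apply two_mul_card_filter_of_flip (fs A) _ (Equiv.mulRight a₀)
      · intro a
        simp only [mem_fs, Equiv.coe_mulRight]
        exact (Subgroup.mul_mem_cancel_right A ha₀).symm
      · intro a ha
        rw [mem_fs] at ha
        simp only [Equiv.coe_mulRight]
        rw [sq_mul_of_sq_eq_one x (a * a₀) (hAsq _ (mul_mem ha ha₀)), h.comm_mul_right, hc₀,
          ← mul_assoc, ← sq_mul_of_sq_eq_one x a (hAsq a ha)]
        have hmemZ : (x * a) ^ 2 ∈ Subgroup.center E := h.sq_mem_center _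
        rcases hall _ hmemZ with h1 | h1
        · rw [h1, one_mul]
          simp [hc1]
        · rw [h1, hcc]
          simp [hc1]
  have hAc : (Finset.univ.filter (· ∈ A)).card = Nat.card A := card_fs A
  rw [hAc, Finset.card_univ, ← Nat.card_eq_fintype_card] at hR
  rw [← hdc] at hR
  have : Nat.card A * (2 * (Finset.univ.filter (fun x : E => x ^ 2 = 1)).card) =
      Nat.card A * (Nat.card E + Nat.card A) := by
    rw [← hR]; ring
  exact Nat.eq_of_mul_eq_mul_left hApos this

end count

end Cfsg.Agent.Helper48
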