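import Mathlib
import Cfsg.Agent.Lib.Helper63.Extraspecial
import Cfsg.Agent.Lib.Helper24.ClassTwo
import Cfsg.Agent.Lib.Helper31.HyperplaneGen
import Cfsg.Agent.Lib.Helper48.NormDecompGroup

/-!
# Faithful modules of extraspecial groups in coprime characteristic have order `≥ r ^ (n p ^ w)`

Elementary induction on the width `w`.
-/

set_option autoImplicit false

namespace Cfsg.Agent.Helper48.ExtraMod

open Subgroup Cfsg.Agent.Helper63
open scoped commutatorElement

variable {G : Type*} [Group G]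

/-- Splitting off a non-commuting pair: `C = C_P(x, y)` has the same centre, index `p ^ 2`,
and central commutators. -/
theorem split [Finite G] {p : ℕ} [hp : Fact p.Prime] (P : Subgroup G)
    (hZ : Nat.card (zOf P) = p) (hPc : ⁅P, P⁆ ≤ zOf P) (x y : G) (hxP : x ∈ P) (hyP : y ∈ P)
    (hxy : ⁅x, y⁆ ≠ 1) :
    Nat.card P = Nat.card ↥(P ⊓ centralizer ({x, y} : Set G)) * (p * p) ∧
      zOf (P ⊓ centralizer ({x, y} : Set G)) = zOf P ∧
      ⁅P ⊓ centralizer ({x, y} : Set G), P ⊓ centralizer ({x, y} : Set G)⁆ ≤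
        zOf (P ⊓ centralizer ({x, y} : Set G)) := by
  set z : G := ⁅x, y⁆ with hz
  have hzZ : z ∈ zOf P := comm_mem_zOf hPc hxP hyP
  set Z : Subgroup G := zOf P with hZdef
  have hZP : Z ≤ P := inf_le_left
  have hZgen : ∀ u : Z, ∃ k : ℤ, u = (⟨z, hzZ⟩ : Z) ^ k := by
    intro u
    have hne : (⟨z, hzZ⟩ : Z) ≠ 1 := by
      intro h; apply hxy; exact congrArg Subtype.val h
    have htop := zpowers_eq_top_of_prime_card hZ hne
    have : u ∈ Subgroup.zpowers (⟨z, hzZ⟩ : Z) := by rw [htop]; trivial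
    obtain ⟨k, hk⟩ := Subgroup.mem_zpowers_iff.mp this
    exact ⟨k, hk.symm⟩
  let φ : ↥P →* (↥Z × ↥Z) :=
    { toFun := fun g => (⟨⁅x, (g : G)⁆, comm_mem_zOf hPc hxP g.2⟩, ⟨⁅y, (g : G)⁆, comm_mem_zOf hPc hyP g.2⟩)
      map_one' := by
        apply Prod.ext <;> apply Subtype.ext <;> simp
      map_mul' := by
        intro g h
        apply Prod.ext <;> apply Subtype.ext
        · exact comm_mul_right hPc hxP g.2 h.2
        · exact comm_mul_right hPc hyP g.2 h.2 }
  have hφx : φ ⟨x, hxP⟩ = (1, (⟨z, hzZ⟩ : Z)⁻¹) := by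
    apply Prod.ext <;> apply Subtype.ext
    · simp [φ]
    · simp only [φ, MonoidHom.coe_mk, OneHom.coe_mk, Subgroup.coe_inv]
      rw [hz, commutatorElement_inv]
  have hφy : φ ⟨y, hyP⟩ = ((⟨z, hzZ⟩ : Z), 1) := by
    apply Prod.ext <;> apply Subtype.ext
    · simp [φ, hz]
    · simp [φ]
  set W : Subgroup G := Subgroup.closure {x, y} with hW
  have hsurjW : ∀ t : ↥Z × ↥Z, ∃ w : ↥P, (w : G) ∈ W ∧ φ w = t := by
    intro t
    obtain ⟨i, hi⟩ := hZgen t.1
    obtain ⟨j, hj⟩ := hZgen t.2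
    refine ⟨(⟨y, hyP⟩ : P) ^ i * (⟨x, hxP⟩ : P) ^ (-j), ?_, ?_⟩
    · have hxW : x ∈ W := Subgroup.subset_closure (by simp)
      have hyW : y ∈ W := Subgroup.subset_closure (by simp)
      simp only [Subgroup.coe_mul, Subgroup.coe_zpow]
      exact W.mul_mem (W.zpow_mem hyW i) (W.zpow_mem hxW (-j))
    · rw [map_mul, map_zpow, map_zpow, hφx, hφy]
      apply Prod.ext
      · simp [hi]
      · simp [hj]
  have hsurj : Function.Surjective φ := fun t => by
    obtain ⟨w, _, hw⟩ := hsurjW t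
    exact ⟨w, hw⟩
  set C : Subgroup G := P ⊓ Subgroup.centralizer {x, y} with hC
  have hCP : C ≤ P := inf_le_left
  have hker : ∀ g : ↥P, g ∈ φ.ker ↔ (g : G) ∈ C := by
    intro g
    rw [MonoidHom.mem_ker, hC, Subgroup.mem_inf, Subgroup.mem_centralizer_iff]
    constructor
    · intro h
      have h1 : ⁅x, (g : G)⁆ = 1 := congrArg (fun t : ↥Z × ↥Z => (t.1 : G)) h
      have h2 : ⁅y, (g : G)⁆ = 1 := congrArg (fun t : ↥Z × ↥Z => (t.2 : G)) h
      rw [commutatorElement_eq_one_iff_mul_comm] at h1 h2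
      refine ⟨g.2, ?_⟩
      intro t ht
      rcases ht with rfl | rfl
      · exact h1
      · exact h2
    · rintro ⟨_, h⟩
      have h1 : ⁅x, (g : G)⁆ = 1 := by
        rw [commutatorElement_eq_one_iff_mul_comm]; exact h x (by simp)
      have h2 : ⁅y, (g : G)⁆ = 1 := by
        rw [commutatorElement_eq_one_iff_mul_comm]; exact h y (by simp)
      apply Prod.ext <;> apply Subtype.ext
      · exact h1
      · exact h2
  have hkerC : φ.ker = C.subgroupOf P := by
    ext g
    rw [hker, Subgroup.mem_subgroupOf]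
  have hcardP : Nat.card P = Nat.card C * (p * p) := by
    have h1 : Nat.card φ.ker * φ.ker.index = Nat.card P := Subgroup.card_mul_index _
    have h2 : φ.ker.index = Nat.card φ.range := Subgroup.index_ker φ
    have h3 : φ.range = ⊤ := MonoidHom.range_eq_top.mpr hsurj
    have h4 : Nat.card φ.range = p * p := by
      rw [h3, Subgroup.card_top, Nat.card_prod, hZ]
    have h5 : Nat.card φ.ker = Nat.card C := by
      rw [hkerC]
      exact Nat.card_congr (Subgroup.subgroupOfEquivOfLe hCP).toEquiv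
    rw [← h1, h2, h4, h5]
  have hZC : zOf C = Z := by
    apply le_antisymm
    · intro c hc
      obtain ⟨hcC, hcc⟩ := mem_zOf.mp hc
      have hcP : c ∈ P := hCP hcC
      rw [hZdef, mem_zOf]
      refine ⟨hcP, ?_⟩
      intro g hg
      obtain ⟨w, hwW, hw⟩ := hsurjW (φ ⟨g, hg⟩)
      have h1 : (⟨g, hg⟩ : P) * w⁻¹ ∈ φ.ker := by
        rw [MonoidHom.mem_ker, map_mul, map_inv, hw, mul_inv_cancel]
      rw [hker] at h1
      have h2 : g * (w : G)⁻¹ ∈ C := h1
      have hcw : (w : G) * c = c * (w : G) := by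
        have hc' : c ∈ Subgroup.centralizer (W : Set G) := by
          rw [hW, Subgroup.centralizer_closure]
          exact hcC.2
        exact (Subgroup.mem_centralizer_iff.mp hc') w hwW
      have hcg := hcc _ h2
      have : g = (g * (w : G)⁻¹) * w := by group
      rw [this]
      calc g * (w : G)⁻¹ * w * c = g * (w : G)⁻¹ * (w * c) := by group
        _ = g * (w : G)⁻¹ * (c * w) := by rw [hcw]
        _ = (g * (w : G)⁻¹ * c) * w := by group
        _ = (c * (g * (w : G)⁻¹)) * w := by rw [hcg]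
        _ = c * (g * (w : G)⁻¹ * w) := by group
    · intro c hc
      obtain ⟨hcP, hcc⟩ := mem_zOf.mp hc
      rw [mem_zOf]
      refine ⟨?_, fun g hg => hcc g (hCP hg)⟩
      rw [hC, Subgroup.mem_inf, Subgroup.mem_centralizer_iff]
      refine ⟨hcP, ?_⟩
      intro t ht
      rcases ht with rfl | rfl
      · exact hcc _ hxP
      · exact hcc _ hyP
  refine ⟨hcardP, hZC, ?_⟩
  rw [hZC]
  exact le_trans (Subgroup.commutator_mono hCP hCP) hPc


lemma exists_noncomm {P : Subgroup G} {x : G} (hxP : x ∈ P) (hxZ : x ∉ zOf P) :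
    ∃ y ∈ P, ⁅x, y⁆ ≠ 1 := by
  by_contra hcon
  push Not at hcon
  apply hxZ
  rw [mem_zOf]
  refine ⟨hxP, fun g hg => ?_⟩
  have := hcon g hg
  rw [commutatorElement_eq_one_iff_mul_comm] at this
  exact this.symm

/-- central elements have order dividing `p` -/
lemma pow_eq_one_of_mem_zOf [Finite G] {p : ℕ} {P : Subgroup G} (hZ : Nat.card (zOf P) = p)
    {c : G} (hc : c ∈ zOf P) : c ^ p = 1 := by
  have : (⟨c, hc⟩ : zOf P) ^ p = 1 := by
    rw [← hZ]; exact pow_card_eq_one'
  exact congrArg Subtype.val this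

lemma commute_of_mem_zOf {P : Subgroup G} {c g : G} (hc : c ∈ zOf P) (hg : g ∈ P) :
    g * c = c * g := (mem_zOf.mp hc).2 g hg

/-- every element of the centre is a power of a given nontrivial one -/
lemma mem_zpowers_of_mem_zOf [Finite G] {p : ℕ} [hp : Fact p.Prime] {P : Subgroup G}
    (hZ : Nat.card (zOf P) = p) {c : G} (hc : c ∈ zOf P) (hc1 : c ≠ 1) {u : G} (hu : u ∈ zOf P) :
    u ∈ zpowers c := by
  have hne : (⟨c, hc⟩ : zOf P) ≠ 1 := by
    intro h; apply hc1; exact congrArg Subtype.val h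
  have htop := zpowers_eq_top_of_prime_card hZ hne
  have : (⟨u, hu⟩ : zOf P) ∈ Subgroup.zpowers (⟨c, hc⟩ : zOf P) := by rw [htop]; trivial
  obtain ⟨k, hk⟩ := Subgroup.mem_zpowers_iff.mp this
  refine Subgroup.mem_zpowers_iff.mpr ⟨k, ?_⟩
  have := congrArg Subtype.val hk
  simpa using this

/-- a `p`-group acting by conjugation on `A` with trivial fixed points: `|A| ≡ 1 mod p` -/
theorem card_modEq_one [Finite G] {p : ℕ} [hp : Fact p.Prime] (A : Subgroup G) (c : G)
    (hcp : c ^ p = 1) (hcA : c ∈ normalizer (A : Set G))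
    (hfix : A ⊓ centralizer ({c} : Set G) = ⊥) : Nat.card ↥A ≡ 1 [MOD p] := by
  classical
  set K : Subgroup G := zpowers c with hK
  have hKA : K ≤ normalizer (A : Set G) := by
    rw [hK, zpowers_le]; exact hcA
  have hKp : IsPGroup p K := by
    intro k
    refine ⟨1, ?_⟩
    obtain ⟨k, hk⟩ := k
    obtain ⟨m, rfl⟩ := Subgroup.mem_zpowers_iff.mp hk
    apply Subtype.ext
    simp only [pow_one, Subgroup.coe_pow, Subgroup.coe_one]
    rw [← zpow_natCast, ← zpow_mul, mul_comm, zpow_mul, zpow_natCast, hcp, one_zpow]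
  let _ : MulAction ↥K ↥A :=
    { smul := fun k a => ⟨(k : G) * a * (k : G)⁻¹, (Subgroup.mem_normalizer_iff.mp (hKA k.2) a).mp a.2⟩
      one_smul := by
        intro a
        apply Subtype.ext
        show ((1 : K) : G) * a * ((1 : K) : G)⁻¹ = a
        simp
      mul_smul := by
        intro k l a
        apply Subtype.ext
        show ((k * l : K) : G) * a * ((k * l : K) : G)⁻¹ = (k : G) * ((l : G) * a * (l : G)⁻¹) * (k : G)⁻¹
        simp only [Subgroup.coe_mul, mul_inv_rev]
        group }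
  have hsmul : ∀ (k : ↥K) (a : ↥A), ((k • a : ↥A) : G) = (k : G) * a * (k : G)⁻¹ := fun _ _ => rfl
  have h1 := hKp.card_modEq_card_fixedPoints ↥A
  have h2 : Nat.card (MulAction.fixedPoints ↥K ↥A) = 1 := by
    rw [Nat.card_eq_one_iff_unique]
    refine ⟨⟨?_⟩, ⟨⟨1, ?_⟩⟩⟩
    · intro a b
      have key : ∀ t : MulAction.fixedPoints ↥K ↥A, (t : ↥A) = 1 := by
        intro t
        have ht := t.2 ⟨c, Subgroup.mem_zpowers c⟩
        have h3 : c * ((t : ↥A) : G) * c⁻¹ = ((t : ↥A) : G) := by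
          have := congrArg (fun u : ↥A => (u : G)) ht
          simpa [hsmul] using this
        have h4 : ((t : ↥A) : G) ∈ A ⊓ centralizer ({c} : Set G) := by
          refine ⟨(t : ↥A).2, ?_⟩
          show ((t : ↥A) : G) ∈ centralizer ({c} : Set G)
          rw [Subgroup.mem_centralizer_singleton_iff]
          calc ((t : ↥A) : G) * c = (c * ((t : ↥A) : G) * c⁻¹) * c := by rw [h3]
            _ = c * ((t : ↥A) : G) := by group
        rw [hfix, Subgroup.mem_bot] at h4
        exact Subtype.ext h4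
      apply Subtype.ext
      rw [key a, key b]
    · intro k
      apply Subtype.ext
      rw [hsmul]
      simp
  rw [h2] at h1
  exact h1


/-- For odd `p`, a class-two group with centre of order `p` and order at least `p ^ 3` has a
non-central element of order `p`. -/
theorem exists_order_p_odd [Finite G] {p : ℕ} [hp : Fact p.Prime] (hp2 : p ≠ 2) (P : Subgroup G)
    (hZ : Nat.card (zOf P) = p) (hPc : ⁅P, P⁆ ≤ zOf P) (hcard : p ^ 3 ≤ Nat.card P) :
    ∃ x ∈ P, x ∉ zOf P ∧ x ^ p = 1 := by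
  by_contra hcon
  push Not at hcon
  have hcon' : ∀ x ∈ P, x ^ p = 1 → x ∈ zOf P := by
    intro x hx hxp
    by_contra h
    exact hcon x hx h hxp
  have hp3 : 2 < p := lt_of_le_of_ne hp.out.two_le (Ne.symm hp2)
  have hch : p ∣ p.choose 2 := hp.out.dvd_choose_self (by norm_num) hp3
  set Z : Subgroup G := zOf P with hZdef
  have hZP : Z ≤ P := inf_le_left
  let π : ↥P →* ↥Z :=
    { toFun := fun g => ⟨(g : G) ^ p, pow_p_mem_zOf P hZ hPc g.2⟩
      map_one' := by apply Subtype.ext; simp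
      map_mul' := by
        intro g h
        apply Subtype.ext
        show ((g : G) * (h : G)) ^ p = (g : G) ^ p * (h : G) ^ p
        have hcc : (h : G) * g * (h : G)⁻¹ * (g : G)⁻¹ ∈ zOf P := by
          have := comm_mem_zOf hPc h.2 g.2
          rwa [commutatorElement_def] at this
        have h1 : Commute ((h : G) * g * (h : G)⁻¹ * (g : G)⁻¹) (g : G) :=
          (commute_of_mem_zOf hcc g.2).symm
        have h2 : Commute ((h : G) * g * (h : G)⁻¹ * (g : G)⁻¹) (h : G) :=
          (commute_of_mem_zOf hcc h.2).symm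
        rw [Cfsg.Agent.Helper24.mul_pow_of_commutator_commute (g : G) (h : G) h1 h2 p]
        obtain ⟨m, hm⟩ := hch
        rw [hm, pow_mul, pow_eq_one_of_mem_zOf hZ hcc, one_pow, mul_one] }
  have hker : π.ker ≤ Z.subgroupOf P := by
    intro g hg
    rw [Subgroup.mem_subgroupOf]
    apply hcon' _ g.2
    have := congrArg Subtype.val (MonoidHom.mem_ker.mp hg)
    exact this
  have h1 : Nat.card π.ker * π.ker.index = Nat.card P := Subgroup.card_mul_index _
  have h2 : π.ker.index = Nat.card π.range := Subgroup.index_ker π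
  have h3 : Nat.card π.range ≤ p := by
    rw [← hZ]; exact Subgroup.card_le_card_group _
  have h4 : Nat.card π.ker ≤ p := by
    have := Subgroup.card_le_of_le hker
    have e : Nat.card (Z.subgroupOf P) = Nat.card Z :=
      Nat.card_congr (Subgroup.subgroupOfEquivOfLe hZP).toEquiv
    rw [e, hZ] at this
    exact this
  have h5 : Nat.card P ≤ p * p := by
    rw [← h1, h2]
    exact Nat.mul_le_mul h4 h3
  have h6 : p * p < p ^ 3 := by
    have := hp.out.one_lt
    have h7 : p ^ 3 = p * p * p := by ring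
    rw [h7]
    nlinarith
  omega

/-- in a group of order two every element is `1` or the given non-identity element -/
lemma eq_one_or_eq_of_card_two [Finite G] {P : Subgroup G} (hZ : Nat.card (zOf P) = 2) {z : G}
    (hz : z ∈ zOf P) (hz1 : z ≠ 1) {u : G} (hu : u ∈ zOf P) : u = 1 ∨ u = z := by
  have : Fact (Nat.Prime 2) := ⟨Nat.prime_two⟩
  have h := mem_zpowers_of_mem_zOf hZ hz hz1 hu
  obtain ⟨k, rfl⟩ := Subgroup.mem_zpowers_iff.mp h
  have hz2 : z ^ 2 = 1 := pow_eq_one_of_mem_zOf hZ hz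
  rcases Int.emod_two_eq_zero_or_one k with h0 | h1
  · left
    obtain ⟨m, hm⟩ : ∃ m, k = 2 * m := ⟨k / 2, by omega⟩
    rw [hm, zpow_mul, zpow_ofNat, hz2, one_zpow]
  · right
    obtain ⟨m, hm⟩ : ∃ m, k = 2 * m + 1 := ⟨k / 2, by omega⟩
    rw [hm, zpow_add, zpow_mul, zpow_ofNat, hz2, one_zpow, one_mul, zpow_one]


/-- For `p = 2`, a class-two group with centre of order `2` and order at least `32` has a
non-central involution. -/
theorem exists_invol [Finite G] (P : Subgroup G)
    (hZ : Nat.card (zOf P) = 2) (hPc : ⁅P, P⁆ ≤ zOf P) (hcard : 32 ≤ Nat.card P) :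
    ∃ x ∈ P, x ∉ zOf P ∧ x ^ 2 = 1 := by
  classical
  have : Fact (Nat.Prime 2) := ⟨Nat.prime_two⟩
  set Z : Subgroup G := zOf P with hZdef
  have hZP : Z ≤ P := inf_le_left
  -- a non-central element
  have hex : ∃ x0 ∈ P, x0 ∉ Z := by
    by_contra hcon
    push Not at hcon
    have hPZ : P ≤ Z := hcon
    have := Subgroup.card_le_of_le hPZ
    rw [hZ] at this
    omega
  obtain ⟨x0, hx0P, hx0Z⟩ := hex
  by_cases hx02 : x0 ^ 2 = 1
  · exact ⟨x0, hx0P, hx0Z, hx02⟩
  set z : G := x0 ^ 2 with hz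
  have hzZ : z ∈ Z := pow_p_mem_zOf P hZ hPc hx0P
  have hz2 : z ^ 2 = 1 := pow_eq_one_of_mem_zOf hZ hzZ
  have hZel : ∀ u ∈ Z, u = 1 ∨ u = z := fun u hu => eq_one_or_eq_of_card_two hZ hzZ hx02 hu
  -- the centralizer of x0 in P has index at most 2
  let ψ : ↥P →* ↥Z :=
    { toFun := fun g => ⟨⁅x0, (g : G)⁆, comm_mem_zOf hPc hx0P g.2⟩
      map_one' := by apply Subtype.ext; simp
      map_mul' := by
        intro g h
        apply Subtype.ext
        exact comm_mul_right hPc hx0P g.2 h.2 }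
  have hkermem : ∀ g : ↥P, g ∈ ψ.ker ↔ x0 * (g : G) = (g : G) * x0 := by
    intro g
    rw [MonoidHom.mem_ker]
    constructor
    · intro h
      have h1 : ⁅x0, (g : G)⁆ = 1 := congrArg Subtype.val h
      rwa [commutatorElement_eq_one_iff_mul_comm] at h1
    · intro h
      apply Subtype.ext
      show ⁅x0, (g : G)⁆ = 1
      rwa [commutatorElement_eq_one_iff_mul_comm]
  have h1 : Nat.card ψ.ker * ψ.ker.index = Nat.card P := Subgroup.card_mul_index _
  have h2 : ψ.ker.index = Nat.card ψ.range := Subgroup.index_ker ψ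
  have h3 : Nat.card ψ.range ≤ 2 := by
    rw [← hZ]; exact Subgroup.card_le_card_group _
  have h4 : 16 ≤ Nat.card ψ.ker := by
    have : Nat.card P ≤ Nat.card ψ.ker * 2 := by
      rw [← h1, h2]; exact Nat.mul_le_mul_left _ h3
    omega
  -- an element of the kernel outside {1, x0, z, x0 z}
  have hexu : ∃ u : ↥P, u ∈ ψ.ker ∧ (u : G) ≠ 1 ∧ (u : G) ≠ x0 ∧ (u : G) ≠ z ∧ (u : G) ≠ x0 * z := by
    by_contra hcon
    push Not at hcon
    have hsub : ((ψ.ker.map P.subtype : Subgroup G) : Set G) ⊆ (({1, x0, z, x0 * z} : Finset G) : Set G) := by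
      intro t ht
      obtain ⟨u, hu, rfl⟩ := ht
      simp only [Finset.coe_insert, Finset.coe_singleton, Set.mem_insert_iff, Set.mem_singleton_iff]
      by_cases e1 : (u : G) = 1
      · left; exact e1
      by_cases e2 : (u : G) = x0
      · right; left; exact e2
      by_cases e3 : (u : G) = z
      · right; right; left; exact e3
      right; right; right
      exact hcon u hu e1 e2 e3
    have hc1 : Nat.card (ψ.ker.map P.subtype : Subgroup G) = Nat.card ψ.ker :=
      Subgroup.card_map_of_injective P.subtype_injective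
    have hc2 : Nat.card (ψ.ker.map P.subtype : Subgroup G) ≤ 4 := by
      change Nat.card ((ψ.ker.map P.subtype : Subgroup G) : Set G) ≤ 4
      rw [Nat.card_coe_set_eq]
      calc ((ψ.ker.map P.subtype : Subgroup G) : Set G).ncard
          ≤ ((({1, x0, z, x0 * z} : Finset G) : Set G)).ncard :=
            Set.ncard_le_ncard hsub (Finset.finite_toSet _)
        _ = ({1, x0, z, x0 * z} : Finset G).card := Set.ncard_coe_finset _
        _ ≤ 4 := Finset.card_le_four
    omega
  obtain ⟨u, huk, hu1, hux0, huz, hux0z⟩ := hexu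
  have hucomm : x0 * (u : G) = (u : G) * x0 := (hkermem u).mp huk
  have hu2Z : (u : G) ^ 2 ∈ Z := pow_p_mem_zOf P hZ hPc u.2
  rcases hZel _ hu2Z with hu2 | hu2
  · refine ⟨u, u.2, ?_, hu2⟩
    intro huZ
    rcases hZel _ huZ with h | h
    · exact hu1 h
    · exact huz h
  · refine ⟨x0 * u, P.mul_mem hx0P u.2, ?_, ?_⟩
    · intro hZ'
      rcases hZel _ hZ' with h | h
      · -- x0 * u = 1
        apply hux0z
        have h5 : x0 * (x0 * z) = 1 := by
          rw [← mul_assoc, ← pow_two, ← hz, ← pow_two, hz2]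
        have : (u : G) = x0⁻¹ := eq_inv_of_mul_eq_one_right h
        rw [this]
        exact (eq_inv_of_mul_eq_one_right h5).symm
      · -- x0 * u = z = x0 * x0
        apply hux0
        rw [hz, pow_two] at h
        exact mul_left_cancel h
    · have hc : Commute x0 (u : G) := hucomm
      rw [hc.mul_pow, ← hz, hu2, ← pow_two, hz2]

/-- A faithful-on-centre action on a group of prime order is impossible for a non-abelian
class-two group with centre of prime order. -/
theorem false_of_card_prime [Finite G] {r : ℕ} (hr : r.Prime)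
    (P A : Subgroup G) (hPc : ⁅P, P⁆ ≤ zOf P)
    (g h : G) (hg : g ∈ P) (hh : h ∈ P) (hgh : g * h ≠ h * g)
    (hPA : P ≤ normalizer (A : Set G))
    (hfix : ∀ c ∈ zOf P, c ≠ 1 → A ⊓ centralizer ({c} : Set G) = ⊥)
    (hcard : Nat.card ↥A = r) : False := by
  have : Fact r.Prime := ⟨hr⟩
  -- a generator of A
  have hex : ∃ a : ↥A, a ≠ 1 := by
    by_contra hcon
    push Not at hcon
    have : Subsingleton ↥A := ⟨fun x y => by rw [hcon x, hcon y]⟩
    have h1 : Nat.card ↥A = 1 := Nat.card_unique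
    rw [hcard] at h1
    exact hr.one_lt.ne' h1
  obtain ⟨a, ha1⟩ := hex
  have htop := zpowers_eq_top_of_prime_card hcard ha1
  have hgen : ∀ b ∈ A, ∃ k : ℤ, b = (a : G) ^ k := by
    intro b hb
    have : (⟨b, hb⟩ : ↥A) ∈ Subgroup.zpowers a := by rw [htop]; trivial
    obtain ⟨k, hk⟩ := Subgroup.mem_zpowers_iff.mp this
    refine ⟨k, ?_⟩
    have := congrArg Subtype.val hk
    simpa using this.symm
  have hconj : ∀ t ∈ P, ∃ k : ℤ, t * (a : G) * t⁻¹ = (a : G) ^ k := by
    intro t ht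
    exact hgen _ ((Subgroup.mem_normalizer_iff.mp (hPA ht) a).mp a.2)
  obtain ⟨i, hi⟩ := hconj g hg
  obtain ⟨j, hj⟩ := hconj h hh
  have hconjpow : ∀ (t : G) (k : ℤ), t * (a : G) ^ k * t⁻¹ = (t * (a : G) * t⁻¹) ^ k := by
    intro t k
    exact (conj_zpow (a := t) (b := (a : G)) (i := k)).symm
  have h1 : (g * h) * (a : G) * (g * h)⁻¹ = (a : G) ^ (i * j) := by
    calc (g * h) * (a : G) * (g * h)⁻¹ = g * (h * (a : G) * h⁻¹) * g⁻¹ := by group
      _ = g * (a : G) ^ j * g⁻¹ := by rw [hj]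
      _ = (g * (a : G) * g⁻¹) ^ j := hconjpow g j
      _ = ((a : G) ^ i) ^ j := by rw [hi]
      _ = (a : G) ^ (i * j) := (zpow_mul _ i j).symm
  have h2 : (h * g) * (a : G) * (h * g)⁻¹ = (a : G) ^ (i * j) := by
    calc (h * g) * (a : G) * (h * g)⁻¹ = h * (g * (a : G) * g⁻¹) * h⁻¹ := by group
      _ = h * (a : G) ^ i * h⁻¹ := by rw [hi]
      _ = (h * (a : G) * h⁻¹) ^ i := hconjpow h i
      _ = ((a : G) ^ j) ^ i := by rw [hj]
      _ = (a : G) ^ (i * j) := by rw [← zpow_mul, mul_comm]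
  set d : G := ⁅g⁻¹, h⁻¹⁆ with hd
  have hdZ : d ∈ zOf P := comm_mem_zOf hPc (P.inv_mem hg) (P.inv_mem hh)
  have hd1 : d ≠ 1 := by
    intro h0
    rw [hd, commutatorElement_eq_one_iff_mul_comm] at h0
    apply hgh
    have : (h * g)⁻¹ = (g * h)⁻¹ := by rw [mul_inv_rev, mul_inv_rev]; exact h0
    exact (inv_injective this).symm
  have hda : (a : G) ∈ A ⊓ centralizer ({d} : Set G) := by
    refine ⟨a.2, ?_⟩
    show (a : G) ∈ centralizer ({d} : Set G)
    rw [Subgroup.mem_centralizer_singleton_iff]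
    have h3 : (g * h) * (a : G) * (g * h)⁻¹ = (h * g) * (a : G) * (h * g)⁻¹ := by rw [h1, h2]
    have hd' : d = (h * g)⁻¹ * (g * h) := by
      rw [hd, commutatorElement_def]; group
    rw [hd']
    calc (a : G) * ((h * g)⁻¹ * (g * h))
        = (h * g)⁻¹ * ((h * g) * (a : G) * (h * g)⁻¹) * (g * h) := by group
      _ = (h * g)⁻¹ * ((g * h) * (a : G) * (g * h)⁻¹) * (g * h) := by rw [h3]
      _ = (h * g)⁻¹ * (g * h) * (a : G) := by group
  rw [hfix d hdZ hd1, Subgroup.mem_bot] at hda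
  exact ha1 (Subtype.ext hda)


/-- **Main induction.** A class-two `p`-group `P` of order `p ^ (2 w + 1)` with centre of order `p`
acting on a nontrivial abelian group `A` of exponent `r ≠ p` such that the nontrivial central elements
act fixed-point-freely forces `|A| ≥ r ^ (n p ^ w)`. -/
theorem main [Finite G] {p r : ℕ} [hp : Fact p.Prime] [hr : Fact r.Prime] (hpr : p ≠ r) (n : ℕ)
    (hn : 1 ≤ n) (hmin : ∀ k : ℕ, 1 ≤ k → p ∣ r ^ k - 1 → n ≤ k) :
    ∀ (w : ℕ) (P A : Subgroup G), Nat.card P = p ^ (2 * w + 1) → Nat.card (zOf P) = p →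
      ⁅P, P⁆ ≤ zOf P → (∀ a ∈ A, ∀ b ∈ A, a * b = b * a) → (∀ a ∈ A, a ^ r = 1) →
      P ≤ normalizer (A : Set G) → A ≠ ⊥ →
      (∀ c ∈ zOf P, c ≠ 1 → A ⊓ centralizer ({c} : Set G) = ⊥) →
      r ^ (n * p ^ w) ≤ Nat.card ↥A := by
  intro w
  induction w with
  | zero =>
    intro P A hcardP hZ hPc hAc hAr hPA hA1 hfix
    -- a nontrivial central element
    have hZne : zOf P ≠ ⊥ := by
      intro h0
      rw [h0, Subgroup.card_bot] at hZ
      exact hp.out.one_lt.ne hZ
    obtain ⟨c, hcZ⟩ := (Subgroup.ne_bot_iff_exists_ne_one.mp hZne)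
    have hcZ' : (c : G) ∈ zOf P := c.2
    have hc1' : (c : G) ≠ 1 := fun h => hcZ (Subtype.ext h)
    have hcP : (c : G) ∈ P := (mem_zOf.mp hcZ').1
    have hmod := card_modEq_one A (c : G) (pow_eq_one_of_mem_zOf hZ hcZ') (hPA hcP)
      (hfix _ hcZ' hc1')
    obtain ⟨d, hd⟩ := Cfsg.Agent.Helper31.card_eq_pow_of_exponent (p := r) A hAr
    have hd0 : d ≠ 0 := by
      intro h0
      rw [h0, pow_zero, Subgroup.card_eq_one] at hd
      exact hA1 hd
    have hge : 1 ≤ r ^ d := Nat.one_le_pow _ _ hr.out.pos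
    have hdvd : p ∣ r ^ d - 1 := by
      rw [hd] at hmod
      exact (Nat.modEq_iff_dvd' hge).mp hmod.symm
    have hnd : n ≤ d := hmin d (Nat.one_le_iff_ne_zero.mpr hd0) hdvd
    rw [pow_zero, mul_one, hd]
    exact Nat.pow_le_pow_right hr.out.pos hnd
  | succ w ih =>
    intro P A hcardP hZ hPc hAc hAr hPA hA1 hfix
    have hcop : Nat.Coprime p r := (Nat.coprime_primes hp.out hr.out).mpr hpr
    obtain ⟨d, hd⟩ := Cfsg.Agent.Helper31.card_eq_pow_of_exponent (p := r) A hAr
    have hd0 : d ≠ 0 := by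
      intro h0
      rw [h0, pow_zero, Subgroup.card_eq_one] at hd
      exact hA1 hd
    have hZP : zOf P ≤ P := inf_le_left
    -- a non-central element
    have hexnc : ∃ x0 ∈ P, x0 ∉ zOf P := by
      by_contra hcon
      push Not at hcon
      have hPZ : P ≤ zOf P := hcon
      have := Subgroup.card_le_of_le hPZ
      rw [hZ, hcardP] at this
      have h2 : p ^ 1 < p ^ (2 * (w + 1) + 1) := Nat.pow_lt_pow_right hp.out.one_lt (by omega)
      rw [pow_one] at h2
      omega
    by_cases hspecial : p = 2 ∧ w = 0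
    · -- the case `|P| = 8`
      obtain ⟨hp2, hw0⟩ := hspecial
      subst hw0
      obtain ⟨x0, hx0P, hx0Z⟩ := hexnc
      obtain ⟨y0, hy0P, hxy0⟩ := exists_noncomm hx0P hx0Z
      have hnc : x0 * y0 ≠ y0 * x0 := by
        intro h
        apply hxy0
        rw [commutatorElement_eq_one_iff_mul_comm]
        exact h
      have hd1 : d ≠ 1 := by
        intro h1
        rw [h1, pow_one] at hd
        exact false_of_card_prime hr.out P A hPc x0 y0 hx0P hy0P hnc hPA hfix hd
      have hn1 : n = 1 := by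
        have h2 : p ∣ r ^ 1 - 1 := by
          rw [hp2, pow_one]
          have hr2 : r ≠ 2 := fun h => hpr (hp2.trans h.symm)
          rcases hr.out.eq_two_or_odd with h | h
          · exact absurd h hr2
          · omega
        have := hmin 1 le_rfl h2
        omega
      rw [hn1, hp2, hd]
      apply Nat.pow_le_pow_right hr.out.pos
      simp only [zero_add, pow_one, one_mul]
      omega
    · -- the generic case: a non-central element of order `p`
      have hexx : ∃ x ∈ P, x ∉ zOf P ∧ x ^ p = 1 := by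
        by_cases hp2 : p = 2
        · have hw : w ≠ 0 := fun h => hspecial ⟨hp2, h⟩
          have h32 : 32 ≤ Nat.card P := by
            rw [hcardP, hp2]
            have : (2 : ℕ) ^ 5 ≤ 2 ^ (2 * (w + 1) + 1) := Nat.pow_le_pow_right (by norm_num) (by omega)
            simpa using this
          have hZ2 : Nat.card (zOf P) = 2 := by rw [hZ, hp2]
          obtain ⟨x, hxP, hxZ, hx2⟩ := exists_invol P hZ2 hPc h32
          exact ⟨x, hxP, hxZ, by rw [hp2]; exact hx2⟩
        · apply exists_order_p_odd hp2 P hZ hPc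
          rw [hcardP]
          exact Nat.pow_le_pow_right hp.out.pos (by omega)
      obtain ⟨x, hxP, hxZ, hxp⟩ := hexx
      obtain ⟨y, hyP, hxy⟩ := exists_noncomm hxP hxZ
      set c : G := ⁅x, y⁆ with hc
      have hcZ : c ∈ zOf P := comm_mem_zOf hPc hxP hyP
      have hcP : c ∈ P := hZP hcZ
      have hcp : c ^ p = 1 := pow_eq_one_of_mem_zOf hZ hcZ
      have hfixc : A ⊓ centralizer ({c} : Set G) = ⊥ := hfix c hcZ hxy
      have hxc : x * c = c * x := commute_of_mem_zOf hcZ hxP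
      have hyc : y * c = c * y := commute_of_mem_zOf hcZ hyP
      have hg2 : y⁻¹ * c = c * y⁻¹ := commute_of_mem_zOf hcZ (P.inv_mem hyP)
      have hg1 : y⁻¹ * x * y⁻¹⁻¹ = x * c := by
        have e1 : c * y * x = x * y := by
          rw [hc, commutatorElement_def]; group
        calc y⁻¹ * x * y⁻¹⁻¹ = y⁻¹ * (x * y) := by group
          _ = y⁻¹ * (c * y * x) := by rw [e1]
          _ = y⁻¹ * (y * c) * x := by rw [hyc]; group
          _ = c * x := by group
          _ = x * c := hxc.symm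
      have : IsMulCommutative ↥A := IsMulCommutative.of_comm (fun a b => Subtype.ext (hAc a a.2 b b.2))
      have hcardA : Nat.card ↥A = Nat.card ↥(A ⊓ centralizer ({x} : Set G)) ^ p :=
        Cfsg.Agent.Helper48.NormDecomp.card_eq_pow_centralizer A hp.out hr.out.one_lt hcop hAr x c y⁻¹
          (hPA hxP) (hPA hcP) (hPA (P.inv_mem hyP)) hxc hxp hcp hfixc hg1 hg2
      -- the smaller group
      obtain ⟨hs1, hs2, hs3⟩ := split P hZ hPc x y hxP hyP hxy
      set P1 : Subgroup G := P ⊓ centralizer ({x, y} : Set G) with hP1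
      set W0 : Subgroup G := A ⊓ centralizer ({x} : Set G) with hW0
      have hP1P : P1 ≤ P := inf_le_left
      have hcardP1 : Nat.card P1 = p ^ (2 * w + 1) := by
        have h1 : p ^ (2 * (w + 1) + 1) = p ^ (2 * w + 1) * (p * p) := by ring
        rw [hcardP, h1] at hs1
        have hpp : 0 < p * p := Nat.mul_pos hp.out.pos hp.out.pos
        exact (Nat.eq_of_mul_eq_mul_right hpp hs1).symm
      have hW0A : W0 ≤ A := inf_le_left
      have hP1W0 : P1 ≤ normalizer (W0 : Set G) := by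
        intro t ht
        have htP : t ∈ P := hP1P ht
        have htx : t ∈ centralizer ({x} : Set G) := by
          have h1 : t ∈ centralizer ({x, y} : Set G) := ht.2
          exact Subgroup.centralizer_le (by simp) h1
        apply Subgroup.inf_normalizer_le_normalizer_inf
        exact ⟨hPA htP, Subgroup.le_normalizer htx⟩
      have hW01 : W0 ≠ ⊥ := by
        intro h0
        rw [h0, Subgroup.card_bot, one_pow, Subgroup.card_eq_one] at hcardA
        exact hA1 hcardA
      have hfix0 : ∀ c' ∈ zOf P1, c' ≠ 1 → W0 ⊓ centralizer ({c'} : Set G) = ⊥ := by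
        intro c' hc' hc'1
        rw [hs2] at hc'
        rw [eq_bot_iff, ← hfix c' hc' hc'1]
        exact inf_le_inf_right _ hW0A
      have hih := ih P1 W0 hcardP1 (by rw [hs2]; exact hZ) hs3
        (fun a ha b hb => hAc a (hW0A ha) b (hW0A hb)) (fun a ha => hAr a (hW0A ha)) hP1W0 hW01 hfix0
      rw [hcardA]
      calc r ^ (n * p ^ (w + 1)) = (r ^ (n * p ^ w)) ^ p := by
            rw [← pow_mul, pow_succ, mul_assoc]
        _ ≤ Nat.card ↥W0 ^ p := Nat.pow_le_pow_left hih p


open Cfsg.Agent.Helper48.NormDecomp in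
open scoped IsMulCommutative in
/-- **Final form**: faithful action of `E` (class two, centre of order `p`, order `p ^ (2 w + 1)`)
on an elementary abelian `r`-group `A`. -/
theorem final [Finite G] {p r : ℕ} [hp : Fact p.Prime] [hr : Fact r.Prime] (hpr : p ≠ r)
    (E A : Subgroup G) (w : ℕ) (hEcard : Nat.card E = p ^ (2 * w + 1))
    (hZ : Nat.card (zOf E) = p) (hEc : ⁅E, E⁆ ≤ zOf E)
    (hAc : ∀ a ∈ A, ∀ b ∈ A, a * b = b * a) (hAr : ∀ a ∈ A, a ^ r = 1)
    (hnorm : E ≤ normalizer (A : Set G)) (hfaith : E ⊓ centralizer (A : Set G) = ⊥)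
    (n : ℕ) (hn : 1 ≤ n) (hmin : ∀ k : ℕ, 1 ≤ k → p ∣ r ^ k - 1 → n ≤ k) :
    r ^ (n * p ^ w) ≤ Nat.card ↥A := by
  have hcop : Nat.Coprime p r := (Nat.coprime_primes hp.out hr.out).mpr hpr
  have hZne : zOf E ≠ ⊥ := by
    intro h0
    rw [h0, Subgroup.card_bot] at hZ
    exact hp.out.one_lt.ne hZ
  obtain ⟨c0, hc0⟩ := (Subgroup.ne_bot_iff_exists_ne_one.mp hZne)
  set c : G := (c0 : G) with hcdef
  have hcZ : c ∈ zOf E := c0.2
  have hc1 : c ≠ 1 := fun h => hc0 (Subtype.ext h)
  have hcE : c ∈ E := (mem_zOf.mp hcZ).1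
  have hcp : c ^ p = 1 := pow_eq_one_of_mem_zOf hZ hcZ
  have : IsMulCommutative ↥A := IsMulCommutative.of_comm (fun a b => Subtype.ext (hAc a a.2 b b.2))
  set c' : ↥(normalizer (A : Set G)) := ⟨c, hnorm hcE⟩ with hc'
  set Ce : Module.End ℤ (Additive ↥A) := conjEndHom A c' with hCe
  set N : Module.End ℤ (Additive ↥A) := gs Ce p with hN
  have hCep : Ce ^ p = 1 := by
    rw [hCe, ← map_pow]
    have : c' ^ p = 1 := Subtype.ext (by simpa using hcp)
    rw [this, map_one]
  have hV := additive_exp A hAr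
  -- the kernel of the norm, as a subgroup of `G`
  let W : Subgroup G :=
    { carrier := {a | ∃ h : a ∈ A, N (Additive.ofMul (⟨a, h⟩ : ↥A)) = 0}
      one_mem' := ⟨A.one_mem, by
        have : Additive.ofMul (⟨1, A.one_mem⟩ : ↥A) = 0 := rfl
        rw [this, map_zero]⟩
      mul_mem' := by
        rintro a b ⟨ha, h1⟩ ⟨hb, h2⟩
        refine ⟨A.mul_mem ha hb, ?_⟩
        have : Additive.ofMul (⟨a * b, A.mul_mem ha hb⟩ : ↥A) =
            Additive.ofMul (⟨a, ha⟩ : ↥A) + Additive.ofMul (⟨b, hb⟩ : ↥A) := rfl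
        rw [this, map_add, h1, h2, add_zero]
      inv_mem' := by
        rintro a ⟨ha, h1⟩
        refine ⟨A.inv_mem ha, ?_⟩
        have : Additive.ofMul (⟨a⁻¹, A.inv_mem ha⟩ : ↥A) = - Additive.ofMul (⟨a, ha⟩ : ↥A) := rfl
        rw [this, map_neg, h1, neg_zero] }
  have hWmem : ∀ a : G, a ∈ W ↔ ∃ h : a ∈ A, N (Additive.ofMul (⟨a, h⟩ : ↥A)) = 0 := fun _ => Iff.rfl
  have hWA : W ≤ A := fun a ha => ((hWmem a).mp ha).1
  -- (W2)
  have hWc : W ⊓ centralizer ({c} : Set G) = ⊥ := by
    rw [eq_bot_iff]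
    intro a ha
    obtain ⟨haA, haN⟩ := (hWmem a).mp ha.1
    have hac : a ∈ centralizer ({c} : Set G) := ha.2
    have hfixa : Ce (Additive.ofMul (⟨a, haA⟩ : ↥A)) = Additive.ofMul (⟨a, haA⟩ : ↥A) :=
      (conjEndHom_fix_iff A c' ⟨a, haA⟩).mpr hac
    rw [hN, gs_of_fix hfixa p] at haN
    have h0 := eq_zero_of_nsmul hcop hV haN
    have h1 : (⟨a, haA⟩ : ↥A) = 1 := Additive.ofMul.injective h0
    rw [Subgroup.mem_bot]
    exact congrArg Subtype.val h1
  -- (W3)
  have hW1 : W ≠ ⊥ := by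
    intro hW0
    have hcent : c ∈ centralizer (A : Set G) := by
      rw [Subgroup.mem_centralizer_iff]
      intro a haA
      have hb : c * a * c⁻¹ * a⁻¹ ∈ W := by
        rw [hWmem]
        have hbA : c * a * c⁻¹ * a⁻¹ ∈ A :=
          A.mul_mem ((Subgroup.mem_normalizer_iff.mp (hnorm hcE) a).mp haA) (A.inv_mem haA)
        refine ⟨hbA, ?_⟩
        have e1 : Additive.ofMul (⟨c * a * c⁻¹ * a⁻¹, hbA⟩ : ↥A) =
            (Ce - 1) (Additive.ofMul (⟨a, haA⟩ : ↥A)) := by
          rw [LinearMap.sub_apply, Module.End.one_apply, hCe, conjEndHom_apply, ← ofMul_div]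
          congr 1
          apply Subtype.ext
          rw [div_eq_mul_inv]
          rfl
        rw [e1, ← Module.End.mul_apply, hN]
        have e2 : gs Ce p * (Ce - 1) = Ce ^ p - 1 := geom_sum_mul Ce p
        rw [e2, hCep, sub_self, LinearMap.zero_apply]
      rw [hW0, Subgroup.mem_bot] at hb
      calc a * c = (c * a * c⁻¹ * a⁻¹)⁻¹ * (c * a) := by group
        _ = c * a := by rw [hb]; group
    have : c ∈ E ⊓ centralizer (A : Set G) := ⟨hcE, hcent⟩
    rw [hfaith, Subgroup.mem_bot] at this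
    exact hc1 this
  -- (W4)
  have hconjW : ∀ g ∈ E, ∀ b ∈ W, g * b * g⁻¹ ∈ W := by
    intro g hg b hb
    obtain ⟨hbA, hbN⟩ := (hWmem b).mp hb
    have hgN : g ∈ normalizer (A : Set G) := hnorm hg
    have hgbA : g * b * g⁻¹ ∈ A := (Subgroup.mem_normalizer_iff.mp hgN b).mp hbA
    rw [hWmem]
    refine ⟨hgbA, ?_⟩
    set g' : ↥(normalizer (A : Set G)) := ⟨g, hgN⟩ with hg'
    set Ge : Module.End ℤ (Additive ↥A) := conjEndHom A g' with hGe
    have e1 : Additive.ofMul (⟨g * b * g⁻¹, hgbA⟩ : ↥A) = Ge (Additive.ofMul (⟨b, hbA⟩ : ↥A)) := by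
      rw [hGe, conjEndHom_apply]
    have hcomm : Commute Ge Ce := by
      have hgc : g' * c' = c' * g' := Subtype.ext (commute_of_mem_zOf hcZ hg)
      show Ge * Ce = Ce * Ge
      rw [hGe, hCe, ← map_mul, ← map_mul, hgc]
    have hcommN : Commute N Ge := by
      rw [hN]
      unfold gs
      exact Commute.sum_left _ _ _ (fun k _ => (hcomm.symm.pow_left k))
    rw [e1, ← Module.End.mul_apply, hcommN.eq, Module.End.mul_apply, hbN, map_zero]
  have hEW : E ≤ normalizer (W : Set G) := by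
    intro g hg
    rw [Subgroup.mem_normalizer_iff]
    intro b
    constructor
    · exact hconjW g hg b
    · intro hb
      have := hconjW g⁻¹ (E.inv_mem hg) _ hb
      have e : g⁻¹ * (g * b * g⁻¹) * g⁻¹⁻¹ = b := by group
      rwa [e] at this
  have hfixW : ∀ c'' ∈ zOf E, c'' ≠ 1 → W ⊓ centralizer ({c''} : Set G) = ⊥ := by
    intro c'' hc'' hc''1
    rw [eq_bot_iff, ← hWc]
    intro a ha
    refine ⟨ha.1, ?_⟩
    have hac : a ∈ centralizer ({c''} : Set G) := ha.2
    rw [Subgroup.mem_centralizer_singleton_iff] at hac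
    show a ∈ centralizer ({c} : Set G)
    rw [Subgroup.mem_centralizer_singleton_iff]
    obtain ⟨k, hk⟩ := Subgroup.mem_zpowers_iff.mp (mem_zpowers_of_mem_zOf hZ hc'' hc''1 hcZ)
    rw [← hk]
    exact ((show Commute a c'' from hac).zpow_right k).eq
  have hmain := main hpr n hn hmin w E W hEcard hZ hEc
    (fun a ha b hb => hAc a (hWA ha) b (hWA hb)) (fun a ha => hAr a (hWA ha)) hEW hW1 hfixW
  exact le_trans hmain (Subgroup.card_le_of_le hWA)

/-- translation of `Cfsg.IsExtraspecial` for a subgroup into `zOf` language -/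
lemma zOf_eq_map_center (E : Subgroup G) : zOf E = (Subgroup.center ↥E).map E.subtype := by
  ext x
  rw [mem_zOf, Subgroup.mem_map]
  constructor
  · rintro ⟨hxE, hx⟩
    refine ⟨⟨x, hxE⟩, ?_, rfl⟩
    rw [Subgroup.mem_center_iff]
    intro g
    exact Subtype.ext (hx g g.2)
  · rintro ⟨y, hy, rfl⟩
    refine ⟨y.2, ?_⟩
    intro g hg
    rw [Subgroup.mem_center_iff] at hy
    exact congrArg Subtype.val (hy ⟨g, hg⟩)

theorem of_extraspecial [Finite G] {p r : ℕ} [hp : Fact p.Prime] [hr : Fact r.Prime] (hpr : p ≠ r)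
    (E A : Subgroup G) (w : ℕ) (hE : Cfsg.IsExtraspecial p ↥E)
    (hEcard : Nat.card ↥E = p ^ (2 * w + 1))
    (hA : Cfsg.IsElementaryAbelian r A) (hnorm : E ≤ Subgroup.normalizer (A : Set G))
    (hfaith : E ⊓ Subgroup.centralizer (A : Set G) = ⊥) (n : ℕ) (hn : 1 ≤ n)
    (hmin : ∀ k : ℕ, 1 ≤ k → p ∣ r ^ k - 1 → n ≤ k) : r ^ (n * p ^ w) ≤ Nat.card ↥A := by
  have hZ : Nat.card (zOf E) = p := by
    rw [zOf_eq_map_center, Subgroup.card_map_of_injective E.subtype_injective]
    exact hE.2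
  have hEc : ⁅E, E⁆ ≤ zOf E := by
    rw [zOf_eq_map_center, ← Subgroup.map_subtype_commutator, hE.1.2.2]
  obtain ⟨hAcomm, hAr⟩ := hA
  have hAc : ∀ a ∈ A, ∀ b ∈ A, a * b = b * a := by
    intro a ha b hb
    have := hAcomm.is_comm.comm (⟨a, ha⟩ : ↥A) ⟨b, hb⟩
    exact congrArg Subtype.val this
  exact final hpr E A w hEcard hZ hEc hAc hAr hnorm hfaith n hn hmin

end Cfsg.Agent.Helper48.ExtraMod
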