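import Mathlib
import Cfsg.Prelude.Def_CaseTheorems
import Cfsg.Agent.Lib.Helper24.Coprime
import Cfsg.Agent.Lib.Helper62.QuadCount

/-!
# A cyclic 3-group acting on a 2-group of rank at most 2 (S3738)

`omegaZ P` is `Ω₁(Z(P))` as a subgroup of the ambient group.  The main result of this file is
`fpf_three_false`.
-/

set_option autoImplicit false

namespace Cfsg.Agent.Helper48

open scoped commutatorElement

variable {X : Type*} [Group X]

/-- semiregular cyclic action counting (as in `Helper42.free_perm_dvd`). -/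
theorem free_perm_dvd_aux {Y : Type*} [Finite Y] (σ : Equiv.Perm Y) (N : ℕ)
    (hfree : ∀ x (M : ℕ), (σ ^ M) x = x → N ∣ M) : N ∣ Nat.card Y := by
  classical
  have : Fintype (MulAction.orbitRel.Quotient (Subgroup.zpowers σ) Y) := Fintype.ofFinite _
  rw [Nat.card_congr (MulAction.selfEquivSigmaOrbits (Subgroup.zpowers σ) Y), Nat.card_sigma]
  apply Finset.dvd_sum
  intro ω _
  set b : Y := Quotient.out ω
  have : Fintype (MulAction.orbit (Subgroup.zpowers σ) b) := Fintype.ofFinite _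
  rw [Nat.card_eq_fintype_card, ← MulAction.minimalPeriod_eq_card]
  have hper : Function.IsPeriodicPt (σ • ·) (Function.minimalPeriod (σ • ·) b) b :=
    Function.isPeriodicPt_minimalPeriod _ _
  apply hfree b
  have h2 : ((σ ^ Function.minimalPeriod (σ • ·) b) : Equiv.Perm Y) b
      = (σ • ·)^[Function.minimalPeriod (σ • ·) b] b := by
    rw [smul_iterate]
    rfl
  rw [h2]
  exact hper

/-- a permutation of `3`-power order `3^n` none of whose points is fixed by `σ^(3^(n-1))`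
acts semiregularly. -/
theorem three_pow_dvd_card_of_free {Y : Type*} [Finite Y] (σ : Equiv.Perm Y) (n : ℕ) (hn : 1 ≤ n)
    (hσ : σ ^ (3 ^ n) = 1) (hfree : ∀ x, (σ ^ (3 ^ (n - 1))) x ≠ x) : 3 ^ n ∣ Nat.card Y := by
  apply free_perm_dvd_aux σ
  intro x M hM
  have hp : Function.IsPeriodicPt σ M x := by
    unfold Function.IsPeriodicPt Function.IsFixedPt
    rw [Equiv.Perm.iterate_eq_pow]
    exact hM
  have hp3 : Function.IsPeriodicPt σ (3 ^ n) x := by
    unfold Function.IsPeriodicPt Function.IsFixedPt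
    rw [Equiv.Perm.iterate_eq_pow, hσ]
    rfl
  have h1 : Function.minimalPeriod σ x ∣ 3 ^ n := hp3.minimalPeriod_dvd
  obtain ⟨j, hj, hj2⟩ := (Nat.dvd_prime_pow Nat.prime_three).1 h1
  rcases Nat.lt_or_ge j n with hlt | hge
  · exfalso
    have h2 : Function.minimalPeriod σ x ∣ 3 ^ (n - 1) := by
      rw [hj2]
      exact pow_dvd_pow 3 (by omega)
    have h3 : Function.IsPeriodicPt σ (3 ^ (n - 1)) x :=
      (Function.isPeriodicPt_minimalPeriod σ x).trans_dvd h2
    unfold Function.IsPeriodicPt Function.IsFixedPt at h3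
    rw [Equiv.Perm.iterate_eq_pow] at h3
    exact hfree x h3
  · have : j = n := le_antisymm hj hge
    rw [← this, ← hj2]
    exact hp.minimalPeriod_dvd


/-! ### `Ω₁(Z(P))` -/

/-- `Ω₁(Z(P))` as a subgroup of the ambient group. -/
def omegaZ (P : Subgroup X) : Subgroup X where
  carrier := {x | x ∈ P ∧ (∀ y ∈ P, y * x = x * y) ∧ x ^ 2 = 1}
  one_mem' := ⟨P.one_mem, by simp, by simp⟩
  mul_mem' := by
    rintro a b ⟨ha, hac, ha2⟩ ⟨hb, hbc, hb2⟩
    refine ⟨P.mul_mem ha hb, ?_, ?_⟩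
    · intro y hy
      rw [← mul_assoc, hac y hy, mul_assoc, hbc y hy, mul_assoc]
    · have hab : a * b = b * a := hbc a ha
      calc (a * b) ^ 2 = a * (b * a) * b := by rw [pow_two]; group
        _ = a * (a * b) * b := by rw [← hab]
        _ = a ^ 2 * b ^ 2 := by rw [pow_two, pow_two]; group
        _ = 1 := by rw [ha2, hb2, one_mul]
  inv_mem' := by
    rintro a ⟨ha, hac, ha2⟩
    refine ⟨P.inv_mem ha, ?_, ?_⟩
    · intro y hy
      have := hac y hy
      calc y * a⁻¹ = a⁻¹ * (a * y) * a⁻¹ := by group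
        _ = a⁻¹ * (y * a) * a⁻¹ := by rw [this]
        _ = a⁻¹ * y := by group
    · rw [inv_pow, ha2, inv_one]

theorem mem_omegaZ {P : Subgroup X} {x : X} :
    x ∈ omegaZ P ↔ x ∈ P ∧ (∀ y ∈ P, y * x = x * y) ∧ x ^ 2 = 1 := Iff.rfl

theorem omegaZ_le (P : Subgroup X) : omegaZ P ≤ P := fun _ hx => hx.1

theorem mem_normalizer_of_conj_mem (H : Subgroup X) (g : X) (h1 : ∀ x ∈ H, g * x * g⁻¹ ∈ H)
    (h2 : ∀ x ∈ H, g⁻¹ * x * g ∈ H) : g ∈ Subgroup.normalizer (H : Set X) := by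
  rw [Subgroup.mem_normalizer_iff]
  intro x
  constructor
  · exact h1 x
  · intro hx
    have := h2 _ hx
    have e : g⁻¹ * (g * x * g⁻¹) * g = x := by group
    rwa [e] at this

theorem conj_mem_of_mem_normalizer {H : Subgroup X} {g x : X}
    (hg : g ∈ Subgroup.normalizer (H : Set X)) (hx : x ∈ H) : g * x * g⁻¹ ∈ H :=
  (Subgroup.mem_normalizer_iff.mp hg x).mp hx

theorem conj_inv_mem_of_mem_normalizer {H : Subgroup X} {g x : X}
    (hg : g ∈ Subgroup.normalizer (H : Set X)) (hx : x ∈ H) : g⁻¹ * x * g ∈ H := by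
  have := conj_mem_of_mem_normalizer (Subgroup.inv_mem _ hg) hx
  rwa [inv_inv] at this

theorem conj_mem_omegaZ {P : Subgroup X} {g x : X} (hg : g ∈ Subgroup.normalizer (P : Set X))
    (hx : x ∈ omegaZ P) : g * x * g⁻¹ ∈ omegaZ P := by
  obtain ⟨hxP, hxc, hx2⟩ := hx
  refine ⟨conj_mem_of_mem_normalizer hg hxP, ?_, ?_⟩
  · intro y hy
    have hy' : g⁻¹ * y * g ∈ P := conj_inv_mem_of_mem_normalizer hg hy
    have := hxc _ hy'
    calc y * (g * x * g⁻¹) = g * ((g⁻¹ * y * g) * x) * g⁻¹ := by group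
      _ = g * (x * (g⁻¹ * y * g)) * g⁻¹ := by rw [this]
      _ = g * x * g⁻¹ * y := by group
  · calc (g * x * g⁻¹) ^ 2 = g * x ^ 2 * g⁻¹ := by rw [pow_two, pow_two]; group
      _ = 1 := by rw [hx2]; group

theorem mem_normalizer_omegaZ {P : Subgroup X} {g : X}
    (hg : g ∈ Subgroup.normalizer (P : Set X)) :
    g ∈ Subgroup.normalizer ((omegaZ P : Subgroup X) : Set X) := by
  apply mem_normalizer_of_conj_mem
  · intro x hx
    exact conj_mem_omegaZ hg hx
  · intro x hx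
    have := conj_mem_omegaZ (Subgroup.inv_mem _ hg) hx
    rwa [inv_inv] at this

instance omegaZ_isMulCommutative (P : Subgroup X) : IsMulCommutative ↥(omegaZ P) :=
  ⟨⟨fun a b => Subtype.ext (by
    show (a : X) * (b : X) = (b : X) * (a : X)
    exact b.2.2.1 a a.2.1)⟩⟩


/-- the rank hypothesis in usable form -/
theorem card_le_four_of_rank {P : Subgroup X}
    (hrank : ∀ V : Subgroup X, V ≤ P → IsMulCommutative V → Cfsg.PRankLE 2 2 V)
    (W : Subgroup X) (hW : W ≤ P) (hcomm : ∀ a ∈ W, ∀ b ∈ W, a * b = b * a)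
    (hexp : ∀ a ∈ W, a ^ 2 = 1) : Nat.card W ≤ 4 := by
  have hc : IsMulCommutative W := ⟨⟨fun a b => Subtype.ext (hcomm a a.2 b b.2)⟩⟩
  have h := hrank W hW hc (⊤ : Subgroup W)
    ⟨⟨fun a b => Subtype.ext (Subtype.ext (hcomm _ a.1.2 _ b.1.2))⟩⟩
    (fun a _ => Subtype.ext (by simpa using hexp a a.2))
  rw [Subgroup.card_top] at h
  simpa using h

theorem omegaZ_ne_bot [Finite X] {P : Subgroup X} (hP : IsPGroup 2 P) (hP1 : P ≠ ⊥) :
    omegaZ P ≠ ⊥ := by
  have hnt : Nontrivial ↥P := (Subgroup.nontrivial_iff_ne_bot P).2 hP1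
  have hc : Nontrivial (Subgroup.center ↥P) := hP.center_nontrivial
  have hpc : IsPGroup 2 (Subgroup.center ↥P) := hP.to_subgroup _
  obtain ⟨k, hk⟩ := IsPGroup.iff_card.1 hpc
  have hk1 : k ≠ 0 := by
    rintro rfl
    rw [pow_zero] at hk
    have := (Subgroup.card_eq_one (H := Subgroup.center ↥P)).1 hk
    have h2 := (Subgroup.nontrivial_iff_ne_bot _).1 hc
    exact h2 this
  have hdvd : 2 ∣ Nat.card (Subgroup.center ↥P) := by
    rw [hk]
    exact dvd_pow_self 2 hk1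
  have : Fact (Nat.Prime 2) := ⟨Nat.prime_two⟩
  obtain ⟨z, hz⟩ := exists_prime_orderOf_dvd_card' 2 hdvd
  intro hbot
  have hzmem : ((z : ↥P) : X) ∈ omegaZ P := by
    refine ⟨(z : ↥P).2, ?_, ?_⟩
    · intro y hy
      have := (Subgroup.mem_center_iff.1 z.2) ⟨y, hy⟩
      exact congrArg Subtype.val this
    · have h2 : z ^ 2 = 1 := by rw [← hz]; exact pow_orderOf_eq_one z
      have := congrArg (fun w : Subgroup.center ↥P => ((w : ↥P) : X)) h2
      simpa using this
  rw [hbot, Subgroup.mem_bot] at hzmem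
  have hz1 : z = 1 := by
    apply Subtype.ext
    apply Subtype.ext
    simpa using hzmem
  rw [hz1, orderOf_one] at hz
  omega

theorem ncard_five_le {V : Subgroup X} [Finite X] {a b c x y : X} (ha : a ∈ V) (hb : b ∈ V)
    (hc : c ∈ V) (hx : x ∈ V) (hy : y ∈ V)
    (hab : a ≠ b) (hac : a ≠ c) (hbc : b ≠ c) (hxa : x ≠ a) (hxb : x ≠ b) (hxc : x ≠ c)
    (hya : y ≠ a) (hyb : y ≠ b) (hyc : y ≠ c) (hxy : x ≠ y) : 5 ≤ Nat.card V := by
  classical
  have hsub : (({x, y, a, b, c} : Finset X) : Set X) ⊆ (V : Set X) := by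
    intro w hw
    simp only [Finset.coe_insert, Finset.coe_singleton, Set.mem_insert_iff,
      Set.mem_singleton_iff] at hw
    rcases hw with rfl | rfl | rfl | rfl | rfl <;> assumption
  have h5 : ({x, y, a, b, c} : Finset X).card = 5 := by
    rw [Finset.card_insert_of_notMem, Finset.card_insert_of_notMem, Finset.card_insert_of_notMem,
      Finset.card_insert_of_notMem, Finset.card_singleton]
    · simp [hbc]
    · simp [hab, hac]
    · simp [hya, hyb, hyc]
    · simp [hxy, hxa, hxb, hxc]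
  have h1 : (({x, y, a, b, c} : Finset X) : Set X).ncard ≤ (V : Set X).ncard :=
    Set.ncard_le_ncard hsub (Set.toFinite _)
  rw [Set.ncard_coe_finset, h5] at h1
  exact h1


section claims

variable {d : X} {P : Subgroup X}

/-- a fixed point of `d` in `P` is trivial -/
theorem eq_one_of_fixed (hfpf : P ⊓ Subgroup.centralizer {d} = ⊥) {x : X} (hx : x ∈ P)
    (h : d * x * d⁻¹ = x) : x = 1 := by
  have : x ∈ P ⊓ Subgroup.centralizer {d} := by
    refine ⟨hx, ?_⟩
    show x ∈ Subgroup.centralizer {d}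
    rw [Subgroup.mem_centralizer_iff]
    intro g hg
    rw [Set.mem_singleton_iff] at hg
    subst hg
    calc g * x = (g * x * g⁻¹) * g := by group
      _ = x * g := by rw [h]
  rw [hfpf, Subgroup.mem_bot] at this
  exact this

theorem conj_ne_one {x : X} (hx : x ≠ 1) : d * x * d⁻¹ ≠ 1 := by
  intro h
  apply hx
  calc x = d⁻¹ * (d * x * d⁻¹) * d := by group
    _ = 1 := by rw [h]; group

theorem conj_injective {x y : X} (h : d * x * d⁻¹ = d * y * d⁻¹) : x = y := by
  calc x = d⁻¹ * (d * x * d⁻¹) * d := by group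
    _ = d⁻¹ * (d * y * d⁻¹) * d := by rw [h]
    _ = y := by group

theorem card_omegaZ_eq_four [Finite X] (hP : IsPGroup 2 P) (hP1 : P ≠ ⊥)
    (hdP : d ∈ Subgroup.normalizer (P : Set X))
    (hfpf : P ⊓ Subgroup.centralizer {d} = ⊥)
    (hrank : ∀ V : Subgroup X, V ≤ P → IsMulCommutative V → Cfsg.PRankLE 2 2 V) :
    Nat.card (omegaZ P) = 4 := by
  have hle : Nat.card (omegaZ P) ≤ 4 :=
    card_le_four_of_rank hrank _ (omegaZ_le P) (fun a ha b hb => hb.2.1 a ha.1) (fun a ha => ha.2.2)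
  have hne := omegaZ_ne_bot hP hP1
  obtain ⟨v, hv, hv1⟩ : ∃ v : X, v ∈ omegaZ P ∧ v ≠ 1 := by
    obtain ⟨v, hv⟩ := (Subgroup.ne_bot_iff_exists_ne_one (H := omegaZ P)).1 hne
    exact ⟨(v : X), v.2, fun h => hv (Subtype.ext h)⟩
  have hpV : IsPGroup 2 (omegaZ P) := hP.to_le (omegaZ_le P)
  obtain ⟨k, hk⟩ := IsPGroup.iff_card.1 hpV
  -- `v` and its conjugate
  have hw : d * v * d⁻¹ ∈ omegaZ P := conj_mem_omegaZ hdP hv
  have hw1 : d * v * d⁻¹ ≠ 1 := conj_ne_one hv1
  have hwv : d * v * d⁻¹ ≠ v := fun h => hv1 (eq_one_of_fixed hfpf hv.1 h)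
  -- three distinct elements
  have h3 : 3 ≤ Nat.card (omegaZ P) := by
    classical
    have hsub : (({1, v, d * v * d⁻¹} : Finset X) : Set X) ⊆ ((omegaZ P : Subgroup X) : Set X) := by
      intro w hw'
      simp only [Finset.coe_insert, Finset.coe_singleton, Set.mem_insert_iff,
        Set.mem_singleton_iff] at hw'
      rcases hw' with rfl | rfl | rfl
      · exact Subgroup.one_mem _
      · exact hv
      · exact hw
    have h5 : ({1, v, d * v * d⁻¹} : Finset X).card = 3 := by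
      rw [Finset.card_insert_of_notMem, Finset.card_insert_of_notMem, Finset.card_singleton]
      · simp [hwv.symm]
      · simp [hv1.symm, hw1.symm]
    have h1 := Set.ncard_le_ncard hsub (Set.toFinite _)
    rw [Set.ncard_coe_finset, h5] at h1
    exact h1
  -- a power of two between 3 and 4
  rw [hk] at h3 hle ⊢
  have hk2 : k ≤ 2 := by
    by_contra hlt
    push Not at hlt
    have : 2 ^ 3 ≤ 2 ^ k := Nat.pow_le_pow_right (by norm_num) hlt
    omega
  interval_cases k <;> omega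


/-- `d³` centralizes `Ω₁(Z(P))` -/
theorem cube_centralizes_omegaZ [Finite X] (hcard : Nat.card (omegaZ P) = 4)
    (hdP : d ∈ Subgroup.normalizer (P : Set X))
    (hfpf : P ⊓ Subgroup.centralizer {d} = ⊥) {a : X} (ha : a ∈ omegaZ P) :
    d ^ 3 * a * (d ^ 3)⁻¹ = a := by
  by_cases ha1 : a = 1
  · subst ha1; group
  set b := d * a * d⁻¹ with hb
  set c := d * b * d⁻¹ with hc
  set e := d * c * d⁻¹ with he
  have hbV : b ∈ omegaZ P := conj_mem_omegaZ hdP ha
  have hcV : c ∈ omegaZ P := conj_mem_omegaZ hdP hbV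
  have heV : e ∈ omegaZ P := conj_mem_omegaZ hdP hcV
  have hb1 : b ≠ 1 := conj_ne_one ha1
  have hc1 : c ≠ 1 := conj_ne_one hb1
  have he1 : e ≠ 1 := conj_ne_one hc1
  have hab : a ≠ b := fun h => ha1 (eq_one_of_fixed hfpf ha.1 h.symm)
  have hbc : b ≠ c := fun h => hb1 (eq_one_of_fixed hfpf hbV.1 h.symm)
  have hce : c ≠ e := fun h => hc1 (eq_one_of_fixed hfpf hcV.1 h.symm)
  have hac : a ≠ c := by
    intro h
    -- then `a * b` is fixed
    have hfix : d * (a * b) * d⁻¹ = a * b := by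
      calc d * (a * b) * d⁻¹ = (d * a * d⁻¹) * (d * b * d⁻¹) := by group
        _ = b * c := rfl
        _ = b * a := by rw [← h]
        _ = a * b := (hbV.2.1 a ha.1).symm
    have h1 := eq_one_of_fixed hfpf (P.mul_mem ha.1 hbV.1) hfix
    -- so `b = a⁻¹ = a`
    have h2 : b = a := by
      have ha2 : a * a = 1 := by rw [← pow_two]; exact ha.2.2
      calc b = a * (a * b) := by rw [← mul_assoc, ha2, one_mul]
        _ = a := by rw [h1, mul_one]
    exact hab h2.symm
  have hbe : b ≠ e := fun h => hac (conj_injective h)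
  have hea : e = a := by
    by_contra hne
    have h5 := ncard_five_le (V := omegaZ P) (Subgroup.one_mem _) hbV hcV heV ha
      (Ne.symm hb1) (Ne.symm hc1) hbc he1 (Ne.symm hbe) (Ne.symm hce) ha1 hab hac hne
    omega
  calc d ^ 3 * a * (d ^ 3)⁻¹ = d * (d * (d * a * d⁻¹) * d⁻¹) * d⁻¹ := by
        rw [pow_succ, pow_two]; group
    _ = e := rfl
    _ = a := hea

/-- every element of `P` of order at most two lies in `Ω₁(Z(P))` -/
theorem mem_omegaZ_of_sq_eq_one [Finite X] (hcard : Nat.card (omegaZ P) = 4)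
    (hrank : ∀ V : Subgroup X, V ≤ P → IsMulCommutative V → Cfsg.PRankLE 2 2 V)
    {t : X} (ht : t ∈ P) (ht2 : t ^ 2 = 1) : t ∈ omegaZ P := by
  set S : Set X := ((omegaZ P : Subgroup X) : Set X) ∪ {t} with hS
  set W : Subgroup X := Subgroup.closure S with hW
  have hSP : S ⊆ (P : Set X) := by
    rintro x (hx | hx)
    · exact omegaZ_le P hx
    · rw [Set.mem_singleton_iff] at hx; subst hx; exact ht
  have hWP : W ≤ P := (Subgroup.closure_le P).2 hSP
  have hSc : S ⊆ (Subgroup.centralizer S : Set X) := by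
    intro x hx
    show x ∈ Subgroup.centralizer S
    rw [Subgroup.mem_centralizer_iff]
    intro y hy
    rcases hx with hx | hx
    · exact hx.2.1 y (hSP hy)
    · rw [Set.mem_singleton_iff] at hx
      subst hx
      rcases hy with hy | hy
      · exact (hy.2.1 x ht).symm
      · rw [Set.mem_singleton_iff] at hy
        subst hy
        rfl
  have hWc : W ≤ Subgroup.centralizer (W : Set X) := by
    rw [hW, Subgroup.centralizer_closure]
    exact (Subgroup.closure_le _).2 hSc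
  have hcomm : ∀ a ∈ W, ∀ b ∈ W, a * b = b * a := by
    intro a ha b hb
    exact (Subgroup.mem_centralizer_iff.1 (hWc hb)) a ha
  have hexp : ∀ a ∈ W, a ^ 2 = 1 := by
    intro a ha
    induction ha using Subgroup.closure_induction with
    | mem x hx =>
      rcases hx with hx | hx
      · exact hx.2.2
      · rw [Set.mem_singleton_iff] at hx; subst hx; exact ht2
    | one => simp
    | mul x y hx hy hx2 hy2 =>
      have hxy : x * y = y * x := hcomm x hx y hy
      calc (x * y) ^ 2 = x * (y * x) * y := by rw [pow_two]; group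
        _ = x * (x * y) * y := by rw [← hxy]
        _ = x ^ 2 * y ^ 2 := by rw [pow_two, pow_two]; group
        _ = 1 := by rw [hx2, hy2, one_mul]
    | inv x hx hx2 => rw [inv_pow, hx2, inv_one]
  have hle : Nat.card W ≤ 4 := card_le_four_of_rank hrank W hWP hcomm hexp
  have hVW : omegaZ P ≤ W := by
    intro x hx
    exact Subgroup.subset_closure (Or.inl hx)
  have heq : omegaZ P = W := Subgroup.eq_of_le_of_card_ge hVW (by rw [hcard]; exact hle)
  rw [heq]
  exact Subgroup.subset_closure (Or.inr rfl)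

end claims


/-! ### Generalities -/

/-- the subgroup generated by the squares of a nontrivial finite 2-group is proper -/
theorem sq_closure_ne [Finite X] (U : Subgroup X) (hU : IsPGroup 2 U) (hU1 : U ≠ ⊥) :
    Subgroup.closure {y | ∃ x ∈ U, x ^ 2 = y} ≠ U := by
  have : Fact (Nat.Prime 2) := ⟨Nat.prime_two⟩
  obtain ⟨k, hk⟩ := IsPGroup.iff_card.1 hU
  have hk1 : k ≠ 0 := by
    rintro rfl
    rw [pow_zero] at hk
    exact hU1 ((Subgroup.card_eq_one (H := U)).1 hk)
  obtain ⟨M, hM⟩ := Sylow.exists_subgroup_card_pow_prime (G := ↥U) 2 (n := k - 1)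
    (by rw [hk]; exact pow_dvd_pow 2 (by omega))
  have hidx : M.index = 2 := by
    have h1 := Subgroup.card_mul_index M
    rw [hM, hk] at h1
    have h2 : (2 : ℕ) ^ k = 2 ^ (k - 1) * 2 := by
      rw [← pow_succ]
      congr 1
      omega
    rw [h2] at h1
    exact Nat.eq_of_mul_eq_mul_left (by positivity) h1
  intro heq
  have hle : Subgroup.closure {y | ∃ x ∈ U, x ^ 2 = y} ≤ M.map U.subtype := by
    rw [Subgroup.closure_le]
    rintro y ⟨x, hx, rfl⟩
    have := Subgroup.sq_mem_of_index_two hidx (⟨x, hx⟩ : ↥U)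
    exact ⟨_, this, by simp⟩
  rw [heq] at hle
  have h1 : Nat.card U ≤ Nat.card (M.map U.subtype) := Subgroup.card_le_of_le hle
  rw [Subgroup.card_map_of_injective U.subtype_injective, hM, hk] at h1
  have : 2 ^ (k - 1) < 2 ^ k := Nat.pow_lt_pow_right (by norm_num) (by omega)
  omega

/-- commutators with an element of order dividing three -/
theorem commutator_zpowers_le (U T : Subgroup X) (e : X) (he3 : e ^ 3 = 1)
    (hUe : ∀ x ∈ U, e * x * e⁻¹ ∈ U) (h : ∀ x ∈ U, ⁅x, e⁆ ∈ T) :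
    ⁅U, Subgroup.zpowers e⁆ ≤ T := by
  rw [Subgroup.commutator_le]
  intro x hx a ha
  obtain ⟨k, rfl⟩ := Subgroup.mem_zpowers_iff.1 ha
  have he3' : e ^ (3 : ℤ) = 1 := by exact_mod_cast he3
  rw [zpow_eq_zpow_emod k he3']
  have h0 : 0 ≤ k % 3 := Int.emod_nonneg k (by norm_num)
  have h3 : k % 3 < 3 := Int.emod_lt_of_pos k (by norm_num)
  obtain ⟨m, hm⟩ : ∃ m : ℕ, k % 3 = m := ⟨(k % 3).toNat, (Int.toNat_of_nonneg h0).symm⟩
  rw [hm, zpow_natCast]
  have hm3 : m < 3 := by omega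
  interval_cases m
  · rw [pow_zero]
    simp [commutatorElement_def, T.one_mem]
  · rw [pow_one]
    exact h x hx
  · have e1 : ⁅x, e ^ 2⁆ = ⁅x, e⁆ * ⁅e * x * e⁻¹, e⁆ := by
      rw [commutatorElement_def, commutatorElement_def, commutatorElement_def, pow_two]
      group
    rw [e1]
    exact T.mul_mem (h x hx) (h _ (hUe x hx))

theorem mem_normalizer_commutator_pair {g : X} {U E : Subgroup X}
    (hU : g ∈ Subgroup.normalizer (U : Set X)) (hE : g ∈ Subgroup.normalizer (E : Set X)) :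
    g ∈ Subgroup.normalizer ((⁅U, E⁆ : Subgroup X) : Set X) := by
  rw [Subgroup.mem_normalizer_iff_map_conj_eq] at hU hE ⊢
  rw [Subgroup.map_commutator, hU, hE]


/-! ### Groups in which all squares are central -/

section sqcentral

variable {U : Subgroup X} (hsqc : ∀ w ∈ U, ∀ z ∈ U, z * (w * w) = (w * w) * z)

include hsqc

theorem comm_central {x y : X} (hx : x ∈ U) (hy : y ∈ U) {z : X} (hz : z ∈ U) :
    z * (x⁻¹ * y⁻¹ * x * y) = (x⁻¹ * y⁻¹ * x * y) * z := by
  have e1 : x⁻¹ * y⁻¹ * x * y = (x⁻¹ * x⁻¹) * ((x * y⁻¹) * (x * y⁻¹)) * (y * y) := by group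
  have h1 := hsqc x⁻¹ (U.inv_mem hx) z hz
  have h2 := hsqc (x * y⁻¹) (U.mul_mem hx (U.inv_mem hy)) z hz
  have h3 := hsqc y hy z hz
  rw [e1]
  calc z * ((x⁻¹ * x⁻¹) * ((x * y⁻¹) * (x * y⁻¹)) * (y * y))
      = (z * (x⁻¹ * x⁻¹)) * ((x * y⁻¹) * (x * y⁻¹)) * (y * y) := by simp only [mul_assoc]
    _ = (x⁻¹ * x⁻¹) * (z * ((x * y⁻¹) * (x * y⁻¹))) * (y * y) := by rw [h1]; simp only [mul_assoc]
    _ = (x⁻¹ * x⁻¹) * ((x * y⁻¹) * (x * y⁻¹)) * (z * (y * y)) := by rw [h2]; simp only [mul_assoc]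
    _ = (x⁻¹ * x⁻¹) * ((x * y⁻¹) * (x * y⁻¹)) * (y * y) * z := by rw [h3]; simp only [mul_assoc]

theorem comm_sq_eq_one {x y : X} (hx : x ∈ U) (hy : y ∈ U) :
    (x⁻¹ * y⁻¹ * x * y) ^ 2 = 1 := by
  have hyc : y * (x⁻¹ * y⁻¹ * x * y) = (x⁻¹ * y⁻¹ * x * y) * y := comm_central hsqc hx hy hy
  have hy2 : x * (y * y) = (y * y) * x := hsqc y hy x hx
  rw [pow_two]
  calc (x⁻¹ * y⁻¹ * x * y) * (x⁻¹ * y⁻¹ * x * y)
      = x⁻¹ * y⁻¹ * x * (y * (x⁻¹ * y⁻¹ * x * y)) := by simp only [mul_assoc]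
    _ = x⁻¹ * y⁻¹ * x * ((x⁻¹ * y⁻¹ * x * y) * y) := by rw [hyc]
    _ = x⁻¹ * (y * y)⁻¹ * (x * (y * y)) := by group
    _ = x⁻¹ * (y * y)⁻¹ * ((y * y) * x) := by rw [hy2]
    _ = 1 := by group

theorem sq_mul_of_sqcentral {x y : X} (hx : x ∈ U) (hy : y ∈ U) :
    (x * y) ^ 2 = x ^ 2 * y ^ 2 * (y⁻¹ * x⁻¹ * y * x) := by
  have hc : y * (y⁻¹ * x⁻¹ * y * x) = (y⁻¹ * x⁻¹ * y * x) * y := comm_central hsqc hy hx hy
  rw [pow_two, pow_two, pow_two]
  calc x * y * (x * y) = x * x * (y * (y⁻¹ * x⁻¹ * y * x)) * y := by group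
    _ = x * x * ((y⁻¹ * x⁻¹ * y * x) * y) * y := by rw [hc]
    _ = x * x * (y⁻¹ * x⁻¹ * y * x) * (y * y) := by simp only [mul_assoc]
    _ = x * x * ((y * y) * (y⁻¹ * x⁻¹ * y * x)) := by
        rw [mul_assoc (x * x), comm_central hsqc hy hx (U.mul_mem hy hy)]
    _ = x * x * (y * y) * (y⁻¹ * x⁻¹ * y * x) := by simp only [mul_assoc]

theorem comm_mul_left {x x' y : X} (hx : x ∈ U) (hx' : x' ∈ U) (hy : y ∈ U) :
    y⁻¹ * (x * x')⁻¹ * y * (x * x') = (y⁻¹ * x⁻¹ * y * x) * (y⁻¹ * x'⁻¹ * y * x') := by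
  have hc : x' * (y⁻¹ * x⁻¹ * y * x) = (y⁻¹ * x⁻¹ * y * x) * x' := comm_central hsqc hy hx hx'
  have hc2 := comm_central hsqc hy hx (U.mul_mem (U.mul_mem (U.mul_mem (U.inv_mem hy)
    (U.inv_mem hx')) hy) hx')
  calc y⁻¹ * (x * x')⁻¹ * y * (x * x')
      = y⁻¹ * x'⁻¹ * y * ((y⁻¹ * x⁻¹ * y * x) * x') := by group
    _ = y⁻¹ * x'⁻¹ * y * (x' * (y⁻¹ * x⁻¹ * y * x)) := by rw [hc]
    _ = (y⁻¹ * x'⁻¹ * y * x') * (y⁻¹ * x⁻¹ * y * x) := by simp only [mul_assoc]
    _ = (y⁻¹ * x⁻¹ * y * x) * (y⁻¹ * x'⁻¹ * y * x') := hc2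

theorem comm_mul_right {x y y' : X} (hx : x ∈ U) (hy : y ∈ U) (hy' : y' ∈ U) :
    (y * y')⁻¹ * x⁻¹ * (y * y') * x = (y⁻¹ * x⁻¹ * y * x) * (y'⁻¹ * x⁻¹ * y' * x) := by
  have hc : y' * (y⁻¹ * x⁻¹ * y * x) = (y⁻¹ * x⁻¹ * y * x) * y' := comm_central hsqc hy hx hy'
  calc (y * y')⁻¹ * x⁻¹ * (y * y') * x
      = y'⁻¹ * ((y⁻¹ * x⁻¹ * y * x) * y') * (y'⁻¹ * x⁻¹ * y' * x) := by group
    _ = y'⁻¹ * (y' * (y⁻¹ * x⁻¹ * y * x)) * (y'⁻¹ * x⁻¹ * y' * x) := by rw [hc]
    _ = (y⁻¹ * x⁻¹ * y * x) * (y'⁻¹ * x⁻¹ * y' * x) := by group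

end sqcentral


/-! ### The subgroup generated by the squares -/

/-- the subgroup generated by the squares of the elements of `U` -/
def sqClosure (U : Subgroup X) : Subgroup X := Subgroup.closure {y | ∃ x ∈ U, x ^ 2 = y}

theorem sq_mem_sqClosure {U : Subgroup X} {x : X} (hx : x ∈ U) : x * x ∈ sqClosure U :=
  Subgroup.subset_closure ⟨x, hx, pow_two x⟩

theorem sqClosure_le (U : Subgroup X) : sqClosure U ≤ U := by
  unfold sqClosure
  rw [Subgroup.closure_le]
  rintro y ⟨x, hx, rfl⟩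
  exact U.pow_mem hx 2

theorem conj_mem_sqClosure {g x : X} {U : Subgroup X}
    (hg : g ∈ Subgroup.normalizer (U : Set X)) (hx : x ∈ sqClosure U) :
    g * x * g⁻¹ ∈ sqClosure U := by
  unfold sqClosure at hx ⊢
  induction hx using Subgroup.closure_induction with
  | mem y hy =>
    obtain ⟨w, hw, rfl⟩ := hy
    apply Subgroup.subset_closure
    refine ⟨g * w * g⁻¹, conj_mem_of_mem_normalizer hg hw, ?_⟩
    rw [pow_two, pow_two]; group
  | one => simp
  | mul a b _ _ ha hb =>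
    have : g * (a * b) * g⁻¹ = (g * a * g⁻¹) * (g * b * g⁻¹) := by group
    rw [this]
    exact Subgroup.mul_mem _ ha hb
  | inv a _ ha =>
    have : g * a⁻¹ * g⁻¹ = (g * a * g⁻¹)⁻¹ := by group
    rw [this]
    exact Subgroup.inv_mem _ ha

theorem mem_normalizer_sqClosure {g : X} {U : Subgroup X}
    (hg : g ∈ Subgroup.normalizer (U : Set X)) :
    g ∈ Subgroup.normalizer ((sqClosure U : Subgroup X) : Set X) := by
  apply mem_normalizer_of_conj_mem
  · intro x hx
    exact conj_mem_sqClosure hg hx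
  · intro x hx
    have := conj_mem_sqClosure (Subgroup.inv_mem _ hg) hx
    rwa [inv_inv] at this

theorem conj_pow_fixed {g a : X} (h : g * a * g⁻¹ = a) (k : ℕ) : g ^ k * a * (g ^ k)⁻¹ = a := by
  have hc : Commute g a := by
    show g * a = a * g
    calc g * a = (g * a * g⁻¹) * g := by group
      _ = a * g := by rw [h]
  have hk : g ^ k * a = a * g ^ k := hc.pow_left k
  rw [hk]; group

theorem mem_centralizer_of_conj_fixed {g : X} {U : Subgroup X} (h : ∀ x ∈ U, g * x * g⁻¹ = x) :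
    g ∈ Subgroup.centralizer (U : Set X) := by
  rw [Subgroup.mem_centralizer_iff]
  intro x hx
  have := h x hx
  calc x * g = (g * x * g⁻¹) * g := by rw [this]
    _ = g * x := by group

theorem conj_fixed_of_mem_centralizer {g x : X} {U : Subgroup X}
    (hg : g ∈ Subgroup.centralizer (U : Set X)) (hx : x ∈ U) : g * x * g⁻¹ = x := by
  have := (Subgroup.mem_centralizer_iff.1 hg) x hx
  rw [← this]; group


/-! ### The minimal subgroup -/

theorem exists_special [Finite X] {d e : X} {P : Subgroup X} (hP : IsPGroup 2 P)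
    (hed : e ∈ Subgroup.zpowers d) (he3 : e ^ 3 = 1) (he1 : e ≠ 1)
    (hdP : d ∈ Subgroup.normalizer (P : Set X))
    (heP : e ∉ Subgroup.centralizer (P : Set X))
    (hcard : Nat.card (omegaZ P) = 4)
    (hrank : ∀ V : Subgroup X, V ≤ P → IsMulCommutative V → Cfsg.PRankLE 2 2 V) :
    ∃ U : Subgroup X, U ≤ P ∧ d ∈ Subgroup.normalizer (U : Set X) ∧
      e ∉ Subgroup.centralizer (U : Set X) ∧
      (∀ w ∈ U, ∀ z ∈ U, z * (w * w) = (w * w) * z) ∧ (∀ x ∈ U, x ^ 2 ∈ omegaZ P) := by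
  obtain ⟨U, ⟨hUP, hdU, heU⟩, hmin⟩ := exists_minimal_of_wellFoundedLT
    (fun U : Subgroup X => U ≤ P ∧ d ∈ Subgroup.normalizer (U : Set X) ∧
      e ∉ Subgroup.centralizer (U : Set X)) ⟨P, le_rfl, hdP, heP⟩
  have hprop : ∀ U' : Subgroup X, U' ≤ U → d ∈ Subgroup.normalizer (U' : Set X) → U' ≠ U →
      e ∈ Subgroup.centralizer (U' : Set X) := by
    intro U' hU' hdU' hne
    by_contra hc
    exact hne (le_antisymm hU' (hmin ⟨hU'.trans hUP, hdU', hc⟩ hU'))
  set E := Subgroup.zpowers e with hE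
  have hDN : Subgroup.zpowers d ≤ Subgroup.normalizer (U : Set X) := Subgroup.zpowers_le.2 hdU
  have heN : e ∈ Subgroup.normalizer (U : Set X) := hDN hed
  have hEN : E ≤ Subgroup.normalizer (U : Set X) := Subgroup.zpowers_le.2 heN
  have hU2 : IsPGroup 2 U := hP.to_le hUP
  have hoe : orderOf e = 3 := orderOf_eq_prime he3 he1
  have hcop : (Nat.card E).Coprime (Nat.card U) := by
    obtain ⟨k, hk⟩ := IsPGroup.iff_card.1 hU2
    rw [hE, Nat.card_zpowers, hoe, hk]
    exact Nat.Coprime.pow_right k (by norm_num)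
  -- `d` normalizes `E`
  have hde : d * e = e * d := by
    obtain ⟨k, rfl⟩ := Subgroup.mem_zpowers_iff.1 hed
    exact ((Commute.refl d).zpow_right k).eq
  have hdE : d ∈ Subgroup.normalizer (E : Set X) := by
    apply Subgroup.centralizer_le_normalizer
    rw [Subgroup.mem_centralizer_iff]
    intro x hx
    obtain ⟨k, rfl⟩ := Subgroup.mem_zpowers_iff.1 hx
    have hc : Commute e d := hde.symm
    exact (hc.zpow_left k).eq
  -- `[U, E] = U`
  have hUE : ⁅U, E⁆ = U := by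
    have h1 : ⁅U, E⁆ ≤ U := Cfsg.Agent.Helper24.commutator_le_of_le_normalizer U E hEN
    have h2 : d ∈ Subgroup.normalizer ((⁅U, E⁆ : Subgroup X) : Set X) :=
      mem_normalizer_commutator_pair hdU hdE
    have h3 : e ∉ Subgroup.centralizer ((⁅U, E⁆ : Subgroup X) : Set X) := by
      intro h
      have h4 : E ≤ Subgroup.centralizer ((⁅U, E⁆ : Subgroup X) : Set X) :=
        Subgroup.zpowers_le.2 h
      have h5 : ⁅⁅U, E⁆, E⁆ = ⊥ := by
        rw [Subgroup.commutator_eq_bot_iff_le_centralizer]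
        exact Subgroup.le_centralizer_iff.1 h4
      have h6 := Cfsg.Agent.Helper24.commutator_eq_bot_of_coprime U E hEN hcop h5
      rw [Subgroup.commutator_eq_bot_iff_le_centralizer] at h6
      have h7 : E ≤ Subgroup.centralizer (U : Set X) := Subgroup.le_centralizer_iff.1 h6
      exact heU (h7 (Subgroup.mem_zpowers e))
    exact le_antisymm h1 (hmin ⟨h1.trans hUP, h2, h3⟩ h1)
  -- the squares
  have hU1 : U ≠ ⊥ := by
    rintro rfl
    apply heU
    rw [Subgroup.mem_centralizer_iff]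
    intro x hx
    rw [SetLike.mem_coe, Subgroup.mem_bot] at hx
    subst hx
    simp
  have hΦne : sqClosure U ≠ U := sq_closure_ne U hU2 hU1
  have heΦ : e ∈ Subgroup.centralizer ((sqClosure U : Subgroup X) : Set X) :=
    hprop _ (sqClosure_le U) (mem_normalizer_sqClosure hdU) hΦne
  have hEΦ : E ≤ Subgroup.centralizer ((sqClosure U : Subgroup X) : Set X) :=
    Subgroup.zpowers_le.2 heΦ
  have hΦE : sqClosure U ≤ Subgroup.centralizer (E : Set X) := Subgroup.le_centralizer_iff.1 hEΦ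
  have hUΦ : ⁅U, sqClosure U⁆ = ⊥ := by
    have hUN : U ≤ Subgroup.normalizer ((sqClosure U : Subgroup X) : Set X) := by
      intro u hu
      exact mem_normalizer_sqClosure (Subgroup.le_normalizer hu)
    have h0 : ⁅U, sqClosure U⁆ ≤ sqClosure U := by
      rw [Subgroup.commutator_comm]
      exact Cfsg.Agent.Helper24.commutator_le_of_le_normalizer _ _ hUN
    have h1 : ⁅⁅U, sqClosure U⁆, E⁆ = ⊥ := by
      rw [Subgroup.commutator_eq_bot_iff_le_centralizer]
      exact h0.trans hΦE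
    have h2 : ⁅⁅sqClosure U, E⁆, U⁆ = ⊥ := by
      have : ⁅sqClosure U, E⁆ = ⊥ := by
        rw [Subgroup.commutator_eq_bot_iff_le_centralizer]
        exact hΦE
      rw [this, Subgroup.commutator_bot_left]
    have h3 := Subgroup.commutator_commutator_eq_bot_of_rotate h1 h2
    rw [Subgroup.commutator_comm E U, hUE] at h3
    exact h3
  have hsqc : ∀ w ∈ U, ∀ z ∈ U, z * (w * w) = (w * w) * z := by
    intro w hw z hz
    rw [Subgroup.commutator_eq_bot_iff_le_centralizer] at hUΦ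
    exact ((Subgroup.mem_centralizer_iff.1 (hUΦ hz)) _ (sq_mem_sqClosure hw)).symm
  refine ⟨U, hUP, hdU, heU, hsqc, ?_⟩
  -- commutators lie in `Ω₁(Z(P))`
  have hcV : ∀ x ∈ U, ∀ y ∈ U, x⁻¹ * y⁻¹ * x * y ∈ omegaZ P := by
    intro x hx y hy
    apply mem_omegaZ_of_sq_eq_one hcard hrank
    · exact hUP (U.mul_mem (U.mul_mem (U.mul_mem (U.inv_mem hx) (U.inv_mem hy)) hx) hy)
    · exact comm_sq_eq_one hsqc hx hy
  -- the subgroup of elements with square in `Ω₁(Z(P))`
  let T : Subgroup X :=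
    { carrier := {x | x ∈ U ∧ x ^ 2 ∈ omegaZ P}
      one_mem' := ⟨U.one_mem, by simp⟩
      mul_mem' := by
        rintro a b ⟨ha, ha2⟩ ⟨hb, hb2⟩
        refine ⟨U.mul_mem ha hb, ?_⟩
        rw [sq_mul_of_sqcentral hsqc ha hb]
        exact Subgroup.mul_mem _ (Subgroup.mul_mem _ ha2 hb2) (hcV b hb a ha)
      inv_mem' := by
        rintro a ⟨ha, ha2⟩
        refine ⟨U.inv_mem ha, ?_⟩
        rw [inv_pow]
        exact Subgroup.inv_mem _ ha2 }
  have hT : ⁅U, E⁆ ≤ T := by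
    apply commutator_zpowers_le U T e he3
    · intro x hx
      exact conj_mem_of_mem_normalizer heN hx
    · intro x hx
      have hz : e * x⁻¹ * e⁻¹ ∈ U := conj_mem_of_mem_normalizer heN (U.inv_mem hx)
      have e1 : ⁅x, e⁆ = x * (e * x⁻¹ * e⁻¹) := by
        rw [commutatorElement_def]; group
      rw [e1]
      refine ⟨U.mul_mem hx hz, ?_⟩
      rw [sq_mul_of_sqcentral hsqc hx hz]
      have hfix : e * (x⁻¹ * x⁻¹) * e⁻¹ = x⁻¹ * x⁻¹ :=
        conj_fixed_of_mem_centralizer heΦ (sq_mem_sqClosure (U.inv_mem hx))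
      have e2 : x ^ 2 * (e * x⁻¹ * e⁻¹) ^ 2 = 1 := by
        have : (e * x⁻¹ * e⁻¹) ^ 2 = e * (x⁻¹ * x⁻¹) * e⁻¹ := by rw [pow_two]; group
        rw [this, hfix, pow_two]; group
      rw [e2, one_mul]
      exact hcV _ hz x hx
  rw [hUE] at hT
  intro x hx
  exact (hT hx).2


/-! ### Counting -/

theorem card_bound [Finite X] {d : X} {n : ℕ} (hn : 2 ≤ n) (hd : orderOf d = 3 ^ n)
    {U : Subgroup X} (hU2 : IsPGroup 2 U) (hdU : d ∈ Subgroup.normalizer (U : Set X))
    (heU : d ^ (3 ^ (n - 1)) ∉ Subgroup.centralizer (U : Set X)) :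
    64 * Nat.card (U ⊓ Subgroup.centralizer {d ^ (3 ^ (n - 1))} : Subgroup X) ≤ Nat.card U := by
  classical
  set e := d ^ (3 ^ (n - 1)) with he
  set B : Subgroup X := U ⊓ Subgroup.centralizer {e} with hB
  have hmemB : ∀ x, x ∈ B ↔ x ∈ U ∧ e * x = x * e := by
    intro x
    rw [hB, Subgroup.mem_inf, Subgroup.mem_centralizer_iff]
    simp
  have hde : d * e = e * d := ((Commute.refl d).pow_right _).eq
  have hdinvU : d⁻¹ ∈ Subgroup.normalizer (U : Set X) := Subgroup.inv_mem _ hdU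
  have hced : Commute e d := hde.symm
  -- the permutation
  let σ : Equiv.Perm ↥((U : Set X) \ (B : Set X)) :=
    { toFun := fun y => ⟨d * y * d⁻¹, conj_mem_of_mem_normalizer hdU y.2.1, by
        intro h
        have h1 := ((hmemB _).1 h).2
        apply y.2.2
        rw [SetLike.mem_coe, hmemB]
        refine ⟨y.2.1, ?_⟩
        have hc1 : Commute e (d * (y : X) * d⁻¹) := h1
        have hc2 : Commute e (d⁻¹ * (d * (y : X) * d⁻¹) * d) :=
          (hced.inv_right.mul_right hc1).mul_right hced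
        have e3 : d⁻¹ * (d * (y : X) * d⁻¹) * d = y := by group
        rw [e3] at hc2
        exact hc2.eq⟩
      invFun := fun y => ⟨d⁻¹ * y * d, by
          have := conj_mem_of_mem_normalizer hdinvU y.2.1
          rwa [inv_inv] at this, by
        intro h
        have h1 := ((hmemB _).1 h).2
        apply y.2.2
        rw [SetLike.mem_coe, hmemB]
        refine ⟨y.2.1, ?_⟩
        have hc1 : Commute e (d⁻¹ * (y : X) * d) := h1
        have hc2 : Commute e (d * (d⁻¹ * (y : X) * d) * d⁻¹) :=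
          (hced.mul_right hc1).mul_right hced.inv_right
        have e3 : d * (d⁻¹ * (y : X) * d) * d⁻¹ = y := by group
        rw [e3] at hc2
        exact hc2.eq⟩
      left_inv := fun y => Subtype.ext (by show d⁻¹ * (d * (y : X) * d⁻¹) * d = y; group)
      right_inv := fun y => Subtype.ext (by show d * (d⁻¹ * (y : X) * d) * d⁻¹ = y; group) }
  have hσpow : ∀ (k : ℕ) (y : ↥((U : Set X) \ (B : Set X))),
      (((σ ^ k) y : ↥((U : Set X) \ (B : Set X))) : X) = d ^ k * y * (d ^ k)⁻¹ := by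
    intro k
    induction k with
    | zero => intro y; simp
    | succ k ih =>
      intro y
      rw [pow_succ, Equiv.Perm.mul_apply, ih]
      show d ^ k * (d * (y : X) * d⁻¹) * (d ^ k)⁻¹ = d ^ (k + 1) * y * (d ^ (k + 1))⁻¹
      rw [pow_succ]; group
  have hn1 : n - 1 + 1 = n := by omega
  have hσ : σ ^ (3 ^ n) = 1 := by
    ext y
    rw [hσpow, ← hd, pow_orderOf_eq_one]
    simp
  have hfree : ∀ y, (σ ^ (3 ^ (n - 1))) y ≠ y := by
    intro y h
    have h1 := congrArg Subtype.val h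
    rw [hσpow] at h1
    apply y.2.2
    rw [SetLike.mem_coe, hmemB]
    refine ⟨y.2.1, ?_⟩
    calc e * (y : X) = (e * y * e⁻¹) * e := by group
      _ = y * e := by rw [← he] at h1; rw [h1]
  have hdvd : 3 ^ n ∣ Nat.card ↥((U : Set X) \ (B : Set X)) :=
    three_pow_dvd_card_of_free σ n (by omega) hσ hfree
  -- cardinalities
  have hBU : B ≤ U := inf_le_left
  have hBne : B ≠ U := by
    intro h
    apply heU
    rw [Subgroup.mem_centralizer_iff]
    intro x hx
    have : x ∈ B := by rw [h]; exact hx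
    exact ((hmemB x).1 this).2.symm
  have hcardY : Nat.card ↥((U : Set X) \ (B : Set X)) = Nat.card U - Nat.card B := by
    rw [Nat.card_coe_set_eq, Set.ncard_sdiff (show (B : Set X) ⊆ U from hBU) (Set.toFinite _)]
    rfl
  rw [hcardY] at hdvd
  obtain ⟨u, hu⟩ := IsPGroup.iff_card.1 hU2
  obtain ⟨b, hb⟩ := IsPGroup.iff_card.1 (hU2.to_le hBU)
  have hlt : Nat.card B < Nat.card U := by
    rcases lt_or_eq_of_le (Subgroup.card_le_of_le hBU) with h | h
    · exact h
    · exact absurd (Subgroup.eq_of_le_of_card_ge hBU h.ge) hBne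
  rw [hu, hb] at hdvd hlt ⊢
  have hbu : b < u := (Nat.pow_lt_pow_iff_right (by norm_num)).1 hlt
  obtain ⟨k, rfl⟩ := Nat.exists_eq_add_of_lt hbu
  have h9 : 9 ∣ 2 ^ (b + k + 1) - 2 ^ b := by
    refine dvd_trans ?_ hdvd
    obtain ⟨m, rfl⟩ := Nat.exists_eq_add_of_le hn
    exact ⟨3 ^ m, by rw [pow_add]; norm_num⟩
  have e1 : 2 ^ (b + k + 1) - 2 ^ b = 2 ^ b * (2 ^ (k + 1) - 1) := by
    rw [Nat.mul_sub, mul_one, ← pow_add, add_assoc]
  rw [e1] at h9
  have h9' : 9 ∣ 2 ^ (k + 1) - 1 :=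
    (Nat.Coprime.pow_right b (by norm_num : Nat.Coprime 9 2)).dvd_of_dvd_mul_left h9
  have hk : 5 ≤ k := by
    by_contra hlt5
    push Not at hlt5
    interval_cases k <;> omega
  calc 64 * 2 ^ b = 2 ^ b * 2 ^ 6 := by ring
    _ ≤ 2 ^ b * 2 ^ (k + 1) := by
        apply Nat.mul_le_mul_left
        exact Nat.pow_le_pow_right (by norm_num) (by omega)
    _ = 2 ^ (b + k + 1) := by rw [← pow_add, add_assoc]


/-! ### The main result -/

open scoped IsMulCommutative in
theorem fpf_three_false [Finite X] (d : X) (n : ℕ) (hn : 2 ≤ n) (hd : orderOf d = 3 ^ n)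
    (P : Subgroup X) (hP : IsPGroup 2 P) (hdP : d ∈ Subgroup.normalizer (P : Set X))
    (hfaith : Subgroup.zpowers d ⊓ Subgroup.centralizer (P : Set X) = ⊥)
    (hfpf : P ⊓ Subgroup.centralizer {d} = ⊥)
    (hrank : ∀ V : Subgroup X, V ≤ P → IsMulCommutative V → Cfsg.PRankLE 2 2 V) : False := by
  have hn1 : n - 1 + 1 = n := by omega
  have he3 : (d ^ (3 ^ (n - 1))) ^ 3 = 1 := by
    rw [← pow_mul, ← pow_succ, hn1, ← hd, pow_orderOf_eq_one]
  have he1 : d ^ (3 ^ (n - 1)) ≠ 1 := by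
    intro h
    have := orderOf_dvd_of_pow_eq_one h
    rw [hd] at this
    have h2 := (Nat.pow_dvd_pow_iff_le_right (by norm_num : 1 < 3)).1 this
    omega
  have hed : d ^ (3 ^ (n - 1)) ∈ Subgroup.zpowers d :=
    Subgroup.pow_mem _ (Subgroup.mem_zpowers d) _
  have heP : d ^ (3 ^ (n - 1)) ∉ Subgroup.centralizer (P : Set X) := by
    intro h
    have : d ^ (3 ^ (n - 1)) ∈ Subgroup.zpowers d ⊓ Subgroup.centralizer (P : Set X) := ⟨hed, h⟩
    rw [hfaith, Subgroup.mem_bot] at this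
    exact he1 this
  have hP1 : P ≠ ⊥ := by
    rintro rfl
    apply heP
    rw [Subgroup.mem_centralizer_iff]
    intro x hx
    rw [SetLike.mem_coe, Subgroup.mem_bot] at hx
    subst hx
    simp
  have hV4 := card_omegaZ_eq_four hP hP1 hdP hfpf hrank
  -- `e` centralizes `Ω₁(Z(P))`
  have heV : ∀ a ∈ omegaZ P, d ^ (3 ^ (n - 1)) * a * (d ^ (3 ^ (n - 1)))⁻¹ = a := by
    intro a ha
    have h1 := cube_centralizes_omegaZ hV4 hdP hfpf ha
    have h2 := conj_pow_fixed h1 (3 ^ (n - 2))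
    have e1 : (d ^ 3) ^ (3 ^ (n - 2)) = d ^ (3 ^ (n - 1)) := by
      rw [← pow_mul, ← pow_succ']
      congr 2
      omega
    rwa [e1] at h2
  obtain ⟨U, hUP, hdU, heU, hsqc, hsqV⟩ := exists_special hP hed he3 he1 hdP heP hV4 hrank
  have hU2 : IsPGroup 2 U := hP.to_le hUP
  have hbound := card_bound hn hd hU2 hdU heU
  -- commutators lie in `Ω₁(Z(P))`
  have hcV : ∀ x ∈ U, ∀ y ∈ U, x⁻¹ * y⁻¹ * x * y ∈ omegaZ P := by
    intro x hx y hy
    apply mem_omegaZ_of_sq_eq_one hV4 hrank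
    · exact hUP (U.mul_mem (U.mul_mem (U.mul_mem (U.inv_mem hx) (U.inv_mem hy)) hx) hy)
    · exact comm_sq_eq_one hsqc hx hy
  -- the quadratic map
  let sq : ↥U → ↥(omegaZ P) := fun x => ⟨(x : X) ^ 2, hsqV x x.2⟩
  let bb : ↥U → ↥U → ↥(omegaZ P) := fun x y =>
    ⟨(y : X)⁻¹ * (x : X)⁻¹ * y * x, hcV y y.2 x x.2⟩
  have hC : Nat.card ((omegaZ P).subgroupOf U) ≤
      Nat.card (U ⊓ Subgroup.centralizer {d ^ (3 ^ (n - 1))} : Subgroup X) := by
    have h1 : (omegaZ P).subgroupOf U ≤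
        (U ⊓ Subgroup.centralizer {d ^ (3 ^ (n - 1))} : Subgroup X).subgroupOf U := by
      intro x hx
      rw [Subgroup.mem_subgroupOf] at hx ⊢
      refine ⟨x.2, ?_⟩
      show (x : X) ∈ Subgroup.centralizer {d ^ (3 ^ (n - 1))}
      rw [Subgroup.mem_centralizer_iff]
      intro g hg
      rw [Set.mem_singleton_iff] at hg
      subst hg
      have := heV _ hx
      calc d ^ (3 ^ (n - 1)) * (x : X)
          = (d ^ (3 ^ (n - 1)) * x * (d ^ (3 ^ (n - 1)))⁻¹) * d ^ (3 ^ (n - 1)) := by group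
        _ = x * d ^ (3 ^ (n - 1)) := by rw [this]
    refine (Subgroup.card_le_of_le h1).trans (le_of_eq ?_)
    exact Nat.card_congr (Subgroup.subgroupOfEquivOfLe inf_le_left).toEquiv
  obtain ⟨x, hxC, hx1⟩ := Cfsg.Agent.Helper62.exists_zero_of_card_lt (G := ↥U) (Q := ↥(omegaZ P))
    hU2 (fun u => Subtype.ext (by simpa using u.2.2.2)) sq bb
    (fun x y => Subtype.ext (by
      show ((x : X) * (y : X)) ^ 2 = (x : X) ^ 2 * (y : X) ^ 2 * ((y : X)⁻¹ * (x : X)⁻¹ * y * x)
      exact sq_mul_of_sqcentral hsqc x.2 y.2))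
    (fun x x' y => Subtype.ext (by
      show (y : X)⁻¹ * ((x : X) * (x' : X))⁻¹ * y * ((x : X) * (x' : X)) =
        ((y : X)⁻¹ * (x : X)⁻¹ * y * x) * ((y : X)⁻¹ * (x' : X)⁻¹ * y * x')
      exact comm_mul_left hsqc x.2 x'.2 y.2))
    (fun x y y' => Subtype.ext (by
      show ((y : X) * (y' : X))⁻¹ * (x : X)⁻¹ * ((y : X) * (y' : X)) * x =
        ((y : X)⁻¹ * (x : X)⁻¹ * y * x) * ((y' : X)⁻¹ * (x : X)⁻¹ * y' * x)
      exact comm_mul_right hsqc x.2 y.2 y'.2))
    ((omegaZ P).subgroupOf U)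
    (fun c hc => Subtype.ext (by
      show (c : X) ^ 2 = 1
      exact (Subgroup.mem_subgroupOf.1 hc).2.2))
    (fun c hc x => Subtype.ext (by
      show (c : X)⁻¹ * (x : X)⁻¹ * c * x = 1
      have h1 := (Subgroup.mem_subgroupOf.1 hc).2.1 ((x : X)⁻¹) (hUP (U.inv_mem x.2))
      calc (c : X)⁻¹ * (x : X)⁻¹ * c * x = (c : X)⁻¹ * ((x : X)⁻¹ * c) * x := by group
        _ = (c : X)⁻¹ * (c * (x : X)⁻¹) * x := by rw [h1]
        _ = 1 := by group))
    (by
      rw [hV4]
      calc 4 ^ 2 * Nat.card ((omegaZ P).subgroupOf U)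
          ≤ 16 * Nat.card (U ⊓ Subgroup.centralizer {d ^ (3 ^ (n - 1))} : Subgroup X) := by
            have : (4 : ℕ) ^ 2 = 16 := by norm_num
            rw [this]
            exact Nat.mul_le_mul_left 16 hC
        _ < 64 * Nat.card (U ⊓ Subgroup.centralizer {d ^ (3 ^ (n - 1))} : Subgroup X) := by
            have : 0 < Nat.card (U ⊓ Subgroup.centralizer {d ^ (3 ^ (n - 1))} : Subgroup X) :=
              Nat.card_pos
            omega
        _ ≤ Nat.card U := hbound)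
  apply hxC
  rw [Subgroup.mem_subgroupOf]
  apply mem_omegaZ_of_sq_eq_one hV4 hrank (hUP x.2)
  exact congrArg Subtype.val hx1

end Cfsg.Agent.Helper48
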