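import Mathlib
import Cfsg.Agent.Lib.Helper93.MD0
import Cfsg.Agent.Lib.Helper93.MD1
import Cfsg.Agent.Lib.Helper95.MDA

/-!
# MD project (S2140), piece (T5): all non-fixed points have conjugate stabilisers

Server: helper93.  `card_Bst_eq_core` is the statement of (T5) with (T2), (T3) and `card_PhiA`
as explicit hypotheses (so that this file does not depend on those pieces).
-/

set_option autoImplicit false

namespace Cfsg.Agent.Helper48.MD

open Module Cfsg.Agent.Helper93.McL Cfsg.Agent.Helper93.MD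

variable {F V : Type*} [Field F] [Fintype F] [AddCommGroup V] [Module F V] [FiniteDimensional F V]

section tri

variable {Ω : Type*} [MulAction ↥(SLV F V) Ω]

omit [Fintype F] [FiniteDimensional F V] in
/-- Points of one `E_u`-orbit have the same `Bst`. -/
lemma t5_Bst_stv_smul {u : V} {ψ : Dual F V} (hψ : ψ u = 0) (ω : Ω) :
    Bst (F := F) u (stv u ψ • ω) = Bst u ω := by
  ext φ
  rw [mem_Bst, mem_Bst]
  constructor
  · rintro ⟨h1, h2⟩
    refine ⟨h1, ?_⟩
    have hcomm : stv u φ * stv u ψ = stv u ψ * stv u φ := by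
      apply Subtype.ext
      change tv u φ * tv u ψ = tv u ψ * tv u φ
      rw [tv_mul_axis h1 hψ, tv_mul_axis hψ h1, add_comm]
    rw [← mul_smul, hcomm, mul_smul] at h2
    exact smul_left_cancel _ h2
  · rintro ⟨h1, h2⟩
    refine ⟨h1, ?_⟩
    have hcomm : stv u φ * stv u ψ = stv u ψ * stv u φ := by
      apply Subtype.ext
      change tv u φ * tv u ψ = tv u ψ * tv u φ
      rw [tv_mul_axis h1 hψ, tv_mul_axis hψ h1, add_comm]
    rw [← mul_smul, hcomm, mul_smul, h2]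

omit [Fintype F] [FiniteDimensional F V] in
/-- `φ ∈ B_{gω} ↔ φ ∘ g ∈ B_ω` for `g` fixing `u`. -/
lemma t5_mem_Bst_smul (g : ↥(SLV F V)) {u : V} (hgu : (g : V ≃ₗ[F] V) u = u) (ω : Ω)
    (φ : Dual F V) :
    φ ∈ Bst u (g • ω) ↔ φ ∘ₗ ((g : V ≃ₗ[F] V) : V →ₗ[F] V) ∈ Bst u ω := by
  rw [mem_Bst, mem_Bst]
  have h1 : (φ ∘ₗ ((g : V ≃ₗ[F] V) : V →ₗ[F] V)) u = φ u := by
    rw [LinearMap.comp_apply, LinearEquiv.coe_coe, hgu]
  have h2 := stv_smul_iff g u φ (g • ω)
  rw [hgu, inv_smul_smul] at h2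
  rw [h1, h2]

omit [Fintype F] [FiniteDimensional F V] in
lemma t5_card_Bst_smul (g : ↥(SLV F V)) {u : V} (hgu : (g : V ≃ₗ[F] V) u = u) (ω : Ω) :
    Nat.card ↥(Bst (F := F) u (g • ω)) = Nat.card ↥(Bst (F := F) u ω) := by
  let e : Dual F V ≃ Dual F V :=
    { toFun := fun φ => φ ∘ₗ ((g : V ≃ₗ[F] V) : V →ₗ[F] V)
      invFun := fun φ => φ ∘ₗ (((g : V ≃ₗ[F] V).symm : V ≃ₗ[F] V) : V →ₗ[F] V)
      left_inv := by
        intro φ
        apply LinearMap.ext
        intro x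
        simp
      right_inv := by
        intro φ
        apply LinearMap.ext
        intro x
        simp }
  exact Nat.card_congr (e.subtypeEquiv (fun φ => t5_mem_Bst_smul g hgu ω φ))

omit [Fintype F] [FiniteDimensional F V] in
lemma t5_perp_smul {p : ℕ} (τ : F →+ ZMod p) (g : ↥(SLV F V)) {u : V}
    (hgu : (g : V ≃ₗ[F] V) u = u) (ω : Ω) {x : V} (hx : x ∈ perp τ (Bst u ω)) :
    (g : V ≃ₗ[F] V) x ∈ perp τ (Bst u (g • ω)) := by
  rw [mem_perp] at hx ⊢
  intro φ hφ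
  have := hx _ ((t5_mem_Bst_smul g hgu ω φ).mp hφ)
  simpa using this

omit [Fintype F] [FiniteDimensional F V] in
lemma t5_Bst_le_PhiA (u : V) (ω : Ω) : Bst u ω ≤ (PhiA u : AddSubgroup (Dual F V)) := by
  intro φ hφ
  exact hφ.1

/-- If `B < PhiA u` then `perp τ B` is not contained in `F u`. -/
lemma t5_exists_perp_notMem {p : ℕ} (hn : 3 ≤ finrank F V) {u : V} (hu : u ≠ 0)
    (τ : F →+ ZMod p)
    (hT3 : ∀ B : AddSubgroup (Dual F V), B ≤ PhiA u →
      Nat.card ↥B * Nat.card ↥(perp τ B) = Fintype.card F ^ finrank F V)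
    (hPhi : Nat.card ↥(PhiA u : AddSubgroup (Dual F V)) = Fintype.card F ^ (finrank F V - 1))
    (B : AddSubgroup (Dual F V)) (hB : B ≤ PhiA u) (hne : B ≠ PhiA u) :
    ∃ v : V, v ∈ perp τ B ∧ v ∉ Submodule.span F {u} := by
  have : Finite V := Module.finite_of_finite F
  have : Finite (Dual F V) := Module.finite_of_finite F
  by_contra hcon
  push Not at hcon
  have hlt : Nat.card ↥B < Nat.card ↥(PhiA u : AddSubgroup (Dual F V)) := by
    by_contra h
    push Not at h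
    exact hne (AddSubgroup.eq_of_le_of_card_ge hB h)
  have hBpos : 0 < Nat.card ↥B := Nat.card_pos
  have hle : Nat.card ↥(perp τ B) ≤ Fintype.card F := by
    have h1 : Nat.card ↥(perp τ B) ≤ Nat.card ↥(Submodule.span F {u}) := by
      apply Nat.card_le_card_of_injective
        (fun x : ↥(perp τ B) => (⟨x.1, hcon x.1 x.2⟩ : ↥(Submodule.span F {u})))
      intro x y hxy
      apply Subtype.ext
      have h := congrArg (fun z : ↥(Submodule.span F {u}) => (z : V)) hxy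
      exact h
    have h2 : Nat.card ↥(Submodule.span F {u}) = Fintype.card F := by
      rw [← Nat.card_eq_fintype_card]
      exact Nat.card_congr (LinearEquiv.toSpanNonzeroSingleton F V u hu).toEquiv.symm
    rw [h2] at h1
    exact h1
  have h3 := hT3 B hB
  have hpow : Fintype.card F ^ finrank F V =
      Fintype.card F * Fintype.card F ^ (finrank F V - 1) := by
    rw [← pow_succ']
    congr 1
    omega
  have hq : 0 < Fintype.card F := Fintype.card_pos
  have : Nat.card ↥B * Nat.card ↥(perp τ B) < Fintype.card F ^ finrank F V := by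
    rw [hpow, ← hPhi]
    calc Nat.card ↥B * Nat.card ↥(perp τ B) ≤ Nat.card ↥B * Fintype.card F :=
          Nat.mul_le_mul_left _ hle
      _ = Fintype.card F * Nat.card ↥B := Nat.mul_comm _ _
      _ < Fintype.card F * Nat.card ↥(PhiA u : AddSubgroup (Dual F V)) :=
          Nat.mul_lt_mul_of_pos_left hlt hq
  omega

/-- `perp τ B = ⊤ ↔ |B| = 1`. -/
lemma t5_perp_eq_top_iff {p : ℕ} {u : V} (τ : F →+ ZMod p)
    (hT3 : ∀ B : AddSubgroup (Dual F V), B ≤ PhiA u →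
      Nat.card ↥B * Nat.card ↥(perp τ B) = Fintype.card F ^ finrank F V)
    (B : AddSubgroup (Dual F V)) (hB : B ≤ PhiA u) :
    perp τ B = ⊤ ↔ Nat.card ↥B = 1 := by
  have : Finite V := Module.finite_of_finite F
  have hV : Nat.card V = Fintype.card F ^ finrank F V := by
    rw [Module.natCard_eq_pow_finrank (K := F) (V := V), Nat.card_eq_fintype_card]
  have hVpos : 0 < Nat.card V := Nat.card_pos
  have h3 := hT3 B hB
  rw [← hV] at h3
  rw [← AddSubgroup.card_eq_iff_eq_top]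
  constructor
  · intro h
    rw [h] at h3
    have : Nat.card ↥B * Nat.card V = 1 * Nat.card V := by rw [h3, one_mul]
    exact Nat.eq_of_mul_eq_mul_right hVpos this
  · intro h
    rw [h, one_mul] at h3
    exact h3

/-- (T5) with (T2), (T3), `card_PhiA` as hypotheses. -/
theorem card_Bst_eq_core {p : ℕ} (hn : 3 ≤ finrank F V) {u : V} (hu : u ≠ 0)
    (τ : F →+ ZMod p)
    (hT2 : ∀ v : V, v ∉ Submodule.span F {u} → ∃ ω₀ : Ω, Bst u ω₀ ≤ Mt τ u v ∧
      ∀ ω : Ω, Bst u ω ≤ Mt τ u v → ∃ φ : Dual F V, φ u = 0 ∧ stv u φ • ω₀ = ω)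
    (hT3 : ∀ B : AddSubgroup (Dual F V), B ≤ PhiA u →
      Nat.card ↥B * Nat.card ↥(perp τ B) = Fintype.card F ^ finrank F V)
    (hPhi : Nat.card ↥(PhiA u : AddSubgroup (Dual F V)) = Fintype.card F ^ (finrank F V - 1))
    (ω ω' : Ω) (hω : Bst u ω ≠ (PhiA u : AddSubgroup (Dual F V)))
    (hω' : Bst u ω' ≠ (PhiA u : AddSubgroup (Dual F V))) :
    Nat.card ↥(Bst (F := F) u ω) = Nat.card ↥(Bst (F := F) u ω') ∧
      (perp τ (Bst u ω) = ⊤ ↔ perp τ (Bst u ω') = ⊤) := by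
  obtain ⟨v, hvT, hv⟩ := t5_exists_perp_notMem hn hu τ hT3 hPhi (Bst u ω) (t5_Bst_le_PhiA u ω) hω
  obtain ⟨v', hvT', hv'⟩ :=
    t5_exists_perp_notMem hn hu τ hT3 hPhi (Bst u ω') (t5_Bst_le_PhiA u ω') hω'
  obtain ⟨g, hgu, hgv⟩ := Cfsg.Agent.Helper95.MD.exists_sl_fix_map hn hu hv hv'
  have hle1 : Bst u (g • ω) ≤ Mt τ u v' := by
    intro φ hφ
    rw [mem_Mt]
    refine ⟨hφ.1, ?_⟩
    have h1 := t5_perp_smul τ g hgu ω hvT
    rw [hgv] at h1
    exact (mem_perp.mp h1) φ hφ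
  have hle2 : Bst u ω' ≤ Mt τ u v' := by
    intro φ hφ
    rw [mem_Mt]
    exact ⟨hφ.1, (mem_perp.mp hvT') φ hφ⟩
  obtain ⟨ω₀, -, horb⟩ := hT2 v' hv'
  obtain ⟨φ₁, hφ₁, h1⟩ := horb (g • ω) hle1
  obtain ⟨φ₂, hφ₂, h2⟩ := horb ω' hle2
  have hBeq : Bst (F := F) u (g • ω) = Bst u ω' := by
    rw [← h1, ← h2, t5_Bst_stv_smul hφ₁, t5_Bst_stv_smul hφ₂]
  have hcard : Nat.card ↥(Bst (F := F) u ω) = Nat.card ↥(Bst (F := F) u ω') := by
    rw [← hBeq, t5_card_Bst_smul g hgu ω]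
  refine ⟨hcard, ?_⟩
  rw [t5_perp_eq_top_iff τ hT3 _ (t5_Bst_le_PhiA u ω),
    t5_perp_eq_top_iff τ hT3 _ (t5_Bst_le_PhiA u ω'), hcard]

end tri

end Cfsg.Agent.Helper48.MD
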