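import Mathlib
import Cfsg.Agent.Lib.Helper7.M11UDefs
import Cfsg.Agent.Lib.Helper7.NSEDefs

/-!
# NSE project (S3592), piece (G4) `normal_eleven`

Server: helper7.  Statement verbatim from `tools/nse_sigs_helper7.lean.txt`.
-/

set_option autoImplicit false

namespace Cfsg.Agent.Helper48.NSE

open Subgroup Cfsg.Agent.Helper7.M11U Cfsg.Agent.Helper7.NSE
open scoped Pointwise

universe u

/-- (G4) -/
theorem normal_eleven {G : Type u} [Group G] [Finite G] (hc : Nat.card G = 7920)
    (h144 : Nat.card (Sylow 11 G) = 144)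
    (h1584 : ∀ (X : Type u) [Group X] [Finite X], Nat.card X = 1584 → ∀ P : Sylow 11 X,
      Nat.card (normalizer ((P : Subgroup X) : Set X)) = 11 → False)
    (N : Subgroup G) (hN : N.Normal) (h11 : 11 ∣ Nat.card N) : N = ⊤ := by
  have : Fact (Nat.Prime 11) := ⟨by norm_num⟩
  -- an element of order 11 in `N`
  obtain ⟨x, hx⟩ := exists_prime_orderOf_dvd_card' (G := N) 11 h11
  have hx' : orderOf (x : G) = 11 := by rw [Subgroup.orderOf_coe, hx]
  have hQ : IsPGroup 11 (Subgroup.zpowers (x : G)) := by
    rw [IsPGroup.iff_card]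
    exact ⟨1, by rw [Nat.card_zpowers, hx', pow_one]⟩
  obtain ⟨P, hP⟩ := hQ.exists_le_sylow
  -- `|P| = 11`
  have hPcard : Nat.card (P : Subgroup G) = 11 := by
    obtain ⟨k, hk⟩ := IsPGroup.iff_card.mp P.isPGroup'
    have hdvd : Nat.card (P : Subgroup G) ∣ 7920 := hc ▸ Subgroup.card_subgroup_dvd_card _
    have hge : 11 ≤ Nat.card (P : Subgroup G) := by
      have h1 := Subgroup.card_le_of_le hP
      rw [Nat.card_zpowers, hx'] at h1
      exact h1
    rw [hk] at hdvd hge ⊢
    have hk2 : k < 2 := by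
      by_contra h
      push Not at h
      have h2 : 11 ^ 2 ∣ 11 ^ k := pow_dvd_pow 11 h
      have h3 : 11 ^ 2 ∣ 7920 := dvd_trans h2 hdvd
      norm_num at h3
    interval_cases k
    · norm_num at hge
    · norm_num
  have hPN : (P : Subgroup G) ≤ N := by
    have heq : Subgroup.zpowers (x : G) = (P : Subgroup G) := by
      apply Subgroup.eq_of_le_of_card_ge hP
      rw [hPcard, Nat.card_zpowers, hx']
    rw [← heq, Subgroup.zpowers_le]
    exact x.2
  -- `|N(P)| = 55`
  set M : Subgroup G := normalizer ((P : Subgroup G) : Set G) with hM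
  have hMcard : Nat.card M = 55 := by
    have h1 : Nat.card (Sylow 11 G) = M.index := Sylow.card_eq_index_normalizer P
    have h2 := Subgroup.index_mul_card M
    rw [← h1, h144, hc] at h2
    omega
  -- Frattini
  have hfrat : M ⊔ N = ⊤ := Sylow.normalizer_sup_eq_top' P hPN
  have hrel : N.relIndex M = N.index := by
    rw [← Subgroup.relIndex_sup_right, hfrat, Subgroup.relIndex_top_right]
  have hprod : Nat.card (N ⊓ M : Subgroup G) * N.index = 55 := by
    have h1 := Subgroup.relIndex_mul_relIndex (⊥ : Subgroup G) (N ⊓ M) M bot_le inf_le_right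
    rw [Subgroup.relIndex_bot_left, Subgroup.relIndex_bot_left, Subgroup.inf_relIndex_right, hrel,
      hMcard] at h1
    exact h1
  have hNidx := Subgroup.index_mul_card N
  rw [hc] at hNidx
  -- `11 ∣ |N ⊓ M|`
  have h11a : 11 ∣ Nat.card (N ⊓ M : Subgroup G) := by
    have hle : (P : Subgroup G) ≤ N ⊓ M := le_inf hPN Subgroup.le_normalizer
    have := Subgroup.card_dvd_of_le hle
    rwa [hPcard] at this
  obtain ⟨b, hb⟩ := h11a
  rw [hb] at hprod
  have hb55 : b * N.index = 5 := by
    have : 11 * (b * N.index) = 11 * 5 := by rw [← mul_assoc]; exact hprod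
    exact Nat.eq_of_mul_eq_mul_left (by norm_num) this
  have hidx : N.index = 1 ∨ N.index = 5 := by
    have hd : N.index ∣ 5 := Dvd.intro_left b hb55
    have := (Nat.dvd_prime (by norm_num : Nat.Prime 5)).mp hd
    exact this
  rcases hidx with h1 | h5
  · exact Subgroup.index_eq_one.mp h1
  · exfalso
    have hb1 : b = 1 := by
      rw [h5] at hb55
      omega
    have hNcard : Nat.card N = 1584 := by
      rw [h5] at hNidx
      omega
    have hinf : Nat.card (N ⊓ M : Subgroup G) = 11 := by rw [hb, hb1]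
    apply h1584 (↥N) hNcard (P.subtype hPN)
    rw [Sylow.coe_subtype, ← Subgroup.subgroupOf_normalizer_eq hPN, ← hM,
      ← Subgroup.inf_subgroupOf_right M N, inf_comm,
      Nat.card_congr (Subgroup.subgroupOfEquivOfLe (inf_le_left : N ⊓ M ≤ N)).toEquiv, hinf]

end Cfsg.Agent.Helper48.NSE
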