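import Mathlib
import Cfsg.Agent.S0992
import Cfsg.Agent.Lib.Helper17.Simple

/-!
# O175560 server (helper24, S4274): piece (N29260), no simple group of order `29260 = 2^2 * 5 * 7 * 11 * 19`

`8 ∤ n`, so by `S0992` the centralizer of a Sylow 2-subgroup has index 3 in its normalizer; but `3 ∤ n`.
-/

set_option autoImplicit false

namespace Cfsg.Agent.Helper48.O175560

open Cfsg MulAction

universe u

/-- (N29260) -/
theorem no_29260 {G : Type u} [Group G] [Finite G] [IsSimpleGroup G] : Nat.card G ≠ 29260 := by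
  intro hG
  have hna : ¬ IsMulCommutative G :=
    Cfsg.Agent.Helper17.not_comm_of_not_prime (by rw [hG]; norm_num)
  have : Fact (Nat.Prime 2) := ⟨Nat.prime_two⟩
  obtain ⟨T⟩ : Nonempty (Sylow 2 G) := inferInstance
  obtain ⟨-, h3⟩ := Cfsg.Agent.S0992.result hna (by rw [hG]; exact ⟨14630, by norm_num⟩)
    (by rw [hG]; norm_num) T
  have hdvd : (Subgroup.centralizer ((T : Subgroup G) : Set G)).relIndex
      (Subgroup.normalizer ((T : Subgroup G) : Set G)) ∣
      Nat.card (Subgroup.normalizer ((T : Subgroup G) : Set G)) :=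
    Subgroup.index_dvd_card _
  rw [h3] at hdvd
  have h2 := hdvd.trans (Subgroup.card_subgroup_dvd_card _)
  rw [hG] at h2
  revert h2
  norm_num

end Cfsg.Agent.Helper48.O175560
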