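import Mathlib

/-!
# O2520 / S3C (Q7a): counting the elements whose fourth power is conjugate to `z`

Piece (Q7a) of helper20's sub-server S3C (helper55's server O2520, S0984).  Pure group theory:
the map `G × Option I → {g | g⁴ ~ z}`, `(h, o) ↦ h (o z) h⁻¹`, has fibres of at most `|C(z)|`
elements (`I` = the involutions of `C(z)`).
-/

set_option autoImplicit false

namespace Cfsg.Agent.Helper48.O2520

universe u

/-- (Q7a) -/
theorem s3c_card_over_class {G : Type u} [Group G] [Finite G] (z : G) (hz : z ^ 3 = 1) :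
    Nat.card G * (1 + Nat.card {i : G // orderOf i = 2 ∧ i * z = z * i}) ≤
      Nat.card {g : G // IsConj (g ^ 4) z} * Nat.card (Subgroup.centralizer ({z} : Set G)) := by
  classical
  letI : Fintype G := Fintype.ofFinite G
  -- the element of an option
  let oh : Option {i : G // orderOf i = 2 ∧ i * z = z * i} → G := fun o => o.elim 1 (fun j => j.1)
  have oh_sq : ∀ o, oh o ^ 2 = 1 := by
    intro o
    cases o with
    | none => simp [oh]
    | some j =>
      have h := j.2.1
      show j.1 ^ 2 = 1
      have h' := pow_orderOf_eq_one j.1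
      rw [h] at h'
      exact h'
  have oh_comm : ∀ o, Commute (oh o) z := by
    intro o
    cases o with
    | none => exact Commute.one_left z
    | some j => exact j.2.2
  have oh_inj : ∀ o o', oh o = oh o' → o = o' := by
    intro o o' h
    cases o with
    | none =>
      cases o' with
      | none => rfl
      | some j =>
        exfalso
        have h1 : j.1 = 1 := h.symm
        have h2 := j.2.1
        rw [h1, orderOf_one] at h2
        omega
    | some i =>
      cases o' with
      | none =>
        exfalso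
        have h1 : i.1 = 1 := h
        have h2 := i.2.1
        rw [h1, orderOf_one] at h2
        omega
      | some j =>
        have h1 : i.1 = j.1 := h
        rw [Subtype.ext h1]
  have pow4 : ∀ o, (oh o * z) ^ 4 = z := by
    intro o
    rw [(oh_comm o).mul_pow]
    have h1 : oh o ^ 4 = 1 := by
      calc oh o ^ 4 = (oh o ^ 2) ^ 2 := by rw [← pow_mul]
        _ = 1 := by rw [oh_sq o, one_pow]
    have h2 : z ^ 4 = z := by
      calc z ^ 4 = z ^ 3 * z := pow_succ z 3
        _ = z := by rw [hz, one_mul]
    rw [h1, h2, one_mul]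
  have pow3 : ∀ o, (oh o * z) ^ 3 = oh o := by
    intro o
    rw [(oh_comm o).mul_pow, hz, mul_one]
    calc oh o ^ 3 = oh o ^ 2 * oh o := pow_succ _ 2
      _ = oh o := by rw [oh_sq o, one_mul]
  -- the map
  let F : G × Option {i : G // orderOf i = 2 ∧ i * z = z * i} → {g : G // IsConj (g ^ 4) z} :=
    fun p => ⟨p.1 * (oh p.2 * z) * p.1⁻¹, by
      rw [conj_pow, pow4]
      exact (isConj_iff.mpr ⟨p.1, rfl⟩).symm⟩
  have hF4 : ∀ p, (F p).1 ^ 4 = p.1 * z * p.1⁻¹ := by
    intro p
    show (p.1 * (oh p.2 * z) * p.1⁻¹) ^ 4 = _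
    rw [conj_pow, pow4]
  have hF3 : ∀ p, (F p).1 ^ 3 = p.1 * oh p.2 * p.1⁻¹ := by
    intro p
    show (p.1 * (oh p.2 * z) * p.1⁻¹) ^ 3 = _
    rw [conj_pow, pow3]
  -- the fibres
  have hfib : ∀ g : {g : G // IsConj (g ^ 4) z},
      Nat.card {p : G × Option {i : G // orderOf i = 2 ∧ i * z = z * i} // F p = g} ≤
        Nat.card (Subgroup.centralizer ({z} : Set G)) := by
    intro g
    by_cases hne : Nonempty {p : G × Option {i : G // orderOf i = 2 ∧ i * z = z * i} // F p = g}
    · obtain ⟨⟨p0, hp0⟩⟩ := hne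
      have hmem : ∀ p : {p : G × Option {i : G // orderOf i = 2 ∧ i * z = z * i} // F p = g},
          p0.1⁻¹ * p.1.1 ∈ Subgroup.centralizer ({z} : Set G) := by
        intro p
        rw [Subgroup.mem_centralizer_singleton_iff]
        have h1 : p.1.1 * z * p.1.1⁻¹ = p0.1 * z * p0.1⁻¹ := by
          rw [← hF4, ← hF4, p.2, hp0]
        calc p0.1⁻¹ * p.1.1 * z = p0.1⁻¹ * (p.1.1 * z * p.1.1⁻¹) * p.1.1 := by group
          _ = p0.1⁻¹ * (p0.1 * z * p0.1⁻¹) * p.1.1 := by rw [h1]
          _ = z * (p0.1⁻¹ * p.1.1) := by group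
      refine Nat.card_le_card_of_injective
        (fun p => (⟨p0.1⁻¹ * p.1.1, hmem p⟩ : Subgroup.centralizer ({z} : Set G))) ?_
      intro p p' hpp
      have h1 : p0.1⁻¹ * p.1.1 = p0.1⁻¹ * p'.1.1 := congrArg Subtype.val hpp
      have h2 : p.1.1 = p'.1.1 := mul_left_cancel h1
      have h3 : p.1.1 * oh p.1.2 * p.1.1⁻¹ = p'.1.1 * oh p'.1.2 * p'.1.1⁻¹ := by
        rw [← hF3, ← hF3, p.2, p'.2]
      rw [← h2] at h3
      have h4 : oh p.1.2 = oh p'.1.2 := by
        exact mul_left_cancel (mul_right_cancel h3)
      have h5 : p.1.2 = p'.1.2 := oh_inj _ _ h4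
      exact Subtype.ext (Prod.ext h2 h5)
    · rw [not_nonempty_iff] at hne
      rw [Nat.card_of_isEmpty]
      exact Nat.zero_le _
  -- summing over the fibres
  have hsum : Nat.card (G × Option {i : G // orderOf i = 2 ∧ i * z = z * i}) ≤
      Nat.card {g : G // IsConj (g ^ 4) z} * Nat.card (Subgroup.centralizer ({z} : Set G)) := by
    letI : Fintype {g : G // IsConj (g ^ 4) z} := Fintype.ofFinite _
    letI : Fintype (G × Option {i : G // orderOf i = 2 ∧ i * z = z * i}) := Fintype.ofFinite _
    have h := Finset.card_le_mul_card_image_of_maps_to (f := F)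
      (s := (Finset.univ : Finset (G × Option {i : G // orderOf i = 2 ∧ i * z = z * i})))
      (t := (Finset.univ : Finset {g : G // IsConj (g ^ 4) z}))
      (fun a _ => Finset.mem_univ _) (Nat.card (Subgroup.centralizer ({z} : Set G))) (by
        intro g _
        have h1 := hfib g
        rw [Nat.card_eq_fintype_card, Fintype.card_subtype] at h1
        convert h1 using 2)
    rw [Finset.card_univ, Finset.card_univ, ← Nat.card_eq_fintype_card,
      ← Nat.card_eq_fintype_card] at h
    rw [mul_comm]
    exact h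
  have hprod : Nat.card (G × Option {i : G // orderOf i = 2 ∧ i * z = z * i}) =
      Nat.card G * (1 + Nat.card {i : G // orderOf i = 2 ∧ i * z = z * i}) := by
    rw [Nat.card_prod, Nat.card_eq_fintype_card (α := Option _), Fintype.card_option,
      ← Nat.card_eq_fintype_card, add_comm]
  rw [← hprod]
  exact hsum

end Cfsg.Agent.Helper48.O2520
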