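import Mathlib
import Cfsg.Agent.S1017

/-!
# O5760 server (helper7, S0980): piece (C16b) `false_of_sixteen`
-/

set_option autoImplicit false

namespace Cfsg.Agent.Helper48.O5760

open Cfsg MulAction

universe u

section GT

variable {G : Type u} [Group G] [Finite G] [IsSimpleGroup G]

/-- (C16b) `n_5 = 16` is impossible: a subgroup of order 9 of `C(R)` acts semiregularly on the
other 15 Sylow 5-subgroups. -/
theorem false_of_sixteen (hG : Nat.card G = 5760) (h16 : Nat.card (Sylow 5 G) = 16) (R : Sylow 5 G)
    (hC : 9 ∣ Nat.card (Subgroup.centralizer ((R : Subgroup G) : Set G)))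
    (hfix : ∀ x : G, orderOf x = 3 → x ∈ Subgroup.centralizer ((R : Subgroup G) : Set G) →
      Nat.card (fixedBy (Sylow 5 G) x) = 1) : False := by
  have : Fact (Nat.Prime 5) := ⟨by norm_num⟩
  have : Fact (Nat.Prime 3) := ⟨by norm_num⟩
  set C : Subgroup G := Subgroup.centralizer ((R : Subgroup G) : Set G) with hCdef
  -- a subgroup of order 9 in `C`
  obtain ⟨A', hA'⟩ := Sylow.exists_subgroup_card_pow_prime (G := ↥C) 3 (n := 2)
    (by norm_num; exact hC)
  set A : Subgroup G := A'.map C.subtype with hA
  have hAcard : Nat.card ↥A = 9 := by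
    rw [hA, Subgroup.card_map_of_injective (Subgroup.subtype_injective C), hA']
    norm_num
  have hAC : A ≤ C := Subgroup.map_subtype_le A'
  have hAR : ∀ a : G, a ∈ A → a • R = R := by
    intro a ha
    rw [Sylow.smul_eq_iff_mem_normalizer]
    exact Subgroup.centralizer_le_normalizer _ (hAC ha)
  -- nonidentity elements of `A` fix only `R`
  have hsemi : ∀ c : G, c ∈ A → c ≠ 1 → ∀ R' : Sylow 5 G, c • R' = R' → R' = R := by
    intro c hcA hc1 R' hcR'
    have hcfix : c ∈ stabilizer G R' := mem_stabilizer_iff.mpr hcR'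
    have hord : orderOf c ∣ 3 ^ 2 := by
      have h0 := Subgroup.orderOf_dvd_natCard A hcA
      rw [hAcard] at h0
      exact h0
    obtain ⟨k, -, hk⟩ := (Nat.dvd_prime_pow Nat.prime_three).mp hord
    rcases Nat.eq_zero_or_pos k with hk0 | hkpos
    · rw [hk0, pow_zero, orderOf_eq_one_iff] at hk
      exact absurd hk hc1
    obtain ⟨j, rfl⟩ : ∃ j, k = j + 1 := ⟨k - 1, by omega⟩
    set z : G := c ^ (3 ^ j) with hz
    have hzord : orderOf z = 3 := by
      rw [hz, orderOf_pow_of_dvd (pow_ne_zero _ (by norm_num))
        (by rw [hk]; exact pow_dvd_pow 3 (by omega)),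
        hk, pow_succ, Nat.mul_div_cancel_left _ (pow_pos (by norm_num) j)]
    have hzC : z ∈ C := C.pow_mem (hAC hcA) _
    have hzR' : z • R' = R' := by
      have h0 : z ∈ stabilizer G R' := (stabilizer G R').pow_mem hcfix _
      exact mem_stabilizer_iff.mp h0
    have hzR : z • R = R := by
      rw [Sylow.smul_eq_iff_mem_normalizer]
      exact Subgroup.centralizer_le_normalizer _ hzC
    have h1 := hfix z hzord hzC
    have hss : Subsingleton (fixedBy (Sylow 5 G) z) := (Nat.card_eq_one_iff_unique.mp h1).1
    have h2 : (⟨R, hzR⟩ : fixedBy (Sylow 5 G) z) = ⟨R', hzR'⟩ := Subsingleton.elim _ _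
    exact (congrArg Subtype.val h2).symm
  -- `a • R' = b • R''` forces equality or a common orbit
  have hkey : ∀ (a b : ↥A) (R' : Sylow 5 G), R' ≠ R → (a : G) • R' = (b : G) • R' → a = b := by
    intro a b R' hR' h12
    by_contra hne
    set c : G := (b : G)⁻¹ * (a : G) with hc
    have hcA : c ∈ A := A.mul_mem (A.inv_mem b.2) a.2
    have hc1 : c ≠ 1 := by
      intro h1
      apply hne
      apply Subtype.ext
      have h2 : (b : G) * c = (b : G) := by rw [h1, mul_one]
      rw [hc, mul_inv_cancel_left] at h2
      exact h2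
    have hcfix : c • R' = R' := by
      rw [hc, mul_smul, h12, inv_smul_smul]
    exact hR' (hsemi c hcA hc1 R' hcfix)
  -- another Sylow 5-subgroup
  have hnt : Nontrivial (Sylow 5 G) := by
    rw [← Finite.one_lt_card_iff_nontrivial, h16]
    norm_num
  obtain ⟨R', hR'⟩ := exists_ne R
  -- a third one outside `{R} ∪ A • R'`
  obtain ⟨R'', hR''R, hR''⟩ : ∃ R'' : Sylow 5 G, R'' ≠ R ∧ ∀ a : ↥A, R'' ≠ (a : G) • R' := by
    by_contra hno
    push Not at hno
    let g : Option ↥A → Sylow 5 G := fun o => match o with
      | none => R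
      | some a => (a : G) • R'
    have hg : Function.Surjective g := by
      intro S
      by_cases hS : S = R
      · exact ⟨none, hS.symm⟩
      · obtain ⟨a, ha⟩ := hno S hS
        exact ⟨some a, ha.symm⟩
    have hle := Nat.card_le_card_of_surjective g hg
    rw [h16, Finite.card_option, hAcard] at hle
    omega
  let f : Option (↥A ⊕ ↥A) → Sylow 5 G := fun o => match o with
    | none => R
    | some (Sum.inl a) => (a : G) • R'
    | some (Sum.inr a) => (a : G) • R''
  have hf : Function.Injective f := by
    rintro (_ | a | a) (_ | b | b) h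
    · rfl
    · exfalso
      have h1 : (b : G) • R = (b : G) • R' := by rw [hAR _ b.2]; exact h
      exact hR' (smul_left_cancel _ h1).symm
    · exfalso
      have h1 : (b : G) • R = (b : G) • R'' := by rw [hAR _ b.2]; exact h
      exact hR''R (smul_left_cancel _ h1).symm
    · exfalso
      have h1 : (a : G) • R' = (a : G) • R := by rw [hAR _ a.2]; exact h
      exact hR' (smul_left_cancel _ h1)
    · have h1 : (a : G) • R' = (b : G) • R' := h
      rw [hkey a b R' hR' h1]
    · exfalso
      have h1 : (a : G) • R' = (b : G) • R'' := h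
      have h2 : R'' = ((b⁻¹ * a : ↥A) : G) • R' := by
        rw [Subgroup.coe_mul, Subgroup.coe_inv, mul_smul, h1, inv_smul_smul]
      exact hR'' _ h2
    · exfalso
      have h1 : (a : G) • R'' = (a : G) • R := by rw [hAR _ a.2]; exact h
      exact hR''R (smul_left_cancel _ h1)
    · exfalso
      have h1 : (a : G) • R'' = (b : G) • R' := h
      have h2 : R'' = ((a⁻¹ * b : ↥A) : G) • R' := by
        rw [Subgroup.coe_mul, Subgroup.coe_inv, mul_smul, ← h1, inv_smul_smul]
      exact hR'' _ h2
    · have h1 : (a : G) • R'' = (b : G) • R'' := h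
      rw [hkey a b R'' hR''R h1]
  have hle := Nat.card_le_card_of_injective f hf
  rw [h16, Finite.card_option, Nat.card_sum, hAcard] at hle
  omega

end GT

end Cfsg.Agent.Helper48.O5760
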