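import Mathlib

/-!
# O5760 server (helper7, S0980): piece (C36a) `max_of_thirtysix`
-/

set_option autoImplicit false

namespace Cfsg.Agent.Helper48.O5760

open MulAction

universe u

section C36

variable {G : Type u} [Group G] [Finite G] [IsSimpleGroup G]

/-- (C36a) `N(R)` (of order 160) is a maximal subgroup. -/
theorem max_of_thirtysix (hG : Nat.card G = 5760) (R : Sylow 5 G)
    (hN : Nat.card (Subgroup.normalizer ((R : Subgroup G) : Set G)) = 160)
    (hidx : ∀ H : Subgroup G, H ≠ ⊤ → 10 ≤ H.index)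
    (hover : ∀ Y : Subgroup G, Subgroup.normalizer ((R : Subgroup G) : Set G) ≤ Y →
      ∃ a : ℕ, a % 5 = 1 ∧ Nat.card Y = a * Nat.card (Subgroup.normalizer ((R : Subgroup G) : Set G)))
    (Y : Subgroup G) (hNY : Subgroup.normalizer ((R : Subgroup G) : Set G) ≤ Y) :
    Y = Subgroup.normalizer ((R : Subgroup G) : Set G) ∨ Y = ⊤ := by
  obtain ⟨a, ha5, hYa⟩ := hover Y hNY
  rw [hN] at hYa
  have hdvd : Nat.card Y ∣ 5760 := by
    rw [← hG]; exact Subgroup.card_subgroup_dvd_card Y
  have hmul : Nat.card Y * Y.index = 5760 := by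
    rw [← hG]; exact Subgroup.card_mul_index Y
  rw [hYa] at hdvd hmul
  -- a * 160 ∣ 5760, so a ∣ 36
  have ha36 : a ∣ 36 := by
    have h1 : a * 160 ∣ 36 * 160 := by norm_num; exact hdvd
    exact Nat.dvd_of_mul_dvd_mul_right (by norm_num) h1
  have hale : a ≤ 36 := Nat.le_of_dvd (by norm_num) ha36
  have hcases : a = 1 ∨ a = 6 ∨ a = 36 := by
    interval_cases a <;> first | omega | (exfalso; revert ha36; decide)
  rcases hcases with rfl | rfl | rfl
  · left
    symm
    apply Subgroup.eq_of_le_of_card_ge hNY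
    rw [hYa, hN]
  · exfalso
    have hYtop : Y ≠ ⊤ := by
      intro htop
      rw [htop, Subgroup.index_top] at hmul
      omega
    have h10 := hidx Y hYtop
    have h6 : Y.index = 6 := by omega
    omega
  · right
    apply (Subgroup.card_eq_iff_eq_top Y).mp
    rw [hYa, hG]

end C36

end Cfsg.Agent.Helper48.O5760
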