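import Mathlib
import Cfsg.Agent.S1017
import Cfsg.Agent.Lib.Helper17.Simple
import Cfsg.Agent.Lib.Helper48.O5760IDX

/-!
# O5760 server (helper7, S0980): piece (N5) `card_sylow5_cases`
-/

set_option autoImplicit false

namespace Cfsg.Agent.Helper48.O5760

open Cfsg MulAction

universe u

/-- the arithmetic of `n_5 * |N(R)| = 5760` -/
theorem h48_n5_numerics (n k c : ℕ) (h : n * (k * (5 * c)) = 5760) (hk : k ∣ 5 - 1) (hk1 : k ≠ 1)
    (hn : n % 5 = 1) :
    (n = 1 ∨ n = 6 ∨ n = 16 ∨ n = 36 ∨ n = 96 ∨ n = 576) ∧ (k = 2 ∨ k = 4) ∧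
      k * (n * c) = 1152 := by
  have h' : k * (n * c) = 1152 := by
    have h0 : 5 * (k * (n * c)) = 5 * 1152 := by
      rw [show (5 : ℕ) * 1152 = 5760 by norm_num, ← h]; ring
    exact Nat.eq_of_mul_eq_mul_left (by norm_num) h0
  have hkle : k ≤ 4 := Nat.le_of_dvd (by norm_num) hk
  have hk0 : 0 < k := Nat.pos_of_dvd_of_pos hk (by norm_num)
  have hcpos : 0 < c := by
    rcases Nat.eq_zero_or_pos c with h0 | h0
    · subst h0; simp at h'
    · exact h0
  have hk2 : 2 ≤ k := by omega
  have hnle : n ≤ 576 := by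
    have h1 : n ≤ n * c := Nat.le_mul_of_pos_right n hcpos
    have h2 : 2 * n ≤ k * (n * c) := Nat.mul_le_mul hk2 h1
    omega
  obtain ⟨q, rfl⟩ : ∃ q, n = 5 * q + 1 := ⟨n / 5, by omega⟩
  have hq : q ≤ 115 := by omega
  refine ⟨?_, ?_, h'⟩
  · interval_cases k
    · interval_cases q <;> omega
    · exfalso; revert hk; decide
    · interval_cases q <;> omega
  · interval_cases k
    · left; rfl
    · exfalso; revert hk; decide
    · right; rfl

section GT

variable {G : Type u} [Group G] [Finite G] [IsSimpleGroup G]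

/-- (N5) the number of Sylow 5-subgroups is 16, 36, 96 or 576. -/
theorem card_sylow5_cases (hG : Nat.card G = 5760) :
    Nat.card (Sylow 5 G) = 16 ∨ Nat.card (Sylow 5 G) = 36 ∨ Nat.card (Sylow 5 G) = 96 ∨
      Nat.card (Sylow 5 G) = 576 := by
  have : Fact (Nat.Prime 5) := ⟨by norm_num⟩
  obtain ⟨R⟩ : Nonempty (Sylow 5 G) := inferInstance
  have hR : Nat.card (R : Subgroup G) = 5 := by
    have h0 := Cfsg.Agent.S1017.sylow_card_eq R 1 1152 (by rw [hG]; norm_num) (by norm_num)
    simpa using h0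
  obtain ⟨k, c, hk, hk1, hC, hN⟩ :=
    Cfsg.Agent.S1017.normalizer_structure R hR (by rw [hG]; norm_num)
  have hmul := Cfsg.Agent.S1017.card_sylow_mul_card_normalizer R
  rw [hN, hG] at hmul
  have hmod : Nat.card (Sylow 5 G) % 5 = 1 := Cfsg.Agent.S1017.card_sylow_mod
  rcases (h48_n5_numerics _ k c hmul hk hk1 hmod).1 with h1 | h6 | h
  · exfalso
    exact Cfsg.Agent.S1017.sylow_count_ne_one R (by rw [hR]; norm_num)
      (by rw [hR, hG]; norm_num) h1
  · exfalso
    have h0 := R.card_eq_index_normalizer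
    have hidx : (Subgroup.normalizer ((R : Subgroup G) : Set G)).index = 6 := by
      rw [← h6]; exact h0.symm
    have hne : Subgroup.normalizer ((R : Subgroup G) : Set G) ≠ ⊤ := by
      intro htop
      rw [htop, Subgroup.index_top] at hidx
      omega
    have h9 := index_ge_ten hG _ hne
    omega
  · exact h

end GT

end Cfsg.Agent.Helper48.O5760
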