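import Mathlib
import Cfsg.Agent.S1017
import Cfsg.Agent.Lib.Helper48.O5760N5

/-!
# O5760 server (helper7, S0980): piece (NS) `card_normalizer_centralizer`
-/

set_option autoImplicit false

namespace Cfsg.Agent.Helper48.O5760

open Cfsg MulAction

universe u

section GT

variable {G : Type u} [Group G] [Finite G] [IsSimpleGroup G]

/-- (NS) orders of `N(R)` and `C(R)` in the four cases. -/
theorem card_normalizer_centralizer (hG : Nat.card G = 5760) (R : Sylow 5 G) :
    Nat.card (R : Subgroup G) = 5 ∧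
    (Nat.card (Sylow 5 G) = 16 →
      Nat.card (Subgroup.normalizer ((R : Subgroup G) : Set G)) = 360 ∧
      (Nat.card (Subgroup.centralizer ((R : Subgroup G) : Set G)) = 90 ∨
       Nat.card (Subgroup.centralizer ((R : Subgroup G) : Set G)) = 180)) ∧
    (Nat.card (Sylow 5 G) = 36 →
      Nat.card (Subgroup.normalizer ((R : Subgroup G) : Set G)) = 160 ∧
      (Nat.card (Subgroup.centralizer ((R : Subgroup G) : Set G)) = 40 ∨
       Nat.card (Subgroup.centralizer ((R : Subgroup G) : Set G)) = 80)) ∧
    (Nat.card (Sylow 5 G) = 96 →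
      Nat.card (Subgroup.normalizer ((R : Subgroup G) : Set G)) = 60 ∧
      (Nat.card (Subgroup.centralizer ((R : Subgroup G) : Set G)) = 15 ∨
       Nat.card (Subgroup.centralizer ((R : Subgroup G) : Set G)) = 30)) ∧
    (Nat.card (Sylow 5 G) = 576 →
      Nat.card (Subgroup.normalizer ((R : Subgroup G) : Set G)) = 10 ∧
      Nat.card (Subgroup.centralizer ((R : Subgroup G) : Set G)) = 5) := by
  have : Fact (Nat.Prime 5) := ⟨by norm_num⟩
  have hR : Nat.card (R : Subgroup G) = 5 := by
    have h0 := Cfsg.Agent.S1017.sylow_card_eq R 1 1152 (by rw [hG]; norm_num) (by norm_num)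
    simpa using h0
  obtain ⟨k, c, hk, hk1, hC, hN⟩ :=
    Cfsg.Agent.S1017.normalizer_structure R hR (by rw [hG]; norm_num)
  have hmul := Cfsg.Agent.S1017.card_sylow_mul_card_normalizer R
  rw [hN, hG] at hmul
  have hmod : Nat.card (Sylow 5 G) % 5 = 1 := Cfsg.Agent.S1017.card_sylow_mod
  obtain ⟨-, hk24, h1152⟩ := h48_n5_numerics _ k c hmul hk hk1 hmod
  rw [hC, hN]
  refine ⟨hR, ?_, ?_, ?_, ?_⟩
  · intro h16
    rw [h16] at h1152
    rcases hk24 with rfl | rfl <;> omega
  · intro h36
    rw [h36] at h1152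
    rcases hk24 with rfl | rfl <;> omega
  · intro h96
    rw [h96] at h1152
    rcases hk24 with rfl | rfl <;> omega
  · intro h576
    rw [h576] at h1152
    rcases hk24 with rfl | rfl <;> omega

end GT

end Cfsg.Agent.Helper48.O5760
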