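import Mathlib
import Cfsg.Prelude.Def_Spor_Fi22
import Cfsg.Prelude.Def_Classical
import Cfsg.Agent.Lib.Helper27.Fi22.Tower

/-!
# O73 project (S1686, server: lead), piece (PERF)

The presented group `A1G` of helper27's tower (generators `a..i`, relators `a`, Coxeter relators on
`b..i`, spider, `(bcdefgh)^9`) is perfect.  Statement verbatim from `tools/o73_sigs_lead.lean.txt`.
-/

set_option autoImplicit false

namespace Cfsg.Agent.Helper48.O73

open Cfsg.Spor.Fi22 (Gen)
open Cfsg.Agent.Helper28 Cfsg.Agent.Helper27.Fi22TC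

/-- the presented group A1 of helper27's tower -/
abbrev A1G : Type := PresentedGroup Cfsg.Agent.Helper27.Fi22TC.A1.D.rels

/-- image of a generator in the abelianisation -/
noncomputable def h48ab (x : Gen) : Abelianization A1G :=
  Abelianization.of (PresentedGroup.of x : A1G)

/-- the image of a word in the abelianisation -/
theorem h48ab_wG (w : Word Gen) :
    Abelianization.of (wG A1.D.rels w : A1G) =
      (w.map (fun l => if l.2 = true then h48ab l.1 else (h48ab l.1)⁻¹)).prod := by
  induction w with
  | nil => rw [wG_nil, map_one]; rfl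
  | cons l w ih =>
    rw [wG_cons, map_mul, ih, List.map_cons, List.prod_cons]
    congr 1
    obtain ⟨x, b⟩ := l
    cases b
    · rw [lG_false, map_inv]; rfl
    · rw [lG_true]; rfl

/-- a positive word all of whose letters have the same image `t` maps to a power of `t` -/
theorem h48ab_pow (t : Abelianization A1G) (w : Word Gen)
    (h : ∀ l ∈ w, l.2 = true ∧ h48ab l.1 = t) :
    Abelianization.of (wG A1.D.rels w : A1G) = t ^ w.length := by
  rw [h48ab_wG]
  induction w with
  | nil => simp
  | cons l w ih =>
    rw [List.map_cons, List.prod_cons, ih (fun l' hl' => h l' (List.mem_cons_of_mem _ hl')),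
      List.length_cons, pow_succ']
    congr 1
    obtain ⟨h1, h2⟩ := h l (List.mem_cons_self)
    rw [if_pos h1, h2]

theorem h48ab_sq (x : Gen) : h48ab x * h48ab x = 1 := by
  have h := congrArg (Abelianization.of (G := A1G)) (A1.hinv x)
  rw [h48ab_wG, map_one] at h
  simpa using h

/-- a braid relator identifies the images -/
theorem h48ab_eq (x y : Gen)
    (h : wG A1.D.rels [(x, true), (y, true), (x, true), (y, true), (x, true), (y, true)] = 1) :
    h48ab x = h48ab y := by
  have h := congrArg (Abelianization.of (G := A1G)) h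
  rw [h48ab_wG, map_one] at h
  simp only [List.map_cons, List.map_nil, if_true, List.prod_cons, List.prod_nil, mul_one] at h
  have hx := h48ab_sq x
  have hy := h48ab_sq y
  -- x y x y x y = 1 in an abelian group with x² = y² = 1
  have e : h48ab x * (h48ab y * (h48ab x * (h48ab y * (h48ab x * h48ab y)))) =
      (h48ab x * h48ab x) * (h48ab y * h48ab y) * (h48ab x * h48ab y) := by
    simp only [mul_left_comm, mul_comm]
  rw [e, hx, hy, one_mul, one_mul] at h
  calc h48ab x = h48ab x * (h48ab y * h48ab y) := by rw [hy, mul_one]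
    _ = (h48ab x * h48ab y) * h48ab y := by rw [mul_assoc]
    _ = h48ab y := by rw [h, one_mul]

theorem h48ab_all (x : Gen) (hx : x ≠ Gen.a) : h48ab x = h48ab Gen.d := by
  have hbc : h48ab Gen.b = h48ab Gen.c := h48ab_eq _ _ A1.relone_9
  have hcd : h48ab Gen.c = h48ab Gen.d := h48ab_eq _ _ A1.relone_16
  have hde : h48ab Gen.d = h48ab Gen.e := h48ab_eq _ _ A1.relone_22
  have hdh : h48ab Gen.d = h48ab Gen.h := h48ab_eq _ _ A1.relone_25
  have hef : h48ab Gen.e = h48ab Gen.f := h48ab_eq _ _ A1.relone_27
  have hfg : h48ab Gen.f = h48ab Gen.g := h48ab_eq _ _ A1.relone_31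
  have hhi : h48ab Gen.h = h48ab Gen.i := h48ab_eq _ _ A1.relone_36
  cases x
  · exact absurd rfl hx
  · exact hbc.trans hcd
  · exact hcd
  · rfl
  · exact hde.symm
  · exact (hde.trans hef).symm
  · exact (hde.trans (hef.trans hfg)).symm
  · exact hdh.symm
  · exact (hdh.trans hhi).symm

theorem h48ab_a : h48ab Gen.a = 1 := by
  have h := congrArg (Abelianization.of (G := A1G)) A1.relone_0
  rw [h48ab_wG, map_one] at h
  simpa [A1.R0] using h

theorem h48ab_d : h48ab Gen.d = 1 := by
  set t := h48ab Gen.d with ht
  have h := h48ab_pow t A1.R38 (by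
    intro l hl
    have key : ∀ l ∈ A1.R38, l.2 = true ∧ l.1 ≠ Gen.a := by decide
    exact ⟨(key l hl).1, h48ab_all l.1 (key l hl).2⟩)
  rw [A1.relone_38, map_one] at h
  have hlen : A1.R38.length = 63 := by decide
  rw [hlen] at h
  have hsq : t * t = 1 := h48ab_sq _
  have : t ^ 63 = t := by
    rw [show 63 = 2 * 31 + 1 from rfl, pow_succ, pow_mul, pow_two, hsq, one_pow, one_mul]
  rw [← this, ← h]

theorem h48ab_one (x : Gen) : h48ab x = 1 := by
  by_cases hx : x = Gen.a
  · rw [hx, h48ab_a]
  · rw [h48ab_all x hx, h48ab_d]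

theorem h48ab_mem (w : FreeGroup Gen) :
    Abelianization.of (PresentedGroup.mk A1.D.rels w : A1G) = 1 := by
  induction w using FreeGroup.induction_on with
  | C1 => rw [map_one, map_one]
  | of x => exact h48ab_one x
  | inv_of x h => rw [map_inv, map_inv, h, inv_one]
  | mul x y hx hy => rw [map_mul, map_mul, hx, hy, one_mul]

/-- (PERF) `A1G` is perfect. -/
theorem perf : commutator A1G = ⊤ := by
  rw [eq_top_iff]
  intro g _
  obtain ⟨w, rfl⟩ := PresentedGroup.mk_surjective _ g
  have h := h48ab_mem w
  rw [← QuotientGroup.eq_one_iff]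
  exact h

end Cfsg.Agent.Helper48.O73
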