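import Mathlib
import Cfsg.Prelude.Def_Local
import Cfsg.Prelude.Def_CaseTheorems
import Cfsg.Agent.Lib.Helper48.Cores
import Cfsg.Agent.Lib.Helper48.CoprimeGen
import Cfsg.Agent.Lib.Helper30.AxB
import Cfsg.Agent.Lib.Helper30.Cores
import Cfsg.Agent.Lib.Helper30.FStarLocal
import Cfsg.Agent.Lib.Helper22.Bender
import Cfsg.Agent.Lib.Helper22.Fitting
import Cfsg.Agent.Lib.Helper31.HyperplaneGen

/-!
# The functor `y ↦ O(C_X(y))` on an elementary abelian 2-group, one of whose involutions has a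
centralizer of characteristic 2

Abstract lemmas inside a finite group `H`.
-/

set_option autoImplicit false

namespace Cfsg.Agent.Helper48

open Subgroup Cfsg

section abstract

variable {H : Type*} [Group H] [Finite H]

/-- Thompson `A × B` applied to an involution `t` and an odd-order subgroup `D ≤ C_H(t)` normalized
by `C_H(t)`: `D` centralizes `O_2(H)`. -/
theorem le_centralizer_pCore_two_of_involution (t : H) (ht : t ^ 2 = 1) (D : Subgroup H)
    (hD : (Nat.card D).Coprime 2) (hDt : D ≤ centralizer ({t} : Set H))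
    (hDn : centralizer ({t} : Set H) ≤ normalizer (D : Set H)) :
    D ≤ centralizer ((pCore 2 H : Subgroup H) : Set H) := by
  have : Fact (Nat.Prime 2) := ⟨Nat.prime_two⟩
  have hQn : (pCore 2 H).Normal := inferInstance
  have hQ : IsPGroup 2 (pCore 2 H) := isPGroup_pCore 2 H
  have hA : IsPGroup 2 (zpowers t) := by
    intro x
    refine ⟨1, ?_⟩
    obtain ⟨x, hx⟩ := x
    obtain ⟨k, rfl⟩ := Subgroup.mem_zpowers_iff.mp hx
    apply Subtype.ext
    simp only [pow_one, Subgroup.coe_pow, Subgroup.coe_one]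
    rw [← zpow_natCast, ← zpow_mul, mul_comm, zpow_mul, zpow_natCast, ht, one_zpow]
  have hAB : ⁅zpowers t, D⁆ = ⊥ := by
    rw [Subgroup.commutator_eq_bot_iff_le_centralizer, Subgroup.zpowers_le,
      Subgroup.mem_centralizer_iff]
    intro d hd
    exact ((Subgroup.mem_centralizer_iff.mp (hDt hd)) t rfl).symm
  have hnorm : normalizer ((pCore 2 H : Subgroup H) : Set H) = ⊤ := Subgroup.normalizer_eq_top _
  have hC : pCore 2 H ⊓ centralizer ((zpowers t : Subgroup H) : Set H) ≤
      centralizer (D : Set H) := by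
    intro q hq
    obtain ⟨hqQ, hqt⟩ := Subgroup.mem_inf.mp hq
    rw [Subgroup.mem_centralizer_iff]
    intro d hd
    have hqt' : q ∈ centralizer ({t} : Set H) := by
      rw [Subgroup.mem_centralizer_iff]
      intro x hx
      rw [Set.mem_singleton_iff] at hx
      subst hx
      exact (Subgroup.mem_centralizer_iff.mp hqt) x (Subgroup.mem_zpowers x)
    -- the commutator lies in `D ⊓ Q`
    have h1 : q * d * q⁻¹ * d⁻¹ ∈ D := by
      have := (Subgroup.mem_normalizer_iff.mp (hDn hqt') d).mp hd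
      exact D.mul_mem this (D.inv_mem hd)
    have h2 : q * d * q⁻¹ * d⁻¹ ∈ pCore 2 H := by
      have h3 : d * q⁻¹ * d⁻¹ ∈ pCore 2 H := hQn.conj_mem _ ((pCore 2 H).inv_mem hqQ) d
      have : q * d * q⁻¹ * d⁻¹ = q * (d * q⁻¹ * d⁻¹) := by group
      rw [this]
      exact (pCore 2 H).mul_mem hqQ h3
    have hbot : D ⊓ pCore 2 H = ⊥ :=
      Cfsg.Agent.Helper30.eq_bot_of_isPGroup_of_coprime _ (hQ.to_le inf_le_right)
        (Nat.Coprime.coprime_dvd_left (Subgroup.card_dvd_of_le inf_le_left) hD)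
    have h4 : q * d * q⁻¹ * d⁻¹ = 1 := by
      have : q * d * q⁻¹ * d⁻¹ ∈ D ⊓ pCore 2 H := Subgroup.mem_inf.mpr ⟨h1, h2⟩
      rw [hbot] at this
      exact Subgroup.mem_bot.mp this
    calc d * q = (q * d * q⁻¹ * d⁻¹)⁻¹ * (q * d) := by group
      _ = q * d := by rw [h4]; simp
  have := Cfsg.Agent.Helper30.thompson_AxB (p := 2) (zpowers t) D hA hD hAB (pCore 2 H) hQ
    (by rw [hnorm]; exact le_top) (by rw [hnorm]; exact le_top) hC
  rw [Subgroup.commutator_eq_bot_iff_le_centralizer] at this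
  rw [Subgroup.le_centralizer_iff]
  exact this

/-- In a group of characteristic 2, an odd-order subgroup centralizing `O_2` is trivial. -/
theorem eq_bot_of_le_centralizer_pCore_two
    (hH : generalizedFittingSubgroup H = pCore 2 H) (D : Subgroup H)
    (hD : (Nat.card D).Coprime 2)
    (hDc : D ≤ centralizer ((pCore 2 H : Subgroup H) : Set H)) : D = ⊥ := by
  have : Fact (Nat.Prime 2) := ⟨Nat.prime_two⟩
  have h1 : D ≤ pCore 2 H := by
    have := Cfsg.Agent.Helper22.centralizer_generalizedFittingSubgroup_le (G := H)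
    rw [hH] at this
    exact hDc.trans this
  exact Cfsg.Agent.Helper30.eq_bot_of_isPGroup_of_coprime _ ((isPGroup_pCore 2 H).to_le h1) hD

/-- In a group without components, an odd-order subgroup centralizing `O_2` and `O` lies in `O`. -/
theorem le_oddCoreCent_of_le_centralizer_aux (hH : layer H = ⊥) (D : Subgroup H)
    (hD : (Nat.card D).Coprime 2)
    (hDc : D ≤ centralizer ((pCore 2 H : Subgroup H) : Set H))
    (hDo : D ≤ centralizer ((pPrimeCore 2 H : Subgroup H) : Set H)) : D ≤ pPrimeCore 2 H := by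
  have : Fact (Nat.Prime 2) := ⟨Nat.prime_two⟩
  have hF : generalizedFittingSubgroup H ≤ pCore 2 H ⊔ pPrimeCore 2 H := by
    unfold generalizedFittingSubgroup
    rw [hH, bot_sup_eq]
    exact Cfsg.Agent.Helper22.fittingSubgroup_le_pCore_sup_pPrimeCore 2
  have h1 : D ≤ centralizer ((pCore 2 H ⊔ pPrimeCore 2 H : Subgroup H) : Set H) := by
    rw [Subgroup.le_centralizer_iff]
    apply sup_le
    · rw [← Subgroup.le_centralizer_iff]; exact hDc
    · rw [← Subgroup.le_centralizer_iff]; exact hDo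
  have h2 : D ≤ pCore 2 H ⊔ pPrimeCore 2 H :=
    ((h1.trans (Subgroup.centralizer_le hF)).trans
      (Cfsg.Agent.Helper22.centralizer_generalizedFittingSubgroup_le (G := H))).trans hF
  -- pass to the quotient by `O(H)`
  have hRn : (pPrimeCore 2 H).Normal := inferInstance
  have h3 : D.map (QuotientGroup.mk' (pPrimeCore 2 H)) ≤
      (pCore 2 H).map (QuotientGroup.mk' (pPrimeCore 2 H)) := by
    have := Subgroup.map_mono (f := QuotientGroup.mk' (pPrimeCore 2 H)) h2
    rw [Subgroup.map_sup] at this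
    have hker : (pPrimeCore 2 H).map (QuotientGroup.mk' (pPrimeCore 2 H)) = ⊥ := by
      rw [Subgroup.map_eq_bot_iff, QuotientGroup.ker_mk']
    rwa [hker, sup_bot_eq] at this
  have h4 : IsPGroup 2 (D.map (QuotientGroup.mk' (pPrimeCore 2 H))) :=
    ((isPGroup_pCore 2 H).map _).to_le h3
  have h5 : (Nat.card (D.map (QuotientGroup.mk' (pPrimeCore 2 H)))).Coprime 2 :=
    Nat.Coprime.coprime_dvd_left (Subgroup.card_map_dvd _ _) hD
  have h6 := Cfsg.Agent.Helper30.eq_bot_of_isPGroup_of_coprime _ h4 h5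
  rw [Subgroup.map_eq_bot_iff, QuotientGroup.ker_mk'] at h6
  exact h6

end abstract


section theta

variable {X : Type*} [Group X] [Finite X]

/-- `O(C_X(y))` as a subgroup of `X`. -/
def oddCoreCent (y : X) : Subgroup X :=
  (pPrimeCore 2 ↥(centralizer ({y} : Set X))).map (centralizer ({y} : Set X)).subtype

theorem oddCoreCent_le (y : X) : oddCoreCent y ≤ centralizer ({y} : Set X) :=
  Subgroup.map_subtype_le _

theorem oddCoreCent_card (y : X) : (Nat.card (oddCoreCent y)).Coprime 2 := by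
  unfold oddCoreCent
  exact Nat.Coprime.coprime_dvd_left (Subgroup.card_map_dvd _ _) (pPrimeCore_card_coprime 2)

theorem le_normalizer_oddCoreCent (y : X) :
    centralizer ({y} : Set X) ≤ normalizer ((oddCoreCent y : Subgroup X) : Set X) := by
  have hn : (pPrimeCore 2 ↥(centralizer ({y} : Set X))).Normal := inferInstance
  have := Subgroup.le_normalizer_map (centralizer ({y} : Set X)).subtype
    (H := pPrimeCore 2 ↥(centralizer ({y} : Set X)))
  rw [Subgroup.normalizer_eq_top, ← MonoidHom.range_eq_map, Subgroup.range_subtype] at this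
  exact this

theorem le_oddCoreCent (y : X) (N : Subgroup X) (hN : N ≤ centralizer ({y} : Set X))
    (hNn : centralizer ({y} : Set X) ≤ normalizer (N : Set X)) (hc : (Nat.card N).Coprime 2) :
    N ≤ oddCoreCent y := by
  have h1 : (N.subgroupOf (centralizer ({y} : Set X))).Normal :=
    (Subgroup.normal_subgroupOf_iff_le_normalizer hN).mpr hNn
  have h2 : (Nat.card (N.subgroupOf (centralizer ({y} : Set X)))).Coprime 2 := by
    rw [Nat.card_congr (Subgroup.subgroupOfEquivOfLe hN).toEquiv]; exact hc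
  have h3 := le_pPrimeCore h1 h2
  have h4 := Subgroup.map_mono (f := (centralizer ({y} : Set X)).subtype) h3
  rwa [Subgroup.map_subgroupOf_eq_of_le hN] at h4

/-- Conjugation: `g O(C(y)) g⁻¹ ≤ O(C(g y g⁻¹))`. -/
theorem map_conj_oddCoreCent_le (g y : X) :
    (oddCoreCent y).map (MulAut.conj g).toMonoidHom ≤ oddCoreCent (g * y * g⁻¹) := by
  apply le_oddCoreCent
  · rintro _ ⟨a, ha, rfl⟩
    have h1 := Subgroup.mem_centralizer_singleton_iff.mp (oddCoreCent_le y ha)
    rw [Subgroup.mem_centralizer_singleton_iff]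
    simp only [MulEquiv.coe_toMonoidHom, MulAut.conj_apply]
    calc g * a * g⁻¹ * (g * y * g⁻¹) = g * (a * y) * g⁻¹ := by group
      _ = g * (y * a) * g⁻¹ := by rw [h1]
      _ = g * y * g⁻¹ * (g * a * g⁻¹) := by group
  · intro c hc
    have hc' : g⁻¹ * c * g ∈ centralizer ({y} : Set X) := by
      rw [Subgroup.mem_centralizer_singleton_iff] at hc ⊢
      have : c * (g * y * g⁻¹) = g * y * g⁻¹ * c := hc
      calc g⁻¹ * c * g * y = g⁻¹ * (c * (g * y * g⁻¹)) * g := by group
        _ = g⁻¹ * (g * y * g⁻¹ * c) * g := by rw [this]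
        _ = y * (g⁻¹ * c * g) := by group
    have hn := le_normalizer_oddCoreCent y hc'
    rw [Subgroup.mem_normalizer_iff] at hn ⊢
    intro x
    constructor
    · rintro ⟨a, ha, rfl⟩
      refine ⟨g⁻¹ * c * g * a * (g⁻¹ * c * g)⁻¹, (hn a).mp ha, ?_⟩
      simp only [MulEquiv.coe_toMonoidHom, MulAut.conj_apply]
      group
    · rintro ⟨a, ha, hax⟩
      have ha' := (hn (g⁻¹ * x * g)).mpr (by
        have : g⁻¹ * c * g * (g⁻¹ * x * g) * (g⁻¹ * c * g)⁻¹ = a := by
          simp only [MulEquiv.coe_toMonoidHom, MulAut.conj_apply] at hax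
          calc g⁻¹ * c * g * (g⁻¹ * x * g) * (g⁻¹ * c * g)⁻¹ = g⁻¹ * (c * x * c⁻¹) * g := by group
            _ = g⁻¹ * (g * a * g⁻¹) * g := by rw [hax]
            _ = a := by group
        rw [this]; exact ha)
      refine ⟨g⁻¹ * x * g, ha', ?_⟩
      simp only [MulEquiv.coe_toMonoidHom, MulAut.conj_apply]
      group
  · exact Nat.Coprime.coprime_dvd_left (Subgroup.card_map_dvd _ _) (oddCoreCent_card y)

/-- `O(C(y)) ∩ C(u)`, viewed inside `C(u)`, centralizes `O_2(C(u))`, for commuting `y`, `u`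
with `y² = 1`. -/
theorem oddCoreCent_inf_le_centralizer_pCore (y u : X) (hy : y ^ 2 = 1) (hyu : y * u = u * y) :
    (oddCoreCent y ⊓ centralizer ({u} : Set X)).subgroupOf (centralizer ({u} : Set X)) ≤
      centralizer ((pCore 2 ↥(centralizer ({u} : Set X)) : Subgroup _) : Set _) := by
  have hyC : y ∈ centralizer ({u} : Set X) := Subgroup.mem_centralizer_singleton_iff.mpr hyu
  apply le_centralizer_pCore_two_of_involution (⟨y, hyC⟩ : centralizer ({u} : Set X))
    (Subtype.ext (by simpa using hy))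
  · rw [Nat.card_congr (Subgroup.subgroupOfEquivOfLe
      (inf_le_right : oddCoreCent y ⊓ centralizer ({u} : Set X) ≤ _)).toEquiv]
    exact Nat.Coprime.coprime_dvd_left (Subgroup.card_dvd_of_le inf_le_left) (oddCoreCent_card y)
  · intro d hd
    rw [Subgroup.mem_subgroupOf] at hd
    have h1 := Subgroup.mem_centralizer_singleton_iff.mp (oddCoreCent_le y hd.1)
    rw [Subgroup.mem_centralizer_singleton_iff]
    exact Subtype.ext h1
  · intro c hc
    have hcy : (c : X) ∈ centralizer ({y} : Set X) := by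
      rw [Subgroup.mem_centralizer_singleton_iff] at hc ⊢
      exact congrArg Subtype.val hc
    have hn : (c : X) ∈ normalizer ((oddCoreCent y ⊓ centralizer ({u} : Set X) : Subgroup X) : Set X) :=
      mem_normalizer_inf' (le_normalizer_oddCoreCent y hcy) (Subgroup.le_normalizer c.2)
    rw [Subgroup.mem_normalizer_iff] at hn ⊢
    intro d
    rw [Subgroup.mem_subgroupOf, Subgroup.mem_subgroupOf]
    exact hn d

end theta


section general

variable {G : Type*} [Group G]

theorem card_mul_relIndex_of_le {H K : Subgroup G} (h : H ≤ K) :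
    Nat.card H * H.relIndex K = Nat.card K := by
  rw [← Subgroup.relIndex_bot_left, ← Subgroup.relIndex_bot_left]
  exact Subgroup.relIndex_mul_relIndex ⊥ H K bot_le h

/-- Two subgroups of index at most 2 in a group of order at least 8 meet nontrivially. -/
theorem exists_ne_one_mem_inf_of_index_le_two [Finite G] (Y E' E'' : Subgroup G) (h' : E' ≤ Y)
    (h'' : E'' ≤ Y) (hc' : Nat.card Y ≤ 2 * Nat.card E') (hc'' : Nat.card Y ≤ 2 * Nat.card E'')
    (h8 : 8 ≤ Nat.card Y) : ∃ u ∈ E' ⊓ E'', u ≠ 1 := by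
  by_contra hcon
  push Not at hcon
  have hbot : E' ⊓ E'' = ⊥ := by
    rw [eq_bot_iff]
    intro u hu
    exact Subgroup.mem_bot.mpr (hcon u hu)
  have e1 := card_mul_relIndex_of_le h'
  have e2 := card_mul_relIndex_of_le h''
  have e3 := card_mul_relIndex_of_le (inf_le_left.trans h' : E' ⊓ E'' ≤ Y)
  rw [hbot, Subgroup.card_bot, one_mul] at e3
  have hpos' : 0 < Nat.card E' := Nat.card_pos
  have hpos'' : 0 < Nat.card E'' := Nat.card_pos
  have i1 : E'.relIndex Y ≤ 2 := by
    by_contra hlt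
    push Not at hlt
    have : 2 * Nat.card E' < Nat.card E' * E'.relIndex Y := by nlinarith
    omega
  have i2 : E''.relIndex Y ≤ 2 := by
    by_contra hlt
    push Not at hlt
    have : 2 * Nat.card E'' < Nat.card E'' * E''.relIndex Y := by nlinarith
    omega
  have i3 : (E' ⊓ E'').relIndex Y ≤ E'.relIndex Y * E''.relIndex Y := Subgroup.relIndex_inf_le
  rw [hbot] at i3
  have : (⊥ : Subgroup G).relIndex Y ≤ 4 := by nlinarith
  omega

/-- If `z` inverts `d`, `r` and `d r d⁻¹`, then `d²` commutes with `r`. -/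
theorem sq_mul_eq_of_inverted (z d r : G) (hd : z * d * z⁻¹ = d⁻¹) (hr : z * r * z⁻¹ = r⁻¹)
    (hdr : z * (d * r * d⁻¹) * z⁻¹ = (d * r * d⁻¹)⁻¹) : d ^ 2 * r = r * d ^ 2 := by
  have h1 : z * (d * r * d⁻¹) * z⁻¹ = (z * d * z⁻¹) * (z * r * z⁻¹) * (z * d * z⁻¹)⁻¹ := by group
  rw [hd, hr] at h1
  rw [h1] at hdr
  -- hdr : d⁻¹ * r⁻¹ * d⁻¹⁻¹ = (d * r * d⁻¹)⁻¹
  have h2 : d⁻¹ * r⁻¹ * d = d * r⁻¹ * d⁻¹ := by
    have : (d * r * d⁻¹)⁻¹ = d * r⁻¹ * d⁻¹ := by group
    rw [this, inv_inv] at hdr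
    exact hdr
  have h3 : r⁻¹ * (d * d) = (d * d) * r⁻¹ := by
    calc r⁻¹ * (d * d) = d * (d⁻¹ * r⁻¹ * d) * d := by group
      _ = d * (d * r⁻¹ * d⁻¹) * d := by rw [h2]
      _ = (d * d) * r⁻¹ := by group
  rw [pow_two]
  calc (d * d) * r = r * (r⁻¹ * (d * d)) * r := by group
    _ = r * ((d * d) * r⁻¹) * r := by rw [h3]
    _ = r * (d * d) := by group

/-- An element of odd order commutes with whatever its square commutes with. -/
theorem mul_eq_of_sq_mul_eq_of_odd (d r : G) (hodd : Odd (orderOf d))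
    (h : d ^ 2 * r = r * d ^ 2) : d * r = r * d := by
  obtain ⟨k, hk⟩ := hodd
  have hd : d = (d ^ 2) ^ (k + 1) := by
    rw [← pow_mul]
    have : 2 * (k + 1) = orderOf d + 1 := by omega
    rw [this, pow_succ, pow_orderOf_eq_one, one_mul]
  have hc : Commute (d ^ 2) r := h
  have := (hc.pow_left (k + 1))
  rw [← hd] at this
  exact this

end general

section functor

variable {X : Type*} [Group X] [Finite X] (Y : Subgroup X)
  (hYc : ∀ a ∈ Y, ∀ b ∈ Y, a * b = b * a) (hY2 : ∀ a ∈ Y, a ^ 2 = 1)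
  (hE : ∀ x ∈ Y, x ≠ 1 → layer ↥(centralizer ({x} : Set X)) = ⊥)
  (z : X) (hzY : z ∈ Y)
  (hz : generalizedFittingSubgroup ↥(centralizer ({z} : Set X)) =
    pCore 2 ↥(centralizer ({z} : Set X)))

include hYc hY2 hzY hz in
/-- `z` acts fixed-point-freely on `O(C(y))`. -/
theorem oddCoreCent_inf_centralizer_eq_bot {y : X} (hy : y ∈ Y) :
    oddCoreCent y ⊓ centralizer ({z} : Set X) = ⊥ := by
  have h1 := oddCoreCent_inf_le_centralizer_pCore y z (hY2 y hy) (hYc y hy z hzY)
  have hcard : (Nat.card ((oddCoreCent y ⊓ centralizer ({z} : Set X)).subgroupOf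
      (centralizer ({z} : Set X)))).Coprime 2 := by
    rw [Nat.card_congr (Subgroup.subgroupOfEquivOfLe
      (inf_le_right : oddCoreCent y ⊓ centralizer ({z} : Set X) ≤ _)).toEquiv]
    exact Nat.Coprime.coprime_dvd_left (Subgroup.card_dvd_of_le inf_le_left) (oddCoreCent_card y)
  have h2 := eq_bot_of_le_centralizer_pCore_two hz _ hcard h1
  have h3 := Subgroup.map_subgroupOf_eq_of_le
    (inf_le_right : oddCoreCent y ⊓ centralizer ({z} : Set X) ≤ centralizer ({z} : Set X))
  rw [h2, Subgroup.map_bot] at h3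
  exact h3.symm

include hYc hY2 hzY hz in
/-- `z` inverts `O(C(y))`, which is abelian. -/
theorem oddCoreCent_inverted {y : X} (hy : y ∈ Y) :
    (∀ a ∈ oddCoreCent y, z * a * z⁻¹ = a⁻¹) ∧
      ∀ a ∈ oddCoreCent y, ∀ b ∈ oddCoreCent y, a * b = b * a := by
  have hzC : z ∈ centralizer ({y} : Set X) :=
    Subgroup.mem_centralizer_singleton_iff.mpr (hYc z hzY y hy)
  have hzN : z ∈ normalizer ((oddCoreCent y : Subgroup X) : Set X) :=
    le_normalizer_oddCoreCent y hzC
  have hz2 : z ^ 2 = 1 := hY2 z hzY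
  have hzinv : z⁻¹ = z := by
    rw [inv_eq_iff_mul_eq_one, ← pow_two]; exact hz2
  set φ := Cfsg.Agent.Helper30.conjAut (oddCoreCent y) z hzN with hφdef
  have hfpf : MonoidHom.FixedPointFree φ := by
    intro g hg
    have h1 : z * (g : X) * z⁻¹ = g := by
      have := congrArg Subtype.val hg
      rwa [Cfsg.Agent.Helper30.conjAut_apply] at this
    have h2 : (g : X) ∈ centralizer ({z} : Set X) := by
      rw [Subgroup.mem_centralizer_singleton_iff]
      calc (g : X) * z = z * g * z⁻¹ * z := by rw [h1]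
        _ = z * g := by group
    have h3 : (g : X) ∈ oddCoreCent y ⊓ centralizer ({z} : Set X) := Subgroup.mem_inf.mpr ⟨g.2, h2⟩
    rw [oddCoreCent_inf_centralizer_eq_bot Y hYc hY2 z hzY hz hy] at h3
    exact Subtype.ext (Subgroup.mem_bot.mp h3)
  have hinv : Function.Involutive φ := by
    intro g
    apply Subtype.ext
    rw [Cfsg.Agent.Helper30.conjAut_apply, Cfsg.Agent.Helper30.conjAut_apply]
    have hzz : z * z = 1 := by rw [← pow_two]; exact hz2
    calc z * (z * (g : X) * z⁻¹) * z⁻¹ = (z * z) * g * (z * z)⁻¹ := by group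
      _ = g := by rw [hzz]; simp
  constructor
  · intro a ha
    have := congrFun (hfpf.coe_eq_inv_of_involutive hinv) ⟨a, ha⟩
    have := congrArg Subtype.val this
    rwa [Cfsg.Agent.Helper30.conjAut_apply] at this
  · intro a ha b hb
    have := hfpf.commute_all_of_involutive hinv ⟨a, ha⟩ ⟨b, hb⟩
    exact congrArg Subtype.val this.eq

include hYc hY2 hE hzY hz in
/-- Balance: `O(C(y)) ∩ C(u) ≤ O(C(u))`. -/
theorem oddCoreCent_inf_centralizer_le {y u : X} (hy : y ∈ Y) (hu : u ∈ Y) (hu1 : u ≠ 1) :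
    oddCoreCent y ⊓ centralizer ({u} : Set X) ≤ oddCoreCent u := by
  have hle : oddCoreCent y ⊓ centralizer ({u} : Set X) ≤ centralizer ({u} : Set X) := inf_le_right
  have h1 := oddCoreCent_inf_le_centralizer_pCore y u (hY2 y hy) (hYc y hy u hu)
  have hcard : (Nat.card ((oddCoreCent y ⊓ centralizer ({u} : Set X)).subgroupOf
      (centralizer ({u} : Set X)))).Coprime 2 := by
    rw [Nat.card_congr (Subgroup.subgroupOfEquivOfLe hle).toEquiv]
    exact Nat.Coprime.coprime_dvd_left (Subgroup.card_dvd_of_le inf_le_left) (oddCoreCent_card y)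
  obtain ⟨hinvy, -⟩ := oddCoreCent_inverted Y hYc hY2 z hzY hz hy
  obtain ⟨hinvu, -⟩ := oddCoreCent_inverted Y hYc hY2 z hzY hz hu
  have h2 : (oddCoreCent y ⊓ centralizer ({u} : Set X)).subgroupOf (centralizer ({u} : Set X)) ≤
      centralizer ((pPrimeCore 2 ↥(centralizer ({u} : Set X)) : Subgroup _) : Set _) := by
    intro d hd
    rw [Subgroup.mem_subgroupOf] at hd
    rw [Subgroup.mem_centralizer_iff]
    intro r hr
    have hrX : (r : X) ∈ oddCoreCent u := ⟨r, hr, rfl⟩
    have hdX : (d : X) ∈ oddCoreCent y := hd.1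
    have hdr : (d : X) * r * (d : X)⁻¹ ∈ oddCoreCent u :=
      (Subgroup.mem_normalizer_iff.mp (le_normalizer_oddCoreCent u d.2) r).mp hrX
    have hsq := sq_mul_eq_of_inverted z (d : X) (r : X) (hinvy _ hdX) (hinvu _ hrX) (hinvu _ hdr)
    have hodd : Odd (orderOf (d : X)) := by
      have h3 : orderOf (d : X) ∣ Nat.card (oddCoreCent y) := by
        have := orderOf_dvd_natCard (⟨(d : X), hdX⟩ : oddCoreCent y)
        rwa [Subgroup.orderOf_mk] at this
      have h4 : (orderOf (d : X)).Coprime 2 :=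
        Nat.Coprime.coprime_dvd_left h3 (oddCoreCent_card y)
      exact Nat.coprime_two_right.mp h4
    have := mul_eq_of_sq_mul_eq_of_odd (d : X) (r : X) hodd hsq
    exact Subtype.ext this.symm
  have h3 := le_oddCoreCent_of_le_centralizer_aux (hE u hu hu1) _ hcard h1 h2
  have h4 := Subgroup.map_mono (f := (centralizer ({u} : Set X)).subtype) h3
  rw [Subgroup.map_subgroupOf_eq_of_le hle] at h4
  exact h4

include hYc hY2 hE hzY hz in
/-- The subgroups `O(C(y))`, `y ∈ Y`, commute pairwise. -/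
theorem oddCoreCent_le_centralizer_oddCoreCent (h8 : 8 ≤ Nat.card Y) {y y' : X} (hy : y ∈ Y)
    (hy' : y' ∈ Y) : oddCoreCent y ≤ centralizer ((oddCoreCent y' : Subgroup X) : Set X) := by
  have : Fact (Nat.Prime 2) := ⟨Nat.prime_two⟩
  have hYN : ∀ w ∈ Y, Y ≤ normalizer ((oddCoreCent w : Subgroup X) : Set X) := fun w hw c hc =>
    le_normalizer_oddCoreCent w (Subgroup.mem_centralizer_singleton_iff.mpr (hYc c hc w hw))
  apply Cfsg.Agent.Helper31.le_of_forall_hyperplane_centralizer_le (p := 2) _ (Nat.card Y) Y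
    (oddCoreCent y) rfl hYc hY2 (hYN y hy) (oddCoreCent_card y)
  intro E' hE' hcE'
  rw [Subgroup.le_centralizer_iff]
  apply Cfsg.Agent.Helper31.le_of_forall_hyperplane_centralizer_le (p := 2) _ (Nat.card Y) Y
    (oddCoreCent y') rfl hYc hY2 (hYN y' hy') (oddCoreCent_card y')
  intro E'' hE'' hcE''
  obtain ⟨u, huE, hu1⟩ := exists_ne_one_mem_inf_of_index_le_two Y E' E'' hE' hE'' hcE' hcE'' h8
  obtain ⟨huE', huE''⟩ := Subgroup.mem_inf.mp huE
  have huY : u ∈ Y := hE' huE'
  obtain ⟨-, hcomm⟩ := oddCoreCent_inverted Y hYc hY2 z hzY hz huY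
  intro b hb
  rw [Subgroup.mem_centralizer_iff]
  intro a ha
  have ha' : a ∈ oddCoreCent u :=
    oddCoreCent_inf_centralizer_le Y hYc hY2 hE z hzY hz hy huY hu1
      (Subgroup.mem_inf.mpr ⟨(Subgroup.mem_inf.mp ha).1,
        Subgroup.centralizer_le (Set.singleton_subset_iff.mpr huE') (Subgroup.mem_inf.mp ha).2⟩)
  have hb' : b ∈ oddCoreCent u :=
    oddCoreCent_inf_centralizer_le Y hYc hY2 hE z hzY hz hy' huY hu1
      (Subgroup.mem_inf.mpr ⟨(Subgroup.mem_inf.mp hb).1,
        Subgroup.centralizer_le (Set.singleton_subset_iff.mpr huE'') (Subgroup.mem_inf.mp hb).2⟩)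
  exact hcomm a ha' b hb'

include hYc hY2 hE hzY hz in
/-- The subgroup generated by the `O(C(y))`, `1 ≠ y ∈ Y`, has odd order. -/
theorem odd_card_iSup_oddCoreCent (h8 : 8 ≤ Nat.card Y) :
    Odd (Nat.card ↥(⨆ y : {y : X // y ∈ Y ∧ y ≠ 1}, oddCoreCent (y : X))) := by
  set W : Subgroup X := ⨆ y : {y : X // y ∈ Y ∧ y ≠ 1}, oddCoreCent (y : X) with hW
  have hWc : W ≤ centralizer (W : Set X) := by
    rw [hW]
    apply iSup_le
    intro y
    rw [Subgroup.le_centralizer_iff]
    apply iSup_le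
    intro y'
    exact oddCoreCent_le_centralizer_oddCoreCent Y hYc hY2 hE z hzY hz h8 y'.2.1 y.2.1
  have key : ∀ x ∈ W, x ∈ W ∧ Odd (orderOf x) := by
    intro x hx
    rw [hW] at hx
    refine Subgroup.iSup_induction (fun y : {y : X // y ∈ Y ∧ y ≠ 1} => oddCoreCent (y : X))
      (C := fun x => x ∈ W ∧ Odd (orderOf x)) hx ?_ ?_ ?_
    · intro y x hx
      refine ⟨le_iSup (fun y : {y : X // y ∈ Y ∧ y ≠ 1} => oddCoreCent (y : X)) y hx, ?_⟩
      have h3 : orderOf x ∣ Nat.card (oddCoreCent (y : X)) := by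
        have := orderOf_dvd_natCard (⟨x, hx⟩ : oddCoreCent (y : X))
        rwa [Subgroup.orderOf_mk] at this
      exact Nat.coprime_two_right.mp (Nat.Coprime.coprime_dvd_left h3 (oddCoreCent_card _))
    · exact ⟨W.one_mem, by rw [orderOf_one]; exact odd_one⟩
    · rintro a b ⟨haW, hao⟩ ⟨hbW, hbo⟩
      refine ⟨W.mul_mem haW hbW, ?_⟩
      have hc : Commute a b := ((Subgroup.mem_centralizer_iff.mp (hWc hbW)) a haW)
      have h1 := hc.orderOf_mul_dvd_lcm
      have h2 : Nat.lcm (orderOf a) (orderOf b) ∣ orderOf a * orderOf b := Nat.lcm_dvd_mul _ _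
      exact Odd.of_dvd_nat (hao.mul hbo) (h1.trans h2)
  by_contra hodd
  have heven : 2 ∣ Nat.card W := by
    rw [Nat.not_odd_iff_even] at hodd
    exact hodd.two_dvd
  have : Fact (Nat.Prime 2) := ⟨Nat.prime_two⟩
  obtain ⟨x, hx⟩ := exists_prime_orderOf_dvd_card' (G := W) 2 heven
  have h2 := (key (x : X) x.2).2
  rw [Subgroup.orderOf_coe, hx] at h2
  exact absurd h2 (by decide)

omit [Finite X] in
/-- `N_X(Y)` normalizes the subgroup generated by the `O(C(y))`. -/
theorem normalizer_le_normalizer_iSup_oddCoreCent [Finite X] :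
    normalizer (Y : Set X) ≤
      normalizer ((⨆ y : {y : X // y ∈ Y ∧ y ≠ 1}, oddCoreCent (y : X) : Subgroup X) : Set X) := by
  set W : Subgroup X := ⨆ y : {y : X // y ∈ Y ∧ y ≠ 1}, oddCoreCent (y : X) with hW
  have hmap : ∀ g ∈ normalizer (Y : Set X), W.map (MulAut.conj g).toMonoidHom ≤ W := by
    intro g hg
    rw [hW, Subgroup.map_iSup]
    apply iSup_le
    intro y
    have hgy : g * (y : X) * g⁻¹ ∈ Y := (Subgroup.mem_normalizer_iff.mp hg (y : X)).mp y.2.1
    have hgy1 : g * (y : X) * g⁻¹ ≠ 1 := by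
      intro h
      apply y.2.2
      have : (y : X) = g⁻¹ * (g * (y : X) * g⁻¹) * g := by group
      rw [this, h]; group
    exact (map_conj_oddCoreCent_le g (y : X)).trans
      (le_iSup (fun y : {y : X // y ∈ Y ∧ y ≠ 1} => oddCoreCent (y : X)) ⟨_, hgy, hgy1⟩)
  intro g hg
  rw [Subgroup.mem_normalizer_iff]
  intro h
  constructor
  · intro hh
    have hmem : g * h * g⁻¹ ∈ W.map (MulAut.conj g).toMonoidHom :=
      ⟨h, hh, by simp [MulAut.conj_apply]⟩
    exact hmap g hg hmem
  · intro hh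
    have hg' : g⁻¹ ∈ normalizer (Y : Set X) := (normalizer (Y : Set X)).inv_mem hg
    have hmem : g⁻¹ * (g * h * g⁻¹) * g⁻¹⁻¹ ∈ W.map (MulAut.conj g⁻¹).toMonoidHom :=
      ⟨g * h * g⁻¹, hh, by simp [MulAut.conj_apply]⟩
    have := hmap g⁻¹ hg' hmem
    have e : g⁻¹ * (g * h * g⁻¹) * g⁻¹⁻¹ = h := by group
    rwa [e] at this

end functor

end Cfsg.Agent.Helper48
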