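import Mathlib
import Cfsg.Prelude.Def_LocalEven
import Cfsg.Agent.Lib.Helper48.CoprimeGen

/-!
# `p`-minimal groups: basic structure

General lemmas used for `p`-minimal groups (a Sylow `p`-subgroup is not normal and lies in a unique
maximal subgroup).
-/

set_option autoImplicit false

namespace Cfsg.Agent.Helper48

open Subgroup

variable {G : Type*} [Group G]

/-- A normal `p`-subgroup lies in every Sylow `p`-subgroup. -/
theorem normal_isPGroup_le_sylow {p : ℕ} [Fact p.Prime] (N : Subgroup G) [N.Normal]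
    (hN : IsPGroup p N) (T : Sylow p G) : N ≤ (T : Subgroup G) := by
  have h1 : IsPGroup p ((T : Subgroup G) ⊔ N : Subgroup G) :=
    IsPGroup.to_sup_of_normal_right T.2 hN
  have h2 := T.is_maximal' h1 le_sup_left
  calc N ≤ (T : Subgroup G) ⊔ N := le_sup_right
    _ = T := h2

/-- If `K` normalizes `H` then `|HK|` divides `|H| |K|`. -/
theorem card_sup_dvd_of_le_normalizer [Finite G] (H K : Subgroup G)
    (hK : K ≤ normalizer (H : Set G)) :
    Nat.card ↥(H ⊔ K) ∣ Nat.card H * Nat.card K := by
  set N := H ⊔ K with hN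
  have hHN : H ≤ N := le_sup_left
  have hKN : K ≤ N := le_sup_right
  have hNn : N ≤ normalizer (H : Set G) := sup_le le_normalizer hK
  have : (H.subgroupOf N).Normal := by
    have := Subgroup.normal_subgroupOf_iff_le_normalizer hHN
    exact this.mpr hNn
  have h1 : (H.subgroupOf N).relIndex (K.subgroupOf N ⊔ H.subgroupOf N) =
      (H.subgroupOf N).relIndex (K.subgroupOf N) := Subgroup.relIndex_sup_right _ _
  have h2 : K.subgroupOf N ⊔ H.subgroupOf N = ⊤ := by
    have := codisjoint_iff.mp (Subgroup.codisjoint_subgroupOf_sup H K)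
    rw [sup_comm]; exact this
  rw [h2, Subgroup.relIndex_top_right] at h1
  have h3 : Nat.card N = Nat.card (H.subgroupOf N) * (H.subgroupOf N).index :=
    (Subgroup.card_mul_index _).symm
  have h4 : Nat.card (H.subgroupOf N) = Nat.card H :=
    Nat.card_congr (Subgroup.subgroupOfEquivOfLe hHN).toEquiv
  have h5 : (H.subgroupOf N).relIndex (K.subgroupOf N) ∣ Nat.card K := by
    have := Subgroup.relIndex_dvd_card (H.subgroupOf N) (K.subgroupOf N)
    rwa [Nat.card_congr (Subgroup.subgroupOfEquivOfLe hKN).toEquiv] at this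
  rw [h3, h4, h1]
  exact Nat.mul_dvd_mul_left _ h5

/-- In a `p`-minimal group, a proper subgroup containing the Sylow `p`-subgroup `S` lies in the
maximal subgroup `M` containing `S`. -/
theorem le_coatom_of_isPMinimal {P : Type*} [Group P] [Finite P] {p : ℕ}
    (hP : Cfsg.IsPMinimal p P) (S : Sylow p P) (M : Subgroup P) (hM : IsCoatom M)
    (hSM : (S : Subgroup P) ≤ M) {H : Subgroup P} (hSH : (S : Subgroup P) ≤ H) (hH : H ≠ ⊤) :
    H ≤ M := by
  obtain ⟨M', hM', hHM'⟩ := (eq_top_or_exists_le_coatom H).resolve_left hH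
  obtain ⟨M₀, -, huniq⟩ := (hP S).2
  have h1 : M' = M₀ := huniq M' ⟨hM', hSH.trans hHM'⟩
  have h2 : M = M₀ := huniq M ⟨hM, hSM⟩
  rw [h2, ← h1]
  exact hHM'

/-- Key step for `p`-minimal groups whose `O^p` is `p`-closed: if a Sylow `p`-subgroup `S` lies in a
proper subgroup `M` containing every proper overgroup of `S`, and `D` is a normal subgroup with
`S D = P` having a normal Sylow `p`-subgroup, then `|P|` has at most two prime divisors. -/
theorem card_primeFactors_le_two_of_normal_sylow {P : Type*} [Group P] [Finite P] {p : ℕ}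
    [hp : Fact p.Prime] (S : Sylow p P) (M : Subgroup P) (hMtop : M ≠ ⊤)
    (hSM : (S : Subgroup P) ≤ M)
    (hA : ∀ H : Subgroup P, (S : Subgroup P) ≤ H → H ≠ ⊤ → H ≤ M)
    (D : Subgroup P) [hDn : D.Normal] (hSD : (S : Subgroup P) ⊔ D = ⊤)
    (T : Sylow p D) (hT : (T : Subgroup D).Normal) :
    (Nat.card P).primeFactors.card ≤ 2 := by
  classical
  by_contra hcon
  have : (T : Subgroup D).Characteristic := Sylow.characteristic_of_normal T hT
  set T₀ : Subgroup P := (T : Subgroup D).map D.subtype with hT₀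
  have hT₀n : T₀.Normal := ConjAct.normal_of_characteristic_of_normal
  have hT₀p : IsPGroup p T₀ := T.2.map _
  have hT₀S : T₀ ≤ S := normal_isPGroup_le_sylow T₀ hT₀p S
  set π := QuotientGroup.mk' T₀ with hπdef
  have hπ : Function.Surjective π := QuotientGroup.mk'_surjective T₀
  have hker : π.ker = T₀ := QuotientGroup.ker_mk' T₀
  set Db : Subgroup (P ⧸ T₀) := D.map π with hDb
  set Sb : Subgroup (P ⧸ T₀) := (S : Subgroup P).map π with hSb
  have hDbn : Db.Normal := hDn.map π hπ
  have hSbp : IsPGroup p Sb := S.2.map π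
  have hDbcard : (Nat.card Db).Coprime p := by
    have h1 : Nat.card Db = T₀.relIndex D := by
      have h := Subgroup.relIndex_ker (K := D) π
      rw [hker] at h
      exact h.symm
    have h2 : T₀.relIndex D = (T : Subgroup D).index := by
      rw [Subgroup.relIndex, hT₀, Subgroup.subgroupOf,
        Subgroup.comap_map_eq_self_of_injective D.subtype_injective]
    rw [h1, h2]
    exact (Nat.Coprime.symm ((Nat.Prime.coprime_iff_not_dvd hp.out).2 T.not_dvd_index))
  have hMker : π.ker ≤ M := by rw [hker]; exact hT₀S.trans hSM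
  set Mb : Subgroup (P ⧸ T₀) := M.map π with hMb
  have hMcomap : Mb.comap π = M := Subgroup.comap_map_eq_self hMker
  have key : ∀ q : ℕ, q.Prime → ¬ q ∣ (Db ⊓ Mb).relIndex Db := by
    intro q hq
    have : Fact q.Prime := ⟨hq⟩
    have hSbD : Sb ≤ normalizer (Db : Set (P ⧸ T₀)) := by
      rw [Subgroup.normalizer_eq_top]; exact le_top
    obtain ⟨Q, hQ⟩ := exists_sylow_normalized_by (p := p) q Sb Db hSbp hSbD hDbcard
    set Q' : Subgroup (P ⧸ T₀) := (Q : Subgroup Db).map Db.subtype with hQ'
    have hQ'D : Q' ≤ Db := Subgroup.map_subtype_le _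
    have hSQ : Sb ≤ normalizer (Q' : Set (P ⧸ T₀)) := fun x hx => hQ x hx
    set X : Subgroup P := (Q' ⊔ Sb).comap π with hX
    have hSX : (S : Subgroup P) ≤ X := by
      intro s hs
      rw [hX, Subgroup.mem_comap]
      exact (le_sup_right : Sb ≤ Q' ⊔ Sb) (Subgroup.mem_map_of_mem π hs)
    by_cases hXtop : X = ⊤
    · exfalso
      apply hcon
      have h1 : Q' ⊔ Sb = ⊤ := by
        have := Subgroup.map_comap_eq_self_of_surjective hπ (Q' ⊔ Sb)
        rw [← hX, hXtop, Subgroup.map_top_of_surjective π hπ] at this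
        exact this.symm
      have h2 : Nat.card (P ⧸ T₀) ∣ Nat.card Q' * Nat.card Sb := by
        have := card_sup_dvd_of_le_normalizer Q' Sb hSQ
        rwa [h1, Subgroup.card_top] at this
      have h3 : Nat.card P = Nat.card (P ⧸ T₀) * Nat.card T₀ :=
        Subgroup.card_eq_card_quotient_mul_card_subgroup T₀
      obtain ⟨a, ha⟩ := IsPGroup.iff_card.mp hT₀p
      obtain ⟨b, hb⟩ := IsPGroup.iff_card.mp hSbp
      have hQ'q : IsPGroup q Q' := Q.2.map _
      obtain ⟨c, hc⟩ := IsPGroup.iff_card.mp hQ'q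
      have h4 : Nat.card P ∣ q ^ c * p ^ b * p ^ a := by
        rw [h3, ha]
        exact Nat.mul_dvd_mul_right (by rw [← hc, ← hb]; exact h2) _
      have h5 : (Nat.card P).primeFactors ⊆ {p, q} := by
        intro r hr
        have hrp := Nat.prime_of_mem_primeFactors hr
        have hrd := (Nat.dvd_of_mem_primeFactors hr).trans h4
        rw [Finset.mem_insert, Finset.mem_singleton]
        rcases (Nat.Prime.dvd_mul hrp).mp hrd with h | h
        · rcases (Nat.Prime.dvd_mul hrp).mp h with h | h
          · right; exact (Nat.prime_dvd_prime_iff_eq hrp hq).mp (hrp.dvd_of_dvd_pow h)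
          · left; exact (Nat.prime_dvd_prime_iff_eq hrp hp.out).mp (hrp.dvd_of_dvd_pow h)
        · left; exact (Nat.prime_dvd_prime_iff_eq hrp hp.out).mp (hrp.dvd_of_dvd_pow h)
      exact (Finset.card_le_card h5).trans Finset.card_le_two
    · have hXM : X ≤ M := hA X hSX hXtop
      have hQ'M : Q' ≤ Mb := by
        have h1 : Q'.comap π ≤ M := le_trans (Subgroup.comap_mono le_sup_left) hXM
        have h2 := Subgroup.map_mono (f := π) h1
        rwa [Subgroup.map_comap_eq_self_of_surjective hπ] at h2
      have h3 : Q' ≤ Db ⊓ Mb := le_inf hQ'D hQ'M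
      have h4 : (Db ⊓ Mb).relIndex Db ∣ Q'.relIndex Db := Subgroup.relIndex_dvd_of_le_left Db h3
      have h5 : Q'.relIndex Db = (Q : Subgroup Db).index := by
        rw [Subgroup.relIndex, hQ', Subgroup.subgroupOf,
          Subgroup.comap_map_eq_self_of_injective Db.subtype_injective]
      intro hqd
      exact Q.not_dvd_index (hqd.trans (h5 ▸ h4))
  have hDbM : Db ≤ Mb := by
    have h1 : (Db ⊓ Mb).relIndex Db = 1 :=
      Nat.eq_one_iff_not_exists_prime_dvd.mpr (fun q hq => key q hq)
    have := Subgroup.relIndex_eq_one.mp h1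
    exact this.trans inf_le_right
  have hDM : D ≤ M := by
    calc D ≤ Db.comap π := Subgroup.le_comap_map π D
      _ ≤ Mb.comap π := Subgroup.comap_mono hDbM
      _ = M := hMcomap
  exact hMtop (top_le_iff.mp (hSD ▸ sup_le hSM hDM))

end Cfsg.Agent.Helper48
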