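import Mathlib
import Cfsg.Prelude.Def_LocalEven
import Cfsg.Agent.Lib.Helper48.PMinimal
import Cfsg.Agent.Lib.Helper64.Basic

/-!
# `p`-minimal groups: the core of the maximal subgroup is nilpotent when it meets `S` trivially
-/

set_option autoImplicit false

namespace Cfsg.Agent.Helper48

open Subgroup

/-- Transport of the defining property of `p`-minimality along an isomorphism. -/
theorem pmin_transport {p : ℕ} {A B : Type*} [Group A] [Group B] (e : A ≃* B) (S' : Subgroup B)
    (h : ¬ (S'.comap e.toMonoidHom).Normal ∧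
      ∃! M : Subgroup A, IsCoatom M ∧ S'.comap e.toMonoidHom ≤ M) :
    ¬ S'.Normal ∧ ∃! M' : Subgroup B, IsCoatom M' ∧ S' ≤ M' := by
  refine ⟨fun hn => h.1 (hn.comap _), ?_⟩
  obtain ⟨M, ⟨hM1, hM2⟩, huniq⟩ := h.2
  refine ⟨e.mapSubgroup M, ⟨(e.mapSubgroup.isCoatom_iff M).mpr hM1, ?_⟩, ?_⟩
  · intro s hs
    refine ⟨e.symm s, hM2 ?_, by simp⟩
    change e (e.symm s) ∈ S'
    simpa using hs
  · rintro M'' ⟨hc, hle⟩
    have h1 : IsCoatom (e.comapSubgroup M'') := (e.comapSubgroup.isCoatom_iff M'').mpr hc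
    have h2 : S'.comap e.toMonoidHom ≤ e.comapSubgroup M'' := Subgroup.comap_mono hle
    have h3 := huniq _ ⟨h1, h2⟩
    rw [← h3]
    change M'' = Subgroup.map (e : A →* B) (Subgroup.comap (e : A →* B) M'')
    rw [Subgroup.map_comap_eq_self_of_surjective e.surjective]

/-- It suffices to check `p`-minimality on one Sylow `p`-subgroup. -/
theorem isPMinimal_of_sylow {p : ℕ} {A : Type*} [Group A] [Finite A] [Fact p.Prime]
    (S₀ : Sylow p A)
    (h : ¬ (S₀ : Subgroup A).Normal ∧ ∃! M : Subgroup A, IsCoatom M ∧ (S₀ : Subgroup A) ≤ M) :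
    Cfsg.IsPMinimal p A := by
  intro S'
  obtain ⟨g, hg⟩ := MulAction.exists_smul_eq A S' S₀
  have hcomap : (S' : Subgroup A).comap (MulAut.conj g⁻¹).toMonoidHom = (S₀ : Subgroup A) := by
    rw [← hg]
    ext x
    rw [Subgroup.mem_comap, Sylow.coe_subgroup_smul,
      Subgroup.mem_pointwise_smul_iff_inv_smul_mem]
    simp [MulAut.smul_def]
  apply pmin_transport (p := p) (MulAut.conj g⁻¹) S'
  rw [hcomap]
  exact h

/-- A normal subgroup `F ≤ M` meeting `S` trivially is nilpotent, when `M` contains every proper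
overgroup of the Sylow `p`-subgroup `S`. -/
theorem isNilpotent_of_normal_le_of_inf_sylow_eq_bot {P : Type*} [Group P] [Finite P] {p : ℕ}
    [hp : Fact p.Prime] (S : Sylow p P) (M : Subgroup P) (hMtop : M ≠ ⊤)
    (hA : ∀ H : Subgroup P, (S : Subgroup P) ≤ H → H ≠ ⊤ → H ≤ M)
    (F : Subgroup P) [hFn : F.Normal] (hFM : F ≤ M) (hFS : (S : Subgroup P) ⊓ F = ⊥) :
    Group.IsNilpotent F := by
  classical
  have hcop : (Nat.card F).Coprime p := by
    have h1 : ((S : Subgroup P) ⊓ F).relIndex F ∣ (S : Subgroup P).index :=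
      Cfsg.Agent.Helper64.inf_relIndex_dvd_index (S : Subgroup P) F
    rw [hFS, Subgroup.relIndex_bot_left] at h1
    have h2 : ¬ p ∣ Nat.card F := fun h => S.not_dvd_index (h.trans h1)
    exact (Nat.Coprime.symm ((Nat.Prime.coprime_iff_not_dvd hp.out).2 h2))
  have key : ∀ (q : ℕ) (_hq : Fact q.Prime) (Q' : Sylow q F), (Q' : Subgroup F).Normal := by
    intro q hq Q'
    have hSF : (S : Subgroup P) ≤ normalizer (F : Set P) := by
      rw [Subgroup.normalizer_eq_top]; exact le_top
    obtain ⟨Q, hQ⟩ := exists_sylow_normalized_by (p := p) q (S : Subgroup P) F S.2 hSF hcop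
    have hfr : normalizer (((Q : Subgroup F).map F.subtype : Subgroup P) : Set P) ⊔ F = ⊤ :=
      Sylow.normalizer_sup_eq_top Q
    have hSN : (S : Subgroup P) ≤
        normalizer (((Q : Subgroup F).map F.subtype : Subgroup P) : Set P) := fun x hx => hQ x hx
    have htop : normalizer (((Q : Subgroup F).map F.subtype : Subgroup P) : Set P) = ⊤ := by
      by_contra hne
      have := hA _ hSN hne
      exact hMtop (top_le_iff.mp (hfr ▸ sup_le this hFM))
    have hn : ((Q : Subgroup F).map F.subtype).Normal := Subgroup.normalizer_eq_top_iff.mp htop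
    have hQn : (Q : Subgroup F).Normal := by
      have h1 : (((Q : Subgroup F).map F.subtype).comap F.subtype).Normal := hn.comap _
      rwa [Subgroup.comap_map_eq_self_of_injective F.subtype_injective] at h1
    have : Subsingleton (Sylow q F) := by
      have := Sylow.unique_of_normal Q hQn
      infer_instance
    rw [Subsingleton.elim Q' Q]
    exact hQn
  exact (Group.isNilpotent_of_finite_tfae (G := F)).out 0 3 rfl rfl |>.mpr key

end Cfsg.Agent.Helper48
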