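import Mathlib
import Cfsg.Prelude.Def_LocalEven
import Cfsg.Agent.Lib.Helper48.PMinimalComp
import Cfsg.Agent.Lib.Helper47.PRes
import Cfsg.Agent.Lib.Helper48.Cores
import Cfsg.Agent.Lib.Helper21.Layer
import Cfsg.Agent.Lib.Helper22.Components
import Cfsg.Agent.Lib.Helper30.ComponentOrbit
import Cfsg.Agent.Lib.Helper30.PLayer

/-!
# `p`-minimal groups with `O_p = 1` and a component
-/

set_option autoImplicit false

namespace Cfsg.Agent.Helper48

open Subgroup Cfsg
open scoped Pointwise commutatorElement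

/-- If `O_p(P) = 1` then `F(P) ≤ O^p(P)`. -/
theorem fittingSubgroup_le_pResidual {P : Type*} [Group P] [Finite P] {p : ℕ} [hp : Fact p.Prime]
    (hOp : pCore p P = ⊥) : fittingSubgroup P ≤ pResidual p P := by
  unfold fittingSubgroup
  apply sSup_le
  rintro N ⟨hNn, hNnil⟩
  obtain ⟨T⟩ : Nonempty (Sylow p N) := inferInstance
  have hTn : (T : Subgroup N).Normal := inferInstance
  have : (T : Subgroup N).Characteristic := Sylow.characteristic_of_normal T hTn
  have hT0n : ((T : Subgroup N).map N.subtype).Normal := ConjAct.normal_of_characteristic_of_normal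
  have hT0 : (T : Subgroup N).map N.subtype ≤ pCore p P := le_pCore hT0n (T.2.map _)
  rw [hOp, le_bot_iff] at hT0
  have hTbot : (T : Subgroup N) = ⊥ := (Subgroup.map_eq_bot_iff_of_injective _ N.subtype_injective).mp hT0
  have hcop : ¬ p ∣ Nat.card N := by
    intro h
    apply T.not_dvd_index
    have h1 := Subgroup.card_mul_index (T : Subgroup N)
    rw [hTbot, Subgroup.card_bot, one_mul] at h1
    rw [hTbot, h1]
    exact h
  intro g hg
  apply Cfsg.Agent.Helper47.mem_pResidual_of_coprime
  have h1 : orderOf g = orderOf (⟨g, hg⟩ : N) := (Subgroup.orderOf_mk g hg).symm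
  have h2 : orderOf (⟨g, hg⟩ : N) ∣ Nat.card N := orderOf_dvd_natCard _
  rw [h1]
  exact Nat.Coprime.coprime_dvd_left h2
    (Nat.Coprime.symm ((Nat.Prime.coprime_iff_not_dvd hp.out).2 hcop))

/-- A perfect subgroup lies in `O^p`. -/
theorem le_pResidual_of_isPerfect {P : Type*} [Group P] [Finite P] {p : ℕ} [hp : Fact p.Prime]
    (E : Subgroup P) [hE : Group.IsPerfect E] : E ≤ pResidual p P := by
  have hq : IsPGroup p (P ⧸ pResidual p P) :=
    Cfsg.Agent.Helper47.isPGroup_quotient_of_pResidual_le _ le_rfl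
  have h1 : IsPGroup p (E.map (QuotientGroup.mk' (pResidual p P))) := hq.to_subgroup _
  have : Group.IsPerfect (E.map (QuotientGroup.mk' (pResidual p P))) := Group.IsPerfect.map _
  have h2 := Cfsg.Agent.Helper30.eq_bot_of_isPGroup_of_perfect _ h1
  rw [Subgroup.map_eq_bot_iff, QuotientGroup.ker_mk'] at h2
  exact h2

/-- A quasisimple subgroup `K` contained in `U₀ C(K)` with `U₀ ≤ K` lies in `U₀`. -/
theorem quasisimple_le_of_le_sup_centralizer {G : Type*} [Group G] {K U₀ : Subgroup G}
    (hK : IsQuasisimple K) (hU₀K : U₀ ≤ K) (h : K ≤ U₀ ⊔ centralizer (K : Set G)) : K ≤ U₀ := by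
  have hcen : centralizer (K : Set G) ≤ centralizer (U₀ : Set G) := Subgroup.centralizer_le hU₀K
  have htop : U₀.subgroupOf K ⊔ center K = ⊤ := by
    rw [eq_top_iff]
    intro x _
    obtain ⟨u, hu, c, hc, hxc⟩ := Cfsg.Agent.Helper21.mem_sup_of_le_centralizer hcen (h x.2)
    have hcK : c ∈ K := by
      have : c = u⁻¹ * x := by rw [hxc]; group
      rw [this]; exact K.mul_mem (K.inv_mem (hU₀K hu)) x.2
    have h1 : (⟨u, hU₀K hu⟩ : K) ∈ U₀.subgroupOf K := Subgroup.mem_subgroupOf.mpr hu
    have h2 : (⟨c, hcK⟩ : K) ∈ center K := by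
      rw [Subgroup.mem_center_iff]
      intro y
      apply Subtype.ext
      simp only [Subgroup.coe_mul]
      exact (Subgroup.mem_centralizer_iff.mp hc) y y.2
    have : x = ⟨u, hU₀K hu⟩ * ⟨c, hcK⟩ := Subtype.ext hxc
    rw [this]
    exact Subgroup.mul_mem_sup h1 h2
  have := Cfsg.Agent.Helper21.eq_top_of_sup_center_eq_top hK _ htop
  exact Subgroup.subgroupOf_eq_top.mp this


/-- If `M` contains every proper overgroup of the Sylow `p`-subgroup `S`, every normal subgroup
either contains `E(P)` or lies in `M`, and `K` is a component not contained in `M`, then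
`K N_S(K)` is `p`-minimal. -/
theorem isPMinimal_component_sup {P : Type*} [Group P] [Finite P] {p : ℕ} [hp : Fact p.Prime]
    (S : Sylow p P) (M : Subgroup P) (hSM : (S : Subgroup P) ≤ M)
    (hA : ∀ H : Subgroup P, (S : Subgroup P) ≤ H → H ≠ ⊤ → H ≤ M)
    (h3 : ∀ N : Subgroup P, N.Normal → Cfsg.layer P ≤ N ∨ N ≤ M)
    (K : Subgroup P) (hK : Cfsg.IsComponent K) (hKM : ¬ K ≤ M) :
    Cfsg.IsPMinimal p ↥(K ⊔ ((S : Subgroup P) ⊓ Subgroup.normalizer (K : Set P))) := by
  classical
  set R : Subgroup P := (S : Subgroup P) ⊓ normalizer (K : Set P) with hR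
  set H : Subgroup P := K ⊔ R with hH
  have hRS : R ≤ S := inf_le_left
  have hRN : R ≤ normalizer (K : Set P) := inf_le_right
  have hKH : K ≤ H := le_sup_left
  have hRH : R ≤ H := le_sup_right
  have hHN : H ≤ normalizer (K : Set P) := sup_le le_normalizer hRN
  -- key claim
  have key : ∀ U : Subgroup P, R ≤ U → U ≤ H → U ≠ H → U ≤ M := by
    intro U hRU hUH hne
    set U₀ := U ⊓ K with hU₀
    have hU₀K : U₀ ≤ K := inf_le_right
    have hU₀ne : ¬ K ≤ U₀ := by
      intro h
      apply hne
      exact le_antisymm hUH (sup_le (h.trans inf_le_left) hRU)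
    set W := Cfsg.Agent.Helper30.orbitBlock (S : Subgroup P) U₀ with hW
    have hU₀W : U₀ ≤ W := Cfsg.Agent.Helper30.le_orbitBlock _ _
    have hSW : (S : Subgroup P) ≤ normalizer (W : Set P) :=
      Cfsg.Agent.Helper30.le_normalizer_orbitBlock _ _
    have hWM : W ≤ M := by
      by_cases hX : W ⊔ (S : Subgroup P) = ⊤
      · have hWn : W.Normal := by
          rw [← normalizer_eq_top_iff]
          exact top_le_iff.mp (hX ▸ sup_le le_normalizer hSW)
        rcases h3 W hWn with h | h
        · exfalso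
          apply hU₀ne
          have hKW : K ≤ W := (Cfsg.Agent.Helper22.IsComponent.le_layer hK).trans h
          have hWle : W ≤ U₀ ⊔ centralizer (K : Set P) := by
            rw [hW]; unfold Cfsg.Agent.Helper30.orbitBlock
            apply iSup_le
            intro t
            by_cases ht : (t : P) ∈ normalizer (K : Set P)
            · have htR : (t : P) ∈ R := Subgroup.mem_inf.mpr ⟨t.2, ht⟩
              have htU : (t : P) ∈ normalizer (U : Set P) := le_normalizer (hRU htR)
              have : Cfsg.Agent.Helper30.cj (t : P) U₀ = U₀ :=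
                (Cfsg.Agent.Helper30.cj_eq_self_iff U₀ t).mpr (mem_normalizer_inf' htU ht)
              rw [this]; exact le_sup_left
            · have hne' : Cfsg.Agent.Helper30.cj (t : P) K ≠ K :=
                fun h => ht ((Cfsg.Agent.Helper30.cj_eq_self_iff K t).mp h)
              have hcomm := Cfsg.Agent.Helper22.component_commute
                (Cfsg.Agent.Helper22.IsComponent.conj hK (t : P)) hK hne'
              rw [Subgroup.commutator_eq_bot_iff_le_centralizer] at hcomm
              exact ((Cfsg.Agent.Helper30.cj_mono (t : P) hU₀K).trans hcomm).trans le_sup_right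
          exact quasisimple_le_of_le_sup_centralizer hK.2 hU₀K (hKW.trans hWle)
        · exact h
      · exact le_sup_left.trans (hA _ le_sup_right hX)
    intro x hx
    have hxH : x ∈ H := hUH hx
    have hmul : ((K ⊔ R : Subgroup P) : Set P) = (K : Set P) * (R : Set P) :=
      Subgroup.coe_mul_of_right_le_normalizer_left K R hRN
    have hx' : x ∈ (K : Set P) * (R : Set P) := by rw [← hmul]; exact hxH
    obtain ⟨k, hk, r, hr, rfl⟩ := Set.mem_mul.mp hx'
    have hkU : k ∈ U := by
      have := U.mul_mem hx (U.inv_mem (hRU hr))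
      simpa using this
    have hkM : k ∈ M := hWM (hU₀W (Subgroup.mem_inf.mpr ⟨hkU, hk⟩))
    exact M.mul_mem hkM (hSM (hRS hr))
  have hHM : ¬ H ≤ M := fun h => hKM (hKH.trans h)
  -- `R` is a Sylow subgroup of `H`
  have hRp : IsPGroup p (R.subgroupOf H) := (S.2.to_le hRS).comap_subtype
  have hidx : ¬ p ∣ (R.subgroupOf H).index := by
    have hKn : (K.subgroupOf H).Normal :=
      (Subgroup.normal_subgroupOf_iff_le_normalizer hKH).mpr hHN
    have e1 := Cfsg.Agent.Helper64.inf_relIndex_eq_relIndex_sup (R.subgroupOf H) (K.subgroupOf H)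
    have e2 : R.subgroupOf H ⊔ K.subgroupOf H = ⊤ := by
      have := codisjoint_iff.mp (Subgroup.codisjoint_subgroupOf_sup K R)
      rw [sup_comm]; exact this
    rw [e2, Subgroup.relIndex_top_right, Subgroup.inf_relIndex_right,
      Subgroup.relIndex_subgroupOf hKH] at e1
    rw [← e1]
    have e3 : R.relIndex K = (S : Subgroup P).relIndex K := by
      rw [← Subgroup.inf_relIndex_right, hR, inf_assoc,
        inf_of_le_right (le_normalizer : K ≤ normalizer (K : Set P)), Subgroup.inf_relIndex_right]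
    rw [e3]
    exact Cfsg.Agent.Helper30.sylow_not_dvd_relIndex_of_subnormal S hK.1
  set R' : Sylow p H := hRp.toSylow hidx with hR'
  have hR'coe : (R' : Subgroup H) = R.subgroupOf H := IsPGroup.toSylow_coe _ _
  apply isPMinimal_of_sylow R'
  rw [hR'coe]
  set MH : Subgroup H := M.subgroupOf H with hMH
  have hMHtop : MH ≠ ⊤ := fun h => hHM (Subgroup.subgroupOf_eq_top.mp h)
  have key' : ∀ V : Subgroup H, R.subgroupOf H ≤ V → V ≠ ⊤ → V ≤ MH := by
    intro V hRV hV
    have h1 : R ≤ V.map H.subtype := by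
      intro r hr
      exact ⟨⟨r, hRH hr⟩, hRV (Subgroup.mem_subgroupOf.mpr hr), rfl⟩
    have h2 : V.map H.subtype ≤ H := Subgroup.map_subtype_le V
    have h3' : V.map H.subtype ≠ H := by
      intro h
      apply hV
      rw [eq_top_iff]; intro x _
      have : (x : P) ∈ V.map H.subtype := by rw [h]; exact x.2
      obtain ⟨y, hy, hyx⟩ := this
      have : y = x := Subtype.ext hyx
      rwa [← this]
    have := key _ h1 h2 h3'
    intro v hv
    exact Subgroup.mem_subgroupOf.mpr (this ⟨v, hv, rfl⟩)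
  have hRMH : R.subgroupOf H ≤ MH := by
    intro r hr
    exact Subgroup.mem_subgroupOf.mpr (hSM (hRS (Subgroup.mem_subgroupOf.mp hr)))
  refine ⟨?_, MH, ⟨⟨hMHtop, fun V hV => ?_⟩, hRMH⟩, ?_⟩
  · -- `R` is not normal in `H`
    intro hn
    have hHNR : H ≤ normalizer (R : Set P) :=
      (Subgroup.normal_subgroupOf_iff_le_normalizer hRH).mp hn
    obtain ⟨x, hxK, hxM⟩ := SetLike.not_le_iff_exists.mp hKM
    have hU : zpowers x ⊔ R = H := by
      by_contra hne
      exact hxM (key _ le_sup_right (sup_le (zpowers_le.mpr (hKH hxK)) hRH) hne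
        (le_sup_left (a := zpowers x) (mem_zpowers x)))
    have hxN : zpowers x ≤ normalizer (R : Set P) := zpowers_le.mpr (hHNR (hKH hxK))
    have hmul : ((zpowers x ⊔ R : Subgroup P) : Set P) = (zpowers x : Set P) * (R : Set P) :=
      Subgroup.coe_mul_of_left_le_normalizer_right (zpowers x) R hxN
    set x' : H := ⟨x, hKH hxK⟩ with hx'
    have hgen : ∀ h : H, ∃ i : ℤ, (QuotientGroup.mk h : H ⧸ R.subgroupOf H) =
        (QuotientGroup.mk x' : H ⧸ R.subgroupOf H) ^ i := by
      intro h
      have hh : (h : P) ∈ (zpowers x : Set P) * (R : Set P) := by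
        rw [← hmul, hU]; exact h.2
      obtain ⟨y, hy, r, hr, hyr⟩ := Set.mem_mul.mp hh
      obtain ⟨i, rfl⟩ := Subgroup.mem_zpowers_iff.mp hy
      refine ⟨i, ?_⟩
      rw [← QuotientGroup.mk_zpow, QuotientGroup.eq, Subgroup.mem_subgroupOf]
      have : ((h⁻¹ * x' ^ i : H) : P) = r⁻¹ := by
        simp only [Subgroup.coe_mul, Subgroup.coe_inv, Subgroup.coe_zpow, hx', ← hyr]
        group
      rw [this]
      exact R.inv_mem hr
    have hcomm : ∀ a b : H, ⁅a, b⁆ ∈ R.subgroupOf H := by
      intro a b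
      obtain ⟨i, hi⟩ := hgen a
      obtain ⟨j, hj⟩ := hgen b
      rw [← QuotientGroup.eq_one_iff]
      have : (QuotientGroup.mk ⁅a, b⁆ : H ⧸ R.subgroupOf H) =
          ⁅(QuotientGroup.mk a : H ⧸ R.subgroupOf H), QuotientGroup.mk b⁆ := by
        simp only [commutatorElement_def, QuotientGroup.mk_mul, QuotientGroup.mk_inv]
      rw [this, hi, hj, commutatorElement_eq_one_iff_commute]
      exact (Commute.refl _).zpow_zpow i j
    have hKK : ⁅K, K⁆ ≤ R := by
      rw [Subgroup.commutator_le]
      intro a ha b hb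
      have := hcomm ⟨a, hKH ha⟩ ⟨b, hKH hb⟩
      rw [Subgroup.mem_subgroupOf] at this
      simpa [commutatorElement_def] using this
    rw [Cfsg.Agent.Helper22.IsQuasisimple.commutator_eq hK.2] at hKK
    exact hKM (hKK.trans (hRS.trans hSM))
  · -- `MH` is a coatom
    by_contra hVtop
    exact (not_le_of_gt hV) (key' V (hRMH.trans hV.le) hVtop)
  · -- uniqueness
    rintro V ⟨hVc, hRV⟩
    have h1 := key' V hRV hVc.1
    by_contra hne
    exact hMHtop (hVc.2 MH (lt_of_le_of_ne h1 hne))

end Cfsg.Agent.Helper48
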