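import Mathlib
import Cfsg.Prelude.Def_RootSubgroups
import Cfsg.Agent.Lib.Helper83.Conj
import Cfsg.Agent.Lib.Helper83.CommMod
import Cfsg.Agent.Lib.Helper83.RankOne
import Cfsg.Agent.Lib.Helper83.RankOneNormal
import Cfsg.Agent.Lib.Helper83.RootBasic
import Cfsg.Agent.Lib.Helper83.RootLemmas
import Cfsg.Agent.Lib.Helper83.Root30
import Cfsg.Agent.Lib.Helper83.R2N1
import Cfsg.Agent.Lib.Helper83.R2E
import Cfsg.Agent.Lib.Helper83.R2G
import Cfsg.Agent.Lib.Helper83.R3Defs
import Cfsg.Agent.Lib.Helper94.RootComm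
import Cfsg.Agent.Lib.Helper94.RootMap
import Cfsg.Agent.S5029

/-!
# R3 project (S5033, server: helper83), piece (SB) `sm_commute`

Statement verbatim from `tools/r3_sigs_helper83.lean.txt`.
-/

set_option autoImplicit false

namespace Cfsg.Agent.Helper48.R3

open Cfsg Cfsg.Agent.Helper83 Cfsg.Agent.Helper83.R2 Cfsg.Agent.Helper83.R3 Cfsg.Agent.Helper94
open scoped commutatorElement

variable {G : Type*} [Group G] {S : Set (Subgroup G)} {N : Subgroup G}

/-- (SB) Small case, main step. -/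
theorem sm_commute (c : NCtx S N) (hcard : ∀ E ∈ S, ENat.card E ≤ 3) {A B C : Subgroup G} (hA : A ∈ S)
    (hB : B ∈ S) (hr : IsRankOnePair A B) (hBle : B ≤ N ⊔ A) (hC : C ∈ S)
    (hcase : RootCommutatorCase S A C) {E : Subgroup G} (hE : E ∈ S) (hEle : E ≤ A ⊔ ⁅A, C⁆)
    (hEA : E ≠ A) : ⁅B, E⁆ = ⊥ := by
  have hS := c.root.hS
  have : N.Normal := c.normal
  have hAab := hS.commutative A hA
  -- `A ⊔ D` centralizes `A`
  have hVcent : A ⊔ ⁅A, C⁆ ≤ Subgroup.centralizer (A : Set G) :=
    sup_le (le_centralizer_self_of_comm hAab) (commutatorCase_le_centralizer_left hcase)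
  have hAE : ⁅A, E⁆ = ⊥ := by
    rw [Subgroup.commutator_comm, Subgroup.commutator_eq_bot_iff_le_centralizer]
    exact hEle.trans hVcent
  -- the partition of `V`
  have hpart := (Cfsg.Agent.S5029.result hS ((not_isolated_iff hA).2 ⟨B, hB, hr⟩) hA hC hcase.1).2.1
  have hAinfE : A ⊓ E = ⊥ := by
    rcases root_inf_eq_bot_or_eq hS hA hB hr E hE with h | h
    · exact h
    · exact absurd h.symm hEA
  -- `[B, E] ≤ N`
  have hBEN : ⁅B, E⁆ ≤ N := by
    refine (Subgroup.commutator_mono hBle le_rfl).trans ?_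
    refine commutator_sup_le ?_ (Subgroup.commutator_le_left N E) ?_
    · rw [Subgroup.normalizer_eq_top]; exact le_top
    · rw [hAE]; exact bot_le
  rcases hS.pair B hB E hE with h | hBE | h
  · exact h
  · exfalso
    set Y : Subgroup G := B ⊔ E with hY
    set M : Subgroup G := N ⊓ Y with hM
    have hnorm : ∀ x ∈ B ⊔ E, conjBy M x = M := by
      intro x hx
      rw [hM, conjBy_inf, conjBy_normal N x, conjBy_eq_self_of_mem hx]
    rcases rankOne_dichotomy hBE M inf_le_right hnorm with h1 | h2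
    · -- `M ⊔ B = Y`, so `E ≤ N ⊔ A`
      have hEle' : E ≤ N ⊔ A := by
        have h3 : E ≤ M ⊔ B := h1 ▸ (le_sup_right : E ≤ B ⊔ E)
        refine h3.trans (sup_le (inf_le_left.trans le_sup_left) hBle)
      obtain ⟨e, heE, he1⟩ := exists_mem_ne_one_of_ne_bot (hS.ne_bot E hE)
      have heNA : e ∈ ((N ⊔ A : Subgroup G) : Set G) := hEle' heE
      rw [Subgroup.normal_mul, Set.mem_mul] at heNA
      obtain ⟨n, hnN, a, haA, hna⟩ := heNA
      have hn_eq : n = e * a⁻¹ := by rw [← hna, mul_inv_cancel_right]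
      have hnV : n ∈ A ⊔ ⁅A, C⁆ := by
        rw [hn_eq]
        exact Subgroup.mul_mem _ (hEle heE) (Subgroup.mem_sup_left (A.inv_mem haA))
      have hn1 : n ≠ 1 := by
        intro h
        rw [h, one_mul] at hna
        have : e ∈ A ⊓ E := ⟨hna ▸ haA, heE⟩
        rw [hAinfE] at this
        exact he1 ((Subgroup.mem_bot).mp this)
      obtain ⟨E', hE'mem, hnE'⟩ := hpart.2.1 n hnV hn1
      have hE'S : E' ∈ S := hE'mem.1
      exact c.noMem E' hE'S (le_of_card_le_three (hcard E' hE'S) hnE' hnN hn1)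
    · -- `M` central in `Y`
      have hBEY : ⁅B, E⁆ ≤ B ⊔ E := by
        rw [Subgroup.commutator_le]
        intro b hb e he
        rw [commutatorElement_def]
        exact Subgroup.mul_mem _ (Subgroup.mul_mem _ (Subgroup.mul_mem _ (Subgroup.mem_sup_left hb)
          (Subgroup.mem_sup_right he)) (Subgroup.mem_sup_left (B.inv_mem hb)))
          (Subgroup.mem_sup_right (E.inv_mem he))
      have h3 : ⁅B, E⁆ ≤ Subgroup.centralizer (E : Set G) :=
        (le_inf hBEN hBEY).trans (h2.trans (Subgroup.centralizer_le (by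
          intro x hx; exact Subgroup.mem_sup_right hx)))
      exact rankOne_comm_not_central hBE (hS.commutative E hE) h3
  · exfalso
    exact c.noMem _ h.1 hBEN

end Cfsg.Agent.Helper48.R3
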