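import Mathlib
import Cfsg.Agent.Lib.Helper35.RJ1

/-!
# RJ (F3): the multiplier path

Piece (F3) of helper35's server RJ (S2279).  Pure algebra: for `x ∈ L d` climb with `λ` up to
level `≥ t + 1`, multiply with `y₀ ∈ L (m + 1)` by the product rule, climb back to level `d`.
-/

set_option autoImplicit false

namespace Cfsg.Agent.Helper48.RJ

open Cfsg.Agent.Helper35.RJ

variable {F : Type*} [Field F] {m : ℕ}

/-- climbing `j` levels with `λ` -/
theorem h48_pow_step (lam : F) (L : ℕ → AddSubgroup F)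
    (h2 : ∀ d, d ≤ m → ∀ x ∈ L d, lam * x ∈ L (d + 1)) (d : ℕ) (x : F) (hx : x ∈ L d) :
    ∀ j : ℕ, d + j ≤ m + 1 → lam ^ j * x ∈ L (d + j) := by
  intro j
  induction j with
  | zero =>
    intro _
    simpa using hx
  | succ j ih =>
    intro hj
    have h := ih (by omega)
    have h' := h2 (d + j) (by omega) _ h
    have e : lam ^ (j + 1) * x = lam * (lam ^ j * x) := by ring
    rw [e]
    exact h'

/-- (F3) for `x ∈ L d`: put `j = t + 1 - d` (truncated); `λ^j x ∈ L (d+j)` (`h2`, `d + j ≤ m+1`), then `h3` with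
`d' = m+1`, `r = m+2+t`: `C λ^j x y₀ ∈ L (d+j-1-t)`, then `h2` `(t+1-j)` times back to `L d`. -/
theorem mult_path (lam : F) (L : ℕ → AddSubgroup F)
    (h2 : ∀ d, d ≤ m → ∀ x ∈ L d, lam * x ∈ L (d + 1))
    (h3 : ∀ d d' r, d ≤ m + 1 → d' ≤ m + 1 → m + 2 ≤ r → r ≤ d + d' → ∀ x ∈ L d, ∀ y ∈ L d',
      (Nat.choose r (m + 2) : F) * x * y ∈ L (d + d' - r))
    (t : ℕ) (ht : t ≤ m) (y₀ : F) (hy₀ : y₀ ∈ L (m + 1)) :
    (Nat.choose (m + 2 + t) (m + 2) : F) * lam ^ (t + 1) * y₀ ∈ Mult m L := by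
  intro d hd x hx
  obtain ⟨j, hj⟩ : ∃ j : ℕ, j = t + 1 - d := ⟨_, rfl⟩
  have h1 := h48_pow_step lam L h2 d x hx j (by omega)
  have h3' := h3 (d + j) (m + 1) (m + 2 + t) (by omega) le_rfl (by omega) (by omega) _ h1 y₀ hy₀
  have h4 := h48_pow_step lam L h2 (d + j + (m + 1) - (m + 2 + t)) _ h3' (t + 1 - j) (by omega)
  have e1 : d + j + (m + 1) - (m + 2 + t) + (t + 1 - j) = d := by omega
  rw [e1] at h4
  have e2 : lam ^ (t + 1 - j) * ((Nat.choose (m + 2 + t) (m + 2) : F) * (lam ^ j * x) * y₀) =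
      (Nat.choose (m + 2 + t) (m + 2) : F) * lam ^ (t + 1) * y₀ * x := by
    have e3 : lam ^ (t + 1) = lam ^ (t + 1 - j) * lam ^ j := by
      rw [← pow_add]
      congr 1
      omega
    rw [e3]
    ring
  rw [e2] at h4
  exact h4

end Cfsg.Agent.Helper48.RJ
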