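import Mathlib
import Cfsg.Agent.Lib.Helper98.RT0

/-!
# RT server (helper98, S2278): piece (J1) `conj_lower`
All `Ymat n w` are conjugate in `SL_3(F)` (to the Jordan block, by a lower unitriangular matrix).
-/

set_option autoImplicit false

namespace Cfsg.Agent.Helper48.RT

open Matrix Cfsg.Agent.Helper93.RU Cfsg.Agent.Helper98.RT

variable {F : Type*} [Field F]

/-- the Jordan block -/
def h48Jmat (F : Type*) [Field F] : Matrix (Fin (0 + 3)) (Fin (0 + 3)) F :=
  !![1, 1, 0; 0, 1, 1; 0, 0, 1]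

/-- the lower unitriangular conjugator -/
def h48Bmat (n w : F) : Matrix (Fin (0 + 3)) (Fin (0 + 3)) F :=
  !![1, 0, 0; 1, 1, 0; (3 - w) * w - n - 3 + (w - 1) ^ 2, w - 1, 1]

theorem h48_det_Ymat (n w : F) : (Ymat n w).det = 1 := by
  have h := Matrix.det_fin_three (Ymat n w)
  rw [h]
  simp [Ymat] <;> ring

theorem h48_det_Jmat : (h48Jmat F).det = 1 := by
  have h := Matrix.det_fin_three (h48Jmat F)
  rw [h]
  simp [h48Jmat]

theorem h48_det_Bmat (n w : F) : (h48Bmat n w).det = 1 := by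
  have h := Matrix.det_fin_three (h48Bmat n w)
  rw [h]
  simp [h48Bmat]

theorem h48_yEl_val (n w : F) : (yEl n w).1 = Ymat n w := by
  simp [yEl, h48_det_Ymat n w]

/-- the conjugator in `SL_3` -/
def h48bEl (n w : F) : G3 F := ⟨h48Bmat n w, h48_det_Bmat n w⟩

/-- the Jordan block in `SL_3` -/
def h48jEl (F : Type*) [Field F] : G3 F := ⟨h48Jmat F, h48_det_Jmat⟩

theorem h48_YB (n w : F) : Ymat n w * h48Bmat n w = h48Bmat n w * h48Jmat F := by
  ext i j
  fin_cases i <;> fin_cases j <;>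
    simp [Ymat, h48Bmat, h48Jmat, Matrix.mul_apply, Fin.sum_univ_three] <;> ring

/-- (J1) -/
theorem conj_lower (n w n' w' : F) : ∃ b : G3 F, b * yEl n w * b⁻¹ = yEl n' w' := by
  have hYB : ∀ n w : F, yEl n w * h48bEl n w = h48bEl n w * h48jEl F := by
    intro n w
    apply Subtype.ext
    rw [Matrix.SpecialLinearGroup.coe_mul, Matrix.SpecialLinearGroup.coe_mul]
    show (yEl n w).1 * h48Bmat n w = h48Bmat n w * h48Jmat F
    rw [h48_yEl_val]
    exact h48_YB n w
  have h1 : yEl n w = h48bEl n w * h48jEl F * (h48bEl n w)⁻¹ := eq_mul_inv_of_mul_eq (hYB n w)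
  have h2 : yEl n' w' = h48bEl n' w' * h48jEl F * (h48bEl n' w')⁻¹ :=
    eq_mul_inv_of_mul_eq (hYB n' w')
  refine ⟨h48bEl n' w' * (h48bEl n w)⁻¹, ?_⟩
  rw [h1, h2]
  group

end Cfsg.Agent.Helper48.RT
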