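import Mathlib
import Cfsg.Agent.Lib.Helper98.RT0
import Cfsg.Agent.Lib.Helper48.RTJ1

/-!
# RT server (helper98, S2278): piece (J2) `conj_diag`
-/

set_option autoImplicit false

namespace Cfsg.Agent.Helper48.RT

open Matrix Cfsg.Agent.Helper93.RU Cfsg.Agent.Helper98.RT

variable {F : Type*} [Field F]

theorem h48_det_Smat (ζ ρ : F) (hζ : ζ ≠ 0) : (Smat ζ ρ).det = 1 := by
  have h := Matrix.det_fin_three (Smat ζ ρ)
  rw [h]
  simp [Smat]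
  field_simp

theorem h48_det_Dmat (ζ : F) (hζ : ζ ≠ 0) : (Dmat ζ).det = 1 := by
  have h := Matrix.det_fin_three (Dmat ζ)
  rw [h]
  simp [Dmat]
  field_simp

theorem h48_sEl_val (ζ ρ : F) (hζ : ζ ≠ 0) : (sEl ζ ρ).1 = Smat ζ ρ := by
  simp [sEl, h48_det_Smat ζ ρ hζ]

theorem h48_dEl_val (ζ : F) (hζ : ζ ≠ 0) : (dEl ζ).1 = Dmat ζ := by
  simp [dEl, h48_det_Dmat ζ hζ]

theorem h48_DY (ζ ρ n w n' w' : F) (hζ : ζ ≠ 0) (hw : w' * ζ ^ 2 = w) (hn : n' = ζ ^ 2 * n)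
    (hT : 3 - w' = ρ + ζ * (3 - w))
    (hE : ((3 - w') * w' - n' - 3) * ζ = (3 - w) * w - n - 3) :
    Dmat ζ * Ymat n' w' = Smat ζ ρ * Ymat n w * Dmat ζ := by
  ext i j
  fin_cases i <;> fin_cases j
  · simp [Dmat, Ymat, Smat, Matrix.mul_apply, Fin.sum_univ_three]
  · simp [Dmat, Ymat, Smat, Matrix.mul_apply, Fin.sum_univ_three]
  · simp [Dmat, Ymat, Smat, Matrix.mul_apply, Fin.sum_univ_three]
  · simp [Dmat, Ymat, Smat, Matrix.mul_apply, Fin.sum_univ_three]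
    rw [hn]; ring
  · simp [Dmat, Ymat, Smat, Matrix.mul_apply, Fin.sum_univ_three]
    exact hT
  · simp [Dmat, Ymat, Smat, Matrix.mul_apply, Fin.sum_univ_three]
    field_simp
  · simp [Dmat, Ymat, Smat, Matrix.mul_apply, Fin.sum_univ_three]
    rw [hn, ← hw]; field_simp
  · simp [Dmat, Ymat, Smat, Matrix.mul_apply, Fin.sum_univ_three]
    rw [← hE]; field_simp
  · simp [Dmat, Ymat, Smat, Matrix.mul_apply, Fin.sum_univ_three]
    rw [← hw]; field_simp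

/-- (J2) -/
theorem conj_diag (ζ ρ n w n' w' : F) (hζ : ζ ≠ 0) (hw : w' * ζ ^ 2 = w) (hn : n' = ζ ^ 2 * n)
    (hT : 3 - w' = ρ + ζ * (3 - w))
    (hE : ((3 - w') * w' - n' - 3) * ζ = (3 - w) * w - n - 3) :
    dEl ζ * yEl n' w' * (dEl ζ)⁻¹ = sEl ζ ρ * yEl n w := by
  apply mul_inv_eq_of_eq_mul
  apply Subtype.ext
  rw [Matrix.SpecialLinearGroup.coe_mul, Matrix.SpecialLinearGroup.coe_mul,
    Matrix.SpecialLinearGroup.coe_mul]
  show (dEl ζ).1 * (yEl n' w').1 = (sEl ζ ρ).1 * (yEl n w).1 * (dEl ζ).1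
  rw [h48_yEl_val, h48_yEl_val, h48_sEl_val ζ ρ hζ, h48_dEl_val ζ hζ]
  exact h48_DY ζ ρ n w n' w' hζ hw hn hT hE

end Cfsg.Agent.Helper48.RT
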