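import Mathlib
import Cfsg.Agent.Lib.Helper98.RT0

/-!
# RT server (helper98, S2278): piece (J5) `param_nondeg`
-/

set_option autoImplicit false

namespace Cfsg.Agent.Helper48.RT

open Matrix Cfsg.Agent.Helper93.RU Cfsg.Agent.Helper98.RT

variable {F : Type*} [Field F]

/-- (J5) -/
theorem param_nondeg (ζ : F) (hζ3 : ζ ^ 3 ≠ 1) :
    ∃ c : F, rhoP ζ c ≠ 0 ∧ nP ζ c * wP ζ c + 1 ≠ 0 := by
  have hζ1 : (1 : F) - ζ ≠ 0 := by
    intro h
    apply hζ3
    have : ζ = 1 := by linear_combination -h
    rw [this]; ring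
  by_cases h3 : (3 : F) = 0
  · refine ⟨-1, ?_, ?_⟩
    · have h : rhoP ζ (-1) = 1 - ζ ^ 3 := by
        unfold rhoP
        linear_combination (1 - ζ) * h3
      rw [h]
      intro h0
      apply hζ3
      linear_combination -h0
    · have hn : nP ζ (-1) = ζ := by
        unfold nP
        rw [h3]
        ring
      have h : nP ζ (-1) * wP ζ (-1) + 1 = 1 - ζ ^ 3 := by
        rw [hn]
        unfold wP
        ring
      rw [h]
      intro h0
      apply hζ3
      linear_combination -h0
  · refine ⟨0, ?_, ?_⟩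
    · have h : rhoP ζ 0 = (1 - ζ) * 3 := by
        unfold rhoP
        ring
      rw [h]
      exact mul_ne_zero hζ1 h3
    · have h : nP ζ 0 * wP ζ 0 + 1 = 1 := by
        unfold wP
        ring
      rw [h]
      exact one_ne_zero

end Cfsg.Agent.Helper48.RT
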