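import Mathlib
import Cfsg.Agent.Lib.Helper98.RT0
import Cfsg.Agent.Lib.Helper48.RTJ1

/-!
# RT server (helper98, S2278): piece (U1) `yEl_regular`
-/

set_option autoImplicit false

namespace Cfsg.Agent.Helper48.RT

open Matrix Cfsg.Agent.Helper93.RU Cfsg.Agent.Helper98.RT

variable {F : Type*} [Field F]

/-- `Y - 1` -/
def h48Nmat (n w : F) : Matrix (Fin (0 + 3)) (Fin (0 + 3)) F :=
  !![-1, 1, 0; n, 2 - w, 1; n * w + 1, (3 - w) * w - n - 3, w - 1]

theorem h48_Y_sub_one (n w : F) : Ymat n w - 1 = h48Nmat n w := by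
  ext i j
  fin_cases i <;> fin_cases j <;>
    simp [Ymat, h48Nmat, Matrix.one_apply] <;> ring

theorem h48_N_cube (n w : F) : h48Nmat n w * h48Nmat n w * h48Nmat n w = 0 := by
  ext i j
  fin_cases i <;> fin_cases j <;>
    simp [h48Nmat, Matrix.mul_apply, Fin.sum_univ_three] <;> ring

theorem h48_N_sq (n w : F) : (h48Nmat n w * h48Nmat n w) 0 2 = 1 := by
  simp [h48Nmat, Matrix.mul_apply, Fin.sum_univ_three]

/-- (U1) -/
theorem yEl_regular (n w : F) :
    IsNilpotent ((yEl n w).1 - 1) ∧ ((yEl n w).1 - 1) ^ (3 - 1) ≠ 0 := by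
  rw [h48_yEl_val, h48_Y_sub_one]
  refine ⟨⟨3, ?_⟩, ?_⟩
  · rw [pow_succ, pow_two]
    exact h48_N_cube n w
  · intro h0
    have h1 : (h48Nmat n w ^ (3 - 1)) 0 2 = 0 := by rw [h0]; rfl
    rw [show (3 - 1 : ℕ) = 2 from rfl, pow_two, h48_N_sq] at h1
    exact one_ne_zero h1

end Cfsg.Agent.Helper48.RT
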