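import Mathlib
import Cfsg.Prelude.Def_Transfer
import Cfsg.Prelude.Def_Solvable
import Cfsg.Agent.Lib.Helper48.FpfThree
import Cfsg.Agent.Lib.Helper48.CoprimeGen
import Cfsg.Agent.Lib.Helper48.Cores
import Cfsg.Agent.Lib.Helper48.PMinimal
import Cfsg.Agent.Lib.Helper62.FittingMin

/-!
# Groups of 2-rank at most two with an element of order six (S3739)
-/

set_option autoImplicit false

namespace Cfsg.Agent.Helper48

open scoped commutatorElement Pointwise

variable {G : Type*} [Group G]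

/-- the join of two commuting abelian subgroups of exponent `p` is abelian of exponent `p` -/
theorem sup_comm_exp (p : ℕ) (A B : Subgroup G)
    (hA : ∀ a ∈ A, ∀ b ∈ A, a * b = b * a) (hB : ∀ a ∈ B, ∀ b ∈ B, a * b = b * a)
    (hAB : ∀ a ∈ A, ∀ b ∈ B, a * b = b * a)
    (hAp : ∀ a ∈ A, a ^ p = 1) (hBp : ∀ a ∈ B, a ^ p = 1) :
    (∀ a ∈ A ⊔ B, ∀ b ∈ A ⊔ B, a * b = b * a) ∧ ∀ a ∈ A ⊔ B, a ^ p = 1 := by
  set S : Set G := (A : Set G) ∪ (B : Set G) with hS
  have hW : A ⊔ B = Subgroup.closure S := by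
    rw [hS, Subgroup.closure_union, Subgroup.closure_eq, Subgroup.closure_eq]
  have hSc : S ⊆ (Subgroup.centralizer S : Set G) := by
    intro x hx
    show x ∈ Subgroup.centralizer S
    rw [Subgroup.mem_centralizer_iff]
    intro y hy
    rcases hx with hx | hx <;> rcases hy with hy | hy
    · exact hA y hy x hx
    · exact (hAB x hx y hy).symm
    · exact hAB y hy x hx
    · exact hB y hy x hx
  have hWc : A ⊔ B ≤ Subgroup.centralizer ((A ⊔ B : Subgroup G) : Set G) := by
    rw [hW, Subgroup.centralizer_closure]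
    exact (Subgroup.closure_le _).2 hSc
  have hcomm : ∀ a ∈ A ⊔ B, ∀ b ∈ A ⊔ B, a * b = b * a := by
    intro a ha b hb
    exact (Subgroup.mem_centralizer_iff.1 (hWc hb)) a ha
  refine ⟨hcomm, ?_⟩
  intro a ha
  have ha' : a ∈ Subgroup.closure S := hW ▸ ha
  induction ha' using Subgroup.closure_induction with
  | mem x hx =>
    rcases hx with hx | hx
    · exact hAp x hx
    · exact hBp x hx
  | one => simp
  | mul x y hx hy hx2 hy2 =>
    have hxy : Commute x y := hcomm x (hW ▸ hx) y (hW ▸ hy)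
    rw [hxy.mul_pow, hx2 (hW ▸ hx), hy2 (hW ▸ hy), one_mul]
  | inv x hx hx2 => rw [inv_pow, hx2 (hW ▸ hx), inv_one]

theorem three_le_card_of_mem [Finite G] {H : Subgroup G} {a b c : G} (ha : a ∈ H) (hb : b ∈ H)
    (hc : c ∈ H) (hab : a ≠ b) (hac : a ≠ c) (hbc : b ≠ c) : 3 ≤ Nat.card H := by
  classical
  have hsub : (({a, b, c} : Finset G) : Set G) ⊆ (H : Set G) := by
    intro w hw'
    simp only [Finset.coe_insert, Finset.coe_singleton, Set.mem_insert_iff,
      Set.mem_singleton_iff] at hw'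
    rcases hw' with rfl | rfl | rfl <;> assumption
  have h5 : ({a, b, c} : Finset G).card = 3 := by
    rw [Finset.card_insert_of_notMem, Finset.card_insert_of_notMem, Finset.card_singleton]
    · simp [hbc]
    · simp [hab, hac]
  have h1 := Set.ncard_le_ncard hsub (Set.toFinite _)
  rw [Set.ncard_coe_finset, h5] at h1
  exact h1

/-- a nontrivial subgroup on which `d` acts without fixed points has at least three elements -/
theorem three_le_card_of_fpf [Finite G] {W : Subgroup G} {d : G} (hW1 : W ≠ ⊥)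
    (hdW : d ∈ Subgroup.normalizer (W : Set G)) (hfpf : W ⊓ Subgroup.centralizer {d} = ⊥) :
    3 ≤ Nat.card W := by
  obtain ⟨v, hv, hv1⟩ : ∃ v : G, v ∈ W ∧ v ≠ 1 := by
    obtain ⟨v, hv⟩ := (Subgroup.ne_bot_iff_exists_ne_one (H := W)).1 hW1
    exact ⟨(v : G), v.2, fun h => hv (Subtype.ext h)⟩
  have hw : d * v * d⁻¹ ∈ W := conj_mem_of_mem_normalizer hdW hv
  have hw1 : d * v * d⁻¹ ≠ 1 := conj_ne_one hv1
  have hwv : d * v * d⁻¹ ≠ v := fun h => hv1 (eq_one_of_fixed hfpf hv h)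
  exact three_le_card_of_mem (Subgroup.one_mem _) hv hw (Ne.symm hv1) (Ne.symm hw1) (Ne.symm hwv)

/-- a nontrivial element of a 2-group has a power which is an involution -/
theorem exists_pow_involution [Finite G] {Q : Subgroup G} (hQ : IsPGroup 2 Q) {x : G} (hx : x ∈ Q)
    (hx1 : x ≠ 1) : ∃ m : ℕ, x ^ m ≠ 1 ∧ (x ^ m) ^ 2 = 1 := by
  obtain ⟨k, hk⟩ := hQ ⟨x, hx⟩
  have hk' : x ^ (2 ^ k) = 1 := by
    have := congrArg Subtype.val hk
    simpa using this
  have : ∃ j : ℕ, x ^ (2 ^ j) = 1 := ⟨k, hk'⟩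
  classical
  set j := Nat.find this with hj
  have hj1 : x ^ (2 ^ j) = 1 := Nat.find_spec this
  have hj0 : j ≠ 0 := by
    intro h0
    rw [h0, pow_zero, pow_one] at hj1
    exact hx1 hj1
  refine ⟨2 ^ (j - 1), ?_, ?_⟩
  · intro h
    have := Nat.find_min' this h
    omega
  · rw [← pow_mul, ← pow_succ]
    have : j - 1 + 1 = j := by omega
    rw [this, hj1]


/-- "2-rank at most two" -/
def SmallRank (G : Type*) [Group G] : Prop :=
  ∀ E : Subgroup G, (∀ a ∈ E, ∀ b ∈ E, a * b = b * a) → (∀ a ∈ E, a ^ 2 = 1) → Nat.card E ≤ 4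

theorem SmallRank.hrank (h : SmallRank G) (P : Subgroup G) :
    ∀ V : Subgroup G, V ≤ P → IsMulCommutative V → Cfsg.PRankLE 2 2 V := by
  intro V _ _ A hA hA2
  have hinj : Function.Injective V.subtype := V.subtype_injective
  have := h (A.map V.subtype) ?_ ?_
  · rw [Subgroup.card_map_of_injective hinj] at this
    simpa using this
  · rintro _ ⟨a, ha, rfl⟩ _ ⟨b, hb, rfl⟩
    have := hA.is_comm.comm ⟨a, ha⟩ ⟨b, hb⟩
    have h2 := congrArg (fun w : A => ((w : V) : G)) this
    simpa using h2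
  · rintro _ ⟨a, ha, rfl⟩
    have := hA2 a ha
    have h2 := congrArg (fun w : V => (w : G)) this
    simpa using h2

theorem mem_normalizer_centralizer_of_mem_normalizer {W : Subgroup G} {g : G}
    (hg : g ∈ Subgroup.normalizer (W : Set G)) :
    g ∈ Subgroup.normalizer ((Subgroup.centralizer (W : Set G) : Subgroup G) : Set G) := by
  have key : ∀ g : G, g ∈ Subgroup.normalizer (W : Set G) →
      ∀ x ∈ Subgroup.centralizer (W : Set G), g * x * g⁻¹ ∈ Subgroup.centralizer (W : Set G) := by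
    intro g hg x hx
    rw [Subgroup.mem_centralizer_iff] at hx ⊢
    intro w hw
    have hw' : g⁻¹ * w * g ∈ W := conj_inv_mem_of_mem_normalizer hg hw
    have := hx _ hw'
    calc w * (g * x * g⁻¹) = g * ((g⁻¹ * w * g) * x) * g⁻¹ := by group
      _ = g * (x * (g⁻¹ * w * g)) * g⁻¹ := by rw [this]
      _ = g * x * g⁻¹ * w := by group
  apply mem_normalizer_of_conj_mem
  · exact key g hg
  · intro x hx
    have := key g⁻¹ (Subgroup.inv_mem _ hg) x hx
    rwa [inv_inv] at this

/-- a 2-group normalizing a nontrivial 2-group centralizes a nontrivial element of it -/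
theorem inf_centralizer_ne_bot [Finite G] {Z W : Subgroup G} (hZ : IsPGroup 2 Z) (hW : IsPGroup 2 W)
    (hZ1 : Z ≠ ⊥) (hWZ : W ≤ Subgroup.normalizer (Z : Set G)) :
    Z ⊓ Subgroup.centralizer (W : Set G) ≠ ⊥ := by
  have : Fact (Nat.Prime 2) := ⟨Nat.prime_two⟩
  set H := Z ⊔ W with hH
  have hHN : H ≤ Subgroup.normalizer (Z : Set G) := sup_le Subgroup.le_normalizer hWZ
  have hcard : Nat.card H ∣ Nat.card Z * Nat.card W := card_sup_dvd_of_le_normalizer Z W hWZ
  have hHp : IsPGroup 2 H := by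
    obtain ⟨a, ha⟩ := IsPGroup.iff_card.1 hZ
    obtain ⟨b, hb⟩ := IsPGroup.iff_card.1 hW
    rw [ha, hb, ← pow_add] at hcard
    obtain ⟨c, _, hc⟩ := (Nat.dvd_prime_pow Nat.prime_two).1 hcard
    exact IsPGroup.of_card hc
  have hnil : Group.IsNilpotent H := hHp.isNilpotent
  have hKn : (Z.subgroupOf H).Normal := by
    have h1 : (Z.subgroupOf (Subgroup.normalizer (Z : Set G))).Normal :=
      Subgroup.normal_in_normalizer
    constructor
    intro n hn g
    rw [Subgroup.mem_subgroupOf] at hn ⊢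
    exact conj_mem_of_mem_normalizer (hHN g.2) hn
  have hK1 : Z.subgroupOf H ≠ ⊥ := by
    intro h
    rw [Subgroup.subgroupOf_eq_bot] at h
    have : Z ⊓ H = Z := inf_eq_left.2 le_sup_left
    rw [disjoint_iff, this] at h
    exact hZ1 h
  have h2 := Cfsg.Agent.Helper62.normal_inf_center_ne_bot (Z.subgroupOf H) hK1
  obtain ⟨x, hx, hx1⟩ : ∃ x : H, x ∈ Z.subgroupOf H ⊓ Subgroup.center H ∧ x ≠ 1 := by
    obtain ⟨x, hx⟩ := (Subgroup.ne_bot_iff_exists_ne_one
      (H := Z.subgroupOf H ⊓ Subgroup.center H)).1 h2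
    exact ⟨(x : H), x.2, fun h => hx (Subtype.ext h)⟩
  intro hbot
  have hmem : (x : G) ∈ Z ⊓ Subgroup.centralizer (W : Set G) := by
    refine ⟨Subgroup.mem_subgroupOf.1 hx.1, ?_⟩
    show (x : G) ∈ Subgroup.centralizer (W : Set G)
    rw [Subgroup.mem_centralizer_iff]
    intro w hw
    have := (Subgroup.mem_center_iff.1 hx.2) ⟨w, le_sup_right (a := Z) hw⟩
    exact congrArg Subtype.val this
  rw [hbot, Subgroup.mem_bot] at hmem
  exact hx1 (Subtype.ext hmem)


/-- the fixed-point-freely acted elementary abelian subgroup is `Ω₁(Z(Q))` -/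
theorem eq_omegaZ_of_fpf [Finite G] (hsmall : SmallRank G) {Q : Subgroup G} (hQn : Q.Normal)
    (hQ2 : IsPGroup 2 Q) (hQ1 : Q ≠ ⊥) {W : Subgroup G} {d : G}
    (hWc : ∀ a ∈ W, ∀ b ∈ W, a * b = b * a) (hW2 : ∀ a ∈ W, a ^ 2 = 1) (hW1 : W ≠ ⊥)
    (hdW : d ∈ Subgroup.normalizer (W : Set G)) (hfpf : W ⊓ Subgroup.centralizer {d} = ⊥) :
    W = omegaZ Q ∧ Nat.card W = 4 := by
  have hWp : IsPGroup 2 W := by
    intro x
    exact ⟨1, Subtype.ext (by simpa using hW2 x x.2)⟩
  have hW4 : Nat.card W = 4 := by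
    have h3 := three_le_card_of_fpf hW1 hdW hfpf
    have h4 := hsmall W hWc hW2
    obtain ⟨k, hk⟩ := IsPGroup.iff_card.1 hWp
    rw [hk] at h3 h4 ⊢
    have hk2 : k ≤ 2 := by
      by_contra hlt
      push Not at hlt
      have : 2 ^ 3 ≤ 2 ^ k := Nat.pow_le_pow_right (by norm_num) hlt
      omega
    interval_cases k <;> omega
  have hNtop : ∀ x : G, x ∈ Subgroup.normalizer (Q : Set G) := by
    intro x
    rw [Subgroup.normalizer_eq_top Q]
    exact Subgroup.mem_top x
  set Z := omegaZ Q with hZ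
  have hZN : ∀ x : G, x ∈ Subgroup.normalizer (Z : Set G) := fun x =>
    mem_normalizer_omegaZ (hNtop x)
  have hZp : IsPGroup 2 Z := hQ2.to_le (omegaZ_le Q)
  have hZ1 : Z ≠ ⊥ := omegaZ_ne_bot hQ2 hQ1
  have hZ4 : Nat.card Z ≤ 4 :=
    hsmall Z (fun a ha b hb => hb.2.1 a ha.1) (fun a ha => ha.2.2)
  set Y := Z ⊓ Subgroup.centralizer (W : Set G) with hY
  have hY1 : Y ≠ ⊥ := inf_centralizer_ne_bot hZp hWp hZ1 (fun w _ => hZN w)
  have hdY : d ∈ Subgroup.normalizer (Y : Set G) :=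
    mem_normalizer_inf' (hZN d) (mem_normalizer_centralizer_of_mem_normalizer hdW)
  -- `W ⊔ Y` is elementary abelian
  have hYZ : Y ≤ Z := inf_le_left
  have hsup := sup_comm_exp 2 W Y hWc
    (fun a ha b hb => (hYZ hb).2.1 a (hYZ ha).1)
    (fun a ha b hb => ((Subgroup.mem_centralizer_iff.1 hb.2) a ha))
    hW2 (fun a ha => (hYZ ha).2.2)
  have hle : Nat.card (W ⊔ Y : Subgroup G) ≤ 4 := hsmall _ hsup.1 hsup.2
  have hWY : W = W ⊔ Y := Subgroup.eq_of_le_of_card_ge le_sup_left (by rw [hW4]; exact hle)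
  have hYW : Y ≤ W := by rw [hWY]; exact le_sup_right
  -- `d` acts without fixed points on `Y`
  have hfY : Y ⊓ Subgroup.centralizer {d} = ⊥ := by
    apply le_bot_iff.1
    rw [← hfpf]
    exact inf_le_inf_right _ hYW
  have hY3 : 3 ≤ Nat.card Y := three_le_card_of_fpf hY1 hdY hfY
  have hYdvd : Nat.card Y ∣ 4 := by
    rw [← hW4]
    exact Subgroup.card_dvd_of_le hYW
  have hY4 : Nat.card Y = 4 := by
    have : Nat.card Y ≤ 4 := Nat.le_of_dvd (by norm_num) hYdvd
    interval_cases h : Nat.card Y <;> omega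
  have h1 : Y = W := Subgroup.eq_of_le_of_card_ge hYW (by rw [hY4, hW4])
  have h2 : Y = Z := Subgroup.eq_of_le_of_card_ge hYZ (by rw [hY4]; exact hZ4)
  exact ⟨h1.symm.trans h2, hW4⟩


theorem eq_one_of_mem_of_pow_three [Finite G] {Q : Subgroup G} (hQ2 : IsPGroup 2 Q) {b : G}
    (hb : b ∈ Q) (hb3 : b ^ 3 = 1) : b = 1 := by
  obtain ⟨k, hk⟩ := hQ2 ⟨b, hb⟩
  have hk' : b ^ (2 ^ k) = 1 := by
    have := congrArg Subtype.val hk
    simpa using this
  have h1 : orderOf b ∣ 3 := orderOf_dvd_of_pow_eq_one hb3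
  have h2 : orderOf b ∣ 2 ^ k := orderOf_dvd_of_pow_eq_one hk'
  have h3 : orderOf b ∣ Nat.gcd 3 (2 ^ k) := Nat.dvd_gcd h1 h2
  have h4 : Nat.gcd 3 (2 ^ k) = 1 := Nat.Coprime.pow_right k (by norm_num)
  rw [h4, Nat.dvd_one] at h3
  exact orderOf_eq_one_iff.1 h3

theorem zpowers_inf_centralizer_eq_bot [Finite G] {Q : Subgroup G} (hQ2 : IsPGroup 2 Q)
    (hchar : Subgroup.centralizer (Q : Set G) ≤ Q) {d : G}
    (hd : IsPGroup 3 ↥(Subgroup.zpowers d)) :
    Subgroup.zpowers d ⊓ Subgroup.centralizer (Q : Set G) = ⊥ := by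
  have : Fact (Nat.Prime 2) := ⟨Nat.prime_two⟩
  have : Fact (Nat.Prime 3) := ⟨Nat.prime_three⟩
  have h := (IsPGroup.disjoint_of_ne 3 2 (by norm_num) _ _ hd hQ2).eq_bot
  apply le_bot_iff.1
  rw [← h]
  exact inf_le_inf_left _ hchar

/-- `d` acts without fixed points on `Q`, and has order three -/
theorem fpf_on_core [Finite G] (hsmall : SmallRank G) {Q : Subgroup G} (hQn : Q.Normal)
    (hQ2 : IsPGroup 2 Q) (hQ1 : Q ≠ ⊥) (hchar : Subgroup.centralizer (Q : Set G) ≤ Q)
    {W : Subgroup G} {d : G}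
    (hWc : ∀ a ∈ W, ∀ b ∈ W, a * b = b * a) (hW2 : ∀ a ∈ W, a ^ 2 = 1) (hW1 : W ≠ ⊥)
    (hdW : d ∈ Subgroup.normalizer (W : Set G)) (hfpf : W ⊓ Subgroup.centralizer {d} = ⊥)
    (hd1 : d ≠ 1) (hd : IsPGroup 3 ↥(Subgroup.zpowers d)) :
    Q ⊓ Subgroup.centralizer {d} = ⊥ ∧ orderOf d = 3 ∧ Nat.card (omegaZ Q) = 4 ∧
      W = omegaZ Q := by
  obtain ⟨hWZ, hW4⟩ := eq_omegaZ_of_fpf hsmall hQn hQ2 hQ1 hWc hW2 hW1 hdW hfpf
  have hcard : Nat.card (omegaZ Q) = 4 := hWZ ▸ hW4
  have hrank := hsmall.hrank Q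
  have hfpfQ : Q ⊓ Subgroup.centralizer {d} = ⊥ := by
    rw [Subgroup.eq_bot_iff_forall]
    intro x hx
    by_contra hx1
    obtain ⟨m, hm1, hm2⟩ := exists_pow_involution hQ2 hx.1 hx1
    have hu : x ^ m ∈ omegaZ Q :=
      mem_omegaZ_of_sq_eq_one hcard hrank (Q.pow_mem hx.1 m) hm2
    have hu2 : x ^ m ∈ W ⊓ Subgroup.centralizer {d} :=
      ⟨hWZ ▸ hu, Subgroup.pow_mem _ hx.2 m⟩
    rw [hfpf, Subgroup.mem_bot] at hu2
    exact hm1 hu2
  refine ⟨hfpfQ, ?_, hcard, hWZ⟩
  obtain ⟨n, hn⟩ := IsPGroup.iff_card.1 hd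
  rw [Nat.card_zpowers] at hn
  have hn0 : n ≠ 0 := by
    rintro rfl
    rw [pow_zero, orderOf_eq_one_iff] at hn
    exact hd1 hn
  have hNtop : d ∈ Subgroup.normalizer (Q : Set G) := by
    rw [Subgroup.normalizer_eq_top Q]
    exact Subgroup.mem_top d
  rcases Nat.lt_or_ge n 2 with h | h
  · have : n = 1 := by omega
    rw [hn, this, pow_one]
  · exact (fpf_three_false d n h hn Q hQ2 hNtop
      (zpowers_inf_centralizer_eq_bot hQ2 hchar hd) hfpfQ hrank).elim


/-- a nontrivial `d`-invariant subgroup of a group of order four on which `d` acts without fixed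
points is everything -/
theorem eq_of_fpf_of_card_four [Finite G] {Z Y : Subgroup G} {d : G} (hZ4 : Nat.card Z = 4)
    (hYZ : Y ≤ Z) (hY1 : Y ≠ ⊥) (hdY : d ∈ Subgroup.normalizer (Y : Set G))
    (hfZ : Z ⊓ Subgroup.centralizer {d} = ⊥) : Y = Z := by
  have hfY : Y ⊓ Subgroup.centralizer {d} = ⊥ := by
    apply le_bot_iff.1
    rw [← hfZ]
    exact inf_le_inf_right _ hYZ
  have hY3 : 3 ≤ Nat.card Y := three_le_card_of_fpf hY1 hdY hfY
  have hYdvd : Nat.card Y ∣ 4 := by
    rw [← hZ4]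
    exact Subgroup.card_dvd_of_le hYZ
  have hY4 : Nat.card Y = 4 := by
    have : Nat.card Y ≤ 4 := Nat.le_of_dvd (by norm_num) hYdvd
    interval_cases h : Nat.card Y <;> omega
  exact Subgroup.eq_of_le_of_card_ge hYZ (by rw [hY4, hZ4])

theorem zpowers_comm (x : G) : ∀ a ∈ Subgroup.zpowers x, ∀ b ∈ Subgroup.zpowers x, a * b = b * a := by
  intro a ha b hb
  obtain ⟨i, rfl⟩ := Subgroup.mem_zpowers_iff.1 ha
  obtain ⟨j, rfl⟩ := Subgroup.mem_zpowers_iff.1 hb
  exact (Commute.zpow_zpow_self x i j).eq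

theorem zpowers_comm' {x d : G} (hxd : x * d = d * x) :
    ∀ a ∈ Subgroup.zpowers x, ∀ b ∈ Subgroup.zpowers d, a * b = b * a := by
  intro a ha b hb
  obtain ⟨i, rfl⟩ := Subgroup.mem_zpowers_iff.1 ha
  obtain ⟨j, rfl⟩ := Subgroup.mem_zpowers_iff.1 hb
  have hc : Commute x d := hxd
  exact (hc.zpow_zpow i j).eq

theorem zpowers_exp {x : G} {p : ℕ} (hx : x ^ p = 1) : ∀ a ∈ Subgroup.zpowers x, a ^ p = 1 := by
  intro a ha
  obtain ⟨i, rfl⟩ := Subgroup.mem_zpowers_iff.1 ha
  rw [← zpow_natCast, ← zpow_mul, mul_comm, zpow_mul, zpow_natCast, hx, one_zpow]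


/-- Step A: no element of order three outside `⟨d⟩` commutes with `d`. -/
theorem no_commuting_order_three [Finite G] (hsmall : SmallRank G) {Q : Subgroup G}
    (hQn : Q.Normal) (hQ2 : IsPGroup 2 Q) (hchar : Subgroup.centralizer (Q : Set G) ≤ Q)
    {d : G} (hdo : orderOf d = 3) (hfpfQ : Q ⊓ Subgroup.centralizer {d} = ⊥)
    (hcard : Nat.card (omegaZ Q) = 4)
    {x : G} (hx3 : x ^ 3 = 1) (hxd : x * d = d * x) (hx : x ∉ Subgroup.zpowers d) : False := by
  have : Fact (Nat.Prime 3) := ⟨Nat.prime_three⟩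
  have hrank := hsmall.hrank Q
  have hd3 : d ^ 3 = 1 := by rw [← hdo]; exact pow_orderOf_eq_one d
  have hNtop : ∀ y : G, y ∈ Subgroup.normalizer (Q : Set G) := by
    intro y
    rw [Subgroup.normalizer_eq_top Q]
    exact Subgroup.mem_top y
  set Z := omegaZ Q with hZ
  have hZN : ∀ y : G, y ∈ Subgroup.normalizer (Z : Set G) := fun y =>
    mem_normalizer_omegaZ (hNtop y)
  have hfZ : Z ⊓ Subgroup.centralizer {d} = ⊥ := by
    apply le_bot_iff.1
    rw [← hfpfQ]
    exact inf_le_inf_right _ (omegaZ_le Q)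
  have hZ1 : Z ≠ ⊥ := by
    intro h
    rw [h, Subgroup.card_bot] at hcard
    omega
  obtain ⟨v, hv, hv1⟩ : ∃ v : G, v ∈ Z ∧ v ≠ 1 := by
    obtain ⟨v, hv⟩ := (Subgroup.ne_bot_iff_exists_ne_one (H := Z)).1 hZ1
    exact ⟨(v : G), v.2, fun h => hv (Subtype.ext h)⟩
  -- the three involutions
  have ha1V : d * v * d⁻¹ ∈ Z := conj_mem_of_mem_normalizer (hZN d) hv
  have ha2V : d * (d * v * d⁻¹) * d⁻¹ ∈ Z := conj_mem_of_mem_normalizer (hZN d) ha1V
  have ha11 : d * v * d⁻¹ ≠ 1 := conj_ne_one hv1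
  have ha21 : d * (d * v * d⁻¹) * d⁻¹ ≠ 1 := conj_ne_one ha11
  have h01 : v ≠ d * v * d⁻¹ := fun h => hv1 (eq_one_of_fixed hfZ hv h.symm)
  have h12 : d * v * d⁻¹ ≠ d * (d * v * d⁻¹) * d⁻¹ :=
    fun h => ha11 (eq_one_of_fixed hfZ ha1V h.symm)
  have h02 : v ≠ d * (d * v * d⁻¹) * d⁻¹ := by
    intro h
    have hfix : d * (v * (d * v * d⁻¹)) * d⁻¹ = v * (d * v * d⁻¹) := by
      calc d * (v * (d * v * d⁻¹)) * d⁻¹ = (d * v * d⁻¹) * (d * (d * v * d⁻¹) * d⁻¹) := by group
        _ = (d * v * d⁻¹) * v := by rw [← h]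
        _ = v * (d * v * d⁻¹) := (ha1V.2.1 v hv.1).symm
    have h1 := eq_one_of_fixed hfZ (Z.mul_mem hv ha1V) hfix
    have hv2 : v * v = 1 := by rw [← pow_two]; exact hv.2.2
    apply h01
    calc v = v⁻¹ * (v * v) := by group
      _ = v⁻¹ := by rw [hv2, mul_one]
      _ = v⁻¹ * (v * (d * v * d⁻¹)) := by rw [h1, mul_one]
      _ = d * v * d⁻¹ := by group
  -- `x v x⁻¹` is one of them
  have hxv : x * v * x⁻¹ ∈ Z := conj_mem_of_mem_normalizer (hZN x) hv
  have hxv1 : x * v * x⁻¹ ≠ 1 := conj_ne_one hv1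
  obtain ⟨j, hj⟩ : ∃ j : ℕ, x * v * x⁻¹ = d ^ j * v * (d ^ j)⁻¹ := by
    by_contra hno
    push Not at hno
    have e0 := hno 0
    have e1 := hno 1
    have e2 := hno 2
    rw [pow_zero] at e0
    rw [pow_one] at e1
    have e0' : x * v * x⁻¹ ≠ v := by
      intro h; apply e0; rw [h]; group
    have e2' : x * v * x⁻¹ ≠ d * (d * v * d⁻¹) * d⁻¹ := by
      intro h; apply e2; rw [h, pow_two]; group
    have h5 := ncard_five_le (V := Z) hv ha1V ha2V (Subgroup.one_mem _) hxv
      h01 h02 h12 (Ne.symm hv1) (Ne.symm ha11) (Ne.symm ha21) e0' e1 e2' (Ne.symm hxv1)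
    omega
  -- the element `b`
  set b := (d ^ j)⁻¹ * x with hb
  have hbd : b * d = d * b := by
    have hc : Commute x d := hxd
    have h1 : Commute ((d ^ j)⁻¹) d := ((Commute.refl d).pow_left j).inv_left
    exact (h1.mul_left hc).eq
  have hb1 : b ≠ 1 := by
    intro h
    apply hx
    have : x = d ^ j := by
      calc x = d ^ j * ((d ^ j)⁻¹ * x) := by group
        _ = d ^ j := by rw [← hb, h, mul_one]
    rw [this]
    exact Subgroup.pow_mem _ (Subgroup.mem_zpowers d) j
  have hbv : b * v = v * b := by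
    have : b * v * b⁻¹ = v := by
      calc b * v * b⁻¹ = (d ^ j)⁻¹ * (x * v * x⁻¹) * d ^ j := by rw [hb]; group
        _ = v := by rw [hj]; group
    calc b * v = (b * v * b⁻¹) * b := by group
      _ = v * b := by rw [this]
  -- the group `A`
  set A := Subgroup.zpowers x ⊔ Subgroup.zpowers d with hA
  have hsup := sup_comm_exp 3 (Subgroup.zpowers x) (Subgroup.zpowers d) (zpowers_comm x)
    (zpowers_comm d) (zpowers_comm' hxd) (zpowers_exp hx3) (zpowers_exp hd3)
  have hxA : x ∈ A := le_sup_left (a := Subgroup.zpowers x) (Subgroup.mem_zpowers x)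
  have hdA : d ∈ A := le_sup_right (a := Subgroup.zpowers x) (Subgroup.mem_zpowers d)
  have hbA : b ∈ A := A.mul_mem (A.inv_mem (A.pow_mem hdA j)) hxA
  have hAp : IsPGroup 3 A := by
    intro y
    exact ⟨1, Subtype.ext (by simpa using hsup.2 y y.2)⟩
  have hA9 : Nat.card A = 9 := by
    have hdvd : Nat.card A ∣ Nat.card (Subgroup.zpowers x) * Nat.card (Subgroup.zpowers d) := by
      apply card_sup_dvd_of_le_normalizer
      apply (Subgroup.centralizer_le_normalizer _).trans' 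
      rw [Subgroup.zpowers_le, Subgroup.mem_centralizer_iff]
      intro y hy
      exact zpowers_comm' hxd y hy d (Subgroup.mem_zpowers d)
    have hox : orderOf x ∣ 3 := orderOf_dvd_of_pow_eq_one hx3
    rw [Nat.card_zpowers, Nat.card_zpowers, hdo] at hdvd
    have hdvd9 : Nat.card A ∣ 9 := hdvd.trans (Nat.mul_dvd_mul_right hox 3)
    have hlt : Nat.card (Subgroup.zpowers d) < Nat.card A := by
      have hle : Subgroup.zpowers d ≤ A := le_sup_right
      rcases lt_or_eq_of_le (Subgroup.card_le_of_le hle) with h | h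
      · exact h
      · have := Subgroup.eq_of_le_of_card_ge hle h.ge
        exact absurd (this ▸ hxA) hx
    rw [Nat.card_zpowers, hdo] at hlt
    have hle9 : Nat.card A ≤ 9 := Nat.le_of_dvd (by norm_num) hdvd9
    interval_cases h : Nat.card A <;> omega
  -- `b` centralizes `Z`
  have hbZ : Z ≤ Subgroup.centralizer {b} := by
    have h1 : Z ⊓ Subgroup.centralizer {b} = Z := by
      apply eq_of_fpf_of_card_four hcard inf_le_left
      · intro h
        have : v ∈ Z ⊓ Subgroup.centralizer {b} :=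
          ⟨hv, Subgroup.mem_centralizer_singleton_iff.2 hbv.symm⟩
        rw [h, Subgroup.mem_bot] at this
        exact hv1 this
      · exact mem_normalizer_inf' (hZN d) (mem_normalizer_centralizer_singleton hbd.symm)
      · exact hfZ
    rw [← h1]
    exact inf_le_right
  -- generation
  have hgen : Q ≤ Q ⊓ Subgroup.centralizer {b} := by
    apply le_of_forall_inf_centralizer_le (p := 3) A Q _ hsup.1 hsup.2
      (by rw [hA9]; norm_num) (fun y _ => hNtop y)
    · obtain ⟨k, hk⟩ := IsPGroup.iff_card.1 hQ2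
      rw [hk]
      exact Nat.Coprime.pow_left k (by norm_num)
    · intro c hcA hc1
      have hcd : c * d = d * c := hsup.1 c hcA d hdA
      set Yc := Z ⊓ Subgroup.centralizer {c} with hYc
      have hdYc : d ∈ Subgroup.normalizer (Yc : Set G) :=
        mem_normalizer_inf' (hZN d) (mem_normalizer_centralizer_singleton hcd.symm)
      by_cases hY : Yc = ⊥
      · -- no fixed points at all
        have : Q ⊓ Subgroup.centralizer {c} = ⊥ := by
          rw [Subgroup.eq_bot_iff_forall]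
          intro y hy
          by_contra hy1
          obtain ⟨m, hm1, hm2⟩ := exists_pow_involution hQ2 hy.1 hy1
          have hu : y ^ m ∈ Z := mem_omegaZ_of_sq_eq_one hcard hrank (Q.pow_mem hy.1 m) hm2
          have hu2 : y ^ m ∈ Yc := ⟨hu, Subgroup.pow_mem _ hy.2 m⟩
          rw [hY, Subgroup.mem_bot] at hu2
          exact hm1 hu2
        rw [this]
        exact bot_le
      · -- `c` centralizes `Z`
        have hYcZ : Yc = Z := eq_of_fpf_of_card_four hcard inf_le_left hY hdYc hfZ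
        have hcZ : Z ≤ Subgroup.centralizer {c} := by
          rw [← hYcZ]
          exact inf_le_right
        set A0 := A ⊓ Subgroup.centralizer (Z : Set G) with hA0
        have hmemA0 : ∀ y, y ∈ A → Z ≤ Subgroup.centralizer {y} → y ∈ A0 := by
          intro y hy hyZ
          refine ⟨hy, ?_⟩
          show y ∈ Subgroup.centralizer (Z : Set G)
          rw [Subgroup.mem_centralizer_iff]
          intro z hz
          exact Subgroup.mem_centralizer_singleton_iff.1 (hyZ hz)
        have hcA0 : c ∈ A0 := hmemA0 c hcA hcZ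
        have hbA0 : b ∈ A0 := hmemA0 b hbA hbZ
        have hdA0 : d ∉ A0 := by
          intro h
          have : v ∈ Z ⊓ Subgroup.centralizer {d} := by
            refine ⟨hv, ?_⟩
            show v ∈ Subgroup.centralizer {d}
            rw [Subgroup.mem_centralizer_singleton_iff]
            exact ((Subgroup.mem_centralizer_iff.1 h.2) v hv)
          rw [hfZ, Subgroup.mem_bot] at this
          exact hv1 this
        have hA0le : A0 ≤ A := inf_le_left
        have hA0dvd : Nat.card A0 ∣ 9 := hA9 ▸ Subgroup.card_dvd_of_le hA0le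
        have hA0ne9 : Nat.card A0 ≠ 9 := by
          intro h
          have := Subgroup.eq_of_le_of_card_ge hA0le (by rw [h, hA9])
          exact hdA0 (this ▸ hdA)
        have hoc : orderOf c = 3 := orderOf_eq_prime (hsup.2 c hcA) hc1
        have hzc : Subgroup.zpowers c ≤ A0 := Subgroup.zpowers_le.2 hcA0
        have hA03 : Nat.card A0 = 3 := by
          have h3 : 3 ≤ Nat.card A0 := by
            have := Subgroup.card_le_of_le hzc
            rwa [Nat.card_zpowers, hoc] at this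
          have hle9 : Nat.card A0 ≤ 9 := Nat.le_of_dvd (by norm_num) hA0dvd
          interval_cases h : Nat.card A0 <;> omega
        have hzc' : Subgroup.zpowers c = A0 :=
          Subgroup.eq_of_le_of_card_ge hzc (by rw [hA03, Nat.card_zpowers, hoc])
        have hbc : b ∈ Subgroup.zpowers c := hzc' ▸ hbA0
        intro y hy
        refine ⟨hy.1, ?_⟩
        show y ∈ Subgroup.centralizer {b}
        rw [Subgroup.mem_centralizer_singleton_iff]
        obtain ⟨i, hi⟩ := Subgroup.mem_zpowers_iff.1 hbc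
        have hyc : Commute y c := Subgroup.mem_centralizer_singleton_iff.1 hy.2
        rw [← hi]
        exact (hyc.zpow_right i).eq
  -- conclusion
  have hbQ : b ∈ Q := by
    apply hchar
    rw [Subgroup.mem_centralizer_iff]
    intro y hy
    exact (Subgroup.mem_centralizer_singleton_iff.1 (hgen hy).2)
  exact hb1 (eq_one_of_mem_of_pow_three hQ2 hbQ (hsup.2 b hbA))


/-- an element commuting with an involution fixes a nontrivial element of a normal four-group -/
theorem exists_fixed_involution [Finite G] (hsmall : SmallRank G) {Z : Subgroup G}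
    (hZN : ∀ y : G, y ∈ Subgroup.normalizer (Z : Set G))
    (hZc : ∀ a ∈ Z, ∀ b ∈ Z, a * b = b * a) (hZ2 : ∀ a ∈ Z, a ^ 2 = 1) (hZ4 : Nat.card Z = 4)
    {f t : G} (hft : f * t = t * f) (ht2 : t ^ 2 = 1) (ht1 : t ≠ 1) :
    ∃ z1 ∈ Z, z1 ≠ 1 ∧ f * z1 = z1 * f := by
  by_cases hcent : ∀ z ∈ Z, t * z = z * t
  · have hsup := sup_comm_exp 2 Z (Subgroup.zpowers t) hZc (zpowers_comm t)
      (fun a ha b hb => by
        obtain ⟨i, rfl⟩ := Subgroup.mem_zpowers_iff.1 hb
        have hc : Commute a t := (hcent a ha).symm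
        exact (hc.zpow_right i).eq)
      hZ2 (zpowers_exp ht2)
    have hle : Nat.card (Z ⊔ Subgroup.zpowers t : Subgroup G) ≤ 4 := hsmall _ hsup.1 hsup.2
    have hZE : Z = Z ⊔ Subgroup.zpowers t :=
      Subgroup.eq_of_le_of_card_ge le_sup_left (by rw [hZ4]; exact hle)
    have htZ : t ∈ Z := by
      rw [hZE]
      exact le_sup_right (a := Z) (Subgroup.mem_zpowers t)
    exact ⟨t, htZ, ht1, hft⟩
  · push Not at hcent
    obtain ⟨z0, hz0, hz0t⟩ := hcent
    have htt : t * t = 1 := by rw [← pow_two]; exact ht2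
    have htinv : t⁻¹ = t := inv_eq_of_mul_eq_one_left htt
    have hu : t * z0 * t⁻¹ ∈ Z := conj_mem_of_mem_normalizer (hZN t) hz0
    have hz02 : z0 * z0 = 1 := by rw [← pow_two]; exact hZ2 z0 hz0
    set z1 := z0 * (t * z0 * t⁻¹) with hz1
    have hz1Z : z1 ∈ Z := Z.mul_mem hz0 hu
    have hz11 : z1 ≠ 1 := by
      intro h
      apply hz0t
      have h2 : t * z0 * t⁻¹ = z0 := by
        calc t * z0 * t⁻¹ = z0⁻¹ * (z0 * (t * z0 * t⁻¹)) := by group
          _ = z0⁻¹ := by rw [← hz1, h, mul_one]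
          _ = z0⁻¹ * (z0 * z0) := by rw [hz02, mul_one]
          _ = z0 := by group
      calc t * z0 = (t * z0 * t⁻¹) * t := by group
        _ = z0 * t := by rw [h2]
    have htz1 : t * z1 = z1 * t := by
      have h2 : t * z1 * t⁻¹ = z1 := by
        calc t * z1 * t⁻¹ = (t * z0 * t⁻¹) * (t * (t * z0 * t⁻¹) * t⁻¹) := by rw [hz1]; group
          _ = (t * z0 * t⁻¹) * ((t * t) * z0 * (t⁻¹ * t⁻¹)) := by group
          _ = (t * z0 * t⁻¹) * z0 := by rw [htinv, htt]; group
          _ = z1 := hZc _ hu _ hz0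
      calc t * z1 = (t * z1 * t⁻¹) * t := by group
        _ = z1 * t := by rw [h2]
    set Ct := Z ⊓ Subgroup.centralizer {t} with hCt
    have hz1C : z1 ∈ Ct := ⟨hz1Z, Subgroup.mem_centralizer_singleton_iff.2 htz1.symm⟩
    have hz0C : z0 ∉ Ct := by
      intro h
      exact hz0t (Subgroup.mem_centralizer_singleton_iff.1 h.2).symm
    have hfC : f ∈ Subgroup.normalizer (Ct : Set G) :=
      mem_normalizer_inf' (hZN f) (mem_normalizer_centralizer_singleton hft)
    have hw : f * z1 * f⁻¹ ∈ Ct := conj_mem_of_mem_normalizer hfC hz1C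
    have hw1 : f * z1 * f⁻¹ ≠ 1 := conj_ne_one hz11
    refine ⟨z1, hz1Z, hz11, ?_⟩
    by_contra hne
    have hwz : f * z1 * f⁻¹ ≠ z1 := by
      intro h
      apply hne
      calc f * z1 = (f * z1 * f⁻¹) * f := by group
        _ = z1 * f := by rw [h]
    have h3 : 3 ≤ Nat.card Ct :=
      three_le_card_of_mem (Subgroup.one_mem _) hz1C hw (Ne.symm hz11) (Ne.symm hw1) (Ne.symm hwz)
    have hdvd : Nat.card Ct ∣ 4 := hZ4 ▸ Subgroup.card_dvd_of_le (inf_le_left : Ct ≤ Z)
    have h4 : Nat.card Ct = 4 := by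
      have : Nat.card Ct ≤ 4 := Nat.le_of_dvd (by norm_num) hdvd
      interval_cases h : Nat.card Ct <;> omega
    have : Ct = Z := Subgroup.eq_of_le_of_card_ge inf_le_left (by rw [h4, hZ4])
    exact hz0C (this ▸ hz0)


/-- the main result: under "2-rank at most two" the hypotheses of S3739 are contradictory -/
theorem rank_two_six_false [Finite G] (hsmall : SmallRank G)
    (hchar : Subgroup.centralizer (Cfsg.pCore 2 G : Set G) ≤ Cfsg.pCore 2 G)
    (g : G) (hg : orderOf g = 6) (d : G) (hd1 : d ≠ 1) (hd : IsPGroup 3 ↥(Subgroup.zpowers d))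
    (W : Subgroup G) (hWc : ∀ a ∈ W, ∀ b ∈ W, a * b = b * a) (hW2 : ∀ a ∈ W, a ^ 2 = 1)
    (hW1 : W ≠ ⊥) (hdW : d ∈ Subgroup.normalizer (W : Set G))
    (hfpf : W ⊓ Subgroup.centralizer {d} = ⊥) : False := by
  have : Fact (Nat.Prime 2) := ⟨Nat.prime_two⟩
  have : Fact (Nat.Prime 3) := ⟨Nat.prime_three⟩
  set Q := Cfsg.pCore 2 G with hQ
  have hQn : Q.Normal := Subgroup.normal_of_characteristic Q
  have hQ2 : IsPGroup 2 Q := isPGroup_pCore 2 G
  have hQ1 : Q ≠ ⊥ := by
    intro h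
    have hg1 : g ∈ Q := by
      apply hchar
      rw [h, Subgroup.mem_centralizer_iff]
      intro y hy
      rw [SetLike.mem_coe, Subgroup.mem_bot] at hy
      subst hy
      simp
    rw [h, Subgroup.mem_bot] at hg1
    rw [hg1, orderOf_one] at hg
    omega
  obtain ⟨hfpfQ, hdo, hcard, hWZ⟩ :=
    fpf_on_core hsmall hQn hQ2 hQ1 hchar hWc hW2 hW1 hdW hfpf hd1 hd
  have hNtop : ∀ y : G, y ∈ Subgroup.normalizer (Q : Set G) := by
    intro y
    rw [Subgroup.normalizer_eq_top Q]
    exact Subgroup.mem_top y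
  have hZN : ∀ y : G, y ∈ Subgroup.normalizer ((omegaZ Q : Subgroup G) : Set G) := fun y =>
    mem_normalizer_omegaZ (hNtop y)
  -- the element of order six
  have hf3 : orderOf (g ^ 2) = 3 := by
    rw [orderOf_pow' g (by norm_num), hg]
    norm_num
  have ht2 : orderOf (g ^ 3) = 2 := by
    rw [orderOf_pow' g (by norm_num), hg]
    norm_num
  have hft : g ^ 2 * g ^ 3 = g ^ 3 * g ^ 2 := by rw [← pow_add, ← pow_add]
  have ht2' : (g ^ 3) ^ 2 = 1 := by rw [← ht2]; exact pow_orderOf_eq_one _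
  have ht1 : g ^ 3 ≠ 1 := by
    intro h
    rw [h, orderOf_one] at ht2
    omega
  obtain ⟨z1, hz1Z, hz11, hfz1⟩ := exists_fixed_involution hsmall hZN
    (fun a ha b hb => hb.2.1 a ha.1) (fun a ha => ha.2.2) hcard hft ht2' ht1
  -- nine does not divide the order of `G`
  have h9 : ¬ 9 ∣ Nat.card G := by
    intro h9
    have hcd : Nat.card (Subgroup.zpowers d) = 3 ^ 1 := by rw [Nat.card_zpowers, hdo, pow_one]
    obtain ⟨K, hK9, hdK⟩ := Sylow.exists_subgroup_card_pow_succ (p := 3) (n := 1)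
      (by simpa using h9) hcd
    have hK9' : Nat.card K = 3 ^ 2 := by simpa using hK9
    have hKc := (IsPGroup.isMulCommutative_of_card_eq_prime_sq hK9').is_comm.comm
    have hdK' : d ∈ K := hdK (Subgroup.mem_zpowers d)
    -- an element outside `⟨d⟩`
    obtain ⟨x, hxK, hxd⟩ : ∃ x ∈ K, x ∉ Subgroup.zpowers d := by
      by_contra hno
      push Not at hno
      have : K ≤ Subgroup.zpowers d := fun y hy => hno y hy
      have := Subgroup.card_le_of_le this
      rw [hcd] at this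
      omega
    have hxdc : x * d = d * x := by
      have := hKc ⟨x, hxK⟩ ⟨d, hdK'⟩
      exact congrArg Subtype.val this
    have hx9 : x ^ 9 = 1 := by
      have := pow_card_eq_one' (G := K) (x := ⟨x, hxK⟩)
      rw [hK9'] at this
      have h2 := congrArg Subtype.val this
      simpa using h2
    have hox : orderOf x ∣ 3 ^ 2 := orderOf_dvd_of_pow_eq_one (by simpa using hx9)
    obtain ⟨k, hk2, hk⟩ := (Nat.dvd_prime_pow Nat.prime_three).1 hox
    rcases Nat.lt_or_ge k 2 with hlt | hge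
    · -- `x³ = 1`
      have hx3 : x ^ 3 = 1 := by
        have : orderOf x ∣ 3 := by
          rw [hk]
          interval_cases k
          · simp
          · simp
        exact orderOf_dvd_iff_pow_eq_one.1 this
      exact no_commuting_order_three hsmall hQn hQ2 hchar hdo hfpfQ hcard hx3 hxdc hxd
    · -- `x` has order nine
      have hk2' : k = 2 := le_antisymm hk2 hge
      rw [hk2'] at hk
      have hzx : Subgroup.zpowers x = K := by
        apply Subgroup.eq_of_le_of_card_ge (Subgroup.zpowers_le.2 hxK)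
        rw [Nat.card_zpowers, hk, hK9']
      have hdx : d ∈ Subgroup.zpowers x := hzx ▸ hdK'
      have hxp : IsPGroup 3 ↥(Subgroup.zpowers x) := IsPGroup.of_card (n := 2) (by
        rw [Nat.card_zpowers, hk])
      have hfx : Q ⊓ Subgroup.centralizer {x} = ⊥ := by
        apply le_bot_iff.1
        rw [← hfpfQ]
        apply inf_le_inf_left
        intro y hy
        rw [Subgroup.mem_centralizer_singleton_iff] at hy ⊢
        obtain ⟨i, hi⟩ := Subgroup.mem_zpowers_iff.1 hdx
        have hc : Commute y x := hy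
        rw [← hi]
        exact (hc.zpow_right i).eq
      exact fpf_three_false x 2 le_rfl hk Q hQ2 (hNtop x)
        (zpowers_inf_centralizer_eq_bot hQ2 hchar hxp) hfx (hsmall.hrank Q)
  -- Sylow's theorem
  have hfp : IsPGroup 3 ↥(Subgroup.zpowers (g ^ 2)) := IsPGroup.of_card (n := 1) (by
    rw [Nat.card_zpowers, hf3, pow_one])
  obtain ⟨Pf, hPf⟩ := hfp.exists_le_sylow
  obtain ⟨Pd, hPd⟩ := hd.exists_le_sylow
  have hcardS : ∀ P : Sylow 3 G, Nat.card P = 3 := by
    intro P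
    obtain ⟨k, hk⟩ := IsPGroup.iff_card.1 P.isPGroup'
    have hdvd : 3 ^ k ∣ Nat.card G := hk ▸ Subgroup.card_subgroup_dvd_card (P : Subgroup G)
    have hk1 : k ≤ 1 := by
      by_contra hlt
      push Not at hlt
      exact h9 ((pow_dvd_pow 3 hlt).trans hdvd)
    have hk0 : k ≠ 0 := by
      rintro rfl
      have h3 : 3 ∣ Nat.card G := by
        have := Subgroup.card_subgroup_dvd_card (Subgroup.zpowers d)
        rwa [Nat.card_zpowers, hdo] at this
      have := P.card_eq_multiplicity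
      rw [hk, pow_zero] at this
      have hpos : 0 < (Nat.card G).factorization 3 :=
        Nat.Prime.factorization_pos_of_dvd Nat.prime_three Nat.card_pos.ne' h3
      have : 3 ^ (Nat.card G).factorization 3 = 1 := this.symm
      rw [Nat.pow_eq_one] at this
      omega
    have : k = 1 := by omega
    rw [hk, this, pow_one]
  have hPf' : Subgroup.zpowers (g ^ 2) = (Pf : Subgroup G) :=
    Subgroup.eq_of_le_of_card_ge hPf (by rw [hcardS Pf, Nat.card_zpowers, hf3])
  have hPd' : Subgroup.zpowers d = (Pd : Subgroup G) :=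
    Subgroup.eq_of_le_of_card_ge hPd (by rw [hcardS Pd, Nat.card_zpowers, hdo])
  obtain ⟨c, hc⟩ := MulAction.exists_smul_eq G Pf Pd
  -- `d` lies in a conjugate of `⟨f⟩`
  have hdmem : d ∈ MulAut.conj c • (Pf : Subgroup G) := by
    rw [← Sylow.coe_subgroup_smul, hc, ← hPd']
    exact Subgroup.mem_zpowers d
  rw [Subgroup.mem_pointwise_smul_iff_inv_smul_mem, ← hPf'] at hdmem
  -- so `c⁻¹ d c` is a power of `f` and commutes with `z1`
  have hcomm : (c⁻¹ * d * c) * z1 = z1 * (c⁻¹ * d * c) := by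
    have e : (MulAut.conj c)⁻¹ • d = c⁻¹ * d * c := by
      rw [← map_inv, MulAut.smul_def, MulAut.conj_apply, inv_inv]
    rw [e] at hdmem
    obtain ⟨i, hi⟩ := Subgroup.mem_zpowers_iff.1 hdmem
    have hcm : Commute (g ^ 2) z1 := hfz1
    rw [← hi]
    exact (hcm.zpow_left i).eq
  -- hence `d` fixes `c z1 c⁻¹ ∈ Q`
  have hmem : c * z1 * c⁻¹ ∈ Q ⊓ Subgroup.centralizer {d} := by
    refine ⟨conj_mem_of_mem_normalizer (hNtop c) hz1Z.1, ?_⟩
    show c * z1 * c⁻¹ ∈ Subgroup.centralizer {d}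
    rw [Subgroup.mem_centralizer_singleton_iff]
    calc c * z1 * c⁻¹ * d = c * (z1 * (c⁻¹ * d * c)) * c⁻¹ := by group
      _ = c * ((c⁻¹ * d * c) * z1) * c⁻¹ := by rw [hcomm]
      _ = d * (c * z1 * c⁻¹) := by group
  rw [hfpfQ, Subgroup.mem_bot] at hmem
  exact conj_ne_one (d := c) hz11 hmem

end Cfsg.Agent.Helper48
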