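import Mathlib
import Cfsg.Agent.Lib.Helper62.SLN0

/-!
# SLNC sub-server (helper51, TOP-C of the SLN server, S2332): sub-piece (CL) `card_le_of_lines`
-/

set_option autoImplicit false

namespace Cfsg.Agent.Helper48.SLNC

open Matrix Module Cfsg.Agent.Helper93.U2 Cfsg.Agent.Helper62.SLN

section REP

variable {F : Type*} [Field F] [Fintype F] [DecidableEq F] {κ : Type} [Fintype κ] [DecidableEq κ]
  {V : Type*} [AddCommGroup V] [Module ℂ V] [FiniteDimensional ℂ V]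
  (ψ : AddChar F ℂ) (pr : Pairing (κ → F)) (hpr : ∀ w u, pr.β w u = ψ (w ⬝ᵥ u))

/-- sub-piece CL (pure linear algebra): independent lines mapped injectively into `Y`. -/
theorem card_le_of_lines {ι : Type*} (𝒲 : Finset ι) (W : ι → Submodule ℂ V)
    (hW : ∀ w ∈ 𝒲, W w ≠ ⊥) (Y : Submodule ℂ V) (T : V →ₗ[ℂ] V)
    (hT : ∀ w ∈ 𝒲, ∀ x ∈ W w, T x ∈ Y)
    (hinj : ∀ x : ι → V, (∀ w ∈ 𝒲, x w ∈ W w) → T (∑ w ∈ 𝒲, x w) = 0 → ∀ w ∈ 𝒲, x w = 0) :
    𝒲.card ≤ finrank ℂ Y := by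
  classical
  have hex : ∀ w : ι, ∃ x : V, (w ∈ 𝒲 → x ∈ W w ∧ x ≠ 0) := by
    intro w
    by_cases hw : w ∈ 𝒲
    · obtain ⟨x, hx, hx0⟩ := Submodule.exists_mem_ne_zero_of_ne_bot (hW w hw)
      exact ⟨x, fun _ => ⟨hx, hx0⟩⟩
    · exact ⟨0, fun h => absurd h hw⟩
  choose x hx using hex
  let y : ↥𝒲 → ↥Y := fun w => ⟨T (x w.1), hT w.1 w.2 (x w.1) (hx w.1 w.2).1⟩
  have hli : LinearIndependent ℂ y := by
    rw [Fintype.linearIndependent_iff]
    intro c hc w
    let x' : ι → V := fun w => if h : w ∈ 𝒲 then c ⟨w, h⟩ • x w else 0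
    have hx'mem : ∀ w ∈ 𝒲, x' w ∈ W w := by
      intro w hw
      simp only [x', dif_pos hw]
      exact (W w).smul_mem _ (hx w hw).1
    have hsum : T (∑ w ∈ 𝒲, x' w) = 0 := by
      have h1 : ∑ w ∈ 𝒲, x' w = ∑ w : ↥𝒲, c w • x w.1 := by
        rw [← Finset.sum_coe_sort 𝒲 x']
        apply Finset.sum_congr rfl
        intro w _
        simp only [x', dif_pos w.2]
      rw [h1, map_sum]
      have h2 := congrArg Subtype.val hc
      rw [Submodule.coe_sum] at h2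
      simp only [Submodule.coe_smul, y, ZeroMemClass.coe_zero] at h2
      simp only [map_smul]
      exact h2
    have h3 := hinj x' hx'mem hsum w.1 w.2
    simp only [x', dif_pos w.2] at h3
    rcases smul_eq_zero.1 h3 with h4 | h4
    · exact h4
    · exact absurd h4 (hx w.1 w.2).2
  have h5 := hli.fintype_card_le_finrank
  rwa [Fintype.card_coe] at h5

end REP

end Cfsg.Agent.Helper48.SLNC
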