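import Mathlib
import Cfsg.Agent.Lib.Helper16.SUOC0

/-!
# SUOC (C6): the parameters

Piece (C6) of helper16's server SUOC (S2282, concrete block).  Pure field theory: `ζ` a generator
of `Fˣ`, `μ` not fixed by `x ↦ x ^ q`, `κ = μ - μ^q`, `a1 = ζ / κ`, `τ` with `τ τ^q = -(a1 + a1^q)`,
`α0` with `α0 + α0^q = -1`.
-/

set_option autoImplicit false
set_option quotPrecheck false
set_option linter.unusedSectionVars false
set_option linter.unusedVariables false

namespace Cfsg.Agent.Helper48.SUOC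

open Matrix Cfsg Cfsg.Agent.Helper13 Cfsg.Agent.Helper87.PsuA Cfsg.Agent.Helper87.PsuB0
  Cfsg.Agent.Helper16.SUOC

variable {F : Type*} [Field F] [Fintype F] {q n : ℕ}

variable (hF : Fintype.card F = q ^ 2)

include hF in
/-- (C6) -/
theorem exists_params :
    ∃ μ τ a1 α0 : F, μ ^ q ≠ μ ∧ τ ≠ 0 ∧ a1 ≠ 0 ∧ a1 + a1 ^ q + τ * τ ^ q = 0 ∧
      α0 + α0 ^ q + 1 = 0 ∧
      ∀ S : AddSubgroup F, (∃ a ∈ S, a ≠ 0) → (∀ a ∈ S, ((μ - μ ^ q) * a1) * a ∈ S) → S = ⊤ := by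
  classical
  -- a generator of the multiplicative group
  obtain ⟨g, hg⟩ := IsCyclic.exists_monoid_generator (α := Fˣ)
  have hgen : ∀ x : F, x ≠ 0 → ∃ k : ℕ, x = (g : F) ^ k := by
    intro x hx
    obtain ⟨k, hk⟩ := hg (Units.mk0 x hx)
    refine ⟨k, ?_⟩
    have := congrArg (fun u : Fˣ => (u : F)) hk
    simpa using this.symm
  have hg0 : (g : F) ≠ 0 := g.ne_zero
  obtain ⟨μ, hμ⟩ := exists_not_fixed hF
  have hq0 : 0 < q := q_pos hF
  have hμ0 : μ ≠ 0 := by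
    intro h
    apply hμ
    rw [h, zero_pow hq0.ne']
  -- the generator is not fixed
  have hgq : (g : F) ^ q ≠ (g : F) := by
    intro h
    apply hμ
    obtain ⟨k, hk⟩ := hgen μ hμ0
    rw [hk, ← pow_mul, mul_comm, pow_mul, h]
  have hκ : μ - μ ^ q ≠ 0 := fun h => hμ (sub_eq_zero.mp h).symm
  have hκq : (μ - μ ^ q) ^ q = -(μ - μ ^ q) := by
    rw [frob_sub hF, frob_frob hF]
    ring
  have ha1 : (g : F) / (μ - μ ^ q) ≠ 0 := div_ne_zero hg0 hκ
  have hs : (g : F) / (μ - μ ^ q) + ((g : F) / (μ - μ ^ q)) ^ q =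
      ((g : F) - (g : F) ^ q) / (μ - μ ^ q) := by
    rw [div_pow, hκq, div_neg, sub_div]
    ring
  have hs0 : ((g : F) - (g : F) ^ q) / (μ - μ ^ q) ≠ 0 :=
    div_ne_zero (fun h => hgq (sub_eq_zero.mp h).symm) hκ
  have hsfix : (-(((g : F) - (g : F) ^ q) / (μ - μ ^ q))) ^ q =
      -(((g : F) - (g : F) ^ q) / (μ - μ ^ q)) := by
    rw [frob_neg hF, div_pow, hκq, frob_sub hF, frob_frob hF, div_neg, ← neg_div, neg_sub]
  obtain ⟨τ, hτ⟩ := exists_norm hF _ hsfix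
  have hτ0 : τ ≠ 0 := by
    intro h
    rw [h, zero_mul] at hτ
    exact hs0 (neg_eq_zero.mp hτ.symm)
  obtain ⟨α0, hα0⟩ := exists_trace hF (-1 : F) (by
    rw [frob_neg hF, one_pow])
  refine ⟨μ, τ, (g : F) / (μ - μ ^ q), α0, hμ, hτ0, ha1, ?_, ?_, ?_⟩
  · rw [hs, hτ]
    ring
  · rw [hα0]
    ring
  · intro S hS hstab
    obtain ⟨a, haS, ha0⟩ := hS
    have hmul : (μ - μ ^ q) * ((g : F) / (μ - μ ^ q)) = (g : F) := mul_div_cancel₀ _ hκ
    rw [hmul] at hstab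
    have hpow : ∀ k : ℕ, ∀ x ∈ S, (g : F) ^ k * x ∈ S := by
      intro k
      induction k with
      | zero =>
        intro x hx
        simpa using hx
      | succ k ih =>
        intro x hx
        rw [pow_succ, mul_assoc]
        exact ih _ (hstab x hx)
    rw [eq_top_iff]
    intro x _
    by_cases hx0 : x = 0
    · rw [hx0]
      exact S.zero_mem
    · obtain ⟨k, hk⟩ := hgen (x / a) (div_ne_zero hx0 ha0)
      have : x = (g : F) ^ k * a := by
        rw [← hk, div_mul_cancel₀ _ ha0]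
      rw [this]
      exact hpow k a haS

end Cfsg.Agent.Helper48.SUOC
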