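import Mathlib
import Cfsg.Prelude.Def_Local
import Cfsg.Agent.Lib.Helper89.TH1Defs
import Cfsg.Agent.Lib.Helper54.Solv

/-!
TH1 lemma server (helper89, S3797), piece (R0) `quot_hyps` -- helper48.
-/

set_option autoImplicit false

namespace Cfsg.Agent.Helper48.TH1

open Cfsg Subgroup Cfsg.Agent.Helper89.TH1
open scoped commutatorElement

universe u

variable {G : Type u} [Group G] [Finite G]

omit [Finite G] in
/-- an element of order dividing 2 in a subgroup of odd order is trivial -/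
theorem th1r0_eq_one_of_sq {N : Subgroup G} (hN : (Nat.card N).Coprime 2) {x : G} (hx : x ∈ N)
    (hx2 : x ^ 2 = 1) : x = 1 := by
  have h1 : orderOf (⟨x, hx⟩ : N) ∣ Nat.card N := orderOf_dvd_natCard _
  have h2 : orderOf (⟨x, hx⟩ : N) ∣ 2 := by
    apply orderOf_dvd_of_pow_eq_one
    exact Subtype.ext hx2
  have h3 : orderOf (⟨x, hx⟩ : N) ∣ Nat.gcd (Nat.card N) 2 := Nat.dvd_gcd h1 h2
  rw [hN, Nat.dvd_one, orderOf_eq_one_iff] at h3
  exact congrArg Subtype.val h3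

/-- lifting an involution through a normal subgroup of odd order -/
theorem th1r0_lift_inv (N : Subgroup G) [N.Normal] (hN : (Nat.card N).Coprime 2)
    (a : G ⧸ N) (hu1 : a ≠ 1) (hu2 : a ^ 2 = 1) :
    ∃ u : G, u ≠ 1 ∧ u ^ 2 = 1 ∧ (QuotientGroup.mk u : G ⧸ N) = a := by
  obtain ⟨g, rfl⟩ := QuotientGroup.mk_surjective a
  have hodd : Odd (Nat.card N) := Nat.Coprime.odd_of_right hN
  obtain ⟨k, hk⟩ := hodd
  have hg2 : g ^ 2 ∈ N := by
    have : ((g ^ 2 : G) : G ⧸ N) = 1 := by rw [QuotientGroup.mk_pow]; exact hu2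
    exact (QuotientGroup.eq_one_iff _).mp this
  refine ⟨g ^ Nat.card N, ?_, ?_, ?_⟩
  · intro h
    apply hu1
    have : ((g ^ Nat.card N : G) : G ⧸ N) = 1 := by rw [h]; rfl
    rw [QuotientGroup.mk_pow, hk, pow_succ, pow_mul, hu2, one_pow, one_mul] at this
    exact this
  · rw [← pow_mul, mul_comm, pow_mul]
    have h1 : (⟨g ^ 2, hg2⟩ : N) ^ Nat.card N = 1 := pow_card_eq_one'
    exact congrArg Subtype.val h1
  · rw [QuotientGroup.mk_pow, hk, pow_succ, pow_mul, hu2, one_pow, one_mul]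

/-- (R0) hypotheses pass to `G / O(G)`. -/
theorem quot_hyps (h2 : TwoInv G) (h1 : OneClass G) :
    TwoInv (G ⧸ pPrimeCore 2 G) ∧ OneClass (G ⧸ pPrimeCore 2 G) := by
  have hN : (Nat.card (pPrimeCore 2 G)).Coprime 2 := Cfsg.Agent.Helper54.pPrimeCore_coprime 2
  constructor
  · obtain ⟨x, y, hxy, hx1, hx2, hy1, hy2, hc⟩ := h2
    have hxinv : x⁻¹ = x := by
      rw [inv_eq_iff_mul_eq_one, ← pow_two]; exact hx2
    refine ⟨(x : G ⧸ pPrimeCore 2 G), (y : G ⧸ pPrimeCore 2 G), ?_, ?_, ?_, ?_, ?_, ?_⟩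
    · intro h
      have hmem : x⁻¹ * y ∈ pPrimeCore 2 G := QuotientGroup.eq.mp h
      rw [hxinv] at hmem
      have hsq : (x * y) ^ 2 = 1 := by
        rw [pow_two, mul_assoc, ← mul_assoc y x y, ← hc, mul_assoc, ← pow_two y, hy2, mul_one,
          ← pow_two, hx2]
      have := th1r0_eq_one_of_sq hN hmem hsq
      apply hxy
      have h3 : y = x⁻¹ := (inv_eq_of_mul_eq_one_right this).symm
      rw [h3, hxinv]
    · intro h
      exact hx1 (th1r0_eq_one_of_sq hN ((QuotientGroup.eq_one_iff _).mp h) hx2)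
    · rw [← QuotientGroup.mk_pow, hx2]; rfl
    · intro h
      exact hy1 (th1r0_eq_one_of_sq hN ((QuotientGroup.eq_one_iff _).mp h) hy2)
    · rw [← QuotientGroup.mk_pow, hy2]; rfl
    · rw [← QuotientGroup.mk_mul, ← QuotientGroup.mk_mul, hc]
  · intro a b hu1 hu2 hv1 hv2
    obtain ⟨u, hu1', hu2', rfl⟩ := th1r0_lift_inv (pPrimeCore 2 G) hN a hu1 hu2
    obtain ⟨v, hv1', hv2', rfl⟩ := th1r0_lift_inv (pPrimeCore 2 G) hN b hv1 hv2
    have := h1 u v hu1' hu2' hv1' hv2'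
    exact (QuotientGroup.mk' (pPrimeCore 2 G)).map_isConj this

end Cfsg.Agent.Helper48.TH1
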