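import Mathlib
import Cfsg.Prelude.Def_Local
import Cfsg.Agent.Lib.Helper89.TH1Defs
import Cfsg.Agent.Lib.Helper54.Solv
import Cfsg.Agent.Lib.Helper54.PSolv
import Cfsg.Agent.Lib.Helper76.SolvPSolv

/-!
TH1 lemma server (helper89, S3797), piece (S1) `exists_base` -- helper48.
-/

set_option autoImplicit false

namespace Cfsg.Agent.Helper48.TH1

open Cfsg Subgroup Cfsg.Agent.Helper89.TH1
open scoped commutatorElement

universe u

variable {G : Type u} [Group G] [Finite G]

/-- `Ω₁(Z(Q))` for a normal subgroup `Q`, as a subgroup of `G` -/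
def th1s1W (Q : Subgroup G) : Subgroup G where
  carrier := {z | z ∈ Q ∧ (∀ q ∈ Q, z * q = q * z) ∧ z ^ 2 = 1}
  one_mem' := ⟨Q.one_mem, fun q _ => by rw [one_mul, mul_one], one_pow 2⟩
  mul_mem' := by
    rintro a b ⟨ha, hac, ha2⟩ ⟨hb, hbc, hb2⟩
    refine ⟨Q.mul_mem ha hb, fun q hq => ?_, ?_⟩
    · rw [mul_assoc, hbc q hq, ← mul_assoc, hac q hq, mul_assoc]
    · rw [pow_two, mul_assoc, ← mul_assoc b a b, ← hac b hb, mul_assoc, ← pow_two b, hb2, mul_one,
        ← pow_two, ha2]
  inv_mem' := by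
    rintro a ⟨ha, hac, ha2⟩
    refine ⟨Q.inv_mem ha, fun q hq => ?_, ?_⟩
    · exact (show Commute a q from hac q hq).inv_left.eq
    · rw [inv_pow, ha2, inv_one]

omit [Finite G] in
theorem th1s1_mem_W {Q : Subgroup G} {z : G} :
    z ∈ th1s1W Q ↔ z ∈ Q ∧ (∀ q ∈ Q, z * q = q * z) ∧ z ^ 2 = 1 := Iff.rfl

/-- (S1) the base configuration. -/
theorem exists_base (hG : Group.IsSolvable G) (hO : pPrimeCore 2 G = ⊥) (h2 : TwoInv G)
    (h1 : OneClass G) : ∃ W : Subgroup G, Base G W := by
  have _i2 : Fact (Nat.Prime 2) := ⟨Nat.prime_two⟩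
  have _is : Group.IsSolvable G := hG
  set Q := pCore 2 G with hQ
  have hQn : Q.Normal := inferInstance
  have hQ2 : IsPGroup 2 Q := Cfsg.Agent.Helper54.isPGroup_pCore
  have hcent : centralizer (Q : Set G) ≤ Q :=
    Cfsg.Agent.Helper54.centralizer_pCore_le_of_isPSolvable
      (Cfsg.Agent.Helper76.isPSolvable_of_isSolvable' 2) hO
  -- `W` is normal
  have hWn : (th1s1W Q).Normal := by
    constructor
    rintro z ⟨hz, hzc, hz2⟩ g
    refine ⟨hQn.conj_mem z hz g, fun q hq => ?_, ?_⟩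
    · have hq' : g⁻¹ * q * g ∈ Q := by
        have := hQn.conj_mem q hq g⁻¹
        rwa [inv_inv] at this
      have := hzc _ hq'
      calc g * z * g⁻¹ * q = g * (z * (g⁻¹ * q * g)) * g⁻¹ := by group
        _ = g * ((g⁻¹ * q * g) * z) * g⁻¹ := by rw [this]
        _ = q * (g * z * g⁻¹) := by group
    · rw [conj_pow, hz2, mul_one, mul_inv_cancel]
  obtain ⟨x, y, hxy, hx1, hx2, hy1, hy2, hc⟩ := h2
  -- `Q ≠ ⊥`
  have hQne : Q ≠ ⊥ := by
    intro h
    have hx : x ∈ centralizer (Q : Set G) := by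
      rw [h]
      intro q hq
      rw [Subgroup.coe_bot, Set.mem_singleton_iff] at hq
      rw [hq, one_mul, mul_one]
    have := hcent hx
    rw [h, Subgroup.mem_bot] at this
    exact hx1 this
  -- an involution in `W`
  have hex : ∃ z : G, z ∈ th1s1W Q ∧ z ≠ 1 := by
    have _in : Nontrivial Q := (Subgroup.nontrivial_iff_ne_bot Q).mpr hQne
    have hZ : Nontrivial (center Q) := hQ2.center_nontrivial
    have hZ2 : IsPGroup 2 (center Q) := hQ2.to_subgroup _
    obtain ⟨n, hn⟩ := IsPGroup.iff_card.mp hZ2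
    have hn0 : n ≠ 0 := by
      rintro rfl
      rw [pow_zero] at hn
      have := (Finite.one_lt_card_iff_nontrivial).mpr hZ
      omega
    have hdvd : 2 ∣ Nat.card (center Q) := by
      rw [hn]; exact dvd_pow_self 2 hn0
    obtain ⟨c, hc⟩ := exists_prime_orderOf_dvd_card' 2 hdvd
    refine ⟨((c : Q) : G), ⟨(c : Q).2, fun q hq => ?_, ?_⟩, ?_⟩
    · have := (Subgroup.mem_center_iff.mp c.2) ⟨q, hq⟩
      have h3 := congrArg Subtype.val this
      simp only [Subgroup.coe_mul] at h3
      exact h3.symm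
    · have h3 : c ^ 2 = 1 := by rw [← hc]; exact pow_orderOf_eq_one c
      have h4 := congrArg (fun t : center Q => ((t : Q) : G)) h3
      simpa using h4
    · intro h
      have h3 : c = 1 := by
        apply Subtype.ext; apply Subtype.ext; exact h
      rw [h3, orderOf_one] at hc
      omega
  obtain ⟨z, hzW, hz1⟩ := hex
  have hz2 : z ^ 2 = 1 := hzW.2.2
  have hinv : ∀ t : G, t ^ 2 = 1 → t ∈ th1s1W Q := by
    intro t ht
    by_cases ht1 : t = 1
    · rw [ht1]; exact one_mem _
    · have := h1 z t hz1 hz2 ht1 ht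
      obtain ⟨g, hg⟩ := isConj_iff.mp this
      rw [← hg]
      exact hWn.conj_mem z hzW g
  refine ⟨th1s1W Q, ⟨hG, hO, hcent, fun w hw => hw.1, hWn, fun w hw q hq => hw.2.1 q hq,
    fun w hw => hw.2.2, hinv, ?_, ?_⟩⟩
  · intro w hw w' hw' hw1 hw'1
    exact isConj_iff.mp (h1 w w' hw1 hw.2.2 hw'1 hw'.2.2)
  · -- `4 ≤ card W`
    have hW2 : IsPGroup 2 (th1s1W Q) := by
      intro w
      refine ⟨1, ?_⟩
      apply Subtype.ext
      rw [pow_one]
      exact w.2.2.2
    obtain ⟨n, hn⟩ := IsPGroup.iff_card.mp hW2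
    have h3 : 3 ≤ Nat.card (th1s1W Q) := by
      let f : Fin 3 → th1s1W Q := ![1, ⟨x, hinv x hx2⟩, ⟨y, hinv y hy2⟩]
      have hf : Function.Injective f := by
        intro i j hij
        fin_cases i <;> fin_cases j <;> simp [f, Subtype.ext_iff] at hij ⊢
        · exact absurd hij.symm hx1
        · exact absurd hij.symm hy1
        · exact absurd hij hx1
        · exact absurd hij hxy
        · exact absurd hij hy1
        · exact absurd hij.symm hxy
      have := Nat.card_le_card_of_injective f hf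
      simpa using this
    rw [hn] at h3 ⊢
    rcases n with _ | _ | n
    · simp at h3
    · simp at h3
    · have : 2 ^ (n + 1 + 1) = 4 * 2 ^ n := by ring
      rw [this]
      have := Nat.one_le_two_pow (n := n)
      omega

end Cfsg.Agent.Helper48.TH1
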