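import Mathlib
import Cfsg.Prelude.Def_OddOrderLocal
import Cfsg.Agent.Lib.Helper98.TIHDefs
import Cfsg.Agent.Lib.Helper54.Solv

/-!
TIH lemma server (helper98, S4118), piece (P0) `isCore_sSup` -- helper48.
-/

set_option autoImplicit false

namespace Cfsg.Agent.Helper48.TIH

open Cfsg.Agent.Helper98.TIH

universe u

/-- (P0) the join of all normal subgroups of order prime to `|H|` is the largest one. -/
theorem isCore_sSup {G : Type u} [Group G] [Finite G] (H O : Subgroup G)
    (hO : O = sSup {K : Subgroup G | K.Normal ∧ (Nat.card K).Coprime (Nat.card H)}) :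
    IsCore H O := by
  have hO' : O = Cfsg.pPrimeCore (Nat.card H) G := hO
  have hmem := Cfsg.Agent.Helper54.pPrimeCore_mem (G := G) (Nat.card H)
  refine ⟨?_, ?_, ?_⟩
  · rw [hO']; exact hmem.1
  · rw [hO']; exact hmem.2
  · intro K hK hc
    rw [hO']
    exact Cfsg.Agent.Helper54.le_pPrimeCore hK hc

end Cfsg.Agent.Helper48.TIH
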