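import Mathlib
import Cfsg.Prelude.Def_OddOrderLocal
import Cfsg.Agent.Lib.Helper98.TIHDefs

/-!
TIH lemma server (helper98, S4118), piece (P8d) `comm_of_trivial_on_series` -- helper48.
-/

set_option autoImplicit false

namespace Cfsg.Agent.Helper48.TIH

open Cfsg.Agent.Helper98.TIH

universe u

/-- (P8d) automorphisms trivial on `A` and on `G/A` commute, `A` abelian. -/
theorem comm_of_trivial_on_series {G : Type u} [Group G] (A : Subgroup G)
    (hcomm : ∀ a ∈ A, ∀ b ∈ A, a * b = b * a) (α β : MulAut G)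
    (hα1 : ∀ a ∈ A, α a = a) (hα2 : ∀ g, g⁻¹ * α g ∈ A)
    (hβ1 : ∀ a ∈ A, β a = a) (hβ2 : ∀ g, g⁻¹ * β g ∈ A) : α * β = β * α := by
  apply MulEquiv.ext
  intro g
  rw [MulAut.mul_apply, MulAut.mul_apply]
  have ha : α g = g * (g⁻¹ * α g) := by group
  have hb : β g = g * (g⁻¹ * β g) := by group
  calc α (β g) = α (g * (g⁻¹ * β g)) := by rw [← hb]
    _ = α g * (g⁻¹ * β g) := by rw [map_mul, hα1 _ (hβ2 g)]
    _ = g * ((g⁻¹ * α g) * (g⁻¹ * β g)) := by group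
    _ = g * ((g⁻¹ * β g) * (g⁻¹ * α g)) := by rw [hcomm _ (hα2 g) _ (hβ2 g)]
    _ = β g * (g⁻¹ * α g) := by rw [← mul_assoc g, ← hb]
    _ = β (g * (g⁻¹ * α g)) := by rw [map_mul, hβ1 _ (hα2 g)]
    _ = β (α g) := by rw [← ha]

end Cfsg.Agent.Helper48.TIH
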