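import Mathlib

set_option autoImplicit false

namespace Cfsg.Agent.Helper48

open Subgroup MulAction

section signHom

/-- The sign character with kernel a subgroup `K` of index 2. -/
noncomputable def signHomOfIndexTwo {S : Type*} [Group S] (K : Subgroup S) (hK : K.index = 2) :
    S →* ℤˣ := by
  classical
  exact MonoidHom.mk' (fun s => if s ∈ K then 1 else -1) (by
    intro a b
    have h := Subgroup.mul_mem_iff_of_index_two hK (a := a) (b := b)
    by_cases ha : a ∈ K <;> by_cases hb : b ∈ K <;> simp [ha, hb, h])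

theorem signHomOfIndexTwo_of_mem {S : Type*} [Group S] (K : Subgroup S) (hK : K.index = 2)
    (s : S) (hs : s ∈ K) : signHomOfIndexTwo K hK s = 1 := by
  classical
  simp [signHomOfIndexTwo, hs]

theorem signHomOfIndexTwo_of_not_mem {S : Type*} [Group S] (K : Subgroup S) (hK : K.index = 2)
    (s : S) (hs : s ∉ K) : signHomOfIndexTwo K hK s = -1 := by
  classical
  simp [signHomOfIndexTwo, hs]

end signHom

/-- A maximal subgroup of a finite `p`-group has index `p`. -/
theorem index_of_isCoatom_of_isPGroup {P : Type*} [Group P] [Finite P] {p : ℕ} [Fact p.Prime]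
    (hP : IsPGroup p P) {K : Subgroup P} (hK : IsCoatom K) : K.index = p := by
  haveI : Group.IsNilpotent P := hP.isNilpotent
  have hn : K.Normal := (normalizerCondition_of_isNilpotent (G := P)).normal_of_coatom K hK
  have hQp : IsPGroup p (P ⧸ K) := hP.to_quotient K
  have hnt : Nontrivial (P ⧸ K) := by
    by_contra hnt
    rw [not_nontrivial_iff_subsingleton] at hnt
    exact hK.1 (QuotientGroup.subgroup_eq_top_of_subsingleton K hnt)
  obtain ⟨n, hn0, hcard⟩ := hQp.nontrivial_iff_card.mp hnt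
  have hdvd : p ∣ Nat.card (P ⧸ K) := by rw [hcard]; exact dvd_pow_self p hn0.ne'
  obtain ⟨g, hg⟩ := exists_prime_orderOf_dvd_card' p hdvd
  set L := (Subgroup.zpowers g).comap (QuotientGroup.mk' K) with hL
  have hKL : K ≤ L := by
    intro k hk
    rw [hL, mem_comap]
    have : QuotientGroup.mk' K k = 1 := (QuotientGroup.eq_one_iff k).mpr hk
    rw [this]; exact one_mem _
  have hg1 : g ≠ 1 := by
    intro h
    rw [h, orderOf_one] at hg
    exact (Fact.out : p.Prime).one_lt.ne hg
  have hKneL : K ≠ L := by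
    intro h
    obtain ⟨x, rfl⟩ := QuotientGroup.mk'_surjective K g
    have hx : x ∈ L := by rw [hL, mem_comap]; exact mem_zpowers _
    rw [← h] at hx
    exact hg1 ((QuotientGroup.eq_one_iff x).mpr hx)
  have hLtop : L = ⊤ := hK.2 L (lt_of_le_of_ne hKL hKneL)
  have hz : Subgroup.zpowers g = ⊤ := by
    rw [eq_top_iff]
    intro y _
    obtain ⟨x, rfl⟩ := QuotientGroup.mk'_surjective K y
    have : x ∈ L := hLtop ▸ mem_top x
    exact this
  rw [Subgroup.index_eq_card, ← hg, ← Nat.card_zpowers, hz, Subgroup.card_top]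

/-- Transfer of a central involution of a Sylow 2-subgroup which is centralized by the
normalizer of the Sylow subgroup: if a character `ϕ` into `ℤˣ` is `-1` on it, so is its
transfer. -/
theorem transfer_central_involution {G : Type*} [Group G] [Finite G] (H : Subgroup G)
    (hHp : IsPGroup 2 H) (hHodd : ¬ 2 ∣ H.index)
    (ϕ : ↥H →* ℤˣ) (z : G) (hzS : z ∈ H)
    (hzc : ∀ s ∈ H, s * z = z * s) (hz2 : z ^ 2 = 1)
    (hN : ∀ n ∈ Subgroup.normalizer (H : Set G), n⁻¹ * z * n = z)
    (hϕz : ϕ ⟨z, hzS⟩ = -1) :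
    MonoidHom.transfer ϕ z = -1 := by
  classical
  haveI : Fact (Nat.Prime 2) := ⟨Nat.prime_two⟩
  -- `ϕ` is a class function
  have hconj : ∀ t s : H, ϕ (s⁻¹ * t * s) = ϕ t := by
    intro t s
    rw [map_mul, map_mul, map_inv, mul_comm, mul_inv_cancel_left]
  -- the predicate
  let Pm : G → Prop := fun x => ∃ h : x⁻¹ * z * x ∈ H, ϕ ⟨x⁻¹ * z * x, h⟩ = -1
  have hPm_right' : ∀ x : G, ∀ s ∈ H, Pm x → Pm (x * s) := by
    rintro x s hs ⟨h, hv⟩
    have e1 : (x * s)⁻¹ * z * (x * s) = s⁻¹ * (x⁻¹ * z * x) * s := by group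
    have h' : (x * s)⁻¹ * z * (x * s) ∈ H := by
      rw [e1]
      exact H.mul_mem (H.mul_mem (H.inv_mem hs) h) hs
    refine ⟨h', ?_⟩
    have : (⟨(x * s)⁻¹ * z * (x * s), h'⟩ : H) = (⟨s, hs⟩ : H)⁻¹ * ⟨x⁻¹ * z * x, h⟩ * ⟨s, hs⟩ :=
      Subtype.ext (by simpa using e1)
    rw [this, hconj, hv]
  have hPm_right : ∀ x : G, ∀ s ∈ H, (Pm (x * s) ↔ Pm x) := by
    intro x s hs
    refine ⟨fun h => ?_, hPm_right' x s hs⟩
    have := hPm_right' (x * s) s⁻¹ (H.inv_mem hs) h
    rwa [mul_inv_cancel_right] at this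
  have hPm_left : ∀ x : G, ∀ s ∈ H, (Pm (s * x) ↔ Pm x) := by
    intro x s hs
    have e : (s * x)⁻¹ * z * (s * x) = x⁻¹ * z * x := by
      have := hzc s hs
      calc (s * x)⁻¹ * z * (s * x) = x⁻¹ * (s⁻¹ * (z * s)) * x := by group
        _ = x⁻¹ * (s⁻¹ * (s * z)) * x := by rw [this]
        _ = x⁻¹ * z * x := by group
    simp only [Pm, e]
  let Xm : Set (G ⧸ H) := {c | Pm c.out}
  have mem_Xm_mk : ∀ x : G, ((x : G ⧸ H) ∈ Xm ↔ Pm x) := by
    intro x
    obtain ⟨h, hh⟩ := QuotientGroup.mk_out_eq_mul H x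
    change Pm (x : G ⧸ H).out ↔ Pm x
    rw [hh]
    exact hPm_right x h h.2
  have hfix : ∀ x : G, (z • (x : G ⧸ H) = (x : G ⧸ H) ↔ x⁻¹ * z * x ∈ H) := by
    intro x
    rw [MulAction.Quotient.smul_mk, QuotientGroup.eq, smul_eq_mul]
    constructor
    · intro h
      have := H.inv_mem h
      convert this using 1; group
    · intro h
      have := H.inv_mem h
      convert this using 1; group
  have hPm_fix : ∀ c : G ⧸ H, c ∈ Xm → z • c = c := by
    intro c hc
    obtain ⟨h, -⟩ := hc
    have := (hfix c.out).mpr h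
    rwa [QuotientGroup.out_eq'] at this
  -- evaluate the transfer
  have : Fintype (Quotient (MulAction.orbitRel (Subgroup.zpowers z) (G ⧸ H))) :=
    Fintype.ofFinite _
  rw [MonoidHom.transfer_eq_prod_quotient_orbitRel_zpowers_quot]
  have hterm : ∀ q : Quotient (MulAction.orbitRel (Subgroup.zpowers z) (G ⧸ H)),
      ϕ ⟨q.out.out⁻¹ * z ^ Function.minimalPeriod (z • ·) q.out * q.out.out,
          QuotientGroup.out_conj_pow_minimalPeriod_mem H z q.out⟩
        = if q.out ∈ Xm then -1 else 1 := by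
    intro q
    set c := q.out with hc
    set k := Function.minimalPeriod (z • ·) c with hk
    set x := c.out with hx
    have hmem : x⁻¹ * z ^ k * x ∈ H := QuotientGroup.out_conj_pow_minimalPeriod_mem H z c
    change ϕ ⟨x⁻¹ * z ^ k * x, hmem⟩ = if Pm x then -1 else 1
    have hxc : (x : G ⧸ H) = c := QuotientGroup.out_eq' c
    have hkdvd : k ∣ 2 := by
      rw [hk, ← MulAction.pow_smul_eq_iff_minimalPeriod_dvd, hz2, one_smul]
    have hk1 : k = 1 ↔ z • c = c := by
      rw [← Nat.dvd_one, hk, ← MulAction.pow_smul_eq_iff_minimalPeriod_dvd, pow_one]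
    rcases (Nat.dvd_prime Nat.prime_two).mp hkdvd with h1 | h2
    · have hfx : z • (x : G ⧸ H) = (x : G ⧸ H) := by rw [hxc]; exact hk1.mp h1
      have hmem' : x⁻¹ * z * x ∈ H := (hfix x).mp hfx
      have heq : (⟨x⁻¹ * z ^ k * x, hmem⟩ : H) = ⟨x⁻¹ * z * x, hmem'⟩ :=
        Subtype.ext (by simp only [h1, pow_one])
      rw [heq]
      rcases Int.units_eq_one_or (ϕ ⟨x⁻¹ * z * x, hmem'⟩) with hv | hv
      · have hnot : ¬ Pm x := by
          rintro ⟨h, hv'⟩
          rw [hv] at hv'
          exact absurd hv' (by decide)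
        rw [if_neg hnot, hv]
      · have hyes : Pm x := ⟨hmem', hv⟩
        rw [if_pos hyes, hv]
    · have hnot : ¬ Pm x := by
        rintro ⟨h, -⟩
        have := (hfix x).mpr h
        rw [hxc] at this
        have := hk1.mpr this
        omega
      have heq : (⟨x⁻¹ * z ^ k * x, hmem⟩ : H) = 1 :=
        Subtype.ext (by simp only [h2, hz2, mul_one, inv_mul_cancel, Subgroup.coe_one])
      rw [if_neg hnot, heq, map_one]
  rw [Finset.prod_congr rfl (fun q _ => hterm q), Finset.prod_ite, Finset.prod_const_one, mul_one,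
    Finset.prod_const]
  -- count
  have hcount : (Finset.univ.filter
      (fun q : Quotient (MulAction.orbitRel (Subgroup.zpowers z) (G ⧸ H)) => q.out ∈ Xm)).card
      = Nat.card Xm := by
    rw [← Fintype.card_subtype, ← Nat.card_eq_fintype_card]
    apply Nat.card_congr
    refine Equiv.ofBijective (fun q => ⟨q.1.out, q.2⟩) ⟨?_, ?_⟩
    · intro q q' h
      have : q.1.out = q'.1.out := congrArg Subtype.val h
      exact Subtype.ext (Quotient.out_injective this)
    · rintro ⟨c, hc⟩
      have hzc' : z • c = c := hPm_fix c hc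
      have hout : (Quotient.mk'' c : Quotient (MulAction.orbitRel (Subgroup.zpowers z) (G ⧸ H))).out
          = c := by
        have h1 := Quotient.mk_out (s := MulAction.orbitRel (Subgroup.zpowers z) (G ⧸ H)) c
        obtain ⟨g, hg⟩ := h1
        have hgst : (g : G) ∈ MulAction.stabilizer G c := by
          have : Subgroup.zpowers z ≤ MulAction.stabilizer G c :=
            Subgroup.zpowers_le.mpr (MulAction.mem_stabilizer_iff.mpr hzc')
          exact this g.2
        have : g • c = c := MulAction.mem_stabilizer_iff.mp hgst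
        rw [← hg]
        exact this
      refine ⟨⟨Quotient.mk'' c, ?_⟩, ?_⟩
      · change (Quotient.mk'' c : Quotient (MulAction.orbitRel (Subgroup.zpowers z) (G ⧸ H))).out ∈ Xm
        rw [hout]; exact hc
      · exact Subtype.ext hout
  rw [hcount]
  -- parity
  have hfixS : ∀ c : G ⧸ H, c ∈ MulAction.fixedPoints H (G ⧸ H) → c ∈ Xm := by
    intro c hc
    induction c using QuotientGroup.induction_on with
    | H n =>
      have hn : n ∈ Subgroup.normalizer (H : Set G) :=
        Sylow.mem_fixedPoints_mul_left_cosets_iff_mem_normalizer.mp hc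
      rw [mem_Xm_mk]
      have e := hN n hn
      have h : n⁻¹ * z * n ∈ H := by rw [e]; exact hzS
      refine ⟨h, ?_⟩
      have : (⟨n⁻¹ * z * n, h⟩ : H) = ⟨z, hzS⟩ := Subtype.ext e
      rw [this, hϕz]
  -- the complement as a sub-action
  let Yc : SubMulAction H (G ⧸ H) :=
    { carrier := Xmᶜ
      smul_mem' := by
        intro s c hc
        induction c using QuotientGroup.induction_on with
        | H x =>
          rw [Set.mem_compl_iff] at hc ⊢
          have hsx : s • (x : G ⧸ H) = (((s : G) * x : G) : G ⧸ H) := rfl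
          rw [hsx, mem_Xm_mk]
          rw [mem_Xm_mk] at hc
          exact fun h => hc ((hPm_left x s s.2).mp h) }
  have hYc : Nat.card Yc ≡ Nat.card (MulAction.fixedPoints H Yc) [MOD 2] :=
    hHp.card_modEq_card_fixedPoints Yc
  have hempty : IsEmpty (MulAction.fixedPoints H Yc) := by
    constructor
    rintro ⟨⟨c, hc⟩, hfixed⟩
    apply hc
    apply hfixS
    intro s
    have := hfixed s
    exact congrArg Subtype.val this
  have hzero : Nat.card (MulAction.fixedPoints H Yc) = 0 := Nat.card_of_isEmpty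
  rw [hzero] at hYc
  have hsum : Nat.card Xm + Nat.card Yc = Nat.card (G ⧸ H) := by
    have h1 : Nat.card Xm = Xm.ncard := Nat.card_coe_set_eq Xm
    have h2 : Nat.card Yc = Xmᶜ.ncard := Nat.card_coe_set_eq Xmᶜ
    rw [h1, h2]
    exact Set.ncard_add_ncard_compl Xm
  have hodd : ¬ 2 ∣ Nat.card (G ⧸ H) := by
    rw [← Subgroup.index_eq_card]
    exact hHodd
  have hXodd : Odd (Nat.card Xm) := by
    have h0 : Nat.card Yc % 2 = 0 := by
      have := hYc
      unfold Nat.ModEq at this
      simpa using this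
    rw [Nat.odd_iff]
    omega
  exact hXodd.neg_one_pow

end Cfsg.Agent.Helper48
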