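import Mathlib
import Cfsg.Agent.Lib.Helper98.UT1

/-!
# UT (X5g): `lam ^ 3` and `r` (`r ^ 2 = 2`) generate a field of order 25

Piece (X5g) of helper98's server UT (S2283), second wave.  Pure field theory: `|F| = 25` has
characteristic 5, `2` is not a square mod 5, so `(a, b) ↦ a + b r` is a bijection
`Fin 5 × Fin 5 → F`; hence `y x₀ = a x₀ + b (r x₀) ∈ S` for every `y`.
-/

set_option autoImplicit false
set_option linter.unusedSectionVars false
set_option linter.unusedVariables false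

namespace Cfsg.Agent.Helper48.UT

open Matrix Cfsg Cfsg.Agent.Helper13 Cfsg.Agent.Helper87.PsuA Cfsg.Agent.Helper87.PsuB0
  Cfsg.Agent.Helper98.UT

variable {F : Type*} [Field F] [Fintype F] {q : ℕ}

theorem h48_five_eq_zero (hF5 : Fintype.card F = 5 ^ 2) : (5 : F) = 0 := by
  have h : ((Fintype.card F : ℕ) : F) = 0 := Nat.cast_card_eq_zero F
  rw [hF5] at h
  have h2 : (5 : F) ^ 2 = 0 := by
    have : (((5 ^ 2 : ℕ)) : F) = (5 : F) ^ 2 := by norm_num
    rw [← this]; exact h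
  exact pow_eq_zero_iff (two_ne_zero) |>.mp h2

theorem h48_int_sq_ne_two_mod_five (c : ℤ) : ¬ (5 : ℤ) ∣ c ^ 2 - 2 := by
  intro h
  have h1 : (c ^ 2 - 2) % 5 = 0 := Int.emod_eq_zero_of_dvd h
  have h2 : c % 5 = 0 ∨ c % 5 = 1 ∨ c % 5 = 2 ∨ c % 5 = 3 ∨ c % 5 = 4 := by omega
  have h3 : (c ^ 2 - 2) % 5 = ((c % 5) ^ 2 - 2) % 5 := by
    rw [Int.sub_emod, pow_two, Int.mul_emod, ← pow_two, ← Int.sub_emod]
  rw [h3] at h1
  rcases h2 with h | h | h | h | h <;> rw [h] at h1 <;> norm_num at h1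

/-- the core: every element is `a + b r` -/
theorem h48_exists_repr (hF5 : Fintype.card F = 5 ^ 2) (r : F) (hr : r ^ 2 = 2) (y : F) :
    ∃ a b : ℕ, y = (a : F) + (b : F) * r := by
  have h5 : (5 : F) = 0 := h48_five_eq_zero hF5
  haveI : CharP F 5 := by
    have h5' : ((5 : ℕ) : F) = 0 := by exact_mod_cast h5
    exact ringChar.of_eq (CharP.ringChar_of_prime_eq_zero (by norm_num) h5')
  -- the map
  let φ : Fin 5 × Fin 5 → F := fun p => ((p.1.val : ℕ) : F) + ((p.2.val : ℕ) : F) * r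
  have hinj : Function.Injective φ := by
    rintro ⟨a, b⟩ ⟨a', b'⟩ h
    have h1 : ((a.val : ℕ) : F) + ((b.val : ℕ) : F) * r = ((a'.val : ℕ) : F) + ((b'.val : ℕ) : F) * r := h
    have h2 : (((b.val : ℤ) - (b'.val : ℤ) : ℤ) : F) * r = (((a'.val : ℤ) - (a.val : ℤ) : ℤ) : F) := by
      simp only [Int.cast_sub, Int.cast_natCast]
      linear_combination h1
    by_cases hb : b = b'
    · subst hb
      have h3 : (((a'.val : ℤ) - (a.val : ℤ) : ℤ) : F) = 0 := by
        rw [← h2]; simp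
      rw [CharP.intCast_eq_zero_iff F 5] at h3
      have ha := a.isLt
      have ha' := a'.isLt
      have : a.val = a'.val := by omega
      rw [Fin.ext this]
    · exfalso
      have hb' : b.val ≠ b'.val := fun h => hb (Fin.ext h)
      -- invert d = b - b' mod 5
      have hbl := b.isLt
      have hbl' := b'.isLt
      obtain ⟨e, he⟩ : ∃ e : ℤ, (5 : ℤ) ∣ e * ((b.val : ℤ) - (b'.val : ℤ)) - 1 := by
        have hd : ((b.val : ℤ) - (b'.val : ℤ)) % 5 = 1 ∨ ((b.val : ℤ) - (b'.val : ℤ)) % 5 = 2 ∨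
            ((b.val : ℤ) - (b'.val : ℤ)) % 5 = 3 ∨ ((b.val : ℤ) - (b'.val : ℤ)) % 5 = 4 := by omega
        rcases hd with h | h | h | h
        · exact ⟨1, by omega⟩
        · exact ⟨3, by omega⟩
        · exact ⟨2, by omega⟩
        · exact ⟨4, by omega⟩
      have he' : ((e * ((b.val : ℤ) - (b'.val : ℤ)) - 1 : ℤ) : F) = 0 :=
        (CharP.intCast_eq_zero_iff F 5 _).mpr he
      have h4 : r = ((e * ((a'.val : ℤ) - (a.val : ℤ)) : ℤ) : F) := by
        simp only [Int.cast_sub, Int.cast_mul, Int.cast_natCast, Int.cast_one] at he' h2 ⊢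
        linear_combination (-r) * he' + (e : F) * h2
      have h5 : (((e * ((a'.val : ℤ) - (a.val : ℤ))) ^ 2 - 2 : ℤ) : F) = 0 := by
        push_cast
        rw [← hr, h4]
        push_cast
        ring
      rw [CharP.intCast_eq_zero_iff F 5] at h5
      exact h48_int_sq_ne_two_mod_five _ h5
  have hbij : Function.Bijective φ := by
    rw [Fintype.bijective_iff_injective_and_card]
    refine ⟨hinj, ?_⟩
    rw [hF5]
    simp
  obtain ⟨⟨a, b⟩, hab⟩ := hbij.2 y
  exact ⟨a.val, b.val, hab.symm⟩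

/-- the unfolded `Gen2 lam r` -/
theorem h48_gen2_five_core (hF5 : Fintype.card F = 5 ^ 2) (r lam : F) (hr : r ^ 2 = 2)
    (S : AddSubgroup F) (hS : ∃ x ∈ S, x ≠ 0) (hrS : ∀ x ∈ S, r * x ∈ S) : S = ⊤ := by
  obtain ⟨x0, hx0S, hx0⟩ := hS
  rw [eq_top_iff]
  intro w _
  obtain ⟨a, b, hab⟩ := h48_exists_repr hF5 r hr (w * x0⁻¹)
  have hw : w = a • x0 + b • (r * x0) := by
    have : w = (w * x0⁻¹) * x0 := by field_simp
    rw [this, hab]
    simp only [nsmul_eq_mul]
    ring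
  rw [hw]
  exact S.add_mem (S.nsmul_mem hx0S a) (S.nsmul_mem (hrS x0 hx0S) b)

/-- (X5g) `T = {s | s S ⊆ S}` is a subfield (finite subring of a field) containing `r`; `r` has
multiplicative order 8 (`r^2 = 2`, `2` has order 4 in `F_5`), `8 ∤ 5 - 1`, so `|T| = 25`, `T = F`,
`S ⊇ F x₀ = F`. -/
theorem gen2_five (hF5 : Fintype.card F = 5 ^ 2) (r lam : F) (hr : r ^ 2 = 2) : Gen2 lam r := by
  intro S hS _ hrS
  exact h48_gen2_five_core hF5 r lam hr S hS hrS

end Cfsg.Agent.Helper48.UT
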