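import Mathlib
import Cfsg.Agent.Lib.Helper31.HHFilt

/-!
# Linear algebra behind the wreath section

If `T` is a linear operator in characteristic `p` with `T ^ p = 1` and `e` a vector with
`(∑ j < p, T ^ j) e ≠ 0`, then the vectors `T ^ i e`, `i < p`, are linearly independent.
-/

set_option autoImplicit false


namespace Cfsg.Agent.Helper48.Wreath

open Module

variable {K : Type*} [Field K] {V : Type*} [AddCommGroup V] [Module K V]

/-- powers of a nilpotent operator applied to a vector of full height are independent -/
theorem linearIndependent_pow_nilpotent (ν : End K V) (n : ℕ) (e : V) (h0 : (ν ^ n) e = 0)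
    (h1 : (ν ^ (n - 1)) e ≠ 0) :
    LinearIndependent K (fun i : Fin n => (ν ^ (i : ℕ)) e) := by
  rw [Fintype.linearIndependent_iff]
  intro g hg
  have hzero : ∀ m : ℕ, n ≤ m → (ν ^ m) e = 0 := by
    intro m hm
    obtain ⟨d, rfl⟩ := Nat.exists_eq_add_of_le hm
    rw [add_comm, pow_add, Module.End.mul_apply, h0, map_zero]
  have key : ∀ k : ℕ, ∀ i : Fin n, (i : ℕ) < k → g i = 0 := by
    intro k
    induction k with
    | zero => intro i hi; exact absurd hi (Nat.not_lt_zero _)
    | succ k ih =>
      intro i hi
      by_cases hik : (i : ℕ) < k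
      · exact ih i hik
      · have hik' : (i : ℕ) = k := by omega
        have hin : (i : ℕ) < n := i.2
        have h2 := congrArg (fun v => (ν ^ (n - 1 - (i : ℕ))) v) hg
        simp only [map_sum, map_smul, map_zero] at h2
        rw [Finset.sum_eq_single i] at h2
        · rw [← Module.End.mul_apply, ← pow_add] at h2
          have h3 : n - 1 - (i : ℕ) + (i : ℕ) = n - 1 := by omega
          rw [h3] at h2
          rcases smul_eq_zero.mp h2 with h4 | h4
          · exact h4
          · exact absurd h4 h1
        · intro j _ hji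
          by_cases hjk : (j : ℕ) < k
          · rw [ih j hjk, zero_smul]
          · have hj1 : (i : ℕ) < (j : ℕ) := by
              have : (j : ℕ) ≠ (i : ℕ) := fun h => hji (Fin.ext h)
              omega
            rw [← Module.End.mul_apply, ← pow_add, hzero _ (by omega), smul_zero]
        · intro hi'
          exact absurd (Finset.mem_univ i) hi'
  intro i
  exact key ((i : ℕ) + 1) i (Nat.lt_succ_self _)

variable {p : ℕ} [hp : Fact p.Prime] [CharP K p]

/-- the family `T ^ i e`, `i : ZMod p`, is linearly independent -/
theorem linearIndependent_pow_of_norm_ne_zero [FiniteDimensional K V] (T : End K V)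
    (hT : T ^ p = 1) (e : V)
    (hN : (∑ j ∈ Finset.range p, T ^ j) e ≠ 0) :
    LinearIndependent K (fun i : ZMod p => (T ^ i.val) e) := by
  have hp0 : 0 < p := hp.out.pos
  have : NeZero p := ⟨hp0.ne'⟩
  set ν : End K V := T - 1 with hν
  have hgeom : (∑ j ∈ Finset.range p, T ^ j) = ν ^ (p - 1) := by
    have := Cfsg.Agent.Helper31.HH.alg_geom_eq (K := K) p 1 T
    simpa using this
  have hνp : ν ^ p = 0 := by
    have h1 : ν ^ p = ν ^ (p - 1) * ν := by
      rw [← pow_succ, Nat.sub_add_cancel hp0]
    rw [h1, ← hgeom, hν, geom_sum_mul, hT, sub_self]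
  have hind := linearIndependent_pow_nilpotent ν p e (by rw [hνp]; rfl) (by rw [← hgeom]; exact hN)
  rw [linearIndependent_iff_card_le_finrank_span]
  rw [ZMod.card]
  -- the span of the T-powers
  set S : Submodule K V := Submodule.span K (Set.range fun i : ZMod p => (T ^ i.val) e) with hS
  have hTS : ∀ v ∈ S, T v ∈ S := by
    intro v hv
    induction hv using Submodule.span_induction with
    | mem x hx =>
      obtain ⟨i, rfl⟩ := hx
      rw [← Module.End.mul_apply, ← pow_succ']
      by_cases hi : i.val + 1 < p
      · refine Submodule.subset_span ⟨((i.val + 1 : ℕ) : ZMod p), ?_⟩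
        show (T ^ ((i.val + 1 : ℕ) : ZMod p).val) e = _
        rw [ZMod.val_natCast, Nat.mod_eq_of_lt hi]
      · have hi2 : i.val + 1 = p := by
          have := ZMod.val_lt i
          omega
        rw [hi2, hT]
        refine Submodule.subset_span ⟨0, ?_⟩
        show (T ^ (0 : ZMod p).val) e = _
        rw [ZMod.val_zero, pow_zero]
    | zero => rw [map_zero]; exact S.zero_mem
    | add x y _ _ hx hy => rw [map_add]; exact S.add_mem hx hy
    | smul a x _ hx => rw [map_smul]; exact S.smul_mem a hx
  have hνS : ∀ v ∈ S, ν v ∈ S := by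
    intro v hv
    rw [hν, LinearMap.sub_apply, Module.End.one_apply]
    exact S.sub_mem (hTS v hv) hv
  have heS : e ∈ S := by
    refine Submodule.subset_span ⟨0, ?_⟩
    show (T ^ (0 : ZMod p).val) e = _
    rw [ZMod.val_zero, pow_zero, Module.End.one_apply]
  have hpowS : ∀ m : ℕ, (ν ^ m) e ∈ S := by
    intro m
    induction m with
    | zero => rw [pow_zero, Module.End.one_apply]; exact heS
    | succ m ih => rw [pow_succ', Module.End.mul_apply]; exact hνS _ ih
  have hle : Submodule.span K (Set.range fun i : Fin p => (ν ^ (i : ℕ)) e) ≤ S := by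
    rw [Submodule.span_le]
    rintro _ ⟨i, rfl⟩
    exact hpowS _
  have h1 := finrank_span_eq_card hind
  rw [Fintype.card_fin] at h1
  have h2 := Submodule.finrank_mono hle
  rw [h1] at h2
  exact h2

end Cfsg.Agent.Helper48.Wreath
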