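import Mathlib

/-!
# An explicit model of `C_p ≀ C_p` in `Type`

`Model p = (ZMod p → ZMod p) ⋊ ZMod p` (written multiplicatively), the top group acting by
translation of the argument.  We check the list of properties `IsWr p` used in the statement of
S3787.
-/

set_option autoImplicit false


namespace Cfsg.Agent.Helper48.Wreath

/-- The property list of `C_p ≀ C_p` used in S3787. -/
def IsWr (p : ℕ) (W : Type*) [Group W] : Prop :=
  ∃ (B : Subgroup W) (t : W), B.Normal ∧ IsMulCommutative B ∧ (∀ b ∈ B, b ^ p = 1) ∧
    Nat.card B = p ^ p ∧ orderOf t = p ∧ t ∉ B ∧ Nat.card W = p ^ (p + 1) ∧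
    Nat.card ↥(B ⊓ Subgroup.centralizer ({t} : Set W)) = p

variable (p : ℕ)

abbrev Base := Multiplicative (ZMod p → ZMod p)
abbrev Top := Multiplicative (ZMod p)

/-- translation of the argument -/
def shiftAdd (k : ZMod p) : (ZMod p → ZMod p) ≃+ (ZMod p → ZMod p) where
  toFun f i := f (i - k)
  invFun f i := f (i + k)
  left_inv f := by funext i; simp
  right_inv f := by funext i; simp
  map_add' f g := by funext i; simp

lemma shiftAdd_apply (k : ZMod p) (f : ZMod p → ZMod p) (i : ZMod p) :
    shiftAdd p k f i = f (i - k) := rfl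

def phi : Top p →* MulAut (Base p) where
  toFun k := AddEquiv.toMultiplicative (shiftAdd p (Multiplicative.toAdd k))
  map_one' := by
    refine MulEquiv.ext fun f => ?_
    apply Multiplicative.toAdd.injective
    funext i
    show Multiplicative.toAdd f (i - 0) = Multiplicative.toAdd f i
    rw [sub_zero]
  map_mul' a b := by
    refine MulEquiv.ext fun f => ?_
    apply Multiplicative.toAdd.injective
    funext i
    show Multiplicative.toAdd f (i - (Multiplicative.toAdd a + Multiplicative.toAdd b)) =
      Multiplicative.toAdd f (i - Multiplicative.toAdd a - Multiplicative.toAdd b)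
    rw [sub_sub]

lemma phi_apply (k : Top p) (f : Base p) (i : ZMod p) :
    Multiplicative.toAdd (phi p k f) i =
      Multiplicative.toAdd f (i - Multiplicative.toAdd k) := rfl

abbrev Model := Base p ⋊[phi p] Top p

variable [hp : Fact p.Prime]

open SemidirectProduct

lemma base_pow (a : Base p) : a ^ p = 1 := by
  apply Multiplicative.toAdd.injective
  funext i
  show (p • Multiplicative.toAdd a) i = 0
  rw [Pi.smul_apply, nsmul_eq_mul, CharP.cast_eq_zero, zero_mul]

lemma const_of_shift_fix (f : ZMod p → ZMod p) (h : ∀ i, f (i - 1) = f i) (i : ZMod p) :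
    f i = f 0 := by
  have h1 : ∀ n : ℕ, f (n : ZMod p) = f 0 := by
    intro n
    induction n with
    | zero => simp
    | succ n ih =>
      have := h ((n + 1 : ℕ) : ZMod p)
      rw [← this, ← ih]
      congr 1
      push_cast
      ring
  have := h1 i.val
  rwa [ZMod.natCast_zmod_val] at this

/-- the constant functions -/
def constHom : Top p →* Model p where
  toFun k := inl (Multiplicative.ofAdd (fun _ => Multiplicative.toAdd k))
  map_one' := by
    rw [← map_one (inl : Base p →* Model p)]
    rfl
  map_mul' a b := by
    rw [← map_mul]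
    rfl

lemma constHom_injective : Function.Injective (constHom p) := by
  intro a b h
  have h1 := inl_injective h
  have h2 := congrFun (Multiplicative.ofAdd.injective h1) 0
  exact Multiplicative.toAdd.injective h2

lemma inr_mul_inl_eq_iff (g : Top p) (a : Base p) :
    (inr g : Model p) * inl a = inl a * inr g ↔ phi p g a = a := by
  constructor
  · intro h
    have := congrArg SemidirectProduct.left h
    simpa using this
  · intro h
    ext
    · simp [h]
    · simp

/-- the top generator -/
def tElt : Model p := inr (Multiplicative.ofAdd (1 : ZMod p))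

lemma mem_inf_iff (x : Model p) :
    x ∈ (inl : Base p →* Model p).range ⊓ Subgroup.centralizer ({tElt p} : Set (Model p)) ↔
      x ∈ (constHom p).range := by
  rw [Subgroup.mem_inf, Subgroup.mem_centralizer_singleton_iff, MonoidHom.mem_range,
    MonoidHom.mem_range]
  constructor
  · intro h
    obtain ⟨⟨a, ha⟩, hc⟩ := h
    rw [← ha] at hc
    have hc' : phi p (Multiplicative.ofAdd (1 : ZMod p)) a = a :=
      (inr_mul_inl_eq_iff p _ a).mp hc.symm
    have hfix : ∀ i, Multiplicative.toAdd a (i - 1) = Multiplicative.toAdd a i := by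
      intro i
      exact congrFun (congrArg Multiplicative.toAdd hc') i
    refine ⟨Multiplicative.ofAdd (Multiplicative.toAdd a 0), ?_⟩
    rw [← ha]
    show inl _ = inl a
    congr 1
    apply Multiplicative.toAdd.injective
    funext i
    exact (const_of_shift_fix p _ hfix i).symm
  · intro h
    obtain ⟨k, hk⟩ := h
    rw [← hk]
    refine ⟨⟨_, rfl⟩, ?_⟩
    have h1 : phi p (Multiplicative.ofAdd (1 : ZMod p))
        (Multiplicative.ofAdd (fun _ => Multiplicative.toAdd k)) =
        Multiplicative.ofAdd (fun _ => Multiplicative.toAdd k) := rfl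
    exact ((inr_mul_inl_eq_iff p _ _).mpr h1).symm

theorem isWr_model : IsWr p (Model p) := by
  have hp1 : 1 < p := hp.out.one_lt
  refine ⟨(inl : Base p →* Model p).range, tElt p,
    ?_, ?_, ?_, ?_, ?_, ?_, ?_, ?_⟩
  · rw [range_inl_eq_ker_rightHom]; infer_instance
  · refine ⟨⟨?_⟩⟩
    rintro ⟨_, a, rfl⟩ ⟨_, b, rfl⟩
    apply Subtype.ext
    show (inl a : Model p) * inl b = inl b * inl a
    rw [← map_mul, ← map_mul, mul_comm]
  · rintro _ ⟨a, rfl⟩
    rw [← map_pow, base_pow, map_one]
  · rw [Nat.card_congr (MonoidHom.ofInjective (inl_injective (φ := phi p))).symm.toEquiv]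
    show Nat.card (ZMod p → ZMod p) = p ^ p
    rw [Nat.card_fun, Nat.card_zmod]
  · show orderOf (inr (Multiplicative.ofAdd (1 : ZMod p)) : Model p) = p
    rw [orderOf_injective (inr : Top p →* Model p) inr_injective, orderOf_ofAdd_eq_addOrderOf,
      ZMod.addOrderOf_one]
  · rintro ⟨a, ha⟩
    have := congrArg SemidirectProduct.right ha
    simp only [right_inl, tElt, right_inr] at this
    have h2 : (1 : ZMod p) = 0 := (Multiplicative.ofAdd.injective this).symm
    have : Nontrivial (ZMod p) := ZMod.nontrivial_iff.mpr hp1.ne'
    exact one_ne_zero h2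
  · rw [SemidirectProduct.card]
    show Nat.card (ZMod p → ZMod p) * Nat.card (ZMod p) = p ^ (p + 1)
    rw [Nat.card_fun, Nat.card_zmod, pow_succ]
  · have hD : (inl : Base p →* Model p).range ⊓
        Subgroup.centralizer ({tElt p} : Set (Model p)) = (constHom p).range :=
      Subgroup.ext (mem_inf_iff p)
    rw [hD, Nat.card_congr (MonoidHom.ofInjective (constHom_injective p)).symm.toEquiv]
    show Nat.card (ZMod p) = p
    exact Nat.card_zmod p

end Cfsg.Agent.Helper48.Wreath
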