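import Mathlib
import Cfsg.Prelude.Def_LocalEven
import Cfsg.Agent.Lib.Helper48.WreathModel
import Cfsg.Agent.Lib.Helper48.WreathLin
import Cfsg.Agent.Lib.Helper48.NormDecompGroup
import Cfsg.Agent.Lib.Helper46.Involves2

/-!
# Finding `C_p ≀ C_p` as a section

`A` an abelian subgroup of exponent `p` of the finite group `M`, normalized by `τ` with `τ ^ p = 1`,
and `b ∈ A` with `(b τ) ^ p ≠ 1`: then the model `C_p ≀ C_p` embeds in `M`.
-/

set_option autoImplicit false
set_option maxHeartbeats 400000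

namespace Cfsg.Agent.Helper48.Wreath

open Subgroup Cfsg.Agent.Helper48.NormDecomp SemidirectProduct
open scoped IsMulCommutative

variable {M : Type*} [Group M]

/-- conjugation action as `ZMod p`-linear maps -/
noncomputable def zrep {p : ℕ} (V : Subgroup M) [IsMulCommutative ↥V]
    [Module (ZMod p) (Additive ↥V)] :
    ↥(normalizer (V : Set M)) →* Module.End (ZMod p) (Additive ↥V) where
  toFun := fun g => AddMonoidHom.toZModLinearMap p (conjEndHom V g).toAddMonoidHom
  map_one' := by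
    ext v
    simp
  map_mul' := by
    intro g h
    ext v
    simp

lemma zrep_apply {p : ℕ} (V : Subgroup M) [IsMulCommutative ↥V]
    [Module (ZMod p) (Additive ↥V)] (g : ↥(normalizer (V : Set M))) (a : ↥V) :
    ((Additive.toMul (zrep (p := p) V g (Additive.ofMul a)) : ↥V) : M) =
      (g : M) * a * (g : M)⁻¹ := rfl

/-- `τ ^ k` for `k : ZMod p`, a homomorphism when `τ ^ p = 1` -/
def powHom (p : ℕ) [NeZero p] (τ : M) (hτp : τ ^ p = 1) : Top p →* M where
  toFun k := τ ^ (Multiplicative.toAdd k).val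
  map_one' := by
    show τ ^ (0 : ZMod p).val = 1
    rw [ZMod.val_zero, pow_zero]
  map_mul' a b := by
    show τ ^ (Multiplicative.toAdd a + Multiplicative.toAdd b).val =
      τ ^ (Multiplicative.toAdd a).val * τ ^ (Multiplicative.toAdd b).val
    rw [ZMod.val_add, ← pow_eq_pow_mod _ hτp, pow_add]

lemma powHom_apply (p : ℕ) [NeZero p] (τ : M) (hτp : τ ^ p = 1) (k : Top p) :
    powHom p τ hτp k = τ ^ (Multiplicative.toAdd k).val := rfl

section main

variable {p : ℕ} [hp : Fact p.Prime] (A : Subgroup M) [IsMulCommutative ↥A]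
  [Module (ZMod p) (Additive ↥A)] (τ : ↥(normalizer (A : Set M)))

/-- the linear map `f ↦ ∑ i, f i • T ^ i e` -/
noncomputable def Lmap (e : Additive ↥A) : (ZMod p → ZMod p) →ₗ[ZMod p] Additive ↥A :=
  Fintype.linearCombination (ZMod p) (fun i : ZMod p => ((zrep (p := p) A τ) ^ i.val) e)

lemma Lmap_apply (e : Additive ↥A) (f : ZMod p → ZMod p) :
    Lmap A τ e f = ∑ i : ZMod p, f i • ((zrep (p := p) A τ) ^ i.val) e :=
  Fintype.linearCombination_apply (R := ZMod p)
    (v := fun i : ZMod p => ((zrep (p := p) A τ) ^ i.val) e) f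

lemma Lmap_shift (hτp : τ ^ p = 1) (e : Additive ↥A) (k : ZMod p) (f : ZMod p → ZMod p) :
    Lmap A τ e (shiftAdd p k f) = ((zrep (p := p) A τ) ^ k.val) (Lmap A τ e f) := by
  have hT : (zrep (p := p) A τ) ^ p = 1 := by rw [← map_pow, hτp, map_one]
  rw [Lmap_apply, Lmap_apply, map_sum]
  rw [← Equiv.sum_comp (Equiv.addRight k)]
  refine Finset.sum_congr rfl fun i _ => ?_
  rw [map_smul, ← Module.End.mul_apply, ← pow_add]
  show shiftAdd p k f (i + k) • _ = _
  rw [shiftAdd_apply, add_sub_cancel_right]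
  congr 2
  show (zrep (p := p) A τ) ^ (i + k).val = _
  rw [ZMod.val_add, ← pow_eq_pow_mod _ hT, add_comm]

/-- the homomorphism on the base group -/
noncomputable def baseHom (e : Additive ↥A) : Base p →* M where
  toFun a := ((Additive.toMul (Lmap A τ e (Multiplicative.toAdd a)) : ↥A) : M)
  map_one' := by
    show ((Additive.toMul (Lmap A τ e 0) : ↥A) : M) = 1
    rw [map_zero]; rfl
  map_mul' a b := by
    show ((Additive.toMul (Lmap A τ e (Multiplicative.toAdd a + Multiplicative.toAdd b)) : ↥A) : M)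
      = _
    rw [map_add]; rfl

lemma baseHom_apply (e : Additive ↥A) (a : Base p) :
    baseHom A τ e a = ((Additive.toMul (Lmap A τ e (Multiplicative.toAdd a)) : ↥A) : M) := rfl

lemma zrep_pow_coe (k : ℕ) (v : Additive ↥A) :
    ((Additive.toMul (((zrep (p := p) A τ) ^ k) v) : ↥A) : M) =
      (τ : M) ^ k * ((Additive.toMul v : ↥A) : M) * ((τ : M) ^ k)⁻¹ := by
  rw [← map_pow]
  induction v using Additive.rec with
  | ofMul a =>
    rw [zrep_apply]
    simp

lemma sum_pow_coe (b : ↥A) (m : ℕ) :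
    ((Additive.toMul ((∑ j ∈ Finset.range m, (zrep (p := p) A τ) ^ j) (Additive.ofMul b)) : ↥A) : M)
      = ((b : M) * (τ : M)) ^ m * ((τ : M) ^ m)⁻¹ := by
  induction m with
  | zero => simp
  | succ m ih =>
    rw [Finset.sum_range_succ, LinearMap.add_apply, toMul_add, Subgroup.coe_mul, ih, zrep_pow_coe]
    simp only [toMul_ofMul]
    rw [pow_succ, pow_succ]
    group

end main

/-- **The embedding**, with the instances as arguments. -/
theorem exists_injective_model_aux [Finite M] {p : ℕ} [hp : Fact p.Prime] (A : Subgroup M)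
    [IsMulCommutative ↥A] [Module (ZMod p) (Additive ↥A)]
    (hAp : ∀ a ∈ A, a ^ p = 1) (τ : M) (hτA : τ ∈ normalizer (A : Set M)) (hτp : τ ^ p = 1)
    (b : M) (hb : b ∈ A) (hne : (b * τ) ^ p ≠ 1) :
    ∃ F : Model p →* M, Function.Injective F := by
  have hp0 : NeZero p := ⟨hp.out.pos.ne'⟩
  set τ' : ↥(normalizer (A : Set M)) := ⟨τ, hτA⟩ with hτ'
  have hτ'p : τ' ^ p = 1 := Subtype.ext (by simpa using hτp)
  set T : Module.End (ZMod p) (Additive ↥A) := zrep (p := p) A τ' with hTdef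
  have hT : T ^ p = (1 : Module.End (ZMod p) (Additive ↥A)) := by
    rw [hTdef, ← map_pow, hτ'p, map_one]
  set e : Additive ↥A := Additive.ofMul ⟨b, hb⟩ with he
  have hN : (∑ j ∈ Finset.range p, T ^ j) e ≠ 0 := by
    intro h0
    have h1 := sum_pow_coe (p := p) A τ' ⟨b, hb⟩ p
    rw [← hTdef, ← he, h0] at h1
    apply hne
    have h2 : ((Additive.toMul (0 : Additive ↥A) : ↥A) : M) = 1 := rfl
    rw [h2] at h1
    have h3 : ((τ' : M)) ^ p = 1 := hτp
    rw [h3, inv_one, mul_one] at h1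
    exact h1.symm
  have hfin : Finite (Additive ↥A) := inferInstanceAs (Finite ↥A)
  have hind := linearIndependent_pow_of_norm_ne_zero (K := ZMod p) T hT e hN
  have hLinj : Function.Injective (Lmap A τ' e) :=
    linearIndependent_iff_injective_fintypeLinearCombination.mp hind
  -- compatibility
  have hcompat : ∀ g : Top p, (baseHom A τ' e).comp (MulEquiv.toMonoidHom (phi p g)) =
      (MulEquiv.toMonoidHom (MulAut.conj (powHom p τ hτp g))).comp (baseHom A τ' e) := by
    intro g
    refine MonoidHom.ext fun a => ?_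
    show baseHom A τ' e (phi p g a) =
      powHom p τ hτp g * baseHom A τ' e a * (powHom p τ hτp g)⁻¹
    rw [baseHom_apply, baseHom_apply, powHom_apply]
    have h1 : Multiplicative.toAdd (phi p g a) =
        shiftAdd p (Multiplicative.toAdd g) (Multiplicative.toAdd a) := rfl
    rw [h1, Lmap_shift A τ' hτ'p, zrep_pow_coe]
  refine ⟨lift (baseHom A τ' e) (powHom p τ hτp) hcompat, ?_⟩
  rw [injective_iff_map_eq_one]
  intro x hx
  have hx' : baseHom A τ' e x.left * powHom p τ hτp x.right = 1 := hx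
  -- the top component is trivial
  have hk : Multiplicative.toAdd x.right = 0 := by
    by_contra hk0
    set k := (Multiplicative.toAdd x.right).val with hkdef
    have hkpos : 0 < k := by
      rw [hkdef]
      exact Nat.pos_of_ne_zero (fun h => hk0 ((ZMod.val_eq_zero _).mp h))
    have hklt : k < p := ZMod.val_lt _
    have hmem : τ ^ k ∈ A := by
      have h1 : powHom p τ hτp x.right = (baseHom A τ' e x.left)⁻¹ :=
        eq_inv_of_mul_eq_one_right hx'
      have h2 : powHom p τ hτp x.right = τ ^ k := rfl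
      rw [← h2, h1]
      apply A.inv_mem
      rw [baseHom_apply]; exact Subtype.mem _
    have hcop : Nat.Coprime k p := by
      rw [Nat.coprime_comm, Nat.Prime.coprime_iff_not_dvd hp.out]
      intro hd
      exact absurd (Nat.le_of_dvd hkpos hd) (not_le.mpr hklt)
    obtain ⟨m, -, hm⟩ := Nat.exists_mul_mod_eq_one_of_coprime hcop hp.out.one_lt
    have hτmem : τ ∈ A := by
      have h1 : τ = (τ ^ k) ^ m := by
        rw [← pow_mul, pow_eq_pow_mod (k * m) hτp, hm, pow_one]
      rw [h1]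
      exact A.pow_mem hmem m
    apply hne
    have hbt : b * τ ∈ A := A.mul_mem hb hτmem
    exact hAp _ hbt
  have hright : x.right = 1 := Multiplicative.toAdd.injective hk
  have hpw : powHom p τ hτp x.right = 1 := by rw [hright, map_one]
  rw [hpw, mul_one, baseHom_apply] at hx'
  have h3 : (Additive.toMul (Lmap A τ' e (Multiplicative.toAdd x.left)) : ↥A) = 1 :=
    Subtype.ext hx'
  have h4 : Lmap A τ' e (Multiplicative.toAdd x.left) = 0 := by
    apply Additive.toMul.injective
    rw [h3]; rfl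
  have h5 : Multiplicative.toAdd x.left = 0 := by
    apply hLinj
    rw [h4, map_zero]
  have hleft : x.left = 1 := Multiplicative.toAdd.injective h5
  ext
  · rw [hleft]; rfl
  · rw [hright]; rfl

/-- **The embedding.** -/
theorem exists_injective_model [Finite M] {p : ℕ} [hp : Fact p.Prime] (A : Subgroup M)
    (hAc : ∀ a ∈ A, ∀ b ∈ A, a * b = b * a)
    (hAp : ∀ a ∈ A, a ^ p = 1) (τ : M) (hτA : τ ∈ normalizer (A : Set M)) (hτp : τ ^ p = 1)
    (b : M) (hb : b ∈ A) (hne : (b * τ) ^ p ≠ 1) :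
    ∃ F : Model p →* M, Function.Injective F := by
  have hcomm : IsMulCommutative ↥A := ⟨⟨fun x y => Subtype.ext (hAc x x.2 y y.2)⟩⟩
  let _inst : Module (ZMod p) (Additive ↥A) := AddCommGroup.zmodModule (additive_exp A hAp)
  exact exists_injective_model_aux A hAp τ hτA hτp b hb hne

/-- an embedded model is involved -/
theorem involves_of_injective_model {p : ℕ} (F : Model p →* M) (hF : Function.Injective F) :
    Cfsg.Involves (Model p) M :=
  Cfsg.Agent.Helper46.involves_of_surjective F.range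
    (MonoidHom.ofInjective hF).symm.toMonoidHom (MonoidHom.ofInjective hF).symm.surjective

/-- **The section.**  `t` normalizes the abelian group `A` of exponent `p`, `t ^ p ∈ A`, and some
`b ∈ A` has `(b t) ^ p ∉ ⟨t ^ p⟩`: then `C_p ≀ C_p` is involved in `⟨A, t⟩`. -/
theorem involves_model_of_pow_not_mem [Finite M] {p : ℕ} [hp : Fact p.Prime] (A : Subgroup M)
    (hAc : ∀ a ∈ A, ∀ b ∈ A, a * b = b * a)
    (hAp : ∀ a ∈ A, a ^ p = 1) (t : M) (htA : t ∈ normalizer (A : Set M)) (htp : t ^ p ∈ A)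
    (b : M) (hb : b ∈ A) (hne : (b * t) ^ p ∉ Subgroup.zpowers (t ^ p)) :
    Cfsg.Involves (Model p) ↥(A ⊔ Subgroup.zpowers t) := by
  set S1 : Subgroup M := A ⊔ Subgroup.zpowers t with hS1
  have hAS : A ≤ S1 := le_sup_left
  have htS : t ∈ S1 := (le_sup_right : Subgroup.zpowers t ≤ S1) (Subgroup.mem_zpowers t)
  -- `t ^ p` is central in `S1`
  have hcent : S1 ≤ centralizer ({t ^ p} : Set M) := by
    rw [hS1, sup_le_iff]
    constructor
    · intro a ha
      rw [Subgroup.mem_centralizer_singleton_iff]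
      exact (hAc _ htp _ ha).symm
    · rw [Subgroup.zpowers_le]
      rw [Subgroup.mem_centralizer_singleton_iff]
      rw [← pow_succ', ← pow_succ]
  set R0 : Subgroup ↥S1 := (Subgroup.zpowers (t ^ p)).subgroupOf S1 with hR0
  have hR0n : R0.Normal := by
    constructor
    intro n hn g
    have hn' : (n : M) ∈ Subgroup.zpowers (t ^ p) := hn
    show ((g * n * g⁻¹ : ↥S1) : M) ∈ Subgroup.zpowers (t ^ p)
    obtain ⟨k, hk⟩ := Subgroup.mem_zpowers_iff.mp hn'
    have hg : (g : M) * t ^ p = (t ^ p) * (g : M) :=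
      Subgroup.mem_centralizer_singleton_iff.mp (hcent g.2)
    have hgk : (g : M) * (t ^ p) ^ k = (t ^ p) ^ k * (g : M) := by
      have : Commute (g : M) (t ^ p) := hg
      exact (this.zpow_right k)
    have : ((g * n * g⁻¹ : ↥S1) : M) = (n : M) := by
      show (g : M) * (n : M) * (g : M)⁻¹ = n
      rw [← hk, hgk]; group
    rw [this]; exact hn'
  set π : ↥S1 →* ↥S1 ⧸ R0 := QuotientGroup.mk' R0 with hπ
  have hπ1 : ∀ g : ↥S1, π g = 1 ↔ (g : M) ∈ Subgroup.zpowers (t ^ p) := by
    intro g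
    rw [hπ, QuotientGroup.mk'_apply, QuotientGroup.eq_one_iff]
    rfl
  set A1 : Subgroup (↥S1 ⧸ R0) := (A.subgroupOf S1).map π with hA1
  have hA1c : ∀ a ∈ A1, ∀ b ∈ A1, a * b = b * a := by
    rintro _ ⟨a, ha, rfl⟩ _ ⟨b, hb, rfl⟩
    rw [← map_mul, ← map_mul]
    congr 1
    exact Subtype.ext (hAc _ ha _ hb)
  have hA1p : ∀ a ∈ A1, a ^ p = 1 := by
    rintro _ ⟨a, ha, rfl⟩
    rw [← map_pow]
    have : a ^ p = 1 := Subtype.ext (by simpa using hAp _ ha)
    rw [this, map_one]
  set τ : ↥S1 ⧸ R0 := π ⟨t, htS⟩ with hτ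
  have hτA1 : τ ∈ normalizer (A1 : Set (↥S1 ⧸ R0)) := by
    apply Subgroup.mem_normalizer_fintype
    rintro _ ⟨a, ha, rfl⟩
    refine ⟨⟨t, htS⟩ * a * ⟨t, htS⟩⁻¹, ?_, ?_⟩
    · show t * (a : M) * t⁻¹ ∈ A
      exact (Subgroup.mem_normalizer_iff.mp htA _).mp ha
    · rw [map_mul, map_mul, map_inv]
  have hτp : τ ^ p = 1 := by
    rw [hτ, ← map_pow, hπ1]
    show t ^ p ∈ Subgroup.zpowers (t ^ p)
    exact Subgroup.mem_zpowers _
  have hb1 : π ⟨b, hAS hb⟩ ∈ A1 := ⟨⟨b, hAS hb⟩, hb, rfl⟩
  have hne1 : (π ⟨b, hAS hb⟩ * τ) ^ p ≠ 1 := by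
    rw [hτ, ← map_mul, ← map_pow]
    intro h
    rw [hπ1] at h
    exact hne h
  obtain ⟨F, hF⟩ := exists_injective_model A1 hA1c hA1p τ hτA1 hτp _ hb1 hne1
  exact Cfsg.Agent.Helper46.involves_of_involves_quotient π (QuotientGroup.mk'_surjective R0)
    (involves_of_injective_model F hF)

lemma sup_zpowers_mul_eq (A : Subgroup M) (u x : M) (hu : u ∈ A) :
    A ⊔ Subgroup.zpowers (u * x) = A ⊔ Subgroup.zpowers x := by
  apply le_antisymm
  · rw [sup_le_iff]
    refine ⟨le_sup_left, ?_⟩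
    rw [Subgroup.zpowers_le]
    exact Subgroup.mul_mem _ (Subgroup.mem_sup_left hu)
      (Subgroup.mem_sup_right (Subgroup.mem_zpowers x))
  · rw [sup_le_iff]
    refine ⟨le_sup_left, ?_⟩
    rw [Subgroup.zpowers_le]
    have h := Subgroup.mul_mem (A ⊔ Subgroup.zpowers (u * x))
      (Subgroup.mem_sup_left (A.inv_mem hu))
      (Subgroup.mem_sup_right (Subgroup.mem_zpowers (u * x)))
    rwa [inv_mul_cancel_left] at h

/-- **The section, final form** (instances as arguments). -/
theorem involves_model_of_norm_ne_aux [Finite M] {p : ℕ} [hp : Fact p.Prime] (A : Subgroup M)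
    [IsMulCommutative ↥A] [Module (ZMod p) (Additive ↥A)]
    (hAc : ∀ a ∈ A, ∀ b ∈ A, a * b = b * a)
    (hAp : ∀ a ∈ A, a ^ p = 1) (x : M) (hxA : x ∈ normalizer (A : Set M)) (hxp : x ^ p ∈ A)
    (v : M) (hv : v ∈ A) (hne : (v * x) ^ p ≠ x ^ p) :
    Cfsg.Involves (Model p) ↥(A ⊔ Subgroup.zpowers x) := by
  set x' : ↥(normalizer (A : Set M)) := ⟨x, hxA⟩ with hx'
  set T : Module.End (ZMod p) (Additive ↥A) := zrep (p := p) A x' with hTdef
  set nmap : Module.End (ZMod p) (Additive ↥A) := ∑ j ∈ Finset.range p, T ^ j with hnmap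
  set ζ : Additive ↥A := Additive.ofMul ⟨x ^ p, hxp⟩ with hζ
  have hkey : ∀ u : ↥A, ((Additive.toMul (nmap (Additive.ofMul u) + ζ) : ↥A) : M) =
      ((u : M) * x) ^ p := by
    intro u
    rw [toMul_add, Subgroup.coe_mul, hnmap, hTdef, sum_pow_coe (p := p) A x' u p]
    show ((u : M) * x) ^ p * (x ^ p)⁻¹ * x ^ p = _
    group
  have hev : nmap (Additive.ofMul ⟨v, hv⟩) ≠ 0 := by
    intro h0
    have h1 := hkey ⟨v, hv⟩
    rw [h0, zero_add] at h1
    exact hne h1.symm
  by_cases hcase : ∃ u0 : ↥A, nmap (Additive.ofMul u0) + ζ = 0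
  · obtain ⟨u0, hu0⟩ := hcase
    have ht'p : ((u0 : M) * x) ^ p = 1 := by
      rw [← hkey u0, hu0]; rfl
    have ht'A : (u0 : M) * x ∈ normalizer (A : Set M) :=
      Subgroup.mul_mem _ (Subgroup.le_normalizer u0.2) hxA
    have hne' : (v * ((u0 : M) * x)) ^ p ∉ Subgroup.zpowers (((u0 : M) * x) ^ p) := by
      rw [ht'p, Subgroup.zpowers_one_eq_bot, Subgroup.mem_bot]
      have h1 := hkey (⟨v, hv⟩ * u0)
      rw [ofMul_mul, LinearMap.map_add, add_assoc, hu0, add_zero] at h1
      have h2 : ((⟨v, hv⟩ * u0 : ↥A) : M) * x = v * ((u0 : M) * x) := by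
        show v * (u0 : M) * x = _
        rw [mul_assoc]
      rw [h2] at h1
      rw [← h1]
      intro h3
      apply hev
      have h4 : (Additive.toMul (nmap (Additive.ofMul ⟨v, hv⟩)) : ↥A) = 1 := Subtype.ext h3
      apply Additive.toMul.injective
      rw [h4]; rfl
    have := involves_model_of_pow_not_mem A hAc hAp ((u0 : M) * x) ht'A
      (by rw [ht'p]; exact A.one_mem) v hv hne'
    rw [sup_zpowers_mul_eq A (u0 : M) x u0.2] at this
    exact this
  · have hne' : (v * x) ^ p ∉ Subgroup.zpowers (x ^ p) := by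
      intro hmem
      obtain ⟨k, hk⟩ := Subgroup.mem_zpowers_iff.mp hmem
      have h1 := hkey ⟨v, hv⟩
      have h2 : nmap (Additive.ofMul ⟨v, hv⟩) + ζ = k • ζ := by
        apply Additive.toMul.injective
        apply Subtype.ext
        rw [h1, toMul_zsmul, Subgroup.coe_zpow, ← hk]
        rfl
      set c : ZMod p := (k : ZMod p) with hc
      have h3 : nmap (Additive.ofMul ⟨v, hv⟩) = (c - 1) • ζ := by
        rw [sub_smul, one_smul, hc, Int.cast_smul_eq_zsmul, ← h2]
        abel
      have hc1 : c - 1 ≠ 0 := by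
        intro h0
        rw [h0, zero_smul] at h3
        exact hev h3
      apply hcase
      refine ⟨Additive.toMul (-((c - 1)⁻¹ • Additive.ofMul (⟨v, hv⟩ : ↥A))), ?_⟩
      rw [ofMul_toMul, map_neg, map_smul, h3, smul_smul, inv_mul_cancel₀ hc1, one_smul]
      abel
    exact involves_model_of_pow_not_mem A hAc hAp x hxA hxp v hv hne'

/-- **The section, final form.**  `A` abelian of exponent `p`, normalized by `x` with `x ^ p ∈ A`,
and some `v ∈ A` with `(v x) ^ p ≠ x ^ p`: then `C_p ≀ C_p` is involved in `⟨A, x⟩`. -/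
theorem involves_model_of_norm_ne [Finite M] {p : ℕ} [hp : Fact p.Prime] (A : Subgroup M)
    (hAc : ∀ a ∈ A, ∀ b ∈ A, a * b = b * a)
    (hAp : ∀ a ∈ A, a ^ p = 1) (x : M) (hxA : x ∈ normalizer (A : Set M)) (hxp : x ^ p ∈ A)
    (v : M) (hv : v ∈ A) (hne : (v * x) ^ p ≠ x ^ p) :
    Cfsg.Involves (Model p) ↥(A ⊔ Subgroup.zpowers x) := by
  have hcomm : IsMulCommutative ↥A := ⟨⟨fun x y => Subtype.ext (hAc x x.2 y y.2)⟩⟩
  let _inst : Module (ZMod p) (Additive ↥A) := AddCommGroup.zmodModule (additive_exp A hAp)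
  exact involves_model_of_norm_ne_aux A hAc hAp x hxA hxp v hv hne

end Cfsg.Agent.Helper48.Wreath
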