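import Mathlib
import Cfsg.Prelude.Def_Local
import Cfsg.Prelude.Def_LocalEven
import Cfsg.Agent.Lib.Helper31.HHB
import Cfsg.Agent.Lib.Helper48.WreathHHP
import Cfsg.Agent.Lib.Helper48.WreathSection
import Cfsg.Agent.Lib.Helper46.Involves2

/-!
# `p`-length one when `C_p ≀ C_p` is not involved in a Sylow `p`-subgroup

`G` finite `p`-soluble, `p` odd and not a Fermat prime, `C_p ≀ C_p` not involved in the Sylow
`p`-subgroups: then `G` has `p`-length at most one.
-/

set_option autoImplicit false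
set_option maxHeartbeats 400000
set_option linter.style.haveILetI false

namespace Cfsg.Agent.Helper48.Wreath

open Cfsg Cfsg.Agent.Helper31.GT Cfsg.Agent.Helper63 Cfsg.Agent.Helper46

variable {G : Type*} [Group G]

theorem finite_model (p : ℕ) [hp : Fact p.Prime] : Finite (Model p) := by
  have : NeZero p := ⟨hp.out.ne_zero⟩
  have h1 : Finite (Base p × Top p) := inferInstance
  exact Finite.of_equiv _ (SemidirectProduct.equivProd (φ := phi p)).symm

/-- no `p`-subgroup involves the model of `C_p ≀ C_p` -/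
def NoWr (p : ℕ) (G : Type*) [Group G] : Prop :=
  ∀ S : Subgroup G, IsPGroup p S → ¬ Cfsg.Involves (Model p) ↥S

theorem noWr_of_sylow [Finite G] {p : ℕ} [Fact p.Prime] (P : Sylow p G)
    (h : ¬ Cfsg.Involves (Model p) ↥(P : Subgroup G)) : NoWr p G := by
  intro S hS hinv
  obtain ⟨Q, hQ⟩ := hS.exists_le_sylow
  have h1 : Cfsg.Involves (Model p) ↥(Q : Subgroup G) :=
    involves_of_injective (Subgroup.inclusion hQ) (Subgroup.inclusion_injective hQ) hinv
  have e : ↥(Q : Subgroup G) ≃* ↥(P : Subgroup G) := Sylow.equiv Q P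
  exact h (involves_of_injective e.toMonoidHom e.injective h1)

theorem NoWr.quotient [Finite G] {p : ℕ} [Fact p.Prime] (h : NoWr p G) (N : Subgroup G)
    [N.Normal] : NoWr p (G ⧸ N) := by
  intro S' hS' hinv
  obtain ⟨Q', hQ'⟩ := hS'.exists_le_sylow
  obtain ⟨Q, rfl⟩ := Sylow.mapSurjective_surjective (QuotientGroup.mk'_surjective N) p Q'
  have h1 : Cfsg.Involves (Model p)
      ↥((Q.mapSurjective (QuotientGroup.mk'_surjective N) : Sylow p (G ⧸ N)) : Subgroup (G ⧸ N)) :=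
    involves_of_injective (Subgroup.inclusion hQ') (Subgroup.inclusion_injective hQ') hinv
  rw [Sylow.coe_mapSurjective] at h1
  have h2 : Cfsg.Involves (Model p) ↥(Q : Subgroup G) :=
    involves_of_involves_quotient ((QuotientGroup.mk' N).subgroupMap (Q : Subgroup G))
      (MonoidHom.subgroupMap_surjective _ _) h1
  exact h (Q : Subgroup G) Q.isPGroup' h2

/-- The key step: a `p`-element whose `p`-th power lies in `O_p` lies in `O_p`. -/
theorem mem_pCore_of_pow_mem [Finite G] {p : ℕ} [hp : Fact p.Prime] (hp2 : p ≠ 2)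
    (hnf : ¬ ∃ k : ℕ, p = 2 ^ k + 1)
    (hsol : IsPSolvable p G) (hcore : pPrimeCore p G = ⊥) (hno : NoWr p G)
    (x : G) (hx : ∃ k : ℕ, x ^ p ^ k = 1) (hxp : x ^ p ∈ pCore p G) :
    x ∈ pCore p G := by
  set P₁ := pCore p G with hP₁
  haveI hPn : P₁.Normal := Cfsg.pCore_normal p G
  have hPp : IsPGroup p P₁ := Cfsg.Agent.Helper55.isPGroup_pCore
  set Φ := (frattini ↥P₁).map P₁.subtype with hΦ
  haveI hΦn : Φ.Normal := by
    rw [← Subgroup.normalizer_eq_top_iff, eq_top_iff]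
    have h1 := Cfsg.Agent.Helper24.normalizer_le_normalizer_map_subtype_of_characteristic P₁
      (frattini ↥P₁)
    rw [Subgroup.normalizer_eq_top_iff.mpr hPn] at h1
    exact h1
  obtain ⟨hfc, hfe⟩ := Cfsg.Agent.S4208.frattini_quot_props
    (IsPGroup.of_equiv hPp (MulEquiv.refl _) : IsPGroup p ↥P₁)
  have hΦ1 : ∀ u ∈ P₁, ∀ v ∈ P₁, u * v * u⁻¹ * v⁻¹ ∈ Φ := by
    intro u hu v hv
    refine ⟨⟨u, hu⟩ * ⟨v, hv⟩ * ⟨u, hu⟩⁻¹ * ⟨v, hv⟩⁻¹, ?_, rfl⟩
    rw [SetLike.mem_coe, ← QuotientGroup.eq_one_iff, QuotientGroup.mk_mul, QuotientGroup.mk_mul,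
      QuotientGroup.mk_mul, QuotientGroup.mk_inv, QuotientGroup.mk_inv,
      hfc (⟨u, hu⟩ : ↥P₁) (⟨v, hv⟩ : ↥P₁)]
    group
  have hΦ2 : ∀ v ∈ P₁, v ^ p ∈ Φ := by
    intro v hv
    refine ⟨⟨v, hv⟩ ^ p, ?_, rfl⟩
    rw [SetLike.mem_coe, ← QuotientGroup.eq_one_iff, QuotientGroup.mk_pow]
    exact hfe _
  set mk := QuotientGroup.mk' Φ with hmk
  have hmk1 : ∀ g : G, mk g = 1 ↔ g ∈ Φ := fun g => QuotientGroup.eq_one_iff g
  set φ := secAct P₁ Φ with hφ
  have hAc : ∀ a ∈ P₁.map mk, ∀ b ∈ P₁.map mk, a * b = b * a := by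
    rintro _ ⟨v, hv, rfl⟩ _ ⟨v', hv', rfl⟩
    have h3 := (hmk1 _).mpr (hΦ1 v hv v' hv')
    rw [map_mul, map_mul, map_mul, map_inv, map_inv] at h3
    calc mk v * mk v' = (mk v * mk v' * (mk v)⁻¹ * (mk v')⁻¹) * (mk v' * mk v) := by group
      _ = mk v' * mk v := by rw [h3, one_mul]
  have hAp : ∀ a ∈ P₁.map mk, a ^ p = 1 := by
    rintro _ ⟨v, hv, rfl⟩
    rw [← map_pow]
    exact (hmk1 _).mpr (hΦ2 v hv)
  have hUcomm : ∀ u u' : ↥(P₁.map mk), u * u' = u' * u := by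
    rintro ⟨a, ha⟩ ⟨b, hb⟩
    exact Subtype.ext (hAc a ha b hb)
  letI : CommGroup ↥(P₁.map mk) :=
    { (inferInstance : Group ↥(P₁.map mk)) with mul_comm := hUcomm }
  have hWexp : ∀ w : ↥(P₁.map mk), w ^ p = 1 := by
    rintro ⟨a, ha⟩
    apply Subtype.ext
    exact hAp a ha
  have hPker : P₁ ≤ φ.ker := fun g hg =>
    (mem_ker_secAct P₁ Φ g).mpr (fun v hv => hΦ1 g hg v hv)
  have hkerP : φ.ker ≤ P₁ := fun g hg =>
    Cfsg.Agent.Helper24.mem_pCore_of_commutator_mem_frattini hsol hcore g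
      ((mem_ker_secAct P₁ Φ g).mp hg)
  set ψ : G ⧸ P₁ →* MulAut ↥(P₁.map mk) := QuotientGroup.lift P₁ φ hPker with hψ
  have hψinj : Function.Injective ψ := by
    rw [injective_iff_map_eq_one]
    intro g' hg'
    obtain ⟨g, rfl⟩ := QuotientGroup.mk_surjective g'
    have h1 : φ g = 1 := hg'
    exact (QuotientGroup.eq_one_iff g).mpr (hkerP (MonoidHom.mem_ker.mpr h1))
  have hsolH : IsPSolvable p (G ⧸ P₁) := Cfsg.Agent.Helper76.IsPSolvable.quotient hsol P₁
  have hOH : pCore p (G ⧸ P₁) = ⊥ := Cfsg.Agent.Helper31.HHB.pCore_quot_pCore_eq_bot p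
  have hxb : (QuotientGroup.mk' P₁ x) ^ p = 1 := by
    rw [← map_pow]
    exact (QuotientGroup.eq_one_iff _).mpr hxp
  -- the `p`-group `S = P₁ ⟨x⟩`
  have hZ : IsPGroup p (Subgroup.zpowers x) := by
    obtain ⟨k, hk⟩ := hx
    rintro ⟨g, hg⟩
    obtain ⟨i, rfl⟩ := Subgroup.mem_zpowers_iff.mp hg
    refine ⟨k, ?_⟩
    apply Subtype.ext
    rw [Subgroup.coe_pow]
    show (x ^ i) ^ p ^ k = 1
    rw [← zpow_natCast, ← zpow_mul, mul_comm, zpow_mul, zpow_natCast, hk, one_zpow]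
  have hsup : IsPGroup p (P₁ ⊔ Subgroup.zpowers x : Subgroup G) :=
    IsPGroup.to_sup_of_normal_left hPp hZ
  -- the trace condition
  have htr : ∀ w : ↥(P₁.map mk),
      ∏ j ∈ Finset.range p, ((ψ (QuotientGroup.mk' P₁ x)) ^ j) w = 1 := by
    rintro ⟨_, v, hv, rfl⟩
    have hψx : ψ (QuotientGroup.mk' P₁ x) = φ x := rfl
    rw [hψx]
    have hind : ∀ m : ℕ, ((∏ j ∈ Finset.range m,
        ((φ x) ^ j) (⟨mk v, Subgroup.mem_map_of_mem _ hv⟩ : ↥(P₁.map mk)) : ↥(P₁.map mk)) : G ⧸ Φ) =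
        mk ((v * x) ^ m * (x ^ m)⁻¹) := by
      intro m
      induction m with
      | zero => simp
      | succ m ih =>
        rw [Finset.prod_range_succ]
        have hmul : ∀ a b : ↥(P₁.map mk), ((a * b : ↥(P₁.map mk)) : G ⧸ Φ) = (a : G ⧸ Φ) * b :=
          fun a b => rfl
        rw [hmul, ih, ← map_pow, secAct_apply_coe]
        show mk ((v * x) ^ m * (x ^ m)⁻¹) * (mk (x ^ m) * mk v * (mk (x ^ m))⁻¹) = _
        rw [← map_inv, ← map_mul, ← map_mul, ← map_mul]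
        congr 1
        rw [pow_succ, pow_succ]
        group
    apply Subtype.ext
    rw [hind]
    by_contra hne
    -- the wreath section appears
    have hne' : (mk v * mk x) ^ p ≠ (mk x) ^ p := by
      intro heq
      apply hne
      rw [map_mul, map_inv, map_pow, map_pow, map_mul, heq, mul_inv_cancel]
      rfl
    have hxN : mk x ∈ Subgroup.normalizer ((P₁.map mk : Subgroup (G ⧸ Φ)) : Set (G ⧸ Φ)) := by
      have hn : (P₁.map mk).Normal := hPn.map mk (QuotientGroup.mk'_surjective Φ)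
      rw [Subgroup.normalizer_eq_top_iff.mpr hn]
      exact Subgroup.mem_top _
    have hxpA : (mk x) ^ p ∈ P₁.map mk := by
      rw [← map_pow]
      exact Subgroup.mem_map_of_mem _ hxp
    have hinv := involves_model_of_norm_ne (P₁.map mk) hAc hAp (mk x) hxN hxpA (mk v)
      (Subgroup.mem_map_of_mem _ hv) hne'
    have hmap : (P₁.map mk ⊔ Subgroup.zpowers (mk x) : Subgroup (G ⧸ Φ)) =
        (P₁ ⊔ Subgroup.zpowers x).map mk := by
      rw [Subgroup.map_sup, MonoidHom.map_zpowers]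
    rw [hmap] at hinv
    have h2 : Cfsg.Involves (Model p) ↥(P₁ ⊔ Subgroup.zpowers x : Subgroup G) :=
      involves_of_involves_quotient (mk.subgroupMap (P₁ ⊔ Subgroup.zpowers x))
        (MonoidHom.subgroupMap_surjective _ _) hinv
    exact hno _ hsup h2
  have hfin := hhp hp2 hnf hsolH hOH hWexp ψ hψinj (QuotientGroup.mk' P₁ x) hxb htr
  exact (QuotientGroup.eq_one_iff _).mp hfin

/-- all `p`-elements lie in `O_p` -/
theorem mem_pCore_of_pElement [Finite G] {p : ℕ} [hp : Fact p.Prime] (hp2 : p ≠ 2)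
    (hnf : ¬ ∃ k : ℕ, p = 2 ^ k + 1)
    (hsol : IsPSolvable p G) (hcore : pPrimeCore p G = ⊥) (hno : NoWr p G) :
    ∀ (k : ℕ) (x : G), x ^ p ^ k = 1 → x ∈ pCore p G := by
  intro k
  induction k with
  | zero =>
    intro x hx
    rw [pow_zero, pow_one] at hx
    rw [hx]
    exact Subgroup.one_mem _
  | succ k ih =>
    intro x hx
    have h1 : (x ^ p) ^ p ^ k = 1 := by
      rw [← pow_mul, ← pow_succ']
      exact hx
    exact mem_pCore_of_pow_mem hp2 hnf hsol hcore hno x ⟨k + 1, hx⟩ (ih (x ^ p) h1)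

/-- `O_{p',p}` has index prime to `p`. -/
theorem relIndex_pPrimePCore_coprime [Finite G] {p : ℕ} [hp : Fact p.Prime] (hp2 : p ≠ 2)
    (hnf : ¬ ∃ k : ℕ, p = 2 ^ k + 1)
    (hsol : IsPSolvable p G) (hno : NoWr p G) :
    ((pPrimePCore p G).relIndex ⊤).Coprime p := by
  have hsol' : IsPSolvable p (G ⧸ pPrimeCore p G) :=
    Cfsg.Agent.Helper76.IsPSolvable.quotient hsol _
  have hbot : pPrimeCore p (G ⧸ pPrimeCore p G) = ⊥ :=
    Cfsg.Agent.Helper55.pPrimeCore_quotient_eq_bot p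
  have hno' : NoWr p (G ⧸ pPrimeCore p G) := hno.quotient _
  have hall := mem_pCore_of_pElement hp2 hnf hsol' hbot hno'
  rw [Subgroup.relIndex_top_right, Nat.coprime_comm, Nat.Prime.coprime_iff_not_dvd hp.out]
  intro hd
  have hNn : (pPrimePCore p G).Normal := inferInstance
  rw [Subgroup.index_eq_card] at hd
  obtain ⟨g', hg'⟩ := exists_prime_orderOf_dvd_card' p hd
  obtain ⟨g, rfl⟩ := QuotientGroup.mk_surjective g'
  -- lift to a `p`-element
  obtain ⟨y, hy, k', hk'⟩ := Cfsg.Agent.Helper76.exists_primePow_lift p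
    (QuotientGroup.mk' (pPrimePCore p G)) (QuotientGroup.mk'_surjective _)
    (QuotientGroup.mk g : G ⧸ pPrimePCore p G) ⟨1, by rw [pow_one]; exact hg'⟩
  have hy1 : (QuotientGroup.mk' (pPrimeCore p G) y) ^ p ^ k' = 1 := by
    rw [← map_pow, ← hk', pow_orderOf_eq_one, map_one]
  have hy2 : y ∈ pPrimePCore p G := hall k' _ hy1
  have hy3 : (QuotientGroup.mk' (pPrimePCore p G)) y = 1 := (QuotientGroup.eq_one_iff _).mpr hy2
  rw [hy3] at hy
  rw [← hy, orderOf_one] at hg'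
  exact hp.out.one_lt.ne' hg'.symm

/-- **`p`-length one.** -/
theorem pLengthLE_one_of_noWr [Finite G] {p : ℕ} [hp : Fact p.Prime] (hp2 : p ≠ 2)
    (hnf : ¬ ∃ k : ℕ, p = 2 ^ k + 1)
    (hsol : IsPSolvable p G) (hno : NoWr p G) : PLengthLE p 1 G := by
  have hKn : (pPrimeCore p G).Normal := inferInstance
  have hNn : (pPrimePCore p G).Normal := inferInstance
  have hKN : pPrimeCore p G ≤ pPrimePCore p G := le_comap_mk'_self _ _
  have hc1 : PL p 1 (⊥ : Subgroup G) (pPrimePCore p G) := by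
    refine PL.step 0 ⊥ (pPrimeCore p G) (pPrimePCore p G) (pPrimePCore p G)
      (PL.base _ _ bot_le inferInstance hKn ?_) hKN le_rfl hNn hNn ?_ ?_
    · rw [Subgroup.relIndex_bot_left]; exact Cfsg.Agent.Helper55.pPrimeCore_coprime p
    · have h1 : (pPrimeCore p G).relIndex (pPrimePCore p G) =
          Nat.card (pCore p (G ⧸ pPrimeCore p G)) := relIndex_comap_mk' _ _
      rw [h1]
      exact IsPGroup.iff_card.mp Cfsg.Agent.Helper55.isPGroup_pCore
    · simp
  have hc2 := hc1.extend le_top inferInstance (relIndex_pPrimePCore_coprime hp2 hnf hsol hno)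
  exact PLengthLE_of_PL p hc2

end Cfsg.Agent.Helper48.Wreath
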